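import Mathlib.AlgebraicGeometry.Morphisms.FlatDescent
import Mathlib.AlgebraicGeometry.Morphisms.LocalFlatDescent
import Mathlib.AlgebraicGeometry.ZariskisMainTheorem
import Mathlib.AlgebraicGeometry.ValuativeCriterion

/-! fpqc descent of standard morphism properties -/

universe u

open CategoryTheory Limits MorphismProperty AlgebraicGeometry

namespace Groth.Agent.EtFound



set_option backward.isDefEq.respectTransparency.types false
set_option backward.isDefEq.respectTransparency false

theorem fpqc_quasiCompact : DescendsAlong @QuasiCompact (@Surjective ⊓ @Flat ⊓ @QuasiCompact : MorphismProperty Scheme.{u}) := by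
  apply IsZariskiLocalAtTarget.descendsAlong
  intro R X Y f g hf h
  obtain ⟨⟨_, _⟩, _⟩ := hf
  have : CompactSpace X := (quasiCompact_iff_compactSpace f).mp inferInstance
  have : CompactSpace (pullback f g : Scheme) :=
    (quasiCompact_iff_compactSpace (pullback.fst f g ≫ f)).mp (by
      have := h; infer_instance)
  rw [quasiCompact_iff_compactSpace]
  exact (pullback.snd f g).surjective.compactSpace (pullback.snd f g).continuous

theorem fpqc_quasiSeparated : DescendsAlong @QuasiSeparated (@Surjective ⊓ @Flat ⊓ @QuasiCompact : MorphismProperty Scheme.{u}) := by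
  rw [quasiSeparated_eq_diagonal_is_quasiCompact]
  have := fpqc_quasiCompact.{u}
  infer_instance

theorem isSeparated_eq : @IsSeparated.{u} = MorphismProperty.diagonal @UniversallyClosed := by
  rw [IsSeparated.isSeparated_eq_diagonal_isClosedImmersion]
  ext X Y f
  constructor
  · intro h
    have : IsClosedImmersion (pullback.diagonal f) := h
    change UniversallyClosed (pullback.diagonal f)
    infer_instance
  · intro h
    have : UniversallyClosed (pullback.diagonal f) := h
    exact .of_isPreimmersion _ (pullback.diagonal f).isClosedMap.isClosed_range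

theorem fpqc_isSeparated : DescendsAlong @IsSeparated (@Surjective ⊓ @Flat ⊓ @QuasiCompact : MorphismProperty Scheme.{u}) := by
  rw [isSeparated_eq]
  infer_instance

theorem fpqc_isProper : DescendsAlong @IsProper (@Surjective ⊓ @Flat ⊓ @QuasiCompact : MorphismProperty Scheme.{u}) where
  of_isPullback {A X Y Z fst snd f g} h hf hfst := by
    have : IsProper fst := hfst
    have := fpqc_isSeparated.{u}
    have h1 : IsSeparated g := of_isPullback_of_descendsAlong (P := @IsSeparated) h hf inferInstance
    have h2 : UniversallyClosed g :=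
      of_isPullback_of_descendsAlong (P := @UniversallyClosed) h hf inferInstance
    have h3 : LocallyOfFiniteType g :=
      of_isPullback_of_descendsAlong (P := @LocallyOfFiniteType) h hf inferInstance
    exact ⟨⟩

theorem fpqc_isClosedImmersion : DescendsAlong @IsClosedImmersion (@Surjective ⊓ @Flat ⊓ @QuasiCompact : MorphismProperty Scheme.{u}) := by
  rw [IsClosedImmersion.eq_proper_inf_monomorphisms]
  have := fpqc_isProper.{u}
  have : (monomorphisms Scheme.{u}).DescendsAlong (@Surjective ⊓ @Flat ⊓ @QuasiCompact : MorphismProperty Scheme.{u}) := by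
    rw [← MorphismProperty.diagonal_isomorphisms]
    infer_instance
  infer_instance

theorem fpqc_isAffineHom : DescendsAlong @IsAffineHom (@Surjective ⊓ @Flat ⊓ @QuasiCompact : MorphismProperty Scheme.{u}) := by
  have := fpqc_quasiCompact.{u}
  have := fpqc_quasiSeparated.{u}
  apply IsZariskiLocalAtTarget.descendsAlong_inf_quasiCompact
  · rw [inf_comm]
    exact inf_le_inf le_rfl (IsLocalIso.le_of_isZariskiLocalAtSource _)
  intro R S Y φ g h hfst
  obtain ⟨_, _⟩ := h
  have hq : (@Surjective ⊓ @Flat ⊓ @QuasiCompact : MorphismProperty Scheme.{u}) (Spec.map φ) := ⟨⟨inferInstance, inferInstance⟩, inferInstance⟩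
  have : QuasiCompact g := of_pullback_fst_of_descendsAlong (P := @QuasiCompact) hq (by
    have : IsAffineHom (pullback.fst (Spec.map φ) g) := hfst; infer_instance)
  have : QuasiSeparated g := of_pullback_fst_of_descendsAlong (P := @QuasiSeparated) hq (by
    have : IsAffineHom (pullback.fst (Spec.map φ) g) := hfst; infer_instance)
  have : CompactSpace Y := (quasiCompact_iff_compactSpace g).mp inferInstance
  have : QuasiSeparatedSpace Y := (quasiSeparated_iff_quasiSeparatedSpace g).mp inferInstance
  have : IsAffine (pullback (Spec.map φ) g) :=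
    have : IsAffineHom (pullback.fst (Spec.map φ) g) := hfst
    isAffine_of_isAffineHom (pullback.fst (Spec.map φ) g)
  suffices IsAffine Y by infer_instance
  let a := Y.toSpecΓ
  let b : Spec Γ(Y, ⊤) ⟶ Spec R := Spec.map ((Scheme.ΓSpecIso R).inv ≫ g.appTop)
  have hab : a ≫ b = g := by
    simp only [a, b, Spec.map_comp]
    rw [← Category.assoc, ← Scheme.toSpecΓ_naturality, Category.assoc, ← SpecMap_ΓSpecIso_hom, ← Spec.map_comp]
    simp
  let q := pullback.snd (Spec.map φ) b
  let m : pullback (Spec.map φ) g ⟶ pullback (Spec.map φ) b :=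
    pullback.lift (pullback.fst _ _) (pullback.snd _ _ ≫ a) (by rw [Category.assoc, hab, pullback.condition])
  have sqT : IsPullback q (pullback.fst (Spec.map φ) b) b (Spec.map φ) := (IsPullback.of_hasPullback _ _).flip
  have sqP : IsPullback (pullback.snd (Spec.map φ) g) (pullback.fst (Spec.map φ) g) g (Spec.map φ) :=
    (IsPullback.of_hasPullback _ _).flip
  have poP := (isIso_pushoutSection_iff sqP (US := ⊤) (UT := ⊤) (UX := ⊤) (UY := ⊤) (by simp) (by simp)
    (by simp)).mp (isIso_pushoutSection_of_isQuasiSeparated_of_flat_right sqP _ _ _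
      (isAffineOpen_top _) (isAffineOpen_top _) (by simpa using CompactSpace.isCompact_univ)
      (by simpa using isQuasiSeparated_univ))
  have poT := (isIso_pushoutSection_iff sqT (US := ⊤) (UT := ⊤) (UX := ⊤) (UY := ⊤) (by simp) (by simp)
    (by simp)).mp (isIso_pushoutSection_of_isAffineOpen sqT _ _ _
      (isAffineOpen_top _) (isAffineOpen_top _) (isAffineOpen_top _))
  simp only [Scheme.Hom.appLE, TopologicalSpace.Opens.map_top, homOfLE_refl, op_id, CategoryTheory.Functor.map_id, Category.comp_id] at poP poT
  have : IsIso a.appTop := by simp only [a, Scheme.toSpecΓ_appTop]; infer_instance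
  have hm : IsIso m.appTop := by
    have poP' : IsPushout b.appTop (Spec.map φ).appTop (a.appTop ≫ (pullback.snd (Spec.map φ) g).appTop)
        (pullback.fst (Spec.map φ) g).appTop := by
      refine poP.of_iso (Iso.refl _) (asIso a.appTop).symm (Iso.refl _) (Iso.refl _) ?_ (by simp) (by simp) (by simp)
      simp only [Iso.symm_hom, asIso_inv, Iso.refl_hom, Category.id_comp, IsIso.comp_inv_eq]
      exact (congrArg Scheme.Hom.appTop hab).symm.trans (Scheme.Hom.comp_appTop a b)
    have : m.appTop = (poT.isoIsPushout _ _ poP').hom := by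
      apply poT.hom_ext <;> simp only [IsPushout.inl_isoIsPushout_hom, IsPushout.inr_isoIsPushout_hom,
        ← Scheme.Hom.comp_appTop] <;> congr 1 <;> simp [m, q]
    rw [this]; infer_instance
  have : IsAffine (pullback (Spec.map φ) b) := inferInstance
  have hiso : IsIso m := by
    have : m = (pullback (Spec.map φ) g).isoSpec.hom ≫ Spec.map m.appTop ≫ (pullback (Spec.map φ) b).isoSpec.inv := by
      rw [← Category.assoc, Scheme.isoSpec_hom_naturality, Category.assoc, Iso.hom_inv_id, Category.comp_id]
    rw [this]; infer_instance
  have sq : IsPullback (pullback.snd (Spec.map φ) g) m a q := by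
    refine IsPullback.of_bot ?_ (by simp [m, q]) sqT
    rw [hab, show m ≫ pullback.fst (Spec.map φ) b = pullback.fst (Spec.map φ) g by simp [m]]
    exact sqP
  have : IsIso a := of_isPullback_of_descendsAlong (P := isomorphisms Scheme) (Q := (@Surjective ⊓ @Flat ⊓ @QuasiCompact : MorphismProperty Scheme.{u})) sq.flip
    (MorphismProperty.pullback_snd _ _ hq) hiso
  exact IsAffine.of_isIso a

theorem fpqc_isIntegralHom : DescendsAlong @IsIntegralHom (@Surjective ⊓ @Flat ⊓ @QuasiCompact : MorphismProperty Scheme.{u}) := by
  rw [IsIntegralHom.eq_universallyClosed_inf_isAffineHom]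
  have := fpqc_isAffineHom.{u}
  infer_instance

theorem fpqc_isFinite : DescendsAlong @IsFinite (@Surjective ⊓ @Flat ⊓ @QuasiCompact : MorphismProperty Scheme.{u}) := by
  rw [IsFinite.eq_isProper_inf_isAffineHom]
  have := fpqc_isAffineHom.{u}
  have := fpqc_isProper.{u}
  infer_instance

end Groth.Agent.EtFound
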