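import Mathlib.RingTheory.RingHom.QuasiFinite
import Mathlib.RingTheory.Finiteness.Descent
import Mathlib.RingTheory.RingHom.FaithfullyFlat
import Mathlib.AlgebraicGeometry.Morphisms.QuasiFinite
import Mathlib.AlgebraicGeometry.Morphisms.LocalFlatDescent

universe u

open CategoryTheory TensorProduct AlgebraicGeometry MorphismProperty

namespace Groth.Agent.EtFound

set_option backward.isDefEq.respectTransparency false

theorem quasiFinite_of_faithfullyFlat {R S A : Type u} [CommRing R] [CommRing S] [CommRing A]
    [Algebra R S] [Algebra R A] [Module.FaithfullyFlat R S] [Algebra.QuasiFinite S (S ⊗[R] A)] :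
    Algebra.QuasiFinite R A where
  finite_fiber P hP := by
    obtain ⟨Q, hQ, hQP⟩ : ∃ Q : Ideal S, Q.IsPrime ∧ Q.LiesOver P := by
      obtain ⟨⟨Q, hQ⟩, h⟩ := PrimeSpectrum.comap_surjective_of_faithfullyFlat (A := R) (B := S) ⟨P, hP⟩
      exact ⟨Q, hQ, ⟨(congrArg PrimeSpectrum.asIdeal h).symm⟩⟩
    let : Algebra P.ResidueField Q.ResidueField :=
      (Ideal.ResidueField.map P Q (algebraMap R S) (Q.over_def P)).toAlgebra
    have : IsScalarTower R P.ResidueField Q.ResidueField := .of_algebraMap_eq fun r => by
      rw [RingHom.algebraMap_toAlgebra, Ideal.ResidueField.map_algebraMap,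
        ← IsScalarTower.algebraMap_apply]
    have h1 : Module.Finite Q.ResidueField (Q.ResidueField ⊗[S] (S ⊗[R] A)) :=
      Algebra.QuasiFinite.finite_fiber Q
    have h2 : Module.Finite Q.ResidueField (Q.ResidueField ⊗[P.ResidueField] (P.ResidueField ⊗[R] A)) :=
      Module.Finite.equiv ((AlgebraTensorModule.cancelBaseChange R S Q.ResidueField Q.ResidueField A).trans
        (AlgebraTensorModule.cancelBaseChange R P.ResidueField Q.ResidueField Q.ResidueField A).symm)
    have : Module.Free P.ResidueField Q.ResidueField := Module.Free.of_divisionRing _ _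
    have : Module.FaithfullyFlat P.ResidueField Q.ResidueField :=
      Module.FaithfullyFlat.of_linearEquiv _ _ (Module.Free.chooseBasis P.ResidueField Q.ResidueField).repr
    exact Module.Finite.of_finite_tensorProduct_of_faithfullyFlat Q.ResidueField

theorem codescendsAlong_quasiFinite :
    RingHom.CodescendsAlong (fun f ↦ RingHom.QuasiFinite f) RingHom.FaithfullyFlat := by
  refine RingHom.CodescendsAlong.mk _ RingHom.QuasiFinite.respectsIso fun R S T _ _ _ _ _ hf hg ↦ ?_
  rw [RingHom.faithfullyFlat_algebraMap_iff] at hf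
  have : Algebra.QuasiFinite S (S ⊗[R] T) := RingHom.quasiFinite_algebraMap.mp hg
  exact RingHom.quasiFinite_algebraMap.mpr (quasiFinite_of_faithfullyFlat (S := S))

theorem fpqc_locallyQuasiFinite :
    DescendsAlong @LocallyQuasiFinite (@Surjective ⊓ @Flat ⊓ @QuasiCompact : MorphismProperty Scheme.{u}) :=
  HasRingHomProperty.descendsAlong_flat codescendsAlong_quasiFinite

end Groth.Agent.EtFound
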