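import Groth.Agent.MorLib.UnivHomeo
import Mathlib.AlgebraicGeometry.Morphisms.FlatMono
import Mathlib.AlgebraicGeometry.Morphisms.Etale
import Mathlib.AlgebraicGeometry.Morphisms.IsIso
import Mathlib.CategoryTheory.Limits.Shapes.Pullback.Mono
import Mathlib.CategoryTheory.Comma.Over.Pullback

/-! topological invariance: maps into etale schemes do not see universal homeomorphisms -/

universe u

open CategoryTheory CategoryTheory.Limits AlgebraicGeometry

namespace Groth.Agent.EtFound

set_option backward.isDefEq.respectTransparency.types false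

theorem isOpenImmersion_of_etale_univInj {X Y : Scheme.{u}} (f : X ⟶ Y) [Etale f]
    [UniversallyInjective f] : IsOpenImmersion f := by
  have : Surjective (pullback.diagonal f) := (UniversallyInjective.iff_diagonal f).1 inferInstance
  have : IsIso (pullback.diagonal f) :=
    (isIso_iff_isOpenImmersion_and_surjective _).2 ⟨inferInstance, inferInstance⟩
  have : Mono f := (pullback.isIso_diagonal_iff f).1 inferInstance
  exact IsOpenImmersion.of_flat_of_mono f

variable {S S' : Scheme.{u}} (g : S' ⟶ S) [IsIntegralHom g] [UniversallyInjective g] [Surjective g]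
  (X Y : Over S) [Etale X.hom]

theorem injective_pullback_map : Function.Injective (fun φ : Y ⟶ X => (CategoryTheory.Over.pullback g).map φ) := by
  intro φ ψ h
  have hp : pullback.fst Y.hom g ≫ φ.left = pullback.fst Y.hom g ≫ ψ.left := by
    have h1 := congrArg (fun k => k.left ≫ pullback.fst X.hom g) h
    simp at h1
    exact ((pullback.lift_fst _ _ _).symm.trans h1).trans (pullback.lift_fst _ _ _)
  let t : Y.left ⟶ pullback X.hom X.hom := pullback.lift φ.left ψ.left ((Over.w φ).trans (Over.w ψ).symm)
  have hrange : Set.range t.base ⊆ Set.range (pullback.diagonal X.hom).base := by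
    rintro _ ⟨y, rfl⟩
    obtain ⟨y', rfl⟩ := (pullback.fst Y.hom g).surjective y
    refine ⟨(pullback.fst Y.hom g ≫ φ.left).base y', ?_⟩
    rw [← Scheme.Hom.comp_apply, ← Scheme.Hom.comp_apply]
    refine congrArg (fun k : _ ⟶ pullback X.hom X.hom => k.base y') (pullback.hom_ext ?_ ?_)
    · simp only [t, Category.assoc, pullback.diagonal_fst, Category.comp_id]
      erw [pullback.lift_fst]
    · simp only [t, Category.assoc, pullback.diagonal_snd, Category.comp_id]
      erw [pullback.lift_snd]
      exact hp
  have hl := IsOpenImmersion.lift_fac (pullback.diagonal X.hom) t hrange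
  have e1 := congrArg (· ≫ pullback.fst X.hom X.hom) hl
  have e2 := congrArg (· ≫ pullback.snd X.hom X.hom) hl
  simp only [t, Category.assoc, pullback.diagonal_fst, pullback.diagonal_snd, Category.comp_id] at e1 e2
  erw [pullback.lift_fst] at e1
  erw [pullback.lift_snd] at e2
  exact Over.OverMorphism.ext (e1.symm.trans e2)

theorem surjective_pullback_map : Function.Surjective (fun φ : Y ⟶ X => (CategoryTheory.Over.pullback g).map φ) := by
  intro h
  let p := pullback.fst Y.hom g
  let h1 : pullback Y.hom g ⟶ X.left := h.left ≫ pullback.fst X.hom g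
  have hw : h.left ≫ pullback.snd X.hom g = pullback.snd Y.hom g := Over.w h
  have hh1 : h1 ≫ X.hom = p ≫ Y.hom := by
    simp only [h1, p, Category.assoc, pullback.condition]
    rw [← Category.assoc, hw]
  let π : pullback X.hom Y.hom ⟶ Y.left := pullback.snd X.hom Y.hom
  have : Etale π := inferInstance
  let q : pullback π p ⟶ pullback X.hom Y.hom := pullback.fst π p
  have : IsIntegralHom p := inferInstance
  have : UniversallyInjective p :=
    MorphismProperty.pullback_fst (P := @UniversallyInjective) Y.hom g ‹UniversallyInjective g›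
  have : IsIntegralHom q := inferInstance
  have : UniversallyInjective q :=
    MorphismProperty.pullback_fst (P := @UniversallyInjective) π p ‹UniversallyInjective p›
  let σ : pullback Y.hom g ⟶ pullback π p := pullback.lift (pullback.lift h1 p hh1) (𝟙 _) ((pullback.lift_snd _ _ _).trans (Category.id_comp _).symm)
  have hσ : σ ≫ pullback.snd π p = 𝟙 _ := pullback.lift_snd _ _ _
  have : Etale σ := by
    have : Etale (σ ≫ pullback.snd π p) := by rw [hσ]; infer_instance
    exact MorphismProperty.of_postcomp (W := @Etale) (W' := @Etale) σ (pullback.snd π p) inferInstance this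
  have : Mono σ := @mono_of_mono _ _ _ _ _ σ (pullback.snd π p) (by rw [hσ]; infer_instance)
  have : IsOpenImmersion σ := IsOpenImmersion.of_flat_of_mono σ
  have hbij : Function.Bijective q.base := ⟨q.injective, q.surjective⟩
  let O : (pullback X.hom Y.hom).Opens := ⟨q.base '' Set.range σ.base, by
    rw [← isClosed_compl_iff, ← Set.image_compl_eq hbij]
    exact q.isClosedMap _ σ.isOpenEmbedding.isOpen_range.isClosed_compl⟩
  have hle : Set.range (σ ≫ q).base ⊆ Set.range O.ι.base := by
    rintro _ ⟨w, rfl⟩
    rw [Scheme.Opens.range_ι]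
    exact ⟨σ.base w, ⟨w, rfl⟩, (Scheme.Hom.comp_apply _ _ _).symm⟩
  let s := IsOpenImmersion.lift O.ι (σ ≫ q) hle
  have hs : s ≫ O.ι = σ ≫ q := IsOpenImmersion.lift_fac _ _ _
  have : Surjective s := ⟨fun z => by
    obtain ⟨_, ⟨w, rfl⟩, hw'⟩ := z.2
    refine ⟨w, O.ι.isOpenEmbedding.injective ?_⟩
    rw [← Scheme.Hom.comp_apply, hs, Scheme.Hom.comp_apply]
    exact hw'⟩
  let r := O.ι ≫ π
  have hr : s ≫ r = p := by
    simp only [r, ← Category.assoc, hs]
    simp only [Category.assoc, q, pullback.condition]
    rw [← Category.assoc, hσ, Category.id_comp]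
  have : UniversallyInjective r :=
    MorLib.universallyInjective_of_comp_surjective s r (hr.symm ▸ ‹UniversallyInjective p›)
  have : IsOpenImmersion r := isOpenImmersion_of_etale_univInj r
  have : Surjective r := ⟨fun y => by
    obtain ⟨y', rfl⟩ := p.surjective y
    exact ⟨s.base y', by rw [← Scheme.Hom.comp_apply, hr]⟩⟩
  have : IsIso r := (isIso_iff_isOpenImmersion_and_surjective _).2 ⟨inferInstance, inferInstance⟩
  refine ⟨Over.homMk (inv r ≫ O.ι ≫ pullback.fst X.hom Y.hom) ?_, ?_⟩
  · rw [Category.assoc, Category.assoc, IsIso.inv_comp_eq, pullback.condition]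
    simp [r, π]
  · refine Over.OverMorphism.ext (pullback.hom_ext ?_ ?_)
    · have hp : p ≫ inv r = s := by rw [IsIso.comp_inv_eq, hr]
      simp only [CategoryTheory.Over.pullback_map_left, pullback.lift_fst, Over.homMk_left]
      rw [← Category.assoc, show pullback.fst Y.hom g ≫ inv r = s from hp, ← Category.assoc, hs]
      simp only [q, σ, h1, Category.assoc]
      erw [pullback.lift_fst_assoc, pullback.lift_fst]
    · simp only [CategoryTheory.Over.pullback_map_left, pullback.lift_snd]
      exact hw.symm

end Groth.Agent.EtFound
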