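import Groth.Agent.EtFound.Stalk
import Mathlib.CategoryTheory.Sites.Point.Comap
import Mathlib.CategoryTheory.Sites.Point.Category

/-! stalks of inverse images -/

universe u

open CategoryTheory CategoryTheory.Limits AlgebraicGeometry Opposite

namespace Groth.Agent.EtFound

set_option backward.isDefEq.respectTransparency.types false

variable {X Y : Scheme.{u}} {Ω : Type u} [Field Ω] [IsSepClosed Ω]

/-- geometric points of `V ×_Y X` over `ξ` are geometric points of `V` over `ξ ≫ f` -/
noncomputable def bcFiberEquiv (f : X ⟶ Y) (ξ : Spec (CommRingCat.of Ω) ⟶ X) (V : Y.Etale) :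
    (Scheme.pointSmallEtale ξ).fiber.obj ((EtCoh.bc f).obj V) ≃
      (Scheme.pointSmallEtale (ξ ≫ f)).fiber.obj V where
  toFun t := CategoryTheory.Over.homMk
    ((t.left : Spec (CommRingCat.of Ω) ⟶ pullback V.hom f) ≫ pullback.fst V.hom f)
    (by
      have h : (t.left : Spec (CommRingCat.of Ω) ⟶ pullback V.hom f) ≫ pullback.snd V.hom f = ξ :=
        CategoryTheory.Over.w t
      change (_ ≫ _) ≫ V.hom = ξ ≫ f
      refine (Category.assoc _ _ _).trans ((congrArg _ pullback.condition).trans ?_)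
      exact (Category.assoc _ _ _).symm.trans (congrArg (· ≫ f) h))
  invFun s := CategoryTheory.Over.homMk
    (pullback.lift (s.left : Spec (CommRingCat.of Ω) ⟶ V.left) ξ (CategoryTheory.Over.w s))
    (pullback.lift_snd _ _ _)
  left_inv t := by
    apply CategoryTheory.Over.OverMorphism.ext
    have h : (t.left : Spec (CommRingCat.of Ω) ⟶ pullback V.hom f) ≫ pullback.snd V.hom f = ξ :=
      CategoryTheory.Over.w t
    exact pullback.hom_ext (pullback.lift_fst _ _ _) ((pullback.lift_snd _ _ _).trans h.symm)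
  right_inv s := CategoryTheory.Over.OverMorphism.ext (pullback.lift_fst _ _ _)

/-- the fibre functor of `ξ` composed with base change is the one of `ξ ≫ f` -/
noncomputable def bcFiberIso (f : X ⟶ Y) (ξ : Spec (CommRingCat.of Ω) ⟶ X) :
    EtCoh.bc f ⋙ (Scheme.pointSmallEtale ξ).fiber ≅ (Scheme.pointSmallEtale (ξ ≫ f)).fiber :=
  NatIso.ofComponents (fun V => (bcFiberEquiv f ξ V).toIso) (fun {V W} g => by
    ext t
    apply CategoryTheory.Over.OverMorphism.ext
    change ((t.left : Spec (CommRingCat.of Ω) ⟶ ((EtCoh.bc f).obj V).left) ≫ ((EtCoh.bc f).map g).left) ≫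
        pullback.fst W.hom f = ((t.left : Spec (CommRingCat.of Ω) ⟶ pullback V.hom f) ≫ pullback.fst V.hom f) ≫ g.left
    rw [Category.assoc, Category.assoc]
    exact congrArg _ (EtCoh.isPullback_bc_map f g).w)

instance initiallySmall_bc_fiber (f : X ⟶ Y) (ξ : Spec (CommRingCat.of Ω) ⟶ X) :
    InitiallySmall.{u} (EtCoh.bc f ⋙ (Scheme.pointSmallEtale ξ).fiber).Elements :=
  let e : (Scheme.pointSmallEtale (ξ ≫ f)).fiber.Elements ≌
      (EtCoh.bc f ⋙ (Scheme.pointSmallEtale ξ).fiber).Elements :=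
    CategoryTheory.Equivalence.mk (CategoryOfElements.map (bcFiberIso f ξ).inv) (CategoryOfElements.map (bcFiberIso f ξ).hom)
      (NatIso.ofComponents (fun x => CategoryOfElements.isoMk _ _ (Iso.refl _) (by simp [CategoryOfElements.map]; rfl))
        (fun g => Subtype.ext ((Category.comp_id _).trans (Category.id_comp _).symm)))
      (NatIso.ofComponents (fun x => CategoryOfElements.isoMk _ _ (Iso.refl _) (by simp [CategoryOfElements.map]; rfl))
        (fun g => Subtype.ext ((Category.comp_id _).trans (Category.id_comp _).symm)))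
  have : e.functor.Initial := Functor.initial_of_adjunction e.toAdjunction
  InitiallySmall.mk' (fromInitialModel.{u} _ ⋙ e.functor)

/-- the isomorphism of points -/
noncomputable def bcPointIso (f : X ⟶ Y) (ξ : Spec (CommRingCat.of Ω) ⟶ X) :
    (Scheme.pointSmallEtale ξ).comap (EtCoh.bc f) (EtCoh.coverPreserving_bc f) ≅
      Scheme.pointSmallEtale (ξ ≫ f) where
  hom := ⟨(bcFiberIso f ξ).inv⟩
  inv := ⟨(bcFiberIso f ξ).hom⟩
  hom_inv_id := GrothendieckTopology.Point.hom_ext (bcFiberIso f ξ).hom_inv_id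
  inv_hom_id := GrothendieckTopology.Point.hom_ext (bcFiberIso f ξ).inv_hom_id

/-- `(f^{-1} G)_ξ ≅ G_{f ξ}` -/
noncomputable def stalkPullIso (f : X ⟶ Y) [EtCoh.BCCont f] (ξ : Spec (CommRingCat.of Ω) ⟶ X) :
    EtCoh.pull f ⋙ EtCoh.stalk ξ ≅ EtCoh.stalk (ξ ≫ f) :=
  ((Scheme.pointSmallEtale ξ).sheafFiberComapIso (EtCoh.bc f) (EtCoh.coverPreserving_bc f)
    AddCommGrpCat.{u + 1}).symm ≪≫
  { hom := (bcPointIso f ξ).inv.sheafFiber
    inv := (bcPointIso f ξ).hom.sheafFiber
    hom_inv_id := by rw [← GrothendieckTopology.Point.Hom.sheafFiber_comp, (bcPointIso f ξ).hom_inv_id,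
      GrothendieckTopology.Point.Hom.sheafFiber_id]
    inv_hom_id := by rw [← GrothendieckTopology.Point.Hom.sheafFiber_comp, (bcPointIso f ξ).inv_hom_id,
      GrothendieckTopology.Point.Hom.sheafFiber_id] }

/-- a functor into sheaves is left exact if its composites with all stalks are -/
theorem pull_preservesFiniteLimits (f : X ⟶ Y) [EtCoh.BCCont f] :
    PreservesFiniteLimits (EtCoh.pull f) := by
  constructor
  intro J _ _
  constructor
  intro K
  constructor
  intro c hc
  refine ⟨IsLimit.ofPointIso (limit.isLimit _) (i := (isIso_iff_stalks _).2 fun Ω _ _ ξ => ?_)⟩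
  have h1 : IsLimit ((EtCoh.stalk ξ).mapCone ((EtCoh.pull f).mapCone c)) := by
    have : PreservesFiniteLimits (EtCoh.pull f ⋙ EtCoh.stalk ξ) :=
      preservesFiniteLimits_of_natIso (stalkPullIso f ξ).symm
    exact isLimitOfPreserves (EtCoh.pull f ⋙ EtCoh.stalk ξ) hc
  let α := (limit.isLimit (K ⋙ EtCoh.pull f)).lift ((EtCoh.pull f).mapCone c)
  let φ : (EtCoh.stalk ξ).mapCone ((EtCoh.pull f).mapCone c) ⟶
      (EtCoh.stalk ξ).mapCone (limit.cone (K ⋙ EtCoh.pull f)) :=
    { hom := (EtCoh.stalk ξ).map α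
      w := fun j => by
        change (EtCoh.stalk ξ).map α ≫ (EtCoh.stalk ξ).map _ = (EtCoh.stalk ξ).map _
        rw [← Functor.map_comp]
        exact congrArg _ (limit.lift_π _ j) }
  have hφ := IsLimit.hom_isIso h1 (isLimitOfPreserves (EtCoh.stalk ξ) (limit.isLimit _)) φ
  exact inferInstanceAs (IsIso ((Cone.forget _).map φ))

end Groth.Agent.EtFound
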