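import Groth.Agent.EtFound.FieldExt

/-! inverse images and stalks, for sheaves with values in a concrete category -/

universe u

open CategoryTheory CategoryTheory.Limits AlgebraicGeometry Opposite

namespace Groth.Agent.EtFound

set_option backward.isDefEq.respectTransparency.types false

variable {A : Type (u + 2)} [Category.{u + 1} A] [HasColimitsOfSize.{u, u} A] [HasProducts.{u} A]

/-- `(f^{-1} G)_ξ ≅ G_{f ξ}` for any coefficient category -/
noncomputable def sheafFiberPullIso {X Y : Scheme.{u}} {Ω : Type u} [Field Ω] [IsSepClosed Ω] (f : X ⟶ Y)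
    [((EtCoh.bc f).sheafPushforwardContinuous A Y.smallEtaleTopology X.smallEtaleTopology).IsRightAdjoint]
    (ξ : Spec (CommRingCat.of Ω) ⟶ X) :
    (EtCoh.bc f).sheafPullback A Y.smallEtaleTopology X.smallEtaleTopology ⋙
        (Scheme.pointSmallEtale ξ).sheafFiber ≅ (Scheme.pointSmallEtale (ξ ≫ f)).sheafFiber :=
  ((Scheme.pointSmallEtale ξ).sheafFiberComapIso (EtCoh.bc f) (EtCoh.coverPreserving_bc f) A).symm ≪≫
  { hom := (bcPointIso f ξ).inv.sheafFiber
    inv := (bcPointIso f ξ).hom.sheafFiber
    hom_inv_id := by rw [← GrothendieckTopology.Point.Hom.sheafFiber_comp, (bcPointIso f ξ).hom_inv_id,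
      GrothendieckTopology.Point.Hom.sheafFiber_id]
    inv_hom_id := by rw [← GrothendieckTopology.Point.Hom.sheafFiber_comp, (bcPointIso f ξ).inv_hom_id,
      GrothendieckTopology.Point.Hom.sheafFiber_id] }

variable {FA : A → A → Type*} {CA : A → Type (u + 1)}
  [∀ M N, FunLike (FA M N) (CA M) (CA N)] [ConcreteCategory.{u + 1} A FA]
  [PreservesFilteredColimitsOfSize.{u, u} (forget A)]

/-- stalks detect equality of morphisms of sheaves -/
theorem eq_of_stalks {X : Scheme.{u}} [X.smallEtaleTopology.HasSheafCompose (forget A)]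
    {F G : Sheaf X.smallEtaleTopology A} (a b : F ⟶ G)
    (h : ∀ (Ω : Type u) (_ : Field Ω) (_ : IsSepClosed Ω) (ξ : Spec (CommRingCat.of Ω) ⟶ X),
      (Scheme.pointSmallEtale ξ).sheafFiber.map a = (Scheme.pointSmallEtale ξ).sheafFiber.map b) : a = b := by
  refine Sheaf.hom_ext (NatTrans.ext (funext fun U => ConcreteCategory.hom_ext _ _ fun s => ?_))
  refine (((isSheaf_iff_isSheaf_of_type _ _).1 ((sheafCompose X.smallEtaleTopology (forget A)).obj G).property).isSeparated
    _ (equalizerSieve_mem_of_germs G.obj U.unop (a.hom.app U s) (b.hom.app U s) fun Ω _ _ ξ u => ?_)).ext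
      fun V g hg => hg
  erw [← (Scheme.pointSmallEtale ξ).toPresheafFiber_naturality_apply a.hom,
    ← (Scheme.pointSmallEtale ξ).toPresheafFiber_naturality_apply b.hom]
  exact congr($(h Ω _ _ ξ) _)

/-- stalks detect isomorphisms of sheaves -/
theorem isIso_of_stalks {X : Scheme.{u}} [X.smallEtaleTopology.HasSheafCompose (forget A)]
    [(forget A).ReflectsIsomorphisms]
    {F G : Sheaf X.smallEtaleTopology A} (a : F ⟶ G)
    (h : ∀ (Ω : Type u) (_ : Field Ω) (_ : IsSepClosed Ω) (ξ : Spec (CommRingCat.of Ω) ⟶ X),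
      Function.Bijective ((Scheme.pointSmallEtale ξ).presheafFiber.map a.hom)) : IsIso a := by
  refine (Sheaf.isLocallyBijective_iff_isIso (FA := FA) (CA := CA) a).1 ⟨Presheaf.isLocallyInjective_of_injective _ _ fun U =>
      injective_of_stalks a (fun Ω _ _ ξ => (h Ω _ _ ξ).1) U.unop,
    isLocallySurjective_of_stalks a.hom fun Ω _ _ ξ => (h Ω _ _ ξ).2⟩

/-- inverse image along a surjective morphism is faithful -/
theorem pullback_faithful {X X' : Scheme.{u}} (f : X' ⟶ X) [Surjective f]
    [X.smallEtaleTopology.HasSheafCompose (forget A)]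
    [((EtCoh.bc f).sheafPushforwardContinuous A X.smallEtaleTopology X'.smallEtaleTopology).IsRightAdjoint] :
    ((EtCoh.bc f).sheafPullback A X.smallEtaleTopology X'.smallEtaleTopology).Faithful := by
  refine ⟨fun {F G a b} hab => eq_of_stalks a b fun k _ _ ξ => ?_⟩
  obtain ⟨Ω, _, _, ζ, l, hl⟩ := exists_common_extension f ξ
  apply (stalkExtIso A ξ l).hom.app G |> cancel_mono |>.1
  rw [NatTrans.naturality, NatTrans.naturality]
  apply (cancel_epi ((stalkExtIso A ξ l).hom.app F)).2
  rw [← hl]
  apply (cancel_epi ((sheafFiberPullIso f ζ).hom.app F)).1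
  rw [← NatTrans.naturality, ← NatTrans.naturality]
  exact congrArg (· ≫ _) (congrArg (Scheme.pointSmallEtale ζ).sheafFiber.map hab)

/-- inverse image along a surjective morphism reflects isomorphisms -/
theorem pullback_reflectsIso {X X' : Scheme.{u}} (f : X' ⟶ X) [Surjective f]
    [X.smallEtaleTopology.HasSheafCompose (forget A)] [(forget A).ReflectsIsomorphisms]
    [((EtCoh.bc f).sheafPushforwardContinuous A X.smallEtaleTopology X'.smallEtaleTopology).IsRightAdjoint] :
    ((EtCoh.bc f).sheafPullback A X.smallEtaleTopology X'.smallEtaleTopology).ReflectsIsomorphisms := by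
  refine ⟨fun {F G} a ha => isIso_of_stalks a fun k _ _ ξ => ?_⟩
  obtain ⟨Ω, _, _, ζ, l, hl⟩ := exists_common_extension f ξ
  have h1 : IsIso ((Scheme.pointSmallEtale (ζ ≫ f)).sheafFiber.map a) := by
    rw [← NatIso.isIso_map_iff (sheafFiberPullIso f ζ) a]
    exact inferInstanceAs (IsIso ((Scheme.pointSmallEtale ζ).sheafFiber.map _))
  rw [hl, ← NatIso.isIso_map_iff (stalkExtIso A ξ l) a] at h1
  exact (isIso_iff_bijective ((forget A).map ((Scheme.pointSmallEtale ξ).sheafFiber.map a))).1 inferInstance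

end Groth.Agent.EtFound
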