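import Groth.Agent.EtFound.Stalk

/-! stalks of constant presheaves and sheaves -/

universe u

open CategoryTheory CategoryTheory.Limits AlgebraicGeometry Opposite

namespace Groth.Agent.EtFound

set_option backward.isDefEq.respectTransparency.types false

variable {X : Scheme.{u}} {Ω : Type u} [Field Ω] [IsSepClosed Ω] (ξ : Spec (CommRingCat.of Ω) ⟶ X)

section

variable {A : Type*} [Category.{u + 1} A] {FA : A → A → Type*} {CA : A → Type (u + 1)}
  [∀ M N, FunLike (FA M N) (CA M) (CA N)] [ConcreteCategory.{u + 1} A FA]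
  [HasColimitsOfSize.{u, u} A] [PreservesFilteredColimitsOfSize.{u, u} (forget A)]

/-- the fibre of a constant presheaf is its value -/
theorem toPresheafFiber_const_bijective (M : A) (U : X.Etale) (u : (Scheme.pointSmallEtale ξ).fiber.obj U) :
    Function.Bijective ((Scheme.pointSmallEtale ξ).toPresheafFiber U u ((Functor.const X.Etaleᵒᵖ).obj M)) := by
  refine ⟨fun s t h => ?_, fun p => ?_⟩
  · obtain ⟨V, f, v, -, hf⟩ := ((Scheme.pointSmallEtale ξ).toPresheafFiber_eq_iff' _ _ s t).1 h
    simpa using hf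
  · obtain ⟨V, v, z, rfl⟩ := (Scheme.pointSmallEtale ξ).toPresheafFiber_jointly_surjective p
    obtain ⟨⟨T, t⟩, ⟨a, ha⟩, ⟨b, hb⟩, -⟩ := IsCofilteredOrEmpty.cone_objs
      ((Scheme.pointSmallEtale ξ).fiber.elementsMk V v) ((Scheme.pointSmallEtale ξ).fiber.elementsMk U u)
    obtain ⟨a', rfl⟩ : ∃ a' : T ⟶ V, (Scheme.pointSmallEtale ξ).fiber.map a' t = v := ⟨a, ha⟩
    obtain ⟨b', rfl⟩ : ∃ b' : T ⟶ U, (Scheme.pointSmallEtale ξ).fiber.map b' t = u := ⟨b, hb⟩
    refine ⟨z, ?_⟩
    rw [← (Scheme.pointSmallEtale ξ).toPresheafFiber_w_apply a', ← (Scheme.pointSmallEtale ξ).toPresheafFiber_w_apply b']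
    simp

end

section

variable (A : Type (u + 2)) [Category.{u + 1} A] {FA : A → A → Type*} {CA : A → Type (u + 1)}
  [∀ M N, FunLike (FA M N) (CA M) (CA N)] [ConcreteCategory.{u + 1} A FA]
  [HasColimitsOfSize.{u, u} A] [PreservesFilteredColimitsOfSize.{u, u} (forget A)]
  [(forget A).ReflectsIsomorphisms] [X.smallEtaleTopology.WEqualsLocallyBijective A]
  [HasWeakSheafify X.smallEtaleTopology A]

/-- the stalk of a constant sheaf is its value, via the unit at any neighbourhood -/
theorem toSheafify_const_germ_bijective (M : A) (U : X.Etale) (u : (Scheme.pointSmallEtale ξ).fiber.obj U) :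
    Function.Bijective (fun m => (Scheme.pointSmallEtale ξ).toPresheafFiber U u
      (sheafify X.smallEtaleTopology ((Functor.const X.Etaleᵒᵖ).obj M))
      ((toSheafify X.smallEtaleTopology ((Functor.const X.Etaleᵒᵖ).obj M)).app (op U) m)) := by
  have : IsIso ((Scheme.pointSmallEtale ξ).presheafFiber.map
      (toSheafify X.smallEtaleTopology ((Functor.const X.Etaleᵒᵖ).obj M))) :=
    (Scheme.pointSmallEtale ξ).W_isInvertedBy_presheafFiber' _ (GrothendieckTopology.W_toSheafify _ _)
  have h := (ConcreteCategory.isIso_iff_bijective _).1 this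
  have h2 := h.comp (toPresheafFiber_const_bijective ξ M U u)
  convert h2 using 1
  funext m
  exact ((Scheme.pointSmallEtale ξ).toPresheafFiber_naturality_apply _ _ _ m).symm

end

end Groth.Agent.EtFound
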