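import Groth.Prelude.Def_EtBase

/-! small etale site: covering criterion, basic instances -/

universe u

open CategoryTheory CategoryTheory.Limits AlgebraicGeometry Opposite

namespace Groth.Agent.EtFound

set_option backward.isDefEq.respectTransparency.types false

theorem etale_left {X : Scheme.{u}} {U V : X.Etale} (g : V ⟶ U) : AlgebraicGeometry.Etale g.left := by
  have := U.prop
  exact EtCoh.etaleMP.of_postcomp (W' := EtCoh.etaleMP) g.left U.hom U.prop
    (by rw [MorphismProperty.Over.w g]; exact V.prop)

theorem mem_topology_iff {X : Scheme.{u}} {U : X.Etale} (R : Sieve U) :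
    R ∈ X.smallEtaleTopology U ↔
      ∀ x : U.left, ∃ (V : X.Etale) (g : V ⟶ U) (v : V.left), R g ∧ g.left.base v = x := by
  rw [show X.smallEtaleTopology = (X.smallPretopology (P := EtCoh.etaleMP) (Q := EtCoh.etaleMP)).toGrothendieck
    from Scheme.smallGrothendieckTopology_eq_toGrothendieck_smallPretopology X le_rfl]
  exact (Scheme.mem_toGrothendieck_smallPretopology U R).trans <| forall_congr' fun x => ⟨fun ⟨V, g, v, h, _, hv⟩ => ⟨V, g, v, h, hv⟩,
    fun ⟨V, g, v, h, hv⟩ => ⟨V, g, v, h, etale_left g, hv⟩⟩

/-- a geometric point of `X` through any point of an etale `X`-scheme -/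
theorem exists_point_through {X : Scheme.{u}} (U : X.Etale) (x : U.left) :
    ∃ (Ω : Type u) (_ : Field Ω) (_ : IsSepClosed Ω) (ξ : Spec (CommRingCat.of Ω) ⟶ X)
      (u : (Scheme.pointSmallEtale ξ).fiber.obj U),
        ∀ w : Spec (CommRingCat.of Ω), (u.left : Spec (CommRingCat.of Ω) ⟶ U.left).base w = x := by
  let Ω := SeparableClosure (U.left.residueField x)
  let l : Spec (CommRingCat.of Ω) ⟶ U.left :=
    Spec.map (CommRingCat.ofHom (algebraMap (U.left.residueField x) Ω)) ≫ U.left.fromSpecResidueField x
  refine ⟨Ω, inferInstance, inferInstance, l ≫ U.hom, CategoryTheory.Over.homMk l rfl, fun w => ?_⟩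
  change l.base w = x
  exact (Scheme.Hom.comp_apply _ _ w).trans (Scheme.fromSpecResidueField_apply x _)

instance ab5_addCommGrp : AB5OfSize.{u, u} AddCommGrpCat.{u + 1} :=
  AB5OfSize_of_univLE.{u, u, u + 1, u + 1} AddCommGrpCat.{u + 1}

instance forget_filtered : PreservesFilteredColimitsOfSize.{u, u} (forget AddCommGrpCat.{u + 1}) :=
  preservesFilteredColimitsOfSize_of_univLE.{u + 1, u + 1, u, u} _

instance forgetType_filtered : PreservesFilteredColimitsOfSize.{u, u} (forget (Type (u + 1))) :=
  preservesFilteredColimitsOfSize_of_univLE.{u + 1, u + 1, u, u} _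

end Groth.Agent.EtFound
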