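import Groth.Prelude.Def_EtShriek2
import Groth.Agent.EtFound.Basic
import Mathlib.CategoryTheory.Sites.Point.Skyscraper

/-! stalks of extension by zero -/

universe u

open CategoryTheory CategoryTheory.Limits AlgebraicGeometry Opposite

namespace Groth.Agent.EtFound

set_option backward.isDefEq.respectTransparency.types false

variable {A : Type (u + 2)} [Category.{u + 1} A] [HasColimitsOfSize.{u, u} A] [HasProducts.{u} A]
  {U X : Scheme.{u}} (j : U ⟶ X) [AlgebraicGeometry.Etale j] [EtShriek.JCont j]
  [((EtShriek.compEtale j).sheafPushforwardContinuous A U.smallEtaleTopology X.smallEtaleTopology).IsRightAdjoint]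
  {Ω : Type u} [Field Ω] [IsSepClosed Ω] (ξ : Spec (CommRingCat.of Ω) ⟶ X)

/-- points of `U` over `ξ` -/
abbrev PtsOver : Type u := {u : Spec (CommRingCat.of Ω) ⟶ U // u ≫ j = ξ}

variable {j ξ}

/-- the point of `X`-etale scheme underlying one of a `U`-etale scheme -/
noncomputable def extLiftPt (z : PtsOver j ξ) (W : U.Etale) (w : (Scheme.pointSmallEtale z.1).fiber.obj W) :
    (Scheme.pointSmallEtale ξ).fiber.obj ((EtShriek.compEtale j).obj W) :=
  CategoryTheory.Over.homMk (w.left : Spec (CommRingCat.of Ω) ⟶ W.left)
    ((Category.assoc _ _ _).symm.trans ((congrArg (· ≫ j) (CategoryTheory.Over.w w)).trans z.2))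

noncomputable def projPt (W : U.Etale) (v : (Scheme.pointSmallEtale ξ).fiber.obj ((EtShriek.compEtale j).obj W)) :
    PtsOver j ξ :=
  ⟨(v.left : Spec (CommRingCat.of Ω) ⟶ W.left) ≫ W.hom, (Category.assoc _ _ _).trans (CategoryTheory.Over.w v)⟩

noncomputable def projElt (W : U.Etale) (v : (Scheme.pointSmallEtale ξ).fiber.obj ((EtShriek.compEtale j).obj W)) :
    (Scheme.pointSmallEtale (projPt W v).1).fiber.obj W :=
  CategoryTheory.Over.homMk (v.left : Spec (CommRingCat.of Ω) ⟶ W.left) rfl

theorem extLiftPt_projElt (W : U.Etale) (v : (Scheme.pointSmallEtale ξ).fiber.obj ((EtShriek.compEtale j).obj W)) :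
    extLiftPt (projPt W v) W (projElt W v) = v :=
  CategoryTheory.Over.OverMorphism.ext rfl

variable (j ξ)


/-- `F_u ⟶ (j_! F)_ξ` -/
noncomputable def extZeroι (F : Sheaf U.smallEtaleTopology A) (z : PtsOver j ξ) :
    (Scheme.pointSmallEtale z.1).sheafFiber.obj F ⟶ (Scheme.pointSmallEtale ξ).sheafFiber.obj (((EtShriek.compEtale j).sheafPullback A U.smallEtaleTopology X.smallEtaleTopology).obj F) :=
  (Scheme.pointSmallEtale z.1).presheafFiberDesc
    (fun W w => (((EtShriek.compEtale j).sheafAdjunctionContinuous A U.smallEtaleTopology X.smallEtaleTopology).unit.app F).hom.app (op W) ≫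
      (Scheme.pointSmallEtale ξ).toPresheafFiber ((EtShriek.compEtale j).obj W) (extLiftPt z W w) (((EtShriek.compEtale j).sheafPullback A U.smallEtaleTopology X.smallEtaleTopology).obj F).obj)
    (fun {W W'} f w => by
      refine (Category.assoc _ _ _).symm.trans ((congrArg (· ≫ _) ((((EtShriek.compEtale j).sheafAdjunctionContinuous A U.smallEtaleTopology X.smallEtaleTopology).unit.app F).hom.naturality f.op)).trans ?_)
      refine (Category.assoc _ _ _).trans (congrArg (_ ≫ ·) ?_)
      refine ((Scheme.pointSmallEtale ξ).toPresheafFiber_w ((EtShriek.compEtale j).map f) (extLiftPt z W w) (((EtShriek.compEtale j).sheafPullback A U.smallEtaleTopology X.smallEtaleTopology).obj F).obj).trans ?_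
      exact congrArg (fun v => (Scheme.pointSmallEtale ξ).toPresheafFiber ((EtShriek.compEtale j).obj W') v (((EtShriek.compEtale j).sheafPullback A U.smallEtaleTopology X.smallEtaleTopology).obj F).obj)
        (CategoryTheory.Over.OverMorphism.ext rfl))

theorem extZeroι_germ (F : Sheaf U.smallEtaleTopology A) (z : PtsOver j ξ) (W : U.Etale)
    (w : (Scheme.pointSmallEtale z.1).fiber.obj W) :
    (Scheme.pointSmallEtale z.1).toPresheafFiber W w F.obj ≫ extZeroι j ξ F z =
      (((EtShriek.compEtale j).sheafAdjunctionContinuous A U.smallEtaleTopology X.smallEtaleTopology).unit.app F).hom.app (op W) ≫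
      (Scheme.pointSmallEtale ξ).toPresheafFiber ((EtShriek.compEtale j).obj W) (extLiftPt z W w) (((EtShriek.compEtale j).sheafPullback A U.smallEtaleTopology X.smallEtaleTopology).obj F).obj := by
  exact GrothendieckTopology.Point.toPresheafFiber_presheafFiberDesc _ _ _ W w

theorem extZeroι_naturality {F G : Sheaf U.smallEtaleTopology A} (a : F ⟶ G) (z : PtsOver j ξ) :
    (Scheme.pointSmallEtale z.1).sheafFiber.map a ≫ extZeroι j ξ G z =
      extZeroι j ξ F z ≫ (Scheme.pointSmallEtale ξ).sheafFiber.map (((EtShriek.compEtale j).sheafPullback A U.smallEtaleTopology X.smallEtaleTopology).map a) := by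
  refine (Scheme.pointSmallEtale z.1).presheafFiber_hom_ext fun W w => ?_
  refine (Category.assoc _ _ _).symm.trans ((congrArg (· ≫ _)
    ((Scheme.pointSmallEtale z.1).toPresheafFiber_naturality a.hom W w)).trans ?_)
  refine (Category.assoc _ _ _).trans ((congrArg (_ ≫ ·) (extZeroι_germ j ξ G z W w)).trans ?_)
  refine Eq.trans ?_ (((congrArg (· ≫ _) (extZeroι_germ j ξ F z W w)).trans (Category.assoc _ _ _)).symm.trans (Category.assoc _ _ _))
  refine Eq.trans ?_ (congrArg (_ ≫ ·)
    ((Scheme.pointSmallEtale ξ).toPresheafFiber_naturality (((EtShriek.compEtale j).sheafPullback A U.smallEtaleTopology X.smallEtaleTopology).map a).hom ((EtShriek.compEtale j).obj W) (extLiftPt z W w)).symm)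
  refine (Category.assoc _ _ _).symm.trans (Eq.trans ?_ (Category.assoc _ _ _))
  exact congrArg (· ≫ _) congr((($(((EtShriek.compEtale j).sheafAdjunctionContinuous A U.smallEtaleTopology X.smallEtaleTopology).unit.naturality a))).hom.app (op W))

/-- projections of the adjunct -/
theorem adjunct_π (F : Sheaf U.smallEtaleTopology A) {M : A}
    (ψ : (Scheme.pointSmallEtale ξ).sheafFiber.obj (((EtShriek.compEtale j).sheafPullback A U.smallEtaleTopology X.smallEtaleTopology).obj F) ⟶ M) (W : U.Etale)
    (v : (Scheme.pointSmallEtale ξ).fiber.obj ((EtShriek.compEtale j).obj W)) :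
    (((((EtShriek.compEtale j).sheafAdjunctionContinuous A U.smallEtaleTopology X.smallEtaleTopology).comp (Scheme.pointSmallEtale ξ).skyscraperSheafAdjunction).homEquiv F M) ψ).hom.app (op W) ≫
        Pi.π (fun _ : (Scheme.pointSmallEtale ξ).fiber.obj ((EtShriek.compEtale j).obj W) => M) v =
      (Scheme.pointSmallEtale (projPt W v).1).toPresheafFiber W (projElt W v) F.obj ≫
        extZeroι j ξ F (projPt W v) ≫ ψ := by
  let Φ := Scheme.pointSmallEtale ξ
  have e : ((((EtShriek.compEtale j).sheafAdjunctionContinuous A U.smallEtaleTopology X.smallEtaleTopology).comp Φ.skyscraperSheafAdjunction).homEquiv F M) ψ =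
      ((EtShriek.compEtale j).sheafAdjunctionContinuous A U.smallEtaleTopology X.smallEtaleTopology).unit.app F ≫ ((EtShriek.compEtale j).sheafPushforwardContinuous A U.smallEtaleTopology X.smallEtaleTopology).map
        ((Φ.skyscraperSheafAdjunction.homEquiv _ M) ψ) := by
    rw [Adjunction.comp_homEquiv]
    exact ((EtShriek.compEtale j).sheafAdjunctionContinuous A U.smallEtaleTopology X.smallEtaleTopology).homEquiv_unit F (Φ.skyscraperSheaf M) _
  rw [e]
  refine (Category.assoc _ _ _).trans ((congrArg (_ ≫ ·) (?_ : _ = Φ.toPresheafFiber ((EtShriek.compEtale j).obj W) v (((EtShriek.compEtale j).sheafPullback A U.smallEtaleTopology X.smallEtaleTopology).obj F).obj ≫ ψ)).trans ?_)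
  · exact (congrArg (fun g => NatTrans.app g (op ((EtShriek.compEtale j).obj W)) ≫ Pi.π _ v)
      (Φ.skyscraperSheafAdjunction_homEquiv_apply_hom ψ)).trans (Φ.skyscraperPresheafHomEquiv_app_π ψ _ v)
  · refine (Category.assoc _ _ _).symm.trans (Eq.trans ?_ (Category.assoc _ _ _))
    refine congrArg (· ≫ ψ) ?_
    refine Eq.trans ?_ (extZeroι_germ j ξ F (projPt W v) W (projElt W v)).symm
    rw [extLiftPt_projElt]
    rfl

/-- the adjunct of a family of maps on stalks -/
noncomputable def adjunctOfFamily (F : Sheaf U.smallEtaleTopology A) {M : A}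
    (φ : ∀ z : PtsOver j ξ, (Scheme.pointSmallEtale z.1).sheafFiber.obj F ⟶ M) :
    F ⟶ ((EtShriek.compEtale j).sheafPushforwardContinuous A U.smallEtaleTopology X.smallEtaleTopology).obj
      ((Scheme.pointSmallEtale ξ).skyscraperSheaf M) :=
  ObjectProperty.homMk
    { app := fun W => Pi.lift fun v =>
        (Scheme.pointSmallEtale (projPt W.unop v).1).toPresheafFiber W.unop (projElt W.unop v) F.obj ≫ φ (projPt W.unop v)
      naturality := fun W W' g => by
        refine Pi.hom_ext _ _ fun v => ?_
        have key : ∀ (z : PtsOver j ξ) (w : (Scheme.pointSmallEtale z.1).fiber.obj W'.unop),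
            F.obj.map g ≫ (Scheme.pointSmallEtale z.1).toPresheafFiber W'.unop w F.obj ≫ φ z =
            (Scheme.pointSmallEtale z.1).toPresheafFiber W.unop ((Scheme.pointSmallEtale z.1).fiber.map g.unop w) F.obj ≫ φ z :=
          fun z w => (Category.assoc _ _ _).symm.trans
            (congrArg (· ≫ φ z) ((Scheme.pointSmallEtale z.1).toPresheafFiber_w g.unop w F.obj))
        refine (Category.assoc _ _ _).trans ((congrArg (_ ≫ ·) (Pi.lift_π _ v)).trans ((key _ _).trans ?_))
        refine Eq.trans ?_ (Category.assoc _ _ _).symm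
        have hmap : (((EtShriek.compEtale j).sheafPushforwardContinuous A U.smallEtaleTopology
              X.smallEtaleTopology).obj ((Scheme.pointSmallEtale ξ).skyscraperSheaf M)).obj.map g ≫
            Pi.π (fun _ : (Scheme.pointSmallEtale ξ).fiber.obj ((EtShriek.compEtale j).obj W'.unop) => M) v =
            Pi.π (fun _ : (Scheme.pointSmallEtale ξ).fiber.obj ((EtShriek.compEtale j).obj W.unop) => M)
              ((Scheme.pointSmallEtale ξ).fiber.map ((EtShriek.compEtale j).map g.unop) v)  := by
          change ((Scheme.pointSmallEtale ξ).skyscraperPresheafFunctor.obj M).map ((EtShriek.compEtale j).map g.unop).op ≫ _ = _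
          rw [GrothendieckTopology.Point.skyscraperPresheafFunctor_obj_map]
          exact (Pi.map'_comp_π _ _ _).trans (Category.comp_id _)
        refine Eq.trans ?_ (congrArg (_ ≫ ·) hmap.symm)
        refine Eq.trans ?_ (Pi.lift_π (fun y =>
          (Scheme.pointSmallEtale (projPt W.unop y).1).toPresheafFiber W.unop (projElt W.unop y) F.obj ≫
            φ (projPt W.unop y)) ((Scheme.pointSmallEtale ξ).fiber.map ((EtShriek.compEtale j).map g.unop) v)).symm
        have same : ∀ (z z' : PtsOver j ξ) (w : (Scheme.pointSmallEtale z.1).fiber.obj W.unop)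
            (w' : (Scheme.pointSmallEtale z'.1).fiber.obj W.unop),
            (w.left : Spec (CommRingCat.of Ω) ⟶ W.unop.left) = w'.left →
            (Scheme.pointSmallEtale z.1).toPresheafFiber W.unop w F.obj ≫ φ z =
              (Scheme.pointSmallEtale z'.1).toPresheafFiber W.unop w' F.obj ≫ φ z' := by
          intro z z' w w' h
          obtain rfl : z = z' := Subtype.ext ((CategoryTheory.Over.w w).symm.trans
            ((congrArg (· ≫ W.unop.hom) h).trans (CategoryTheory.Over.w w')))
          obtain rfl : w = w' := CategoryTheory.Over.OverMorphism.ext h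
          rfl
        exact same _ _ _ _ rfl }

/-- `(j_! F)_ξ` is the coproduct of the stalks at the points over `ξ` -/
noncomputable def extZeroCofanIsColimit (F : Sheaf U.smallEtaleTopology A) :
    IsColimit (Cofan.mk ((Scheme.pointSmallEtale ξ).sheafFiber.obj (((EtShriek.compEtale j).sheafPullback A U.smallEtaleTopology X.smallEtaleTopology).obj F)) (extZeroι j ξ F)) :=
  Cofan.IsColimit.mk _
    (fun s => ((((EtShriek.compEtale j).sheafAdjunctionContinuous A U.smallEtaleTopology X.smallEtaleTopology).comp (Scheme.pointSmallEtale ξ).skyscraperSheafAdjunction).homEquiv F s.pt).symm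
      (adjunctOfFamily j ξ F fun z => s.inj z))
    (fun s z => by
      refine (Scheme.pointSmallEtale z.1).presheafFiber_hom_ext fun W w => ?_
      have h := adjunct_π j ξ F (((((EtShriek.compEtale j).sheafAdjunctionContinuous A U.smallEtaleTopology X.smallEtaleTopology).comp (Scheme.pointSmallEtale ξ).skyscraperSheafAdjunction).homEquiv F s.pt).symm
        (adjunctOfFamily j ξ F fun z => s.inj z)) W (extLiftPt z W w)
      rw [Equiv.apply_symm_apply] at h
      have h' := (Pi.lift_π (fun v => (Scheme.pointSmallEtale (projPt W v).1).toPresheafFiber W (projElt W v) F.obj ≫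
        s.inj (projPt W v)) (extLiftPt z W w)).symm.trans h
      have hz : projPt W (extLiftPt z W w) = z := Subtype.ext (CategoryTheory.Over.w w)
      have same : ∀ (z' : PtsOver j ξ) (w' : (Scheme.pointSmallEtale z'.1).fiber.obj W),
          z' = z → (w'.left : Spec (CommRingCat.of Ω) ⟶ W.left) = w.left →
          ∀ (T : A) (f : ∀ z : PtsOver j ξ, (Scheme.pointSmallEtale z.1).sheafFiber.obj F ⟶ T),
          (Scheme.pointSmallEtale z'.1).toPresheafFiber W w' F.obj ≫ f z' =
            (Scheme.pointSmallEtale z.1).toPresheafFiber W w F.obj ≫ f z := by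
        intro z' w' e h T f
        subst e
        obtain rfl : w' = w := CategoryTheory.Over.OverMorphism.ext h
        rfl
      exact (same _ _ hz rfl _ fun z => extZeroι j ξ F z ≫ _).symm.trans
        (h'.symm.trans (same _ _ hz rfl _ fun z => s.inj z)))
    (fun s m hm => by
      rw [Equiv.eq_symm_apply]
      refine Sheaf.hom_ext (NatTrans.ext (funext fun W => Pi.hom_ext _ _ fun v => ?_))
      refine (adjunct_π j ξ F m W.unop v).trans (Eq.trans ?_ (Pi.lift_π (fun y =>
        (Scheme.pointSmallEtale (projPt W.unop y).1).toPresheafFiber W.unop (projElt W.unop y) F.obj ≫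
          s.inj (projPt W.unop y)) v).symm)
      exact congrArg (_ ≫ ·) (hm _))

end Groth.Agent.EtFound
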