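import Groth.Prelude.Def_EtShriek2

/-! composition with an etale morphism is continuous on small etale sites -/

universe w u

open CategoryTheory CategoryTheory.Limits AlgebraicGeometry Opposite

namespace Groth.Agent.EtFound

set_option backward.isDefEq.respectTransparency.types false

variable {U X : Scheme.{u}} (j : U ⟶ X) [hj : Etale j]

theorem compatiblePreserving_compEtale :
    CompatiblePreserving.{w} X.smallEtaleTopology (EtShriek.compEtale j) := by
  constructor
  intro ℱ Z T x hx Y₁ Y₂ W f₁ f₂ g₁ g₂ hg₁ hg₂ e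
  obtain ⟨W', i, hi₁, hi₂⟩ : ∃ (W' : U.Etale) (i : (EtShriek.compEtale j).obj W' ≅ W),
      W'.hom = i.hom.left ≫ f₁.left ≫ Y₁.hom ∧ IsIso i.hom := by
    refine ⟨(EtShriek.compEtaleLift j f₁).1, (EtShriek.compEtaleLift j f₁).2, ?_, inferInstance⟩
    exact (Category.id_comp _).symm
  let a₁ : W' ⟶ Y₁ := MorphismProperty.Over.homMk (i.hom.left ≫ f₁.left)
    ((Category.assoc _ _ _).trans hi₁.symm)
  have e' : f₁.left ≫ g₁.left = f₂.left ≫ g₂.left := congrArg (fun k => k.left) e
  have he : f₂.left ≫ Y₂.hom = f₁.left ≫ Y₁.hom := by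
    refine (congrArg (f₂.left ≫ ·) (MorphismProperty.Over.w g₂).symm).trans ?_
    refine (Category.assoc _ _ _).symm.trans ?_
    refine (congrArg (· ≫ Z.hom) e'.symm).trans ?_
    exact (Category.assoc _ _ _).trans (congrArg (f₁.left ≫ ·) (MorphismProperty.Over.w g₁))
  let a₂ : W' ⟶ Y₂ := MorphismProperty.Over.homMk (i.hom.left ≫ f₂.left)
    ((Category.assoc _ _ _).trans ((congrArg (i.hom.left ≫ ·) he).trans hi₁.symm))
  have h₁ : (EtShriek.compEtale j).map a₁ = i.hom ≫ f₁ := MorphismProperty.Over.Hom.ext rfl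
  have h₂ : (EtShriek.compEtale j).map a₂ = i.hom ≫ f₂ := MorphismProperty.Over.Hom.ext rfl
  have h := hx a₁ a₂ hg₁ hg₂ (MorphismProperty.Over.Hom.ext
    ((Category.assoc _ _ _).trans ((congrArg (i.hom.left ≫ ·) e').trans (Category.assoc _ _ _).symm)))
  change ℱ.obj.map ((EtShriek.compEtale j).map a₁).op (x g₁ hg₁) =
    ℱ.obj.map ((EtShriek.compEtale j).map a₂).op (x g₂ hg₂) at h
  rw [h₁, h₂, op_comp, op_comp, ℱ.obj.map_comp, ℱ.obj.map_comp, types_comp_apply, types_comp_apply] at h
  exact (isIso_iff_bijective _).1 (inferInstanceAs (IsIso (ℱ.obj.map i.hom.op))) |>.1 h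

/-- continuity of `compEtale j` for every etale `j` -/
theorem jCont : EtShriek.JCont j :=
  Functor.isContinuous_of_coverPreserving (compatiblePreserving_compEtale j)
    (EtShriek.coverPreserving_compEtale j)

end Groth.Agent.EtFound
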