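import Groth.Agent.EtFound.NoethCard

/-! ascending chains in constructible sheaves -/

universe u

open CategoryTheory CategoryTheory.Limits AlgebraicGeometry Opposite Topology TopologicalSpace

namespace Groth.Agent.EtFound

set_option backward.isDefEq.respectTransparency.types false

variable {X : Scheme.{u}}

theorem isConstructible_of_iso {F G : EtCoh.Ab X} (e : F ≅ G) (h : EtPBC.IsConstructible F) :
    EtPBC.IsConstructible G :=
  isConstructible_of_two h h fun _ g h1 _ => isFiniteLocallyConstant_of_iso ((EtCoh.pull g).mapIso e) h1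

/-- vanishing of a germ propagates to generisations -/
theorem germ_eq_zero_of_specializes {R : EtCoh.Ab X} {U : X.Etale} (s : R.obj.obj (op U))
    {Ω : Type u} [Field Ω] [IsSepClosed Ω] {ξ : Spec (CommRingCat.of Ω) ⟶ X} (u : (Scheme.pointSmallEtale ξ).fiber.obj U)
    {k : Type u} [Field k] [IsSepClosed k] {ζ : Spec (CommRingCat.of k) ⟶ X} (z : (Scheme.pointSmallEtale ζ).fiber.obj U)
    (h : (u.left : Spec (CommRingCat.of Ω) ⟶ U.left).base (default : Spec (CommRingCat.of Ω)) ⤳
      (z.left : Spec (CommRingCat.of k) ⟶ U.left).base (default : Spec (CommRingCat.of k)))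
    (h0 : (Scheme.pointSmallEtale ζ).toPresheafFiber U z R.obj s = 0) :
    (Scheme.pointSmallEtale ξ).toPresheafFiber U u R.obj s = 0 := by
  rw [← map_zero ((Scheme.pointSmallEtale ζ).toPresheafFiber U z R.obj).hom] at h0
  obtain ⟨V, f, v, hv, hf⟩ := ((Scheme.pointSmallEtale ζ).toPresheafFiber_eq_iff' U z _ _).1 h0
  rw [map_zero] at hf
  let g : V.left ⟶ U.left := f.left
  haveI hg : AlgebraicGeometry.Etale g := etale_left f
  subst hv
  obtain ⟨y₀, hy₀⟩ := h.mem_open g.isOpenMap.isOpen_range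
    ⟨(v.left : Spec (CommRingCat.of k) ⟶ V.left).base (default : Spec (CommRingCat.of k)),
      (Scheme.Hom.comp_apply _ _ _).symm⟩
  obtain ⟨w, -⟩ := Scheme.pointSmallEtaleFiberObjToPreimage_surjective
    (u.left : Spec (CommRingCat.of Ω) ⟶ U.left) rfl (@Scheme.Etale.mk _ _ g hg) ⟨y₀, hy₀⟩
  let v₀ : (Scheme.pointSmallEtale ξ).fiber.obj V := CategoryTheory.Over.homMk (w.left : Spec (CommRingCat.of Ω) ⟶ V.left) (by
    refine (congrArg (fun q => (w.left : Spec (CommRingCat.of Ω) ⟶ V.left) ≫ q) (MorphismProperty.Over.w f).symm).trans ?_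
    refine (Category.assoc _ _ _).symm.trans ?_
    exact (congrArg (· ≫ U.hom) (CategoryTheory.Over.w w)).trans (CategoryTheory.Over.w u))
  have hv₀ : (Scheme.pointSmallEtale ξ).fiber.map f v₀ = u := CategoryTheory.Over.OverMorphism.ext (CategoryTheory.Over.w w)
  rw [← hv₀, ← (Scheme.pointSmallEtale ξ).toPresheafFiber_w_apply, hf, map_zero]

/-- near a generic point of a finite locally constant sheaf injectivity only needs the generic stalk -/
theorem exists_injective_nhd [IsLocallyNoetherian X] {Ω : Type u} [Field Ω] [IsSepClosed Ω]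
    {ξ : Spec (CommRingCat.of Ω) ⟶ X} (ht : ∀ y, ξ.base (default : Spec (CommRingCat.of Ω)) ⤳ y) {G : EtCoh.Ab X}
    (hG : EtCoh.IsFiniteLocallyConstant G) :
    ∃ O : X.Opens, ξ.base (default : Spec (CommRingCat.of Ω)) ∈ O ∧ ∀ (R : EtCoh.Ab X) (π : G ⟶ R),
      Function.Injective ((EtCoh.stalk ξ).map π) → ∀ (k : Type u) [Field k] [IsSepClosed k]
        (ζ : Spec (CommRingCat.of k) ⟶ X), ζ.base (default : Spec (CommRingCat.of k)) ∈ O →
          Function.Injective ((EtCoh.stalk ζ).map π) := by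
  obtain ⟨U, p, hp, S, hS⟩ := (isFiniteLocallyConstant_iff G).1 hG (ξ.base (default : Spec (CommRingCat.of Ω)))
  have : AlgebraicGeometry.Etale U.hom := U.prop
  obtain ⟨W, hpW, hW⟩ := exists_generic_open ht U hp
  refine ⟨⟨U.hom.base '' (W : Set U.left), U.hom.isOpenMap (W : Set U.left) W.2⟩, ⟨p, hpW, hp⟩, fun R π hπ k _ _ ζ ⟨q, hqW, hq⟩ => ?_⟩
  obtain ⟨u, hu⟩ := Scheme.pointSmallEtaleFiberObjToPreimage_surjective ξ rfl U ⟨p, hp⟩
  obtain ⟨Ω', _, _, ζ', z', hz'⟩ := exists_algClosed_point U q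
  obtain ⟨L, _, _, a, e, he⟩ := exists_lift_extension ζ' ζ ⟨default,
    (base_of_point z').symm.trans ((congrArg _ hz').trans hq)⟩
  suffices h' : Function.Injective ((EtCoh.stalk ζ').map π) by
    have h1 : Mono ((EtCoh.stalk (a ≫ ζ')).map π) := by
      have : Mono ((EtCoh.stalk ζ').map π) := (AddCommGrpCat.mono_iff_injective _).2 h'
      change Mono ((Scheme.pointSmallEtale (a ≫ ζ')).sheafFiber.map π)
      rw [← NatIso.naturality_1 (stalkExtIso AddCommGrpCat.{u + 1} ζ' a) π]
      infer_instance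
    rw [← he] at h1
    refine (AddCommGrpCat.mono_iff_injective _).1 ?_
    change Mono ((Scheme.pointSmallEtale ζ).sheafFiber.map π)
    rw [← NatIso.naturality_2 (stalkExtIso AddCommGrpCat.{u + 1} ζ e) π]
    infer_instance
  refine (injective_iff_map_eq_zero _).2 fun c hc => ?_
  obtain ⟨⟨s, hs⟩, rfl⟩ := (hS.2 Ω' ζ' z').2 c
  have hu0 : (Scheme.pointSmallEtale ξ).toPresheafFiber U u R.obj (π.hom.app (op U) s) = 0 := by
    refine germ_eq_zero_of_specializes _ u z' ?_ (((Scheme.pointSmallEtale ζ').toPresheafFiber_naturality_apply π.hom U z' s).symm.trans hc)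
    have hz := hW q hqW
    rw [show (u.left : Spec (CommRingCat.of Ω) ⟶ U.left).base (default : Spec (CommRingCat.of Ω)) = p from
      congrArg Subtype.val hu]
    rwa [hz']
  have hs0 : (Scheme.pointSmallEtale ξ).toPresheafFiber U u G.obj s = 0 := hπ
    (((Scheme.pointSmallEtale ξ).toPresheafFiber_naturality_apply π.hom U u s).trans (hu0.trans (map_zero _).symm))
  obtain ⟨L₀, _, _, ξ₀, u₀, hu₀⟩ := exists_algClosed_point U p
  have hs1 : (Scheme.pointSmallEtale ξ₀).toPresheafFiber U u₀ G.obj s = 0 :=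
    germ_eq_zero_of_specializes s u₀ u (specializes_of_eq (hu₀.trans (congrArg Subtype.val hu).symm)) hs0
  have : s = 0 := congrArg Subtype.val ((hS.2 L₀ ξ₀ u₀).1 (a₁ := ⟨s, hs⟩) (a₂ := 0) (hs1.trans (map_zero _).symm))
  show (Scheme.pointSmallEtale ζ').toPresheafFiber U z' G.obj s = 0
  rw [this, map_zero]

/-- stalks of constructible sheaves are finite -/
theorem finite_stalk_of_isConstructible {F : EtCoh.Ab X} (hF : EtPBC.IsConstructible F) {Ω : Type u} [Field Ω]
    [IsSepClosed Ω] (ξ : Spec (CommRingCat.of Ω) ⟶ X) : Finite ((EtCoh.stalk ξ).obj F) := by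
  obtain ⟨V, hV, T, g, hg, hr, hT⟩ := exists_generic_piece hF (ξ.base (default : Spec (CommRingCat.of Ω)))
  obtain ⟨t, ht⟩ : ξ.base (default : Spec (CommRingCat.of Ω)) ∈ Set.range g.base := hr.ge ⟨hV, subset_closure rfl⟩
  obtain ⟨U, p, hp, S, hS⟩ := (isFiniteLocallyConstant_iff _).1 hT t
  obtain ⟨k, _, _, ζ, z, hz⟩ := exists_algClosed_point U p
  have := hS.1
  have : Finite ((EtCoh.stalk ζ).obj ((EtCoh.pull g).obj F)) := Finite.of_equiv _ (Equiv.ofBijective _ (hS.2 k ζ z))
  have e := nonempty_stalk_equiv F (ζ ≫ g) ξ ((Scheme.Hom.comp_apply _ _ _).trans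
    ((congrArg g.base ((base_of_point z).symm.trans ((congrArg _ hz).trans hp))).trans ht))
  obtain ⟨e⟩ := e
  exact @Finite.of_equiv _ _ this (((stalkPullIso g ζ).app F).addCommGroupIsoToAddEquiv.toEquiv.trans e)

end Groth.Agent.EtFound

namespace Groth.Agent.EtFound

set_option backward.isDefEq.respectTransparency.types false

variable {X : Scheme.{u}}

/-- injectivity on stalks only depends on the image point -/
theorem injective_stalk_congr {F G : EtCoh.Ab X} (π : F ⟶ G) {k k' : Type u} [Field k] [IsSepClosed k] [Field k']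
    [IsSepClosed k'] (ξ : Spec (CommRingCat.of k) ⟶ X) (ξ' : Spec (CommRingCat.of k') ⟶ X)
    (h : ξ.base (default : Spec (CommRingCat.of k)) = ξ'.base (default : Spec (CommRingCat.of k')))
    (hinj : Function.Injective ((EtCoh.stalk ξ).map π)) : Function.Injective ((EtCoh.stalk ξ').map π) := by
  obtain ⟨Ω, _, _, z, e, he⟩ := exists_lift_extension ξ ξ' ⟨default, h⟩
  have h1 : Mono ((EtCoh.stalk (z ≫ ξ)).map π) := by
    have : Mono ((EtCoh.stalk ξ).map π) := (AddCommGrpCat.mono_iff_injective _).2 hinj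
    change Mono ((Scheme.pointSmallEtale (z ≫ ξ)).sheafFiber.map π)
    rw [← NatIso.naturality_1 (stalkExtIso AddCommGrpCat.{u + 1} ξ z) π]
    infer_instance
  rw [← he] at h1
  refine (AddCommGrpCat.mono_iff_injective _).1 ?_
  change Mono ((Scheme.pointSmallEtale ξ').sheafFiber.map π)
  rw [← NatIso.naturality_2 (stalkExtIso AddCommGrpCat.{u + 1} ξ' e) π]
  infer_instance

/-- sequences of quotients of constructible sheaves are eventually constant -/
theorem exists_isIso_of_epi_sequence [IsLocallyNoetherian X] [CompactSpace X] (Q : ℕ → EtCoh.Ab X)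
    (hQ : ∀ m, EtPBC.IsConstructible (Q m)) (π : ∀ {a b : ℕ}, a ≤ b → (Q a ⟶ Q b))
    (hπ : ∀ {a b : ℕ} (h : a ≤ b), Epi (π h))
    (hcomp : ∀ {a b c : ℕ} (h : a ≤ b) (h' : b ≤ c), π h ≫ π h' = π (h.trans h')) :
    ∃ N, ∀ m (h : N ≤ m), IsIso (π h) := by
  haveI : IsNoetherian X := {}
  let Good : Set X → ℕ → Prop := fun C N => ∀ m (h : N ≤ m), ∀ (k : Type u) [Field k] [IsSepClosed k]
    (ζ : Spec (CommRingCat.of k) ⟶ X), ζ.base (default : Spec (CommRingCat.of k)) ∈ C →
      Function.Injective ((EtCoh.stalk ζ).map (π h))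
  have hsurj : ∀ {a b : ℕ} (h : a ≤ b) (k : Type u) [Field k] [IsSepClosed k] (ζ : Spec (CommRingCat.of k) ⟶ X),
      Function.Surjective ((EtCoh.stalk ζ).map (π h)) := fun h k _ _ ζ => (epi_iff_stalks _).1 (hπ h) k ζ
  have hmap : ∀ {a b c : ℕ} (h : a ≤ b) (h' : b ≤ c) (k : Type u) [Field k] [IsSepClosed k]
      (ζ : Spec (CommRingCat.of k) ⟶ X) x, (EtCoh.stalk ζ).map (π h') ((EtCoh.stalk ζ).map (π h) x) =
        (EtCoh.stalk ζ).map (π (h.trans h')) x := fun h h' k _ _ ζ x => by
    rw [← hcomp h h', Functor.map_comp]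
    rfl
  have mono : ∀ {C : Set X} {N N' : ℕ}, N ≤ N' → Good C N → Good C N' := fun {C N N'} hN hg m h k _ _ ζ hζ a b e => by
    obtain ⟨a, rfl⟩ := hsurj hN k ζ a
    obtain ⟨b, rfl⟩ := hsurj hN k ζ b
    rw [hmap, hmap] at e
    rw [hg m (hN.trans h) k ζ hζ e]
  obtain ⟨N, hN⟩ : ∃ N, Good Set.univ N := by
    refine SpecLib.irred_induction (P := fun C => ∃ N, Good C N) ⟨0, fun m h k _ _ ζ hζ => hζ.elim⟩
      (fun A B _ _ ⟨a, ha⟩ ⟨b, hb⟩ => ⟨max a b, fun m h k _ _ ζ hζ => hζ.elim
        (mono (le_max_left a b) ha m h k ζ) (mono (le_max_right a b) hb m h k ζ)⟩) (fun Y hY hirr ih => ?_) isClosed_univ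
    have hx : IsGenericPoint hirr.genericPoint Y := by
      simpa [hY.closure_eq] using hirr.isGenericPoint_genericPoint_closure
    obtain ⟨Ω, _, _, ξ₀, hξ₀⟩ := exists_geomPoint hirr.genericPoint
    -- stabilisation at the generic point
    have hfin : ∀ m, Finite ((EtCoh.stalk ξ₀).obj (Q m)) := fun m => finite_stalk_of_isConstructible (hQ m) ξ₀
    let N₀ := Function.argmin (fun m => Nat.card ((EtCoh.stalk ξ₀).obj (Q m)))
    have hN₀ : ∀ m, Nat.card ((EtCoh.stalk ξ₀).obj (Q N₀)) ≤ Nat.card ((EtCoh.stalk ξ₀).obj (Q m)) :=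
      fun m => Function.argmin_le (fun m => Nat.card ((EtCoh.stalk ξ₀).obj (Q m))) m
    obtain ⟨V, hxV, T, g, hg, hr, hT⟩ := exists_generic_piece (hQ N₀) hirr.genericPoint
    obtain ⟨t, ht⟩ : hirr.genericPoint ∈ Set.range g.base := hr.ge ⟨hxV, subset_closure rfl⟩
    have : IsLocallyNoetherian T := LocallyOfFiniteType.isLocallyNoetherian g
    obtain ⟨Ω', _, _, ξ', rfl⟩ := exists_geomPoint t
    have htg : ∀ y, ξ'.base (default : Spec (CommRingCat.of Ω')) ⤳ y := fun y => g.isEmbedding.isInducing.specializes_iff.1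
      ((specializes_of_eq ht).trans (specializes_iff_mem_closure.2 ((hr.le ⟨y, rfl⟩).2)))
    obtain ⟨O, hξO, hO⟩ := exists_injective_nhd htg hT
    obtain ⟨O', hO', hOe⟩ := g.isEmbedding.isInducing.isOpen_iff.1 O.2
    let V' : Set X := V ∩ O'
    obtain ⟨N₁, hN₁⟩ := ih (Y ∩ V'ᶜ) (hY.inter (V.2.inter hO').isClosed_compl)
      (Set.inter_subset_left.ssubset_of_ne fun e => (e.ge hx.mem).2
        ⟨hxV, Set.mem_of_eq_of_mem ht.symm (hOe.ge hξO)⟩)
    refine ⟨max N₀ N₁, fun m h k _ _ ζ hζ => ?_⟩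
    by_cases hζV : ζ.base (default : Spec (CommRingCat.of k)) ∈ V'
    · suffices key : ∀ m (h : N₀ ≤ m), Function.Injective ((EtCoh.stalk ζ).map (π h)) by
        exact mono (C := {ζ.base (default : Spec (CommRingCat.of k))}) (le_max_left N₀ N₁)
          (fun m h k' _ _ ζ' h' => injective_stalk_congr _ ζ ζ' (Set.mem_singleton_iff.1 h').symm (key m h)) m h k ζ rfl
      intro m h
      obtain ⟨y, hy⟩ : ζ.base (default : Spec (CommRingCat.of k)) ∈ Set.range g.base :=
        hr.ge ⟨hζV.1, (hx.specializes hζ).mem_closure⟩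
      obtain ⟨k', _, _, ζ', hζ'⟩ := exists_geomPoint y
      refine injective_stalk_congr _ (ζ' ≫ g) ζ ((Scheme.Hom.comp_apply _ _ _).trans ((congrArg g.base hζ').trans hy)) ?_
      have htrans : ∀ (L : Type u) [Field L] [IsSepClosed L] (η : Spec (CommRingCat.of L) ⟶ T),
          Function.Injective ((EtCoh.stalk (η ≫ g)).map (π h)) ↔
            Function.Injective ((EtCoh.stalk η).map ((EtCoh.pull g).map (π h))) := fun L _ _ η => by
        rw [← AddCommGrpCat.mono_iff_injective, ← AddCommGrpCat.mono_iff_injective]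
        exact (MorphismProperty.monomorphisms _).arrow_mk_iso_iff
          (Arrow.isoMk ((stalkPullIso g η).app _).symm ((stalkPullIso g η).app _).symm
            ((stalkPullIso g η).inv.naturality (π h)).symm)
      refine (htrans k' ζ').2 (hO _ _ ((htrans Ω' ξ').1 ?_) k' ζ' ?_)
      · refine injective_stalk_congr _ ξ₀ (ξ' ≫ g) (hξ₀.trans (ht.symm.trans (Scheme.Hom.comp_apply _ _ _).symm)) ?_
        have := hfin N₀
        exact ((hsurj h Ω ξ₀).bijective_of_nat_card_le (hN₀ m)).1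
      · refine hOe.le (show g.base _ ∈ O' from ?_)
        rw [hζ', hy]
        exact hζV.2
    · exact mono (C := Y ∩ V'ᶜ) (le_max_right N₀ N₁) hN₁ m h k ζ ⟨hζ, hζV⟩
  refine ⟨N, fun m h => ?_⟩
  have := hπ h
  have : Mono (π h) := (mono_iff_stalks _).2 fun k _ _ ζ => hN m h k ζ (Set.mem_univ _)
  exact isIso_of_mono_of_epi _

/-- ascending chains of constructible subobjects of a constructible sheaf stabilise -/
theorem subobject_chain_stabilises [IsLocallyNoetherian X] [CompactSpace X] {F : EtCoh.Ab X}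
    (hF : EtPBC.IsConstructible F) (c : ℕ →o Subobject F) : ∃ N, ∀ m, N ≤ m → c m = c N := by
  let π : ∀ {a b : ℕ}, a ≤ b → (cokernel (c a).arrow ⟶ cokernel (c b).arrow) := fun {a b} h =>
    cokernel.desc _ (cokernel.π (c b).arrow) (by
      rw [← Subobject.ofLE_arrow (c.monotone h), Category.assoc, cokernel.condition, comp_zero])
  have hfac : ∀ {a b : ℕ} (h : a ≤ b), cokernel.π (c a).arrow ≫ π h = cokernel.π (c b).arrow :=
    fun h => cokernel.π_desc _ _ _
  obtain ⟨N, hN⟩ := exists_isIso_of_epi_sequence (fun m => cokernel (c m).arrow)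
    (fun m => isConstructible_of_epi hF (cokernel.π _)) π (fun h => epi_of_epi_fac (hfac h))
    (fun {a b d} h h' => (cancel_epi (cokernel.π (c a).arrow)).1 (by rw [← Category.assoc, hfac h, hfac h', hfac (h.trans h')]))
  refine ⟨N, fun m h => le_antisymm ?_ (c.monotone h)⟩
  have := hN m h
  have e : (c m).arrow ≫ cokernel.π (c N).arrow = 0 := (cancel_mono (π h)).1 (by
    rw [Category.assoc, hfac h, cokernel.condition, zero_comp])
  exact Subobject.le_of_comm (Abelian.monoLift _ _ e) (Abelian.monoLift_comp _ _ e)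

end Groth.Agent.EtFound
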