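import Groth.Agent.EtFound.FilteredSectionsGen
import Groth.Agent.EtFound.Basic
import Mathlib.AlgebraicGeometry.Morphisms.QuasiSeparated
import Mathlib.AlgebraicGeometry.Morphisms.UniversallyOpen
import Mathlib.AlgebraicGeometry.Morphisms.Smooth

/-!
# Quasi-compact quasi-separated objects of the small étale site
-/

universe u

open CategoryTheory CategoryTheory.Limits AlgebraicGeometry Opposite

namespace Groth.Agent.EtFound

set_option backward.isDefEq.respectTransparency.types false

/-- Quasi-compact quasi-separated objects of the small étale site. -/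
def IsQcqsObj {X : Scheme.{u}} (U : X.Etale) : Prop :=
  CompactSpace ↥U.left ∧ QuasiSeparatedSpace ↥U.left

theorem isQcqsObj_of_isAffine {X : Scheme.{u}} (U : X.Etale) [IsAffine U.left] : IsQcqsObj U :=
  ⟨inferInstance, inferInstance⟩

theorem isQcqsObj_of_qcqs {X : Scheme.{u}} [CompactSpace ↥X] [QuasiSeparatedSpace ↥X] (U : X.Etale)
    [QuasiCompact U.hom] [QuasiSeparated U.hom] : IsQcqsObj U := by
  haveI h1 : CompactSpace ↥((Functor.fromPUnit X).obj U.right) := ‹CompactSpace ↥X›
  haveI h2 : QuasiSeparatedSpace ↥((Functor.fromPUnit X).obj U.right) := ‹QuasiSeparatedSpace ↥X›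
  exact ⟨QuasiCompact.compactSpace_of_compactSpace U.hom, quasiSeparatedSpace_of_quasiSeparated U.hom⟩

/-- The fibre product of two qcqs objects over a qcqs object is qcqs. -/
theorem isQcqsObj_pullback {X : Scheme.{u}} {U V W : X.Etale} (a : V ⟶ U) (b : W ⟶ U)
    (hU : IsQcqsObj U) (hV : IsQcqsObj V) (hW : IsQcqsObj W) : IsQcqsObj (pullback a b) := by
  obtain ⟨-, hU₂⟩ := hU
  obtain ⟨hV₁, hV₂⟩ := hV
  obtain ⟨hW₁, hW₂⟩ := hW
  haveI : PreservesFiniteLimits (Scheme.Etale.forget X) := inferInstance
  haveI : PreservesLimitsOfShape WalkingCospan (Scheme.Etale.forget X ⋙ CategoryTheory.Over.forget X) :=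
    comp_preservesLimitsOfShape _ _
  let e : (pullback a b).left ≅ pullback a.left b.left :=
    PreservesPullback.iso (Scheme.Etale.forget X ⋙ CategoryTheory.Over.forget X) a b
  haveI : QuasiCompact b.left := quasiCompact_of_compactSpace _
  haveI : QuasiSeparated b.left := inferInstance
  haveI : CompactSpace ↥(pullback a.left b.left) :=
    QuasiCompact.compactSpace_of_compactSpace (pullback.fst a.left b.left)
  haveI : QuasiSeparatedSpace ↥(pullback a.left b.left) :=
    quasiSeparatedSpace_of_quasiSeparated (pullback.fst a.left b.left)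
  exact ⟨QuasiCompact.compactSpace_of_compactSpace e.hom, quasiSeparatedSpace_of_quasiSeparated e.hom⟩

/-- Coverings of qcqs objects have finite affine refinements. -/
theorem hasFiniteRefinements_qcqs (X : Scheme.{u}) :
    FilteredSectionsGen.HasFiniteRefinements X.smallEtaleTopology (IsQcqsObj (X := X)) := by
  intro U hU S hS
  have := hU.1
  choose V g v hg hv using (mem_topology_iff S).1 hS
  choose A hA hvA _ using fun x => exists_isAffineOpen_mem_and_subset (U := (⊤ : (V x).left.Opens))
    (TopologicalSpace.Opens.mem_top (v x))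
  haveI : ∀ x, AlgebraicGeometry.Etale (V x).hom := fun x => (V x).prop
  let W : U.left → X.Etale := fun x => Scheme.Etale.mk ((A x).ι ≫ (V x).hom)
  let i : ∀ x, W x ⟶ V x := fun x => MorphismProperty.Over.homMk (A x).ι rfl trivial
  have ho : ∀ x, IsOpen (Set.range (i x ≫ g x).left.base) := fun x => by
    haveI := etale_left (i x ≫ g x)
    exact (Scheme.Hom.isOpenMap ((i x ≫ g x).left)).isOpen_range
  have hx : ∀ x, x ∈ Set.range (i x ≫ g x).left.base := fun x =>
    ⟨(⟨v x, hvA x⟩ : (A x : Scheme.{u})), (hv x)⟩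
  obtain ⟨t, ht⟩ := isCompact_univ.elim_finite_subcover _ ho
    (fun x _ => Set.mem_iUnion.2 ⟨x, hx x⟩)
  have hWq : ∀ x, IsQcqsObj (W x) := fun x => by
    haveI : IsAffine (W x).left := hA x
    exact isQcqsObj_of_isAffine _
  refine ⟨t.card, fun k => W (t.equivFin.symm k).1, fun k => i _ ≫ g _, fun k => S.downward_closed (hg _) _,
    ?_, fun k => hWq _, fun k l => isQcqsObj_pullback _ _ hU (hWq _) (hWq _)⟩
  refine (mem_topology_iff _).2 fun x => ?_
  obtain ⟨y, hy, w, hw⟩ := Set.mem_iUnion₂.1 (ht (Set.mem_univ x))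
  obtain ⟨k, hk⟩ : ∃ k, (t.equivFin.symm k).1 = y := ⟨t.equivFin ⟨y, hy⟩, by simp⟩
  subst hk
  exact ⟨_, _, w, Sieve.ofArrows_mk _ _ k, hw⟩

theorem preservesColimitsOfShape_sections_qcqs_type {X : Scheme.{u}} (U : X.Etale) (hU : IsQcqsObj U)
    (I : Type (u + 1)) [SmallCategory I] [IsFiltered I] :
    PreservesColimitsOfShape I (sheafToPresheaf X.smallEtaleTopology (Type (u + 1)) ⋙
      (evaluation X.Etaleᵒᵖ (Type (u + 1))).obj (op U)) :=
  FilteredSectionsGen.preservesColimitsOfShape_sections_type.{u + 1} (I := I) (hasFiniteRefinements_qcqs X) hU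

theorem preservesColimitsOfShape_sections_qcqs_ab {X : Scheme.{u}} (U : X.Etale) (hU : IsQcqsObj U)
    (I : Type (u + 1)) [SmallCategory I] [IsFiltered I] :
    PreservesColimitsOfShape I (sheafToPresheaf X.smallEtaleTopology AddCommGrpCat.{u + 1} ⋙
      (evaluation X.Etaleᵒᵖ AddCommGrpCat.{u + 1}).obj (op U)) :=
  FilteredSectionsGen.preservesColimitsOfShape_sections_ab.{u + 1} (I := I) (hasFiniteRefinements_qcqs X) hU

end Groth.Agent.EtFound
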