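import Groth.Prelude.Def_EtCech
import Mathlib.GroupTheory.FreeAbelianGroup
import Mathlib.CategoryTheory.EssentiallySmall
import Mathlib.Algebra.Homology.ShortComplex.Ab
import Mathlib.Algebra.Homology.ShortComplex.Exact
import Mathlib.CategoryTheory.Abelian.FunctorCategory
import Mathlib.Algebra.Category.Grp.Abelian
import Mathlib.CategoryTheory.Limits.Types.Limits

/-!
# Injective presheaves have no higher Čech cohomology, arbitrary universes

`C` is a category with `w`-small morphism sets, `Uf` a family over `U` indexed by a `w`-small type.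
-/

universe w v u

open CategoryTheory CategoryTheory.Limits Opposite

namespace Groth.Agent.EtFound.CechInjGen

set_option linter.unusedSectionVars false

variable {C : Type u} [Category.{v} C] [LocallySmall.{w} C] {U : C} [HasFiniteProducts (Over U)]
  {ι : Type w} (Uf : ι → Over U)

/-- A lift of a morphism to `U` to a member of the family. -/
abbrev Lift (T : C) : Type w := Σ i : ι, Shrink.{w} (T ⟶ (Uf i).left)

variable {Uf}

/-- The morphism of a lift. -/
noncomputable def Lift.hom {T : C} (l : Lift Uf T) : T ⟶ (Uf l.1).left := (equivShrink _).symm l.2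

/-- The composite to `U`. -/
noncomputable def Lift.base {T : C} (l : Lift Uf T) : T ⟶ U := l.hom ≫ (Uf l.1).hom

/-- Lift from a morphism. -/
noncomputable def Lift.mk' {T : C} (i : ι) (a : T ⟶ (Uf i).left) : Lift Uf T := ⟨i, equivShrink _ a⟩

lemma Lift.hom_mk' {T : C} (i : ι) (a : T ⟶ (Uf i).left) : (Lift.mk' i a : Lift Uf T).hom = a :=
  Equiv.symm_apply_apply _ a

lemma Lift.mk'_hom {T : C} (l : Lift Uf T) : Lift.mk' l.1 l.hom = l := by
  obtain ⟨i, a⟩ := l
  exact congrArg (Sigma.mk i) (Equiv.apply_symm_apply _ a)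

/-- Precomposition. -/
noncomputable def Lift.res {T T' : C} (f : T' ⟶ T) (l : Lift Uf T) : Lift Uf T' :=
  Lift.mk' l.1 (f ≫ l.hom)

lemma Lift.res_id {T : C} (l : Lift Uf T) : l.res (𝟙 T) = l := by
  rw [Lift.res, Category.id_comp, Lift.mk'_hom]

lemma Lift.res_comp {T T' T'' : C} (f : T' ⟶ T) (g : T'' ⟶ T') (l : Lift Uf T) :
    (l.res f).res g = l.res (g ≫ f) := by
  show Lift.mk' l.1 (g ≫ (Lift.mk' l.1 (f ≫ l.hom) : Lift Uf T').hom) = _
  rw [Lift.hom_mk', ← Category.assoc]
  rfl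

lemma Lift.base_res {T T' : C} (f : T' ⟶ T) (l : Lift Uf T) : (l.res f).base = f ≫ l.base := by
  show (Lift.mk' l.1 (f ≫ l.hom) : Lift Uf T').hom ≫ (Uf l.1).hom = _
  rw [Lift.hom_mk']
  exact Category.assoc _ _ _

variable (Uf)

/-- Tuples of lifts with a common composite to `U`. -/
abbrev Tup (n : ℕ) (T : C) : Type w :=
  { p : Fin (n + 1) → Lift Uf T // ∀ k, (p k).base = (p 0).base }

variable {Uf}

/-- Precomposition of tuples. -/
noncomputable def Tup.res {n : ℕ} {T T' : C} (f : T' ⟶ T) (p : Tup Uf n T) : Tup Uf n T' :=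
  ⟨fun k => (p.1 k).res f, fun k => by rw [Lift.base_res, Lift.base_res, p.2 k]⟩

/-- The faces of a tuple. -/
def Tup.face {n : ℕ} {T : C} (p : Tup Uf (n + 1) T) (j : Fin (n + 2)) : Tup Uf n T :=
  ⟨fun k => p.1 (j.succAbove k), fun k => (p.2 _).trans (p.2 _).symm⟩

lemma Tup.face_res {n : ℕ} {T T' : C} (f : T' ⟶ T) (p : Tup Uf (n + 1) T) (j : Fin (n + 2)) :
    (p.res f).face j = (p.face j).res f := rfl

variable (Uf)

/-- The free abelian presheaf on tuples of lifts. -/
noncomputable def F (n : ℕ) : Cᵒᵖ ⥤ AddCommGrpCat.{w} where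
  obj T := AddCommGrpCat.of (FreeAbelianGroup (Tup Uf n T.unop))
  map f := AddCommGrpCat.ofHom (FreeAbelianGroup.lift fun p => FreeAbelianGroup.of (p.res f.unop))
  map_id T := AddCommGrpCat.hom_ext <| FreeAbelianGroup.lift_ext _ _ fun p =>
    (FreeAbelianGroup.lift_apply_of _ _).trans
      (congrArg FreeAbelianGroup.of (Subtype.ext (funext fun k => Lift.res_id _)))
  map_comp f g := AddCommGrpCat.hom_ext <| FreeAbelianGroup.lift_ext _ _ fun p => by
    simp only [AddCommGrpCat.hom_comp, AddCommGrpCat.hom_ofHom, AddMonoidHom.coe_comp,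
      Function.comp_apply, FreeAbelianGroup.lift_apply_of]
    exact congrArg FreeAbelianGroup.of (Subtype.ext (funext fun k => (Lift.res_comp _ _ _).symm))

variable {Uf}

/-- A natural family of functions on tuples gives a map out of the free presheaf. -/
noncomputable def desc {n : ℕ} {P : Cᵒᵖ ⥤ AddCommGrpCat.{w}} (φ : ∀ T, Tup Uf n T → P.obj (op T))
    (hφ : ∀ (T T' : C) (f : T' ⟶ T) (p : Tup Uf n T), φ T' (p.res f) = P.map f.op (φ T p)) :
    F Uf n ⟶ P where
  app T := AddCommGrpCat.ofHom (FreeAbelianGroup.lift (φ T.unop))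
  naturality T T' f := AddCommGrpCat.hom_ext <| FreeAbelianGroup.lift_ext _ _ fun p => by
    simp only [F, AddCommGrpCat.hom_comp, AddCommGrpCat.hom_ofHom, AddMonoidHom.coe_comp,
      Function.comp_apply, FreeAbelianGroup.lift_apply_of]
    exact hφ _ _ f.unop p

lemma desc_of {n : ℕ} {P : Cᵒᵖ ⥤ AddCommGrpCat.{w}} (φ : ∀ T, Tup Uf n T → P.obj (op T))
    (hφ : ∀ (T T' : C) (f : T' ⟶ T) (p : Tup Uf n T), φ T' (p.res f) = P.map f.op (φ T p))
    (T : C) (p : Tup Uf n T) :
    ((desc φ hφ).app (op T)).hom (FreeAbelianGroup.of p) = φ T p :=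
  FreeAbelianGroup.lift_apply_of _ _

variable (Uf)

/-- The alternating sum of the faces. -/
noncomputable def bdry {n : ℕ} {T : C} (p : Tup Uf (n + 1) T) : FreeAbelianGroup (Tup Uf n T) :=
  ∑ j : Fin (n + 2), (-1 : ℤ) ^ (j : ℕ) • FreeAbelianGroup.of (p.face j)

/-- The differential. -/
noncomputable def dd (n : ℕ) : F Uf (n + 1) ⟶ F Uf n :=
  desc (fun _ p => bdry Uf p) fun T T' f p => by
    show bdry Uf (p.res f) = FreeAbelianGroup.lift _ (bdry Uf p)
    rw [bdry, bdry, map_sum]
    refine Finset.sum_congr rfl fun j _ => ?_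
    rw [map_zsmul, FreeAbelianGroup.lift_apply_of]
    rfl

variable {Uf}

lemma dd_of {n : ℕ} {T : C} (p : Tup Uf (n + 1) T) :
    ((dd Uf n).app (op T)).hom (FreeAbelianGroup.of p) = bdry Uf p :=
  desc_of _ _ T p

section Homotopy

/-- A chosen lift with a given composite to `U`. -/
noncomputable def pick {T : C} (g : T ⟶ U) (h : ∃ l : Lift Uf T, l.base = g) : Lift Uf T := h.choose

lemma pick_congr {T : C} {g g' : T ⟶ U} (e : g = g') (h : ∃ l : Lift Uf T, l.base = g)
    (h' : ∃ l : Lift Uf T, l.base = g') : pick g h = pick g' h' := by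
  subst e
  rfl

/-- The cone point of a tuple. -/
noncomputable def vertex {n : ℕ} {T : C} (p : Tup Uf n T) : Lift Uf T :=
  pick (p.1 0).base ⟨p.1 0, rfl⟩

/-- Coning off. -/
noncomputable def cone {n : ℕ} {T : C} (p : Tup Uf n T) : Tup Uf (n + 1) T :=
  ⟨Fin.cons (vertex p) p.1, by
    have hv : (vertex p).base = (p.1 0).base :=
      Exists.choose_spec (p := fun l : Lift Uf T => l.base = (p.1 0).base) ⟨p.1 0, rfl⟩
    intro k
    induction k using Fin.cases with
    | zero => rfl
    | succ i => rw [Fin.cons_succ, Fin.cons_zero, hv]; exact p.2 i⟩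

lemma vertex_face {n : ℕ} {T : C} (p : Tup Uf (n + 1) T) (j : Fin (n + 2)) :
    vertex (p.face j) = vertex p :=
  pick_congr (p.2 _) _ _

lemma face_cone_zero {n : ℕ} {T : C} (p : Tup Uf n T) : (cone p).face 0 = p :=
  Subtype.ext (funext fun k => by
    show Fin.cons (α := fun _ => Lift Uf T) (vertex p) p.1 ((0 : Fin (n + 2)).succAbove k) = p.1 k
    rw [Fin.zero_succAbove, Fin.cons_succ])

lemma face_cone_succ {n : ℕ} {T : C} (p : Tup Uf (n + 1) T) (j : Fin (n + 2)) :
    (cone p).face j.succ = cone (p.face j) :=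
  Subtype.ext (funext fun k => by
    show Fin.cons (α := fun _ => Lift Uf T) (vertex p) p.1 (j.succ.succAbove k) =
      Fin.cons (α := fun _ => Lift Uf T) (vertex (p.face j)) (p.face j).1 k
    induction k using Fin.cases with
    | zero => rw [Fin.succ_succAbove_zero, Fin.cons_zero, Fin.cons_zero, vertex_face]
    | succ i => rw [Fin.succ_succAbove_succ, Fin.cons_succ, Fin.cons_succ]; rfl)

variable (Uf)

/-- The contracting homotopy. -/
noncomputable def htpy (n : ℕ) (T : C) :
    FreeAbelianGroup (Tup Uf n T) →+ FreeAbelianGroup (Tup Uf (n + 1) T) :=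
  FreeAbelianGroup.lift fun p => FreeAbelianGroup.of (cone p)

variable {Uf}

lemma dd_htpy {n : ℕ} {T : C} (x : FreeAbelianGroup (Tup Uf (n + 1) T)) :
    ((dd Uf (n + 1)).app (op T)).hom (htpy Uf (n + 1) T x) =
      x - htpy Uf n T (((dd Uf n).app (op T)).hom x) := by
  revert x
  suffices h : ((dd Uf (n + 1)).app (op T)).hom.comp (htpy Uf (n + 1) T) =
      AddMonoidHom.id _ - (htpy Uf n T).comp ((dd Uf n).app (op T)).hom from
    fun x => DFunLike.congr_fun h x
  refine FreeAbelianGroup.lift_ext _ _ fun p => ?_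
  show ((dd Uf (n + 1)).app (op T)).hom (htpy Uf (n + 1) T (FreeAbelianGroup.of p)) =
    FreeAbelianGroup.of p - htpy Uf n T (((dd Uf n).app (op T)).hom (FreeAbelianGroup.of p))
  rw [htpy, FreeAbelianGroup.lift_apply_of, dd_of, dd_of, bdry, Fin.sum_univ_succ, bdry, map_sum,
    face_cone_zero, sub_eq_add_neg, ← Finset.sum_neg_distrib]
  refine congrArg₂ (· + ·) (by simp) ?_
  refine Finset.sum_congr rfl fun j _ => ?_
  rw [face_cone_succ, map_zsmul, htpy, FreeAbelianGroup.lift_apply_of, Fin.val_succ, pow_succ, mul_neg_one,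
    neg_smul]

end Homotopy

section Cech

variable (Uf) (P : Cᵒᵖ ⥤ AddCommGrpCat.{w})

/-- Value of a cochain on a tuple of indices. -/
noncomputable def cev (n : ℕ) (i : Fin (n + 1) → ι) :
    (EtCech.cechComplex Uf P).X n →+ P.obj (op (∏ᶜ fun k => Uf (i k)).left) :=
  (Pi.π (fun j : Fin (n + 1) → ι => P.obj (op (∏ᶜ fun k => Uf (j k)).left)) i).hom

lemma cev_ext {n : ℕ} {x y : (EtCech.cechComplex Uf P).X n}
    (h : ∀ i, cev Uf P n i x = cev Uf P n i y) : x = y :=
  Concrete.limit_ext (Discrete.functor fun j : Fin (n + 1) → ι => P.obj (op (∏ᶜ fun k => Uf (j k)).left))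
    x y fun ⟨i⟩ => h i

lemma exists_cev {n : ℕ} (g : ∀ i : Fin (n + 1) → ι, P.obj (op (∏ᶜ fun k => Uf (i k)).left)) :
    ∃ x : (EtCech.cechComplex Uf P).X n, ∀ i, cev Uf P n i x = g i :=
  ⟨(Concrete.productEquiv (fun j : Fin (n + 1) → ι => P.obj (op (∏ᶜ fun k => Uf (j k)).left))).symm g,
    fun i => Concrete.productEquiv_symm_apply_π _ g i⟩

lemma hom_sum_apply {α : Type*} {A B : AddCommGrpCat.{w}} (s : Finset α) (f : α → (A ⟶ B))
    (x : A) : (∑ i ∈ s, f i).hom x = ∑ i ∈ s, (f i).hom x :=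
  map_sum (AddMonoidHom.mk' (fun g : A ⟶ B => g.hom x) fun _ _ => rfl) f s

/-- The transition map between products of the family. -/
noncomputable abbrev tmap {n : ℕ} (i : Fin (n + 2) → ι) (j : Fin (n + 2)) :
    ∏ᶜ (fun k => Uf (i k)) ⟶ ∏ᶜ fun k => Uf (i (j.succAbove k)) :=
  Pi.lift fun k => Pi.π (fun k => Uf (i k)) (j.succAbove k)

lemma cev_d (n : ℕ) (i : Fin (n + 2) → ι) (x : (EtCech.cechComplex Uf P).X n) :
    cev Uf P (n + 1) i (((EtCech.cechComplex Uf P).d n (n + 1)).hom x) =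
      ∑ j : Fin (n + 2), (-1 : ℤ) ^ (j : ℕ) •
        (P.map (tmap Uf i j).left.op).hom (cev Uf P n (i ∘ j.succAbove) x) := by
  have e : (EtCech.cechComplex Uf P).d n (n + 1) =
      AlgebraicTopology.AlternatingCofaceMapComplex.objD
        ((FormalCoproduct.cosimplicialObjectFunctor (FormalCoproduct.mk _ Uf).cech).obj
          ((Over.forget U).op ⋙ P)) n := by
    show ((cechComplexFunctor Uf).obj ((Over.forget U).op ⋙ P)).d n (n + 1) = _
    simp [cechComplexFunctor, FormalCoproduct.cochainComplexFunctor,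
      AlgebraicTopology.alternatingCofaceMapComplex,
      AlgebraicTopology.AlternatingCofaceMapComplex.obj]
  rw [e, AlgebraicTopology.AlternatingCofaceMapComplex.objD]
  refine (congrArg (cev Uf P (n + 1) i) (hom_sum_apply _ _ x)).trans ?_
  refine (map_sum _ _ _).trans ?_
  refine Finset.sum_congr rfl fun j _ => ?_
  refine (map_zsmul _ _ _).trans ?_
  congr 1
  exact ConcreteCategory.congr_hom (Pi.lift_π (fun i : Fin (n + 2) → ι =>
    (Pi.π (fun j : Fin (n + 1) → ι => P.obj (op (∏ᶜ fun k => Uf (j k)).left)) (i ∘ j.succAbove)) ≫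
      P.map (tmap Uf i j).left.op) i) x

variable {Uf}

/-- The morphism to the product attached to a tuple. -/
noncomputable def Tup.toProd {n : ℕ} {T : C} (p : Tup Uf n T) :
    T ⟶ (∏ᶜ fun k => Uf (p.1 k).1).left :=
  (Pi.lift fun k => (Over.homMk (p.1 k).hom (p.2 k) :
    Over.mk (p.1 0).base ⟶ Uf (p.1 k).1)).left

lemma Tup.toProd_π {n : ℕ} {T : C} (p : Tup Uf n T) (k : Fin (n + 1)) :
    p.toProd ≫ (Pi.π (fun k => Uf (p.1 k).1) k).left = (p.1 k).hom :=
  congrArg Over.Hom.left (Pi.lift_π (fun k => (Over.homMk (p.1 k).hom (p.2 k) :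
    Over.mk (p.1 0).base ⟶ Uf (p.1 k).1)) k)

omit [LocallySmall.{w} C] in
lemma hom_ext_prod {n : ℕ} (i : Fin (n + 1) → ι) {T : C} (a b : T ⟶ (∏ᶜ fun k => Uf (i k)).left)
    (h : ∀ k, a ≫ (Pi.π (fun k => Uf (i k)) k).left = b ≫ (Pi.π (fun k => Uf (i k)) k).left) :
    a = b := by
  have h0 : b ≫ (∏ᶜ fun k => Uf (i k)).hom = a ≫ (∏ᶜ fun k => Uf (i k)).hom := by
    rw [← Over.w (Pi.π (fun k => Uf (i k)) 0)]
    simp only [← Category.assoc, h 0]
  exact congrArg Over.Hom.left (Pi.hom_ext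
    (Over.homMk a rfl : Over.mk (a ≫ (∏ᶜ fun k => Uf (i k)).hom) ⟶ ∏ᶜ fun k => Uf (i k))
    (Over.homMk b h0) fun k => Over.OverMorphism.ext (h k))

/-- The tautological tuple on a product. -/
noncomputable def taut {n : ℕ} (i : Fin (n + 1) → ι) : Tup Uf n (∏ᶜ fun k => Uf (i k)).left :=
  ⟨fun k => Lift.mk' (i k) (Pi.π (fun k => Uf (i k)) k).left, fun k => by
    show (Lift.mk' (i k) _ : Lift Uf _).hom ≫ (Uf (i k)).hom =
      (Lift.mk' (i 0) _ : Lift Uf _).hom ≫ (Uf (i 0)).hom
    rw [Lift.hom_mk', Lift.hom_mk']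
    exact (Over.w _).trans (Over.w _).symm⟩

lemma toProd_taut {n : ℕ} (i : Fin (n + 1) → ι) : (taut (Uf := Uf) i).toProd = 𝟙 _ :=
  hom_ext_prod i _ _ fun k =>
    ((taut i).toProd_π k).trans ((Lift.hom_mk' _ _).trans (Category.id_comp _).symm)

lemma taut_face {n : ℕ} (i : Fin (n + 2) → ι) (j : Fin (n + 2)) :
    (taut (Uf := Uf) i).face j = (taut (i ∘ j.succAbove)).res (tmap Uf i j).left :=
  Subtype.ext (funext fun k => by
    show Lift.mk' (i (j.succAbove k)) (Pi.π (fun k => Uf (i k)) (j.succAbove k)).left =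
      Lift.mk' (i (j.succAbove k)) ((tmap Uf i j).left ≫ (Lift.mk' (i (j.succAbove k))
        (Pi.π (fun k => Uf (i (j.succAbove k))) k).left : Lift Uf _).hom)
    rw [Lift.hom_mk', ← Over.comp_left, Pi.lift_π])

variable {P}

/-- A cochain as a natural function on tuples. -/
noncomputable def toFn {n : ℕ} (x : (EtCech.cechComplex Uf P).X n) (T : C) (p : Tup Uf n T) :
    P.obj (op T) :=
  (P.map p.toProd.op).hom (cev Uf P n (fun k => (p.1 k).1) x)

lemma toFn_res {n : ℕ} (x : (EtCech.cechComplex Uf P).X n) {T T' : C} (f : T' ⟶ T) (p : Tup Uf n T) :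
    toFn x T' (p.res f) = P.map f.op (toFn x T p) := by
  have h : (p.res f).toProd = f ≫ p.toProd := hom_ext_prod _ _ _ fun k =>
    ((p.res f).toProd_π k).trans ((Lift.hom_mk' _ _).trans
      ((congrArg (fun m => f ≫ m) (p.toProd_π k).symm).trans (Category.assoc _ _ _).symm))
  refine (congrArg (fun m : T' ⟶ (∏ᶜ fun k => Uf (p.1 k).1).left =>
    (P.map m.op).hom (cev Uf P n (fun k => (p.1 k).1) x)) h).trans ?_
  exact ConcreteCategory.congr_hom (P.map_comp p.toProd.op f.op) _

lemma toFn_d {n : ℕ} (x : (EtCech.cechComplex Uf P).X n) (T : C) (p : Tup Uf (n + 1) T) :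
    toFn (((EtCech.cechComplex Uf P).d n (n + 1)).hom x) T p =
      ∑ j : Fin (n + 2), (-1 : ℤ) ^ (j : ℕ) • toFn x T (p.face j) := by
  unfold toFn
  rw [cev_d, map_sum]
  refine Finset.sum_congr rfl fun j _ => ?_
  rw [map_zsmul]
  refine congrArg (fun y => (-1 : ℤ) ^ (j : ℕ) • y) ?_
  have h : p.toProd ≫ (tmap Uf (fun k => (p.1 k).1) j).left = (p.face j).toProd :=
    hom_ext_prod _ _ _ fun k => by
      refine Eq.trans ?_ ((p.face j).toProd_π k).symm
      rw [Category.assoc, ← Over.comp_left]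
      refine Eq.trans (congrArg (fun m => p.toProd ≫ m) (congrArg Over.Hom.left (Pi.lift_π _ k))) ?_
      exact p.toProd_π (j.succAbove k)
  show (P.map p.toProd.op).hom ((P.map (tmap Uf (fun k => (p.1 k).1) j).left.op).hom _) = _
  rw [← ConcreteCategory.comp_apply, ← P.map_comp, ← op_comp, h]
  rfl

variable (Uf) (P)

/-- Injective presheaves have no higher Čech cohomology. -/
theorem exactAt_cech_injective [Injective P] (n : ℕ) :
    (EtCech.cechComplex Uf P).ExactAt (n + 1) := by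
  rw [HomologicalComplex.exactAt_iff' _ n (n + 1) (n + 2) (by simp) (by simp),
    ShortComplex.ab_exact_iff]
  intro (x : (EtCech.cechComplex Uf P).X (n + 1))
    (hx : ((EtCech.cechComplex Uf P).d (n + 1) (n + 2)).hom x = 0)
  let φ : F Uf (n + 1) ⟶ P := desc (fun T p => toFn x T p) fun T T' f p => toFn_res x f p
  have hφd : ∀ (T : C) (z : FreeAbelianGroup (Tup Uf (n + 2) T)),
      (φ.app (op T)).hom (((dd Uf (n + 1)).app (op T)).hom z) = 0 := by
    intro T
    suffices h : (φ.app (op T)).hom.comp ((dd Uf (n + 1)).app (op T)).hom = 0 from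
      fun z => DFunLike.congr_fun h z
    refine FreeAbelianGroup.lift_ext _ _ fun p => ?_
    show (φ.app (op T)).hom (((dd Uf (n + 1)).app (op T)).hom (FreeAbelianGroup.of p)) = 0
    rw [dd_of, bdry]
    refine (map_sum (φ.app (op T)).hom _ _).trans ?_
    refine Eq.trans (Finset.sum_congr rfl fun j _ => ?_) ((toFn_d x T p).symm.trans ?_)
    · exact (map_zsmul _ _ _).trans (congrArg (fun y => (-1 : ℤ) ^ (j : ℕ) • y) (desc_of _ _ T _))
    · show (P.map p.toProd.op).hom (cev Uf P (n + 2) _ _) = 0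
      rw [hx, map_zero, map_zero]
  have hk : kernel.ι (dd Uf n) ≫ φ = 0 := by
    refine NatTrans.ext (funext fun T => AddCommGrpCat.hom_ext (AddMonoidHom.ext fun z => ?_))
    show (φ.app T).hom (((kernel.ι (dd Uf n)).app T).hom z) = 0
    have key : ∀ (T : C) (w : FreeAbelianGroup (Tup Uf (n + 1) T)),
        ((dd Uf n).app (op T)).hom w = 0 → (φ.app (op T)).hom w = 0 := by
      intro T w h0
      have h1 : ((dd Uf (n + 1)).app (op T)).hom (htpy Uf (n + 1) T w) = w :=
        (dd_htpy w).trans ((congrArg (fun y : FreeAbelianGroup (Tup Uf n T) => w - htpy Uf n T y) h0).trans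
          ((congrArg (fun y => w - y) (map_zero _)).trans (sub_zero w)))
      exact (congrArg _ h1.symm).trans (hφd T _)
    exact key T.unop _
      (congrArg (fun (t : kernel (dd Uf n) ⟶ F Uf n) => (t.app T).hom z) (kernel.condition (dd Uf n)))
  let S : ShortComplex (Cᵒᵖ ⥤ AddCommGrpCat.{w}) :=
    ShortComplex.mk (kernel.ι (dd Uf n)) (dd Uf n) (kernel.condition _)
  have hS : S.Exact := ShortComplex.exact_of_f_is_kernel S (kernelIsKernel (dd Uf n))
  let ψ : F Uf n ⟶ P := hS.descToInjective φ hk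
  have hψ : dd Uf n ≫ ψ = φ := hS.comp_descToInjective φ hk
  obtain ⟨y, hy⟩ := exists_cev Uf P (n := n) fun i => (ψ.app _).hom (FreeAbelianGroup.of (taut i))
  refine ⟨y, cev_ext Uf P fun i => ?_⟩
  refine Eq.trans ?_ (?_ : toFn x _ (taut i) = cev Uf P (n + 1) i x)
  · refine (cev_d Uf P n i y).trans ?_
    have h2 : (ψ.app (op _)).hom (((dd Uf n).app (op _)).hom (FreeAbelianGroup.of (taut i))) =
        toFn x _ (taut i) :=
      (congrArg (fun (t : F Uf (n + 1) ⟶ P) => (t.app (op _)).hom (FreeAbelianGroup.of (taut i))) hψ).trans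
        (desc_of _ _ _ _)
    rw [← h2, dd_of, bdry]
    refine Eq.trans ?_ (map_sum (ψ.app (op _)).hom _ _).symm
    refine Finset.sum_congr rfl fun j _ => ?_
    rw [hy, taut_face]
    refine Eq.trans ?_ (map_zsmul (ψ.app (op _)).hom _ _).symm
    refine congrArg (fun y => (-1 : ℤ) ^ (j : ℕ) • y) ?_
    exact ((ConcreteCategory.congr_hom (ψ.naturality (tmap Uf i j).left.op)
      (FreeAbelianGroup.of (taut (i ∘ j.succAbove)))).symm.trans
        (congrArg (ψ.app _).hom (FreeAbelianGroup.lift_apply_of _ _)))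
  · show (P.map (taut i).toProd.op).hom (cev Uf P (n + 1) i x) = _
    rw [toProd_taut]
    exact ConcreteCategory.congr_hom (P.map_id _) _

/-- The same, as vanishing of Čech cohomology. -/
theorem isZero_cechH_injective [Injective P] (n : ℕ) : IsZero (EtCech.cechH Uf P (n + 1)) :=
  (HomologicalComplex.exactAt_iff_isZero_homology _ _).1 (exactAt_cech_injective Uf P n)

end Cech

end Groth.Agent.EtFound.CechInjGen
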