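import Groth.Agent.EtFound.CechInjGen
import Mathlib.CategoryTheory.Sites.IsSheafFor

/-!
# Čech complexes and exact sequences of presheaves
-/

universe w v u

open CategoryTheory CategoryTheory.Limits Opposite

namespace Groth.Agent.EtFound.CechSurjGen

open CechInjGen

set_option linter.unusedSectionVars false

variable {C : Type u} [Category.{v} C] [LocallySmall.{w} C] {U : C} [HasFiniteProducts (Over U)]
  {ι : Type w} {Uf : ι → Over U}

lemma cev_map {P Q : Cᵒᵖ ⥤ AddCommGrpCat.{w}} (φ : P ⟶ Q) (n : ℕ) (i : Fin (n + 1) → ι)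
    (x : (EtCech.cechComplex Uf P).X n) :
    cev Uf Q n i ((((cechComplexFunctor Uf).map (Functor.whiskerLeft (Over.forget U).op φ)).f n).hom x) =
      (φ.app _).hom (cev Uf P n i x) :=
  ConcreteCategory.congr_hom
    (Pi.map_π (fun i : Fin (n + 1) → ι => φ.app (op (∏ᶜ fun k => Uf (i k)).left)) i) x

variable {P₁ P₂ P₃ : Cᵒᵖ ⥤ AddCommGrpCat.{w}} (f : P₁ ⟶ P₂) (g : P₂ ⟶ P₃)
  (hinj : ∀ T, Function.Injective (f.app T).hom)
  (hex : ∀ T, ∀ y, (g.app T).hom y = 0 → ∃ x, (f.app T).hom x = y)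
  (hfg : ∀ T x, (g.app T).hom ((f.app T).hom x) = 0)

include hinj hex hfg in
/-- Sections lift when the first Čech group vanishes. -/
theorem exists_lift_of_isZero_cechH_one (hH : IsZero (EtCech.cechH Uf P₁ 1))
    (h₂ : Presieve.IsSheafFor (P₂ ⋙ forget AddCommGrpCat.{w})
      (Presieve.ofArrows (fun i => (Uf i).left) fun i => (Uf i).hom))
    (h₃ : Presieve.IsSheafFor (P₃ ⋙ forget AddCommGrpCat.{w})
      (Presieve.ofArrows (fun i => (Uf i).left) fun i => (Uf i).hom))
    (z : P₃.obj (op U)) (s : ∀ i, P₂.obj (op (Uf i).left))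
    (hs : ∀ i, (g.app _).hom (s i) = (P₃.map (Uf i).hom.op).hom z) :
    ∃ y : P₂.obj (op U), (g.app _).hom y = z := by
  let r : ∀ T : C, Lift Uf T → P₂.obj (op T) := fun T l => (P₂.map l.hom.op).hom (s l.1)
  have hr : ∀ T l, (g.app _).hom (r T l) = (P₃.map l.base.op).hom z := fun T l => by
    refine (ConcreteCategory.congr_hom (g.naturality l.hom.op) (s l.1)).trans ?_
    refine (congrArg (P₃.map l.hom.op).hom (hs l.1)).trans ?_
    exact (ConcreteCategory.congr_hom (P₃.map_comp (Uf l.1).hom.op l.hom.op) z).symm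
  have hrres : ∀ (T T' : C) (a : T' ⟶ T) (l : Lift Uf T),
      r T' (l.res a) = (P₂.map a.op).hom (r T l) := fun T T' a l => by
    show (P₂.map (Lift.mk' l.1 (a ≫ l.hom) : Lift Uf T').hom.op).hom (s l.1) = _
    rw [Lift.hom_mk']
    exact ConcreteCategory.congr_hom (P₂.map_comp l.hom.op a.op) (s l.1)
  have hc : ∀ (i : Fin 2 → ι), ∃ c : P₁.obj (op (∏ᶜ fun k => Uf (i k)).left),
      (f.app _).hom c = r _ ((taut (Uf := Uf) i).1 1) - r _ ((taut (Uf := Uf) i).1 0) := fun i =>
    hex _ _ (by rw [map_sub, hr, hr, (taut (Uf := Uf) i).2 1, sub_self])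
  choose c hc using hc
  obtain ⟨x, hx⟩ := exists_cev Uf P₁ (n := 1) c
  have hx' : ∀ (T : C) (p : Tup Uf 1 T), (f.app _).hom (toFn x T p) = r T (p.1 1) - r T (p.1 0) := by
    intro T p
    refine (congrArg (f.app _).hom (congrArg (P₁.map p.toProd.op).hom (hx _))).trans ?_
    refine (ConcreteCategory.congr_hom (f.naturality p.toProd.op) _).trans ?_
    refine (congrArg (P₂.map p.toProd.op).hom (hc _)).trans ?_
    rw [map_sub, ← hrres, ← hrres]
    have e : ∀ k, ((taut (Uf := Uf) fun k => (p.1 k).1).1 k).res p.toProd = p.1 k := fun k => by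
      show Lift.mk' (p.1 k).1 (p.toProd ≫ (Lift.mk' (p.1 k).1 _ : Lift Uf _).hom) = _
      rw [Lift.hom_mk', Tup.toProd_π, Lift.mk'_hom]
    rw [e, e]
  have hdx : ((EtCech.cechComplex Uf P₁).d 1 2).hom x = 0 := cev_ext Uf P₁ fun i => hinj _ (by
    have h1 : cev Uf P₁ 2 i (((EtCech.cechComplex Uf P₁).d 1 2).hom x) =
        toFn (((EtCech.cechComplex Uf P₁).d 1 2).hom x) _ (taut i) := by
      show _ = (P₁.map (taut (Uf := Uf) i).toProd.op).hom _
      rw [toProd_taut]
      exact (ConcreteCategory.congr_hom (P₁.map_id _) _).symm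
    rw [h1, toFn_d, map_sum, map_zero, map_zero]
    simp only [map_zsmul, hx']
    erw [Fin.sum_univ_three]
    have e00 : ((taut (Uf := Uf) i).face 0).1 0 = (taut (Uf := Uf) i).1 1 := rfl
    have e01 : ((taut (Uf := Uf) i).face 0).1 1 = (taut (Uf := Uf) i).1 2 := rfl
    have e10 : ((taut (Uf := Uf) i).face 1).1 0 = (taut (Uf := Uf) i).1 0 := rfl
    have e11 : ((taut (Uf := Uf) i).face 1).1 1 = (taut (Uf := Uf) i).1 2 := rfl
    have e20 : ((taut (Uf := Uf) i).face 2).1 0 = (taut (Uf := Uf) i).1 0 := rfl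
    have e21 : ((taut (Uf := Uf) i).face 2).1 1 = (taut (Uf := Uf) i).1 1 := rfl
    rw [e00, e01, e10, e11, e20, e21]
    simp)
  have hE := (HomologicalComplex.exactAt_iff_isZero_homology _ _).2 hH
  rw [HomologicalComplex.exactAt_iff' _ 0 1 2 (by simp) (by simp), ShortComplex.ab_exact_iff] at hE
  obtain ⟨t, ht⟩ := hE x hdx
  have ht' : ((EtCech.cechComplex Uf P₁).d 0 1).hom t = x := ht
  let one : ∀ T : C, Lift Uf T → Tup Uf 0 T := fun T l => ⟨fun _ => l, fun _ => rfl⟩
  let σ : ∀ T : C, Lift Uf T → P₂.obj (op T) := fun T l => r T l - (f.app _).hom (toFn t T (one T l))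
  have hσ : ∀ (T : C) (p : Tup Uf 1 T), σ T (p.1 0) = σ T (p.1 1) := by
    intro T p
    have h1 := hx' T p
    rw [← ht', toFn_d, map_sum] at h1
    simp only [map_zsmul] at h1
    erw [Fin.sum_univ_two] at h1
    have f0 : p.face 0 = one T (p.1 1) :=
      Subtype.ext (funext fun k => by obtain rfl := Fin.fin_one_eq_zero k; rfl)
    have f1 : p.face 1 = one T (p.1 0) :=
      Subtype.ext (funext fun k => by obtain rfl := Fin.fin_one_eq_zero k; rfl)
    rw [f0, f1] at h1
    simp only [Fin.val_zero, Fin.val_one, pow_zero, one_zsmul, pow_one, neg_zsmul, one_smul,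
      ← sub_eq_add_neg] at h1
    exact (sub_eq_sub_iff_sub_eq_sub.1 h1.symm).symm
  have hσres : ∀ (T T' : C) (a : T' ⟶ T) (l : Lift Uf T),
      σ T' (l.res a) = (P₂.map a.op).hom (σ T l) := fun T T' a l => by
    show r T' (l.res a) - (f.app _).hom (toFn t T' ((one T l).res a)) = _
    rw [hrres, toFn_res, map_sub]
    refine congrArg (fun w => (P₂.map a.op).hom (r T l) - w) ?_
    exact ConcreteCategory.congr_hom (f.naturality a.op) _
  let fam : ∀ i, P₂.obj (op (Uf i).left) := fun i => σ _ (Lift.mk' i (𝟙 _))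
  have hfam : ∀ {i : ι} {T : C} (a : T ⟶ (Uf i).left), (P₂.map a.op).hom (fam i) = σ T (Lift.mk' i a) :=
    fun {i T} a => by
      rw [← hσres]
      show σ T (Lift.mk' i (a ≫ (Lift.mk' i (𝟙 _) : Lift Uf _).hom)) = _
      rw [Lift.hom_mk', Category.comp_id]
  have hcompat : Presieve.Arrows.Compatible (P₂ ⋙ forget AddCommGrpCat.{w}) (fun i => (Uf i).hom) fam := by
    intro i j T gi gj hw
    show (P₂.map gi.op).hom (fam i) = (P₂.map gj.op).hom (fam j)
    rw [hfam, hfam]
    have hb : (Lift.mk' i gi : Lift Uf T).base = (Lift.mk' j gj : Lift Uf T).base := by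
      show (Lift.mk' i gi : Lift Uf T).hom ≫ _ = (Lift.mk' j gj : Lift Uf T).hom ≫ _
      rw [Lift.hom_mk', Lift.hom_mk']
      exact hw
    exact hσ T ⟨![Lift.mk' i gi, Lift.mk' j gj], fun k => by
      fin_cases k
      · rfl
      · exact hb.symm⟩
  obtain ⟨y, hy, -⟩ := (Presieve.isSheafFor_arrows_iff _ _).1 h₂ fam hcompat
  refine ⟨y, ?_⟩
  refine h₃.isSeparatedFor.ext fun {T} a ha => ?_
  obtain ⟨i⟩ := ha
  show (P₃.map (Uf i).hom.op).hom ((g.app _).hom y) = (P₃.map (Uf i).hom.op).hom z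
  refine (ConcreteCategory.congr_hom (g.naturality (Uf i).hom.op) y).symm.trans ?_
  refine (congrArg (g.app _).hom (hy i)).trans ?_
  show (g.app _).hom (σ _ _) = _
  rw [map_sub, hfg, sub_zero, hr]
  show (P₃.map ((Lift.mk' i (𝟙 _) : Lift Uf _).hom ≫ _).op).hom z = _
  rw [Lift.hom_mk']
  exact congrArg (fun m : (Uf i).left ⟶ U => (P₃.map m.op).hom z) (Category.id_comp (Uf i).hom)

include hinj hex hfg in
/-- Vanishing for the sub and the middle gives vanishing for the quotient. -/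
theorem isZero_cechH_quot (p : ℕ) (h1 : IsZero (EtCech.cechH Uf P₁ (p + 2)))
    (h2 : IsZero (EtCech.cechH Uf P₂ (p + 1)))
    (hsurj : ∀ (n : ℕ) (i : Fin (n + 1) → ι),
      Function.Surjective (g.app (op (∏ᶜ fun k => Uf (i k)).left)).hom) :
    IsZero (EtCech.cechH Uf P₃ (p + 1)) := by
  let F : EtCech.cechComplex Uf P₁ ⟶ EtCech.cechComplex Uf P₂ :=
    (cechComplexFunctor Uf).map (Functor.whiskerLeft (Over.forget U).op f)
  let G : EtCech.cechComplex Uf P₂ ⟶ EtCech.cechComplex Uf P₃ :=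
    (cechComplexFunctor Uf).map (Functor.whiskerLeft (Over.forget U).op g)
  have hFinj : ∀ n, Function.Injective (F.f n).hom := fun n a b hab => cev_ext Uf P₁ fun i =>
    hinj _ (by
      have h := congrArg (cev Uf P₂ n i) hab
      rwa [cev_map f n i a, cev_map f n i b] at h)
  have hG : ∀ n a, (G.f n).hom a = 0 → ∃ b, (F.f n).hom b = a := by
    intro n a ha
    choose b hb using fun i => hex _ (cev Uf P₂ n i a) (by rw [← cev_map g n i a, ha, map_zero])
    obtain ⟨b', hb'⟩ := exists_cev Uf P₁ (n := n) b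
    exact ⟨b', cev_ext Uf P₂ fun i => by rw [cev_map f n i b', hb' i, hb i]⟩
  have hGs : ∀ n z, ∃ a, (G.f n).hom a = z := by
    intro n z
    choose a ha using fun i => hsurj n i (cev Uf P₃ n i z)
    obtain ⟨a', ha'⟩ := exists_cev Uf P₂ (n := n) a
    exact ⟨a', cev_ext Uf P₃ fun i => by rw [cev_map g n i a', ha' i, ha i]⟩
  have hGF : ∀ n b, (G.f n).hom ((F.f n).hom b) = 0 := fun n b => cev_ext Uf P₃ fun i => by
    rw [cev_map g n i, cev_map f n i b, hfg, map_zero]
  refine (HomologicalComplex.exactAt_iff_isZero_homology _ _).1 ?_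
  have E1 := (HomologicalComplex.exactAt_iff_isZero_homology _ _).2 h1
  have E2 := (HomologicalComplex.exactAt_iff_isZero_homology _ _).2 h2
  rw [HomologicalComplex.exactAt_iff' _ (p + 1) (p + 2) (p + 3) (by simp) (by simp),
    ShortComplex.ab_exact_iff] at E1
  rw [HomologicalComplex.exactAt_iff' _ p (p + 1) (p + 2) (by simp) (by simp),
    ShortComplex.ab_exact_iff] at E2
  rw [HomologicalComplex.exactAt_iff' _ p (p + 1) (p + 2) (by simp) (by simp),
    ShortComplex.ab_exact_iff]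
  intro (z : (EtCech.cechComplex Uf P₃).X (p + 1))
    (hz : ((EtCech.cechComplex Uf P₃).d (p + 1) (p + 2)).hom z = 0)
  obtain ⟨w, rfl⟩ := hGs (p + 1) z
  obtain ⟨a, ha⟩ := hG (p + 2) (((EtCech.cechComplex Uf P₂).d (p + 1) (p + 2)).hom w)
    ((ConcreteCategory.congr_hom (G.comm (p + 1) (p + 2)) w).symm.trans hz)
  have hda : ((EtCech.cechComplex Uf P₁).d (p + 2) (p + 3)).hom a = 0 := hFinj (p + 3) (by
    rw [map_zero]
    refine (ConcreteCategory.congr_hom (F.comm (p + 2) (p + 3)) a).symm.trans ?_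
    refine (congrArg ((EtCech.cechComplex Uf P₂).d (p + 2) (p + 3)).hom ha).trans ?_
    exact ConcreteCategory.congr_hom ((EtCech.cechComplex Uf P₂).d_comp_d (p + 1) (p + 2) (p + 3)) w)
  obtain ⟨b, hb⟩ := E1 a hda
  obtain ⟨c, hc⟩ := E2 (w - (F.f (p + 1)).hom b) (by
    refine (map_sub ((EtCech.cechComplex Uf P₂).d (p + 1) (p + 2)).hom _ _).trans (sub_eq_zero.2 ?_)
    refine ha.symm.trans ?_
    refine (congrArg (F.f (p + 2)).hom hb).symm.trans ?_
    exact (ConcreteCategory.congr_hom (F.comm (p + 1) (p + 2)) b).symm)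
  refine ⟨(G.f p).hom c, ?_⟩
  refine (ConcreteCategory.congr_hom (G.comm p (p + 1)) c).trans ?_
  refine (congrArg (G.f (p + 1)).hom hc).trans ?_
  refine (map_sub (G.f (p + 1)).hom _ _).trans ?_
  rw [hGF, sub_zero]

end Groth.Agent.EtFound.CechSurjGen
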