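import Groth.Agent.EtFound.Stalk
import Groth.Agent.Hensel.Pair
import Mathlib.Algebra.Homology.DerivedCategory.Ext.EnoughProjectives

/-! sections over a strictly henselian local ring = stalk at the closed geometric point -/

universe u

open CategoryTheory CategoryTheory.Limits AlgebraicGeometry Opposite

namespace Groth.Agent.EtFound

set_option backward.isDefEq.respectTransparency.types false

section ring

variable {R : Type u} [CommRing R] [HenselianLocalRing R]

theorem existsUnique_lift_residue {S : Type u} [CommRing S] [Algebra R S] [Algebra.Etale R S]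
    (φ : S →ₐ[R] IsLocalRing.ResidueField R) :
    ∃! ψ : S →ₐ[R] R, ∀ s, IsLocalRing.residue R (ψ s) = φ s := by
  obtain ⟨ψ, hψ, huniq⟩ := Hensel.existsUnique_etale_lift (I := IsLocalRing.maximalIdeal R) φ
  refine ⟨ψ, fun s => congr($hψ s), fun ψ' h => huniq ψ' (AlgHom.ext h)⟩

end ring

section scheme

variable (R : Type u) [CommRing R] [HenselianLocalRing R]

/-- the closed point -/
noncomputable abbrev cpt : Spec (CommRingCat.of (IsLocalRing.ResidueField R)) ⟶ Spec (CommRingCat.of R) :=
  Spec.map (CommRingCat.ofHom (IsLocalRing.residue R))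

theorem cpt_base (w : Spec (CommRingCat.of (IsLocalRing.ResidueField R))) :
    (cpt R).base w = IsLocalRing.closedPoint R := by
  refine PrimeSpectrum.ext ?_
  have : (⊥ : Ideal (IsLocalRing.ResidueField R)) = w.asIdeal :=
    ((Ideal.eq_bot_or_top w.asIdeal).resolve_right w.2.ne_top).symm
  change w.asIdeal.comap (IsLocalRing.residue R) = _
  rw [← this]
  exact Ideal.mk_ker

/-- an etale scheme over a henselian local ring has a unique section through a rational point of
the closed fibre -/
theorem existsUnique_section {U : Scheme.{u}} (f : U ⟶ Spec (CommRingCat.of R)) [Etale f]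
    (u : Spec (CommRingCat.of (IsLocalRing.ResidueField R)) ⟶ U) (hu : u ≫ f = cpt R) :
    ∃! σ : Spec (CommRingCat.of R) ⟶ U, σ ≫ f = 𝟙 _ ∧ cpt R ≫ σ = u := by
  obtain ⟨S, j, hj, hmem, -⟩ := Scheme.exists_affine_mem_range_and_range_subset
    (x := u.base default) (U := (⊤ : U.Opens)) (by simp)
  have hmax : ∀ t : Spec (CommRingCat.of (IsLocalRing.ResidueField R)), t = default := fun t =>
    Subsingleton.elim _ _
  let u' := IsOpenImmersion.lift j u (by rintro _ ⟨a, rfl⟩; rw [hmax a]; exact hmem)
  have hu' : u' ≫ j = u := IsOpenImmersion.lift_fac _ _ _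
  obtain ⟨φR, hφR⟩ := Spec.map_surjective (j ≫ f)
  obtain ⟨φu, hφu⟩ := Spec.map_surjective u'
  algebraize [φR.hom]
  have : Algebra.Etale R S := by
    have h : Etale (Spec.map φR) := by rw [hφR]; infer_instance
    exact (HasRingHomProperty.Spec_iff (P := @Etale)).mp h
  have hcomp : φR ≫ φu = CommRingCat.ofHom (IsLocalRing.residue R) := by
    apply Spec.map_injective
    rw [Spec.map_comp, hφR, hφu, ← Category.assoc, hu', hu]
  let φ : S →ₐ[R] IsLocalRing.ResidueField R :=
    { φu.hom with commutes' := fun r => congr(($hcomp).hom r) }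
  obtain ⟨ψ, hψ, huniq⟩ := existsUnique_lift_residue φ
  have hψR : φR ≫ CommRingCat.ofHom ψ.toRingHom = 𝟙 _ := by
    ext r; exact ψ.commutes r
  have hψu : CommRingCat.ofHom ψ.toRingHom ≫ CommRingCat.ofHom (IsLocalRing.residue R) = φu := by
    ext s; exact hψ s
  refine ⟨Spec.map (CommRingCat.ofHom ψ.toRingHom) ≫ j, ⟨?_, ?_⟩, ?_⟩
  · rw [Category.assoc, ← hφR, ← Spec.map_comp, hψR, Spec.map_id]
  · rw [← Category.assoc, ← Spec.map_comp, hψu, hφu, hu']
  · rintro σ ⟨hσf, hσu⟩
    have hrange : Set.range σ.base ⊆ Set.range j.base := by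
      rintro _ ⟨t, rfl⟩
      have h1 : σ.base (IsLocalRing.closedPoint R) ∈ Set.range j.base := by
        rw [← cpt_base R default, ← Scheme.Hom.comp_apply, hσu]
        exact hmem
      exact ((IsLocalRing.specializes_closedPoint t).map σ.continuous).mem_open
        j.isOpenEmbedding.isOpen_range h1
    obtain ⟨χ, hχ⟩ := Spec.map_surjective (IsOpenImmersion.lift j σ hrange)
    have hχj : Spec.map χ ≫ j = σ := by rw [hχ]; exact IsOpenImmersion.lift_fac _ _ _
    have e1 : φR ≫ χ = 𝟙 _ := by
      apply Spec.map_injective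
      rw [Spec.map_comp, Spec.map_id, hφR, ← Category.assoc, hχj, hσf]
    let ψ' : S →ₐ[R] R := { χ.hom with commutes' := fun r => congr(($e1).hom r) }
    have e2 : χ ≫ CommRingCat.ofHom (IsLocalRing.residue R) = φu := by
      apply Spec.map_injective
      rw [Spec.map_comp, hφu, ← cancel_mono j, Category.assoc, hχj, hσu, hu']
    have e3 := huniq ψ' (fun s => congr(($e2).hom s))
    have e4 : χ = CommRingCat.ofHom ψ.toRingHom := by
      rw [← e3]; rfl
    rw [← hχj, e4]

variable [IsSepClosed (IsLocalRing.ResidueField R)]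

/-- the closed point as a point of the total space -/
noncomputable abbrev cptTop :
    (Scheme.pointSmallEtale (cpt R)).fiber.obj (EtCoh.top (Spec (CommRingCat.of R))) :=
  CategoryTheory.Over.homMk (cpt R) (Category.comp_id _)

theorem existsUnique_hom (U : (Spec (CommRingCat.of R)).Etale)
    (u : (Scheme.pointSmallEtale (cpt R)).fiber.obj U) :
    ∃! g : EtCoh.top (Spec (CommRingCat.of R)) ⟶ U,
      (Scheme.pointSmallEtale (cpt R)).fiber.map g (cptTop R) = u := by
  have := U.prop
  obtain ⟨σ, ⟨h1, h2⟩, huniq⟩ := existsUnique_section R U.hom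
    (u.left : Spec (CommRingCat.of (IsLocalRing.ResidueField R)) ⟶ U.left) (CategoryTheory.Over.w u)
  refine ⟨MorphismProperty.Over.homMk σ h1, CategoryTheory.Over.OverMorphism.ext h2, fun g hg => ?_⟩
  refine MorphismProperty.Over.Hom.ext (huniq g.left ⟨MorphismProperty.Over.w g, ?_⟩)
  exact congr(($hg).left)

section

variable {A : Type*} [Category.{u + 1} A] {FA : A → A → Type*} {CA : A → Type (u + 1)}
  [∀ M N, FunLike (FA M N) (CA M) (CA N)] [ConcreteCategory.{u + 1} A FA]
  [HasColimitsOfSize.{u, u} A] [PreservesFilteredColimitsOfSize.{u, u} (forget A)]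

/-- global sections are the stalk at the closed geometric point -/
theorem toPresheafFiber_top_bijective (P : (Spec (CommRingCat.of R)).Etaleᵒᵖ ⥤ A) :
    Function.Bijective ((Scheme.pointSmallEtale (cpt R)).toPresheafFiber _ (cptTop R) P) := by
  refine ⟨fun s t h => ?_, fun p => ?_⟩
  · obtain ⟨V, f, v, hv, hf⟩ := ((Scheme.pointSmallEtale (cpt R)).toPresheafFiber_eq_iff' _ _ s t).1 h
    obtain ⟨g, hg, -⟩ := existsUnique_hom R V v
    have e : g ≫ f = 𝟙 _ := by
      refine (existsUnique_hom R _ (cptTop R)).unique ?_ (by simp)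
      rw [Functor.map_comp]
      exact (congrArg _ hg).trans hv
    have := congr(P.map g.op $hf)
    simpa only [← ConcreteCategory.comp_apply, ← Functor.map_comp, ← op_comp, e, op_id,
      CategoryTheory.Functor.map_id, ConcreteCategory.id_apply] using this
  · obtain ⟨V, v, z, rfl⟩ := (Scheme.pointSmallEtale (cpt R)).toPresheafFiber_jointly_surjective p
    obtain ⟨g, hg, -⟩ := existsUnique_hom R V v
    exact ⟨P.map g.op z, by rw [← hg]; exact (Scheme.pointSmallEtale (cpt R)).toPresheafFiber_w_apply g _ P z⟩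

end

theorem sect_top_surjective_of_epi {F G : EtCoh.Ab (Spec (CommRingCat.of R))} (e : F ⟶ G) [Epi e] :
    Function.Surjective (e.hom.app (op (EtCoh.top (Spec (CommRingCat.of R))))) := by
  intro b
  have : Epi ((EtCoh.stalk (cpt R)).map e) := inferInstance
  obtain ⟨p, hp⟩ := ((AddCommGrpCat.epi_iff_surjective _).1 this)
    ((Scheme.pointSmallEtale (cpt R)).toPresheafFiber _ (cptTop R) G.obj b)
  obtain ⟨a, rfl⟩ := (toPresheafFiber_top_bijective R F.obj).2 p
  refine ⟨a, (toPresheafFiber_top_bijective R G.obj).1 ?_⟩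
  exact ((Scheme.pointSmallEtale (cpt R)).toPresheafFiber_naturality_apply e.hom _ _ a).symm.trans hp

noncomputable def topIsTerminal (X : Scheme.{u}) : IsTerminal (EtCoh.top X) :=
  MorphismProperty.Over.mkIdTerminal _ _

theorem projective_constZ : Projective ((constantSheaf (Spec (CommRingCat.of R)).smallEtaleTopology
    AddCommGrpCat.{u + 1}).obj (AddCommGrpCat.of (ULift ℤ))) := by
  refine ⟨fun {E G} f e _ => ?_⟩
  let adj := constantSheafAdj (Spec (CommRingCat.of R)).smallEtaleTopology AddCommGrpCat.{u + 1}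
    (topIsTerminal (Spec (CommRingCat.of R)))
  obtain ⟨a, ha⟩ := sect_top_surjective_of_epi R e (adj.homEquiv _ _ f ⟨1⟩)
  refine ⟨(adj.homEquiv _ _).symm ((AddCommGrpCat.uliftZMultiplesAddEquiv _).symm a), ?_⟩
  apply (adj.homEquiv _ _).injective
  rw [Adjunction.homEquiv_naturality_right, Equiv.apply_symm_apply]
  apply (AddCommGrpCat.uliftZMultiplesAddEquiv _).injective
  refine Eq.trans ?_ ha
  exact congrArg (e.hom.app (op (EtCoh.top (Spec (CommRingCat.of R))))) ((AddCommGrpCat.uliftZMultiplesAddEquiv _).apply_symm_apply a)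

end scheme

end Groth.Agent.EtFound
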