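import Groth.Agent.EtFound.Stalk

/-! germs: lifting geometric points, vanishing loci -/

universe u

open CategoryTheory CategoryTheory.Limits AlgebraicGeometry Opposite

namespace Groth.Agent.EtFound

set_option backward.isDefEq.respectTransparency.types false

variable {X : Scheme.{u}} {Ω : Type u} [Field Ω] [IsSepClosed Ω] {ξ : Spec (CommRingCat.of Ω) ⟶ X}

/-- geometric points lift along a morphism of etale schemes through any point above -/
theorem exists_lift_point {U V : X.Etale} (g : V ⟶ U) (u : (Scheme.pointSmallEtale ξ).fiber.obj U) (v : V.left)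
    (hv : g.left.base v = (u.left : Spec (CommRingCat.of Ω) ⟶ U.left).base (default : Spec (CommRingCat.of Ω))) :
    ∃ v' : (Scheme.pointSmallEtale ξ).fiber.obj V, (Scheme.pointSmallEtale ξ).fiber.map g v' = u ∧
      (v'.left : Spec (CommRingCat.of Ω) ⟶ V.left).base (default : Spec (CommRingCat.of Ω)) = v := by
  have := etale_left g
  obtain ⟨l, h1, h2⟩ := Scheme.exists_fac_of_etale_of_isSepClosed g.left
    (u.left : Spec (CommRingCat.of Ω) ⟶ U.left) v hv
  refine ⟨CategoryTheory.Over.homMk l ?_, CategoryTheory.Over.OverMorphism.ext h1, h2⟩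
  change l ≫ V.hom = ξ
  rw [← MorphismProperty.Over.w g, ← Category.assoc, h1]
  exact CategoryTheory.Over.w u

end Groth.Agent.EtFound
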