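import Groth.Agent.EtFound.Presentation
import Groth.Agent.EtFound.QcqsObjects
import Mathlib.CategoryTheory.Limits.Types.Filtered

/-! constructible abelian sheaves are compact -/

universe u

open CategoryTheory CategoryTheory.Limits AlgebraicGeometry Opposite

namespace Groth.Agent.EtFound

set_option backward.isDefEq.respectTransparency.types false

variable {X : Scheme.{u}}

/-- maps out of an extension by zero of a constant sheaf are determined by the tautological sections -/
theorem hom_ext_taut {U : X.Etale} {M : Type} [AddCommGroup M] {F : EtCoh.Ab X}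
    (h h' : EtPBC.extZeroConst U M ⟶ F) (e : taut U M ≫ h.hom.app (op U) = taut U M ≫ h'.hom.app (op U)) : h = h' :=
  ((constShriekAdj U).homEquiv (AddCommGrpCat.of (ULift.{u + 1} M)) F).injective
    (((constShriekAdj U).homEquiv_unit _ _ _).trans (e.trans ((constShriekAdj U).homEquiv_unit _ _ _).symm))

/-- maps out of `E` into filtered colimits factor through a stage, essentially uniquely -/
structure IsCpt (E : EtCoh.Ab X) : Prop where
  exists_stage : ∀ {J : Type (u + 1)} [SmallCategory J] [IsFiltered J] {D : J ⥤ EtCoh.Ab X} {c : Cocone D},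
    IsColimit c → ∀ h : E ⟶ c.pt, ∃ (i : J) (g : E ⟶ D.obj i), g ≫ c.ι.app i = h
  exists_eq : ∀ {J : Type (u + 1)} [SmallCategory J] [IsFiltered J] {D : J ⥤ EtCoh.Ab X} {c : Cocone D},
    IsColimit c → ∀ {i : J} (g g' : E ⟶ D.obj i), g ≫ c.ι.app i = g' ≫ c.ι.app i →
      ∃ (j : J) (f : i ⟶ j), g ≫ D.map f = g' ≫ D.map f

theorem isCpt_extZeroConst (U : X.Etale) [IsAffine U.left] (n : ℕ) :
    IsCpt (EtPBC.extZeroConst U (ZMod n)) := by
  let Γ := sheafToPresheaf X.smallEtaleTopology AddCommGrpCat.{u + 1} ⋙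
    (evaluation X.Etaleᵒᵖ AddCommGrpCat.{u + 1}).obj (op U)
  let one : ULift.{u + 1} (ZMod n) := ⟨1⟩
  have hgen : ∀ {G : AddCommGrpCat.{u + 1}} (a b : AddCommGrpCat.of (ULift.{u + 1} (ZMod n)) ⟶ G), a one = b one → a = b := by
    intro G a b hab
    refine AddCommGrpCat.ext fun m => ?_
    obtain ⟨k, hk⟩ := ZMod.intCast_surjective m.down
    have hm : m = k • one := ULift.ext _ _ (by simp [one, ← hk])
    rw [hm, map_zsmul, map_zsmul, hab]
  refine ⟨fun {J} _ _ {D c} hc h => ?_, fun {J} _ _ {D c} hc {i} g g' e => ?_⟩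
  all_goals
    have hcΓ : PreservesColimitsOfShape J Γ :=
      preservesColimitsOfShape_sections_qcqs_ab U (isQcqsObj_of_isAffine U) J
    have hcl := isColimitOfPreserves (forget AddCommGrpCat.{u + 1}) (isColimitOfPreserves Γ hc)
  · let s : c.pt.obj.obj (op U) := h.hom.app (op U) (taut U (ZMod n) one)
    have hs : n • s = 0 := by
      refine (map_nsmul ((taut U (ZMod n) ≫ h.hom.app (op U))).hom n one).symm.trans ?_
      rw [show n • one = 0 from ULift.ext _ _ (by simp [one])]
      exact map_zero _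
    obtain ⟨i, t, ht⟩ := Types.jointly_surjective _ hcl s
    change (c.ι.app i).hom.app (op U) t = s at ht
    obtain ⟨j, f, hf⟩ := (Types.FilteredColimit.isColimit_eq_iff' hcl (n • t) (0 : (D.obj i).obj.obj (op U))).1 (by
      change (c.ι.app i).hom.app (op U) (n • t) = (c.ι.app i).hom.app (op U) 0
      refine (map_nsmul ((c.ι.app i).hom.app (op U)).hom n t).trans (((congrArg (n • ·) ht).trans hs).trans ?_)
      exact (map_zero ((c.ι.app i).hom.app (op U)).hom).symm)
    change (D.map f).hom.app (op U) (n • t) = (D.map f).hom.app (op U) 0 at hf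
    replace hf := ((map_nsmul ((D.map f).hom.app (op U)).hom n t).symm.trans hf).trans (map_zero ((D.map f).hom.app (op U)).hom)
    let L : ZMod n →+ (D.obj j).obj.obj (op U) := ZMod.lift n ⟨zmultiplesHom _ ((D.map f).hom.app (op U) t),
      by simpa [natCast_zsmul] using hf⟩
    obtain ⟨g, hg⟩ := exists_hom_taut (M := ZMod n) (U := U) (F := D.obj j) (AddCommGrpCat.ofHom
      (L.comp (AddEquiv.ulift : ULift.{u + 1} (ZMod n) ≃+ ZMod n).toAddMonoidHom))
    refine ⟨j, g, hom_ext_taut _ _ (hgen _ _ ?_)⟩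
    have hL : L 1 = (1 : ℤ) • (D.map f).hom.app (op U) t :=
      (congrArg L (Int.cast_one (R := ZMod n)).symm).trans (ZMod.lift_coe n _ 1)
    rw [one_zsmul] at hL
    change (c.ι.app j).hom.app (op U) (g.hom.app (op U) (taut U (ZMod n) one)) = s
    refine (congrArg _ ((ConcreteCategory.congr_hom hg one).trans hL)).trans ?_
    refine Eq.trans ?_ ht
    exact ConcreteCategory.congr_hom (congrArg (fun q : D.obj i ⟶ c.pt => q.hom.app (op U)) (c.w f)) t
  · obtain ⟨j, f, hf⟩ := (Types.FilteredColimit.isColimit_eq_iff' hcl (g.hom.app (op U) (taut U (ZMod n) one))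
      (g'.hom.app (op U) (taut U (ZMod n) one))).1
      (ConcreteCategory.congr_hom (congrArg (fun q => q.hom.app (op U)) e) (taut U (ZMod n) one))
    exact ⟨j, f, hom_ext_taut _ _ (hgen _ _ hf)⟩

theorem isCpt_biproduct {b : ℕ} {E : Fin b → EtCoh.Ab X} (h : ∀ i, IsCpt (E i)) : IsCpt (⨁ E) := by
  classical
  refine ⟨fun {J} _ _ {D c} hc φ => ?_, fun {J} _ _ {D c} hc {i} g g' e => ?_⟩
  · choose i g hg using fun k => (h k).exists_stage hc (biproduct.ι E k ≫ φ)
    obtain ⟨j, hj⟩ := IsFiltered.sup_objs_exists (Finset.univ.image i)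
    refine ⟨j, biproduct.desc fun k => g k ≫ D.map (hj (Finset.mem_image_of_mem i (Finset.mem_univ k))).some,
      biproduct.hom_ext' _ _ fun k => ?_⟩
    rw [biproduct.ι_desc_assoc, Category.assoc, c.w]
    exact hg k
  · suffices key : ∀ s : Finset (Fin b), ∃ (j : J) (f : i ⟶ j),
        ∀ k ∈ s, biproduct.ι E k ≫ g ≫ D.map f = biproduct.ι E k ≫ g' ≫ D.map f by
      obtain ⟨j, f, hf⟩ := key Finset.univ
      exact ⟨j, f, biproduct.hom_ext' _ _ fun k => hf k (Finset.mem_univ k)⟩
    intro s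
    induction s using Finset.induction with
    | empty => exact ⟨i, 𝟙 i, fun k hk => absurd hk (Finset.notMem_empty k)⟩
    | @insert k s _ ih =>
      obtain ⟨j, f, hf⟩ := ih
      obtain ⟨j', f', hf'⟩ := (h k).exists_eq hc (biproduct.ι E k ≫ g ≫ D.map f) (biproduct.ι E k ≫ g' ≫ D.map f) (by
        simp only [Category.assoc, c.w, e])
      refine ⟨j', f ≫ f', fun l hl => ?_⟩
      rcases Finset.mem_insert.1 hl with rfl | hl
      · simpa only [D.map_comp, Category.assoc] using hf'
      · simpa only [D.map_comp, Category.assoc] using congrArg (· ≫ D.map f') (hf l hl)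

theorem isCpt_cokernel {P Q : EtCoh.Ab X} (φ : P ⟶ Q) (hP : IsCpt P) (hQ : IsCpt Q) : IsCpt (cokernel φ) := by
  refine ⟨fun {J} _ _ {D c} hc h => ?_, fun {J} _ _ {D c} hc {i} g g' e => ?_⟩
  · obtain ⟨i, g, hg⟩ := hQ.exists_stage hc (cokernel.π φ ≫ h)
    obtain ⟨j, f, hf⟩ := hP.exists_eq hc (φ ≫ g) 0 (by rw [Category.assoc, hg, cokernel.condition_assoc, zero_comp, zero_comp])
    rw [zero_comp, Category.assoc] at hf
    refine ⟨j, cokernel.desc φ (g ≫ D.map f) hf, ?_⟩
    rw [← cancel_epi (cokernel.π φ), cokernel.π_desc_assoc, Category.assoc, c.w, hg]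
  · obtain ⟨j, f, hf⟩ := hQ.exists_eq hc (cokernel.π φ ≫ g) (cokernel.π φ ≫ g') (by simp only [Category.assoc, e])
    exact ⟨j, f, (cancel_epi (cokernel.π φ)).1 (by simpa only [Category.assoc] using hf)⟩

theorem isCpt_of_iso {E E' : EtCoh.Ab X} (e : E ≅ E') (h : IsCpt E) : IsCpt E' := by
  refine ⟨fun {J} _ _ {D c} hc φ => ?_, fun {J} _ _ {D c} hc {i} g g' he => ?_⟩
  · obtain ⟨i, g, hg⟩ := h.exists_stage hc (e.hom ≫ φ)
    exact ⟨i, e.inv ≫ g, by rw [Category.assoc, hg, Iso.inv_hom_id_assoc]⟩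
  · obtain ⟨j, f, hf⟩ := h.exists_eq hc (e.hom ≫ g) (e.hom ≫ g') (by simp only [Category.assoc, he])
    exact ⟨j, f, (cancel_epi e.hom).1 (by simpa only [Category.assoc] using hf)⟩

/-- constructible sheaves on qcqs schemes are compact -/
theorem isCpt_of_isConstructible [CompactSpace X] [QuasiSeparatedSpace X] {F : EtCoh.Ab X}
    (hF : EtPBC.IsConstructible F) : IsCpt F := by
  obtain ⟨n, hn, hFn⟩ := exists_killedBy X hF
  haveI : NeZero n := ⟨hn.ne'⟩
  obtain ⟨a, b, V, U, hV, hU, φ, ⟨e⟩⟩ := exists_presentation X hF hFn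
  exact isCpt_of_iso e.symm (isCpt_cokernel φ
    (isCpt_biproduct fun j => by haveI := hV j; exact isCpt_extZeroConst (V j) n)
    (isCpt_biproduct fun i => by haveI := hU i; exact isCpt_extZeroConst (U i) n))

theorem IsCpt.preservesColimitsOfShape {E : EtCoh.Ab X} (h : IsCpt E) (J : Type (u + 1)) [SmallCategory J]
    [IsFiltered J] : PreservesColimitsOfShape J (coyoneda.obj (op E)) where
  preservesColimit {D} :=
    { preserves := fun {c} hc => ⟨Types.FilteredColimit.isColimitOf' _ _ (fun x => by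
        obtain ⟨i, g, hg⟩ := h.exists_stage hc x
        exact ⟨i, g, hg.symm⟩) fun i x y e => h.exists_eq hc x y e⟩ }

theorem IsCpt.preservesColimitsOfShape_small {E : EtCoh.Ab X} (h : IsCpt E) (J : Type u) [SmallCategory J]
    [IsFiltered J] : PreservesColimitsOfShape J (coyoneda.obj (op E)) := by
  have : IsFiltered (AsSmall.{u + 1} J) := IsFiltered.of_equivalence AsSmall.equiv
  have := h.preservesColimitsOfShape (AsSmall.{u + 1} J)
  exact preservesColimitsOfShape_of_equiv AsSmall.equiv.symm _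

end Groth.Agent.EtFound
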