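import Groth.Agent.EtFound.ConstrColim
import Groth.Agent.EtFound.CompactObj
import Groth.Agent.EtLC12.QcqsAcyclic
import Mathlib.CategoryTheory.Abelian.Injective.Ext

/-! cohomology of torsion sheaves over qcqs étale objects is torsion; so are higher direct images -/

universe u

open CategoryTheory CategoryTheory.Limits AlgebraicGeometry Opposite Abelian

namespace Groth.Agent.EtFound

open Groth.Agent.EtLC12

set_option backward.isDefEq.respectTransparency.types false

variable {X : Scheme.{u}}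

/-- the free abelian sheaf on an object -/
noncomputable abbrev freeOn (W : X.Etale) : EtCoh.Ab X := EtPBC.extZeroConst W ℤ

/-- the value of a morphism out of a free sheaf on its generator -/
noncomputable def freeVal {W : X.Etale} {G : EtCoh.Ab X} (ψ : freeOn W ⟶ G) : G.obj.obj (op W) :=
  ψ.hom.app (op W) (taut W ℤ ⟨1⟩)

theorem exists_free_hom {W : X.Etale} {G : EtCoh.Ab X} (a : G.obj.obj (op W)) :
    ∃ ψ : freeOn W ⟶ G, freeVal ψ = a := by
  obtain ⟨ψ, hψ⟩ := exists_hom_taut (M := ℤ) (U := W) (F := G) (AddCommGrpCat.ofHom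
    ((zmultiplesHom _ a).comp (AddEquiv.ulift : ULift.{u + 1} ℤ ≃+ ℤ).toAddMonoidHom))
  exact ⟨ψ, (ConcreteCategory.congr_hom hψ (⟨1⟩ : ULift.{u + 1} ℤ)).trans (one_zsmul a)⟩

theorem free_ext {W : X.Etale} {G : EtCoh.Ab X} {ψ ψ' : freeOn W ⟶ G} (h : freeVal ψ = freeVal ψ') : ψ = ψ' := by
  refine hom_ext_taut _ _ (AddCommGrpCat.ext fun m => ?_)
  have hm : m = m.down • (⟨1⟩ : ULift.{u + 1} ℤ) := ULift.ext _ _ (by simp)
  rw [hm, map_zsmul, map_zsmul]
  exact congrArg (m.down • ·) h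

theorem subsingleton_ext_free {W : X.Etale} (hW : IsQcqsObj W) (n : ℕ) (G : EtCoh.Ab X)
    (hG : QcqsAcyclic.IsCechAcyclic G) : Subsingleton (Ext.{u + 1} (freeOn W) G (n + 1)) := by
  induction n generalizing G with
  | zero =>
    let S := ShortComplex.mk (Injective.ι G) (cokernel.π _) (cokernel.condition (Injective.ι G))
    have hS : S.ShortExact := { exact := ShortComplex.exact_of_g_is_cokernel _ (cokernelIsCokernel _) }
    refine subsingleton_of_forall_eq 0 fun x => ?_
    obtain ⟨z, rfl⟩ := Ext.covariant_sequence_exact₁ _ hS x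
      (haveI : Injective S.X₂ := inferInstanceAs (Injective (Injective.under G)); Ext.eq_zero_of_injective _)
      (rfl : 0 + 1 = 1)
    obtain ⟨φ, rfl⟩ := (Ext.mk₀_bijective _ _).2 z
    obtain ⟨a, ha⟩ := QcqsAcyclic.sections_surjective S hS hG hW (freeVal φ)
    obtain ⟨ψ, hψ⟩ := exists_free_hom a
    have hφ : ψ ≫ S.g = φ := free_ext ((congrArg (S.g.hom.app (op W)) hψ).trans ha)
    rw [← hφ, ← Ext.mk₀_comp_mk₀, Ext.comp_assoc_of_second_deg_zero, hS.comp_extClass, Ext.comp_zero]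
  | succ n ih =>
    let S := ShortComplex.mk (Injective.ι G) (cokernel.π _) (cokernel.condition (Injective.ι G))
    have hS : S.ShortExact := { exact := ShortComplex.exact_of_g_is_cokernel _ (cokernelIsCokernel _) }
    haveI hI : Injective S.X₂ := inferInstanceAs (Injective (Injective.under G))
    refine subsingleton_of_forall_eq 0 fun x => ?_
    obtain ⟨z, rfl⟩ := Ext.covariant_sequence_exact₁ _ hS x (Ext.eq_zero_of_injective _) (rfl : (n + 1) + 1 = _)
    haveI := ih S.X₃ (QcqsAcyclic.isCechAcyclic_X₃ S hS hG (QcqsAcyclic.isCechAcyclic_of_injective S.X₂))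
    rw [Subsingleton.elim z 0, Ext.zero_comp]

theorem comm_free {W : X.Etale} (hW : IsQcqsObj W) {Λ : Type (u + 1)} [SmallCategory Λ] [IsFiltered Λ]
    (q : ℕ) (D : Λ ⥤ EtCoh.Ab X) : ExtColimGen.Comm (freeOn W) q D := by
  refine ExtColimGen.comm_all (fun D => ?_) (fun D hD q => ?_) q D
  · haveI := preservesColimitsOfShape_sections_qcqs_ab W hW Λ
    let hc := isColimitOfPreserves (sheafToPresheaf X.smallEtaleTopology AddCommGrpCat.{u + 1} ⋙
      (evaluation X.Etaleᵒᵖ AddCommGrpCat.{u + 1}).obj (op W)) (colimit.isColimit D)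
    constructor
    · intro x
      obtain ⟨φ, rfl⟩ := (Ext.mk₀_bijective _ _).2 x
      obtain ⟨i, t, ht⟩ := Concrete.isColimit_exists_rep _ hc (freeVal φ)
      obtain ⟨ψ, hψ⟩ := exists_free_hom (W := W) (G := D.obj i) t
      refine ⟨i, Ext.mk₀ ψ, (Ext.mk₀_comp_mk₀ _ _).trans (congrArg Ext.mk₀ (free_ext ?_))⟩
      exact (congrArg ((colimit.ι D i).hom.app (op W)) hψ).trans ht
    · intro i y hy
      obtain ⟨ψ, rfl⟩ := (Ext.mk₀_bijective _ _).2 y
      rw [Ext.mk₀_comp_mk₀, Ext.mk₀_eq_zero_iff] at hy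
      have h0 : (colimit.ι D i).hom.app (op W) (freeVal ψ) = (colimit.ι D i).hom.app (op W) 0 := by
        refine Eq.trans ?_ (map_zero _).symm
        exact ConcreteCategory.congr_hom (congrArg (fun r : freeOn W ⟶ colimit D => r.hom.app (op W)) hy) (taut W ℤ ⟨1⟩)
      obtain ⟨j, a, b, hab⟩ := Concrete.isColimit_exists_of_rep_eq _ hc _ _ h0
      refine ⟨j, a, (Ext.mk₀_comp_mk₀ _ _).trans ((Ext.mk₀_eq_zero_iff _).2 (free_ext ?_))⟩
      exact hab.trans (map_zero _)
  · exact subsingleton_ext_free hW q _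
      (QcqsAcyclic.isCechAcyclic_colimit D fun j => haveI := hD j; QcqsAcyclic.isCechAcyclic_of_injective _)

theorem comp_mk₀_nsmul {A B C : EtCoh.Ab X} {q : ℕ} (y : Ext.{u + 1} A B q) (g : B ⟶ C) (n : ℕ) :
    y.comp (Ext.mk₀ (n • g)) (add_zero q) = n • y.comp (Ext.mk₀ g) (add_zero q) := by
  induction n with
  | zero => rw [zero_nsmul, zero_nsmul, Ext.mk₀_zero, Ext.comp_zero]
  | succ n ih => rw [succ_nsmul, succ_nsmul, Ext.mk₀_add, Ext.comp_add, ih]

/-- stages have bounded exponent -/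
theorem exists_nsmul_stage {F : EtCoh.Ab X} (j : TorsStage F) :
    ∃ n : ℕ, 0 < n ∧ n • 𝟙 ((stageFunctor F).obj j) = 0 := by
  obtain ⟨n, hn, h⟩ := exists_nsmul_genSum j.gens
  suffices h' : n • 𝟙 (cokernel j.relMap) = 0 from ⟨n, hn, h'⟩
  refine (cancel_epi (cokernel.π j.relMap)).1 ?_
  rw [comp_zero, Preadditive.comp_nsmul]
  rw [Category.comp_id, ← Category.id_comp (cokernel.π j.relMap), ← Preadditive.nsmul_comp, h, zero_comp]

/-- cohomology of a torsion sheaf over a qcqs object is torsion -/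
theorem exists_nsmul_ext_free {W : X.Etale} (hW : IsQcqsObj W) {F : EtCoh.Ab X} (hF : EtCoh.IsTorsion F) (q : ℕ)
    (x : Ext.{u + 1} (freeOn W) F q) : ∃ n : ℕ, 0 < n ∧ n • x = 0 := by
  obtain ⟨hc⟩ := nonempty_isColimit_stageCocone hF
  let e : colimit (stageFunctor F) ≅ F := (colimit.isColimit (stageFunctor F)).coconePointUniqueUpToIso hc
  obtain ⟨j, y, hy⟩ := (comm_free hW q (stageFunctor F)).surj (x.comp (Ext.mk₀ e.inv) (add_zero q))
  obtain ⟨n, hn, hDn⟩ := exists_nsmul_stage j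
  refine ⟨n, hn, ?_⟩
  have hy0 : n • y = 0 := by
    rw [← Ext.comp_mk₀_id y, ← comp_mk₀_nsmul, hDn, Ext.mk₀_zero, Ext.comp_zero]
  have hx : x = (x.comp (Ext.mk₀ e.inv) (add_zero q)).comp (Ext.mk₀ e.hom) (add_zero q) := by
    rw [Ext.comp_assoc_of_third_deg_zero, Ext.mk₀_comp_mk₀, Iso.inv_hom_id, Ext.comp_mk₀_id]
  have key : ∀ (k : ℕ) (w : Ext.{u + 1} (freeOn W) (colimit (stageFunctor F)) q),
      k • w.comp (Ext.mk₀ e.hom) (add_zero q) = (k • w).comp (Ext.mk₀ e.hom) (add_zero q) := fun k w => by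
    induction k with
    | zero => rw [zero_nsmul, zero_nsmul, Ext.zero_comp]
    | succ k ih => rw [succ_nsmul, succ_nsmul, Ext.add_comp, ih]
  have key' : ∀ k : ℕ, k • y.comp (Ext.mk₀ (colimit.ι (stageFunctor F) j)) (add_zero q) =
      (k • y).comp (Ext.mk₀ (colimit.ι (stageFunctor F) j)) (add_zero q) := fun k => by
    induction k with
    | zero => rw [zero_nsmul, zero_nsmul, Ext.zero_comp]
    | succ k ih => rw [succ_nsmul, succ_nsmul, Ext.add_comp, ih]
  rw [hx, key, ← hy, key', hy0, Ext.zero_comp, Ext.zero_comp]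

theorem freeVal_nsmul {W : X.Etale} {G : EtCoh.Ab X} (ψ : freeOn W ⟶ G) (n : ℕ) :
    freeVal (n • ψ) = n • freeVal ψ :=
  nsmul_hom_app ψ n W _

theorem extMk_nsmul {A F : EtCoh.Ab X} (R : InjectiveResolution F) {k : ℕ} (f : A ⟶ R.cocomplex.X k) (m : ℕ)
    (hm : k + 1 = m) (hf : f ≫ R.cocomplex.d k m = 0) (n : ℕ) :
    n • R.extMk f m hm hf = R.extMk (n • f) m hm (by rw [Preadditive.nsmul_comp, hf, smul_zero]) := by
  induction n with
  | zero => simp [zero_nsmul]
  | succ n ih => simp only [succ_nsmul, ih, R.add_extMk]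

/-- torsion of sections transports along isomorphisms -/
theorem isTorsion_of_iso {F G : EtCoh.Ab X} (e : F ≅ G) (hF : EtCoh.IsTorsion F) : EtCoh.IsTorsion G := by
  intro U s x
  obtain ⟨V, g, hv, hfin⟩ := hF U (e.inv.hom.app (op U) s) x
  refine ⟨V, g, hv, ?_⟩
  have h := (e.hom.hom.app (op V)).hom.isOfFinAddOrder hfin
  refine Eq.mp (congrArg IsOfFinAddOrder ?_) h
  refine (ConcreteCategory.congr_hom (e.hom.hom.naturality g.op) _).trans ?_
  exact congrArg (G.obj.map g.op) (ConcreteCategory.congr_hom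
    (congrArg (fun r : G ⟶ G => r.hom.app (op U)) e.inv_hom_id) s)

/-- higher direct images of torsion sheaves along qcqs morphisms are torsion -/
theorem isTorsion_Rpush {Y : Scheme.{u}} (f : X ⟶ Y) [QuasiCompact f] [QuasiSeparated f] [EtCoh.BCCont f]
    {F : EtCoh.Ab X} (hF : EtCoh.IsTorsion F) (q : ℕ) : EtCoh.IsTorsion ((EtCoh.Rpush f q).obj F) := by
  let R := injectiveResolution F
  refine isTorsion_of_iso (R.isoRightDerivedObj (EtCoh.push f) q).symm ?_
  let C := ((EtCoh.push f).mapHomologicalComplex (ComplexShape.up ℕ)).obj R.cocomplex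
  change EtCoh.IsTorsion (C.homology q)
  intro U s x
  have hloc : Presheaf.IsLocallySurjective Y.smallEtaleTopology (C.homologyπ q).hom :=
    (Sheaf.isLocallySurjective_iff_epi' AddCommGrpCat.{u + 1} (C.homologyπ q)).2 inferInstance
  obtain ⟨V₁, g₁, v₁, ⟨c₁, hc₁⟩, hv₁⟩ := (mem_topology_iff _).1 (hloc.imageSieve_mem (U := U) s) x
  obtain ⟨A, hA, hvA, -⟩ := exists_isAffineOpen_mem_and_subset (U := (⊤ : V₁.left.Opens)) (x := v₁) trivial
  haveI : AlgebraicGeometry.Etale V₁.hom := V₁.prop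
  let V : Y.Etale := Scheme.Etale.mk (A.ι ≫ V₁.hom)
  let r : V ⟶ V₁ := MorphismProperty.Over.homMk A.ι rfl
  let W := (EtCoh.bc f).obj V
  have hW : IsQcqsObj W := by
    haveI : IsAffine V.left := hA
    let p : W.left ⟶ V.left := pullback.fst V.hom f
    haveI : QuasiCompact p := MorphismProperty.pullback_fst _ _ ‹QuasiCompact f›
    haveI : QuasiSeparated p := MorphismProperty.pullback_fst _ _ ‹QuasiSeparated f›
    exact ⟨QuasiCompact.compactSpace_of_compactSpace p, quasiSeparatedSpace_of_quasiSeparated p⟩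
  let c := (C.cycles q).obj.map r.op c₁
  let z : (R.cocomplex.X q).obj.obj (op W) := (C.iCycles q).hom.app (op V) c
  obtain ⟨ψ, hψ⟩ := exists_free_hom z
  have hψd : ψ ≫ R.cocomplex.d q (q + 1) = 0 := free_ext <| by
    refine (congrArg ((R.cocomplex.d q (q + 1)).hom.app (op W)) hψ).trans ?_
    exact ConcreteCategory.congr_hom (congrArg (fun m : C.cycles q ⟶ C.X (q + 1) => m.hom.app (op V))
      (C.iCycles_d q (q + 1))) c
  obtain ⟨n, hn, hkill⟩ : ∃ n : ℕ, 0 < n ∧ n • (C.homologyπ q).hom.app (op V) c = 0 := by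
    haveI hinj : Mono ((C.iCycles q).hom.app (op V)) := inferInstance
    obtain _ | p := q
    · obtain ⟨φ, hφ⟩ := KernelFork.IsLimit.lift' R.isLimitKernelFork ψ hψd
      obtain ⟨n, hn, hnφ⟩ := exists_nsmul_ext_free hW hF 0 (Ext.mk₀ φ)
      refine ⟨n, hn, ?_⟩
      have hnψ : n • ψ = 0 := by
        have : n • φ = 0 := (Ext.mk₀_bijective _ _).1
          ((map_nsmul Ext.addEquiv₀.symm n φ).trans (hnφ.trans (Ext.mk₀_zero _ _).symm))
        change φ ≫ R.ι.f 0 = ψ at hφ
        rw [← hφ, ← Preadditive.nsmul_comp, this, zero_comp]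
      have hz : n • c = 0 := (AddCommGrpCat.mono_iff_injective _).1 hinj (by
        rw [map_nsmul, map_zero]
        change n • z = 0
        rw [← hψ, ← freeVal_nsmul, hnψ]
        rfl)
      rw [← map_nsmul, hz, map_zero]
    · obtain ⟨n, hn, hx⟩ := exists_nsmul_ext_free hW hF (p + 1) (R.extMk ψ (p + 2) rfl hψd)
      refine ⟨n, hn, ?_⟩
      rw [extMk_nsmul] at hx
      obtain ⟨g, hg⟩ := (R.extMk_eq_zero_iff _ (p + 2) rfl _ p rfl).1 hx
      let w : (C.X p).obj.obj (op V) := (freeVal g : (R.cocomplex.X p).obj.obj (op W))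
      have hz : n • c = (C.toCycles p (p + 1)).hom.app (op V) w := (AddCommGrpCat.mono_iff_injective _).1 hinj (by
        rw [map_nsmul]
        refine Eq.trans ?_ (ConcreteCategory.congr_hom (congrArg (fun m : C.X p ⟶ C.X (p + 1) => m.hom.app (op V))
          (C.toCycles_i p (p + 1))).symm w)
        change n • z = freeVal (g ≫ R.cocomplex.d p (p + 1))
        rw [hg, ← hψ, freeVal_nsmul])
      rw [← map_nsmul, hz]
      exact ConcreteCategory.congr_hom (congrArg (fun m : C.X p ⟶ C.homology (p + 1) => m.hom.app (op V))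
        (C.toCycles_comp_homologyπ p (p + 1))) w
  refine ⟨V, r ≫ g₁, ⟨⟨v₁, hvA⟩, hv₁⟩, isOfFinAddOrder_iff_nsmul_eq_zero.2 ⟨n, hn, ?_⟩⟩
  rw [op_comp, Functor.map_comp, ConcreteCategory.comp_apply, ← hc₁]
  refine Eq.trans ?_ hkill
  exact congrArg (n • ·) (ConcreteCategory.congr_hom ((C.homologyπ q).hom.naturality r.op) c₁).symm

end Groth.Agent.EtFound
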