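import Groth.Agent.EtFound.Basic
import Mathlib.AlgebraicGeometry.Limits
import Mathlib.AlgebraicGeometry.Morphisms.Etale
import Mathlib.CategoryTheory.Sites.IsSheafFor

/-!
# Étale sheaves turn disjoint unions into products
-/

universe w u

open CategoryTheory CategoryTheory.Limits AlgebraicGeometry Opposite

namespace Groth.Agent.EtFound

set_option backward.isDefEq.respectTransparency.types false

variable {X : Scheme.{u}}

/-- Abelian sheaves are sheaves of sets for covering presieves. -/
theorem isSheafFor_of_covers (F : EtCoh.Ab X) {W : X.Etale} {ι : Type w} (Z : ι → X.Etale)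
    (g : ∀ i, Z i ⟶ W) (hcov : ∀ x : W.left, ∃ (i : ι) (z : (Z i).left), (g i).left.base z = x) :
    Presieve.IsSheafFor (F.obj ⋙ forget AddCommGrpCat.{u + 1}) (Presieve.ofArrows Z g) := by
  rw [Presieve.isSheafFor_iff_generate]
  refine ((isSheaf_iff_isSheaf_of_type _ _).1
    ((Presheaf.isSheaf_iff_isSheaf_forget X.smallEtaleTopology F.obj
      (forget AddCommGrpCat.{u + 1})).1 F.2)) _ ?_
  refine (mem_topology_iff _).2 fun x => ?_
  obtain ⟨i, z, hz⟩ := hcov x
  exact ⟨Z i, g i, z, Sieve.ofArrows_mk _ _ i, hz⟩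

/-- Sections over an empty object are trivial. -/
theorem subsingleton_sections_of_isEmpty (F : EtCoh.Ab X) (Z : X.Etale) [IsEmpty Z.left] :
    Subsingleton (F.obj.obj (op Z)) := by
  refine ⟨fun a b => ?_⟩
  refine (isSheafFor_of_covers.{0} F (ι := PEmpty) (fun i => i.elim) (fun i => i.elim)
    fun x => isEmptyElim x).isSeparatedFor.ext fun W w hw => ?_
  obtain ⟨i⟩ := hw
  exact i.elim

/-- Sheaves turn disjoint covers by subobjects into products. -/
theorem bijective_sections_of_disjoint (F : EtCoh.Ab X) {W : X.Etale} {ι : Type w} (Z : ι → X.Etale)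
    (g : ∀ i, Z i ⟶ W) [∀ i, Mono (g i)]
    (hcov : ∀ x : W.left, ∃ (i : ι) (z : (Z i).left), (g i).left.base z = x)
    (hdisj : ∀ i j, i ≠ j → ∀ a b, (g i).left.base a ≠ (g j).left.base b) :
    Function.Bijective (fun (s : F.obj.obj (op W)) (i : ι) => F.obj.map (g i).op s) := by
  have h := isSheafFor_of_covers F Z g hcov
  refine ⟨fun s t hst => h.isSeparatedFor.ext fun V v hv => ?_, fun x => ?_⟩
  · obtain ⟨i⟩ := hv
    exact congrFun hst i
  · have hc : Presieve.Arrows.Compatible (F.obj ⋙ forget AddCommGrpCat.{u + 1}) g x := by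
      intro i j V a b hab
      by_cases hij : i = j
      · subst hij
        rw [(cancel_mono (g i)).1 hab]
      · have : IsEmpty V.left := ⟨fun v => hdisj i j hij (a.left.base v) (b.left.base v) (by
          show (a ≫ g i).left.base v = (b ≫ g j).left.base v
          rw [hab])⟩
        have := subsingleton_sections_of_isEmpty F V
        exact Subsingleton.elim (α := F.obj.obj (op V)) _ _
    obtain ⟨s, hs, -⟩ := (Presieve.isSheafFor_arrows_iff _ _).1 h x hc
    exact ⟨s, funext hs⟩

/-- A cofan whose underlying cofan of schemes is a coproduct. -/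
theorem cover_disjoint_mono_of_isColimit {W : X.Etale} {ι : Type w} [Small.{u} ι] (Z : ι → X.Etale)
    (g : ∀ i, Z i ⟶ W) (hc : IsColimit (Cofan.mk W.left fun i => (g i).left)) :
    (∀ x : W.left, ∃ (i : ι) (z : (Z i).left), (g i).left.base z = x) ∧
    (∀ i j, i ≠ j → ∀ a b, (g i).left.base a ≠ (g j).left.base b) ∧
    (∀ i, Mono (g i)) ∧ ∀ i, IsOpenImmersion (g i).left := by
  let e := (coproductIsCoproduct fun i => (Z i).left).coconePointUniqueUpToIso hc
  have he : ∀ i, Sigma.ι (fun i => (Z i).left) i ≫ e.hom = (g i).left := fun i =>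
    IsColimit.comp_coconePointUniqueUpToIso_hom (coproductIsCoproduct fun i => (Z i).left) hc ⟨i⟩
  have hoi : ∀ i, IsOpenImmersion (g i).left := fun i => by rw [← he i]; infer_instance
  refine ⟨fun x => ?_, fun i j hij a b hab => ?_, fun i => ?_, hoi⟩
  · obtain ⟨i, z, hz⟩ := (sigmaOpenCover fun i => (Z i).left).exists_eq (e.inv.base x)
    refine ⟨i, z, ?_⟩
    rw [← he, Scheme.Hom.comp_apply]
    refine (congrArg e.hom.base hz).trans ?_
    rw [← Scheme.Hom.comp_apply, Iso.inv_hom_id]
    rfl
  · rw [← he, ← he, Scheme.Hom.comp_apply, Scheme.Hom.comp_apply] at hab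
    have h2 := e.hom.homeomorph.injective hab
    obtain ⟨h3⟩ := (sigmaι_eq_iff _ _ _ _ _).mp h2
    exact hij rfl
  · have := hoi i
    exact (Scheme.Etale.forget X ⋙ CategoryTheory.Over.forget X).mono_of_mono_map
      (inferInstanceAs (Mono (g i).left))

/-- A coproduct cofan in the small étale site is a coproduct of schemes. -/
theorem nonempty_isColimit_left {W : X.Etale} {ι : Type u} (Z : ι → X.Etale) (g : ∀ i, Z i ⟶ W)
    (hc : IsColimit (Cofan.mk W g)) : Nonempty (IsColimit (Cofan.mk W.left fun i => (g i).left)) := by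
  have : ∀ i, Etale (Z i).hom := fun i => (Z i).prop
  have : Etale (Sigma.desc fun i => (Z i).hom) := IsZariskiLocalAtSource.sigmaDesc fun i => inferInstance
  let V : X.Etale := Scheme.Etale.mk (Sigma.desc fun i => (Z i).hom)
  let inj : ∀ i, Z i ⟶ V := fun i =>
    MorphismProperty.Over.homMk (Sigma.ι (fun i => (Z i).left) i) (Sigma.ι_desc _ _) trivial
  have hV : IsColimit (Cofan.mk V inj) :=
    Cofan.IsColimit.mk _ (fun t => MorphismProperty.Over.homMk (Sigma.desc fun i => (t.inj i).left)
        (Sigma.hom_ext _ _ fun i => by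
          refine ((Category.assoc _ _ _).symm.trans (congrArg (· ≫ t.pt.hom) (Sigma.ι_desc _ i))).trans ?_
          exact (MorphismProperty.Over.w (t.inj i)).trans (Sigma.ι_desc (fun i => (Z i).hom) i).symm) trivial)
      (fun t i => MorphismProperty.Over.Hom.ext (Sigma.ι_desc _ i))
      (fun t m hm => MorphismProperty.Over.Hom.ext (Sigma.hom_ext _ _ fun i =>
        (congrArg (fun q : Z i ⟶ t.pt => q.left) (hm i)).trans (Sigma.ι_desc (fun i => (t.inj i).left) i).symm))
  let e := (Scheme.Etale.forget X ⋙ CategoryTheory.Over.forget X).mapIso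
    (hV.coconePointUniqueUpToIso hc)
  refine ⟨(coproductIsCoproduct fun i => (Z i).left).ofIsoColimit (Cocone.ext e fun ⟨i⟩ => ?_)⟩
  exact congrArg (fun q : Z i ⟶ W => q.left) (hV.comp_coconePointUniqueUpToIso_hom hc ⟨i⟩)

end Groth.Agent.EtFound
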