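import Groth.Agent.EtFound.Basic
import Mathlib.CategoryTheory.Sites.EpiMono

/-! geometric stalks detect mono, epi, zero, exactness -/

universe u

open CategoryTheory CategoryTheory.Limits AlgebraicGeometry Opposite

namespace Groth.Agent.EtFound

variable {X : Scheme.{u}}

instance stalk_preservesFiniteLimits {Ω : Type u} [Field Ω] [IsSepClosed Ω]
    (ξ : Spec (CommRingCat.of Ω) ⟶ X) : PreservesFiniteLimits (EtCoh.stalk ξ) :=
  inferInstanceAs (PreservesFiniteLimits (Scheme.pointSmallEtale ξ).sheafFiber)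

instance stalk_preservesFiniteColimits {Ω : Type u} [Field Ω] [IsSepClosed Ω]
    (ξ : Spec (CommRingCat.of Ω) ⟶ X) : PreservesFiniteColimits (EtCoh.stalk ξ) :=
  inferInstanceAs (PreservesFiniteColimits (Scheme.pointSmallEtale ξ).sheafFiber)

section

variable {A : Type*} [Category.{u + 1} A] {FA : A → A → Type*} {CA : A → Type (u + 1)}
  [∀ M N, FunLike (FA M N) (CA M) (CA N)] [ConcreteCategory.{u + 1} A FA]
  [HasColimitsOfSize.{u, u} A] [PreservesFilteredColimitsOfSize.{u, u} (forget A)]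

/-- sections with equal germs everywhere agree on a cover -/
theorem equalizerSieve_mem_of_germs (P : X.Etaleᵒᵖ ⥤ A) (U : X.Etale) (s t : ToType (P.obj (op U)))
    (h : ∀ (Ω : Type u) (_ : Field Ω) (_ : IsSepClosed Ω) (ξ : Spec (CommRingCat.of Ω) ⟶ X)
      (u : (Scheme.pointSmallEtale ξ).fiber.obj U),
      (Scheme.pointSmallEtale ξ).toPresheafFiber U u P s = (Scheme.pointSmallEtale ξ).toPresheafFiber U u P t) :
    Presheaf.equalizerSieve (X := op U) s t ∈ X.smallEtaleTopology U := by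
  rw [mem_topology_iff]
  intro x
  obtain ⟨Ω, _, _, ξ, u, hu⟩ := exists_point_through U x
  obtain ⟨V, f, v, hv, hf⟩ := ((Scheme.pointSmallEtale ξ).toPresheafFiber_eq_iff' U u s t).1 (h Ω _ _ ξ u)
  refine ⟨V, f, (v.left : Spec (CommRingCat.of Ω) ⟶ V.left).base (default : Spec (CommRingCat.of Ω)), hf, ?_⟩
  subst hv
  exact hu (default : Spec (CommRingCat.of Ω))

/-- a map of presheaves which is surjective on all stalks is locally surjective -/
theorem isLocallySurjective_of_stalks {P Q : X.Etaleᵒᵖ ⥤ A} (f : P ⟶ Q)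
    (h : ∀ (Ω : Type u) (_ : Field Ω) (_ : IsSepClosed Ω) (ξ : Spec (CommRingCat.of Ω) ⟶ X),
      Function.Surjective ((Scheme.pointSmallEtale ξ).presheafFiber.map f)) :
    Presheaf.IsLocallySurjective X.smallEtaleTopology f := by
  refine ⟨fun {U} s => ?_⟩
  rw [mem_topology_iff]
  intro x
  obtain ⟨Ω, _, _, ξ, u, hu⟩ := exists_point_through U x
  obtain ⟨q, hq⟩ := h Ω _ _ ξ ((Scheme.pointSmallEtale ξ).toPresheafFiber U u Q s)
  obtain ⟨W, w, z, rfl⟩ := (Scheme.pointSmallEtale ξ).toPresheafFiber_jointly_surjective q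
  rw [(Scheme.pointSmallEtale ξ).toPresheafFiber_naturality_apply] at hq
  obtain ⟨⟨T, t⟩, ⟨a, ha⟩, ⟨b, hb⟩, -⟩ := IsCofilteredOrEmpty.cone_objs ((Scheme.pointSmallEtale ξ).fiber.elementsMk W w) ((Scheme.pointSmallEtale ξ).fiber.elementsMk U u)
  obtain ⟨a', ha'⟩ : ∃ a' : T ⟶ W, (Scheme.pointSmallEtale ξ).fiber.map a' t = w := ⟨a, ha⟩
  obtain ⟨b', hb'⟩ : ∃ b' : T ⟶ U, (Scheme.pointSmallEtale ξ).fiber.map b' t = u := ⟨b, hb⟩
  clear ha hb a b
  subst ha' hb'
  rw [← (Scheme.pointSmallEtale ξ).toPresheafFiber_w_apply, ← (Scheme.pointSmallEtale ξ).toPresheafFiber_w_apply] at hq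
  obtain ⟨V, c, v, hv, hc⟩ := ((Scheme.pointSmallEtale ξ).toPresheafFiber_eq_iff' T t _ _).1 hq
  refine ⟨V, c ≫ b', (v.left : Spec (CommRingCat.of Ω) ⟶ V.left).base (default : Spec (CommRingCat.of Ω)),
    ⟨P.map (c ≫ a').op z, ?_⟩, ?_⟩
  · simp only [op_comp, Functor.map_comp, ConcreteCategory.comp_apply, NatTrans.naturality_apply] at hc ⊢
    exact hc
  · subst hv
    exact hu (default : Spec (CommRingCat.of Ω))

theorem injective_of_stalks {F G : Sheaf X.smallEtaleTopology A}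
    [X.smallEtaleTopology.HasSheafCompose (forget A)] (f : F ⟶ G)
    (h : ∀ (Ω : Type u) (_ : Field Ω) (_ : IsSepClosed Ω) (ξ : Spec (CommRingCat.of Ω) ⟶ X),
      Function.Injective ((Scheme.pointSmallEtale ξ).presheafFiber.map f.hom)) (U : X.Etale) :
    Function.Injective (f.hom.app (op U)) := by
  intro s t hst
  refine (((isSheaf_iff_isSheaf_of_type _ _).1 ((sheafCompose X.smallEtaleTopology (forget A)).obj F).property).isSeparated
    _ (equalizerSieve_mem_of_germs F.obj U s t fun Ω _ _ ξ u => h Ω _ _ ξ ?_)).ext fun V g hg => hg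
  rw [(Scheme.pointSmallEtale ξ).toPresheafFiber_naturality_apply,
    (Scheme.pointSmallEtale ξ).toPresheafFiber_naturality_apply, hst]

end

theorem mono_iff_stalks {F G : EtCoh.Ab X} (a : F ⟶ G) :
    Mono a ↔ ∀ (Ω : Type u) [Field Ω] [IsSepClosed Ω] (ξ : Spec (CommRingCat.of Ω) ⟶ X),
      Function.Injective ((EtCoh.stalk ξ).map a) := by
  refine ⟨fun _ Ω _ _ ξ => (AddCommGrpCat.mono_iff_injective _).1 inferInstance, fun h => ?_⟩
  have : ∀ U, Mono (a.hom.app U) := fun U =>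
    (AddCommGrpCat.mono_iff_injective _).2 (injective_of_stalks a (fun Ω _ _ ξ => h Ω ξ) U.unop)
  have := NatTrans.mono_of_mono_app a.hom
  exact (sheafToPresheaf _ _).mono_of_mono_map this

theorem epi_iff_stalks {F G : EtCoh.Ab X} (a : F ⟶ G) :
    Epi a ↔ ∀ (Ω : Type u) [Field Ω] [IsSepClosed Ω] (ξ : Spec (CommRingCat.of Ω) ⟶ X),
      Function.Surjective ((EtCoh.stalk ξ).map a) := by
  refine ⟨fun _ Ω _ _ ξ => (AddCommGrpCat.epi_iff_surjective _).1 inferInstance, fun h => ?_⟩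
  have : Sheaf.IsLocallySurjective a := isLocallySurjective_of_stalks a.hom fun Ω _ _ ξ => h Ω ξ
  exact (Sheaf.isLocallySurjective_iff_epi' _ a).1 this

theorem isIso_iff_stalks {F G : EtCoh.Ab X} (a : F ⟶ G) :
    IsIso a ↔ ∀ (Ω : Type u) [Field Ω] [IsSepClosed Ω] (ξ : Spec (CommRingCat.of Ω) ⟶ X),
      IsIso ((EtCoh.stalk ξ).map a) := by
  refine ⟨fun _ Ω _ _ ξ => inferInstance, fun h => ?_⟩
  have : Mono a := (mono_iff_stalks a).2 fun Ω _ _ ξ =>
    ((AddCommGrpCat.mono_iff_injective _).1 (have := h Ω ξ; inferInstance))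
  have : Epi a := (epi_iff_stalks a).2 fun Ω _ _ ξ =>
    ((AddCommGrpCat.epi_iff_surjective _).1 (have := h Ω ξ; inferInstance))
  exact isIso_of_mono_of_epi a

theorem isZero_iff_stalks (F : EtCoh.Ab X) :
    IsZero F ↔ ∀ (Ω : Type u) [Field Ω] [IsSepClosed Ω] (ξ : Spec (CommRingCat.of Ω) ⟶ X),
      IsZero ((EtCoh.stalk ξ).obj F) := by
  refine ⟨fun h Ω _ _ ξ => (EtCoh.stalk ξ).map_isZero h, fun h => ?_⟩
  have : Mono (0 : F ⟶ F) := (mono_iff_stalks _).2 fun Ω _ _ ξ x y _ => by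
    have := AddCommGrpCat.subsingleton_of_isZero (h Ω ξ)
    exact Subsingleton.elim _ _
  exact IsZero.of_mono_zero F F

theorem exact_iff_stalks (S : ShortComplex (EtCoh.Ab X)) :
    S.Exact ↔ ∀ (Ω : Type u) [Field Ω] [IsSepClosed Ω] (ξ : Spec (CommRingCat.of Ω) ⟶ X),
      (S.map (EtCoh.stalk ξ)).Exact := by
  refine ⟨fun h Ω _ _ ξ => h.map _, fun h => ?_⟩
  rw [ShortComplex.exact_iff_isZero_homology, isZero_iff_stalks]
  intro Ω _ _ ξ
  exact ((ShortComplex.exact_iff_isZero_homology _).1 (h Ω ξ)).of_iso (S.mapHomologyIso _).symm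

end Groth.Agent.EtFound
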