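import Groth.Agent.EtFound.ExtZero
import Groth.Agent.EtFound.Germ
import Groth.Agent.EtFound.Stalk
import Mathlib.CategoryTheory.Abelian.GrothendieckAxioms.Basic

/-! exactness and full faithfulness of extension by zero -/

universe u

open CategoryTheory CategoryTheory.Limits AlgebraicGeometry Opposite

namespace Groth.Agent.EtFound

set_option backward.isDefEq.respectTransparency.types false

variable {A : Type (u + 2)} [Category.{u + 1} A] [HasColimitsOfSize.{u, u} A] [HasProducts.{u} A]
  {U X : Scheme.{u}} (j : U ⟶ X) [AlgebraicGeometry.Etale j] [EtShriek.JCont j]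
  [((EtShriek.compEtale j).sheafPushforwardContinuous A U.smallEtaleTopology X.smallEtaleTopology).IsRightAdjoint]
  {Ω : Type u} [Field Ω] [IsSepClosed Ω] (ξ : Spec (CommRingCat.of Ω) ⟶ X)

/-- `F ↦ (F_u)_u` -/
noncomputable abbrev ptsStalks : Sheaf U.smallEtaleTopology A ⥤ (Discrete (PtsOver j ξ) ⥤ A) :=
  (Discrete.functor fun z : PtsOver j ξ => (Scheme.pointSmallEtale z.1).sheafFiber (A := A)).flip

/-- `(j_! F)_ξ = ⊕_u F_u`, naturally -/
noncomputable def extZeroStalkIso :
    (EtShriek.compEtale j).sheafPullback A U.smallEtaleTopology X.smallEtaleTopology ⋙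
        (Scheme.pointSmallEtale ξ).sheafFiber ≅ ptsStalks j ξ ⋙ colim :=
  NatIso.ofComponents
    (fun F => (extZeroCofanIsColimit j ξ F).coconePointUniqueUpToIso (coproductIsCoproduct _) ≪≫
      HasColimit.isoOfNatIso (Discrete.natIso (F := Discrete.functor fun b : PtsOver j ξ => (Scheme.pointSmallEtale b.1).sheafFiber.obj F)
        (G := (ptsStalks j ξ).obj F) fun _ => Iso.refl _))
    (fun {F G} a => by
      refine Cofan.IsColimit.hom_ext (extZeroCofanIsColimit j ξ F) _ _ fun z => ?_
      refine (Category.assoc _ _ _).symm.trans ((congrArg (· ≫ _) (extZeroι_naturality j ξ a z).symm).trans ?_)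
      have hG : ∀ {G : Sheaf U.smallEtaleTopology A}, extZeroι j ξ G z ≫
          ((extZeroCofanIsColimit j ξ G).coconePointUniqueUpToIso (coproductIsCoproduct _) ≪≫
            HasColimit.isoOfNatIso (Discrete.natIso (F := Discrete.functor fun b : PtsOver j ξ => (Scheme.pointSmallEtale b.1).sheafFiber.obj G)
        (G := (ptsStalks j ξ).obj G) fun _ => Iso.refl _)).hom =
          colimit.ι ((ptsStalks j ξ).obj G) ⟨z⟩ := fun {G} => by
        refine (Category.assoc _ _ _).symm.trans ((congrArg (· ≫ _)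
          ((extZeroCofanIsColimit j ξ G).comp_coconePointUniqueUpToIso_hom (coproductIsCoproduct _) ⟨z⟩)).trans ?_)
        exact (HasColimit.isoOfNatIso_ι_hom _ _).trans (Category.id_comp _)
      refine (Category.assoc _ _ _).trans ((congrArg (_ ≫ ·) hG).trans ?_)
      refine Eq.trans ?_ ((congrArg (· ≫ (ptsStalks j ξ ⋙ colim).map a) hG).symm.trans (Category.assoc _ _ _))
      simp [ptsStalks, colim])

omit [HasProducts.{u} A] [AlgebraicGeometry.Etale j] [EtShriek.JCont j] in
theorem ptsStalks_colim_preservesFiniteLimits [HasFiniteLimits A] [AB5OfSize.{u, u} A]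
    [HasExactColimitsOfShape (Discrete (PtsOver j ξ)) A] :
    PreservesFiniteLimits (ptsStalks j ξ ⋙ (colim : (Discrete (PtsOver j ξ) ⥤ A) ⥤ A)) := by
  have : PreservesFiniteLimits (ptsStalks (A := A) j ξ) := by
    refine ⟨fun K _ _ => ?_⟩
    exact preservesLimitsOfShape_of_evaluation _ _ fun ⟨z⟩ =>
      inferInstanceAs (PreservesLimitsOfShape K (Scheme.pointSmallEtale z.1).sheafFiber)
  exact comp_preservesFiniteLimits _ _

section unit

variable {FA : A → A → Type*} {CA : A → Type (u + 1)}
  [∀ M N, FunLike (FA M N) (CA M) (CA N)] [ConcreteCategory.{u + 1} A FA]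
  [PreservesFilteredColimitsOfSize.{u, u} (forget A)] {z : Spec (CommRingCat.of Ω) ⟶ U}

/-- `(G|_U)_z ⟶ G_{j z}` -/
noncomputable def restrStalkMap (z : Spec (CommRingCat.of Ω) ⟶ U) (G : Sheaf X.smallEtaleTopology A) :
    (Scheme.pointSmallEtale z).sheafFiber.obj
        (((EtShriek.compEtale j).sheafPushforwardContinuous A U.smallEtaleTopology X.smallEtaleTopology).obj G) ⟶
      (Scheme.pointSmallEtale (z ≫ j)).sheafFiber.obj G :=
  (Scheme.pointSmallEtale z).presheafFiberDesc
    (fun W w => (Scheme.pointSmallEtale (z ≫ j)).toPresheafFiber ((EtShriek.compEtale j).obj W)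
      (extLiftPt (ξ := z ≫ j) ⟨z, rfl⟩ W w) G.obj)
    (fun {W W'} f w => ((Scheme.pointSmallEtale (z ≫ j)).toPresheafFiber_w ((EtShriek.compEtale j).map f)
      (extLiftPt (ξ := z ≫ j) ⟨z, rfl⟩ W w) G.obj).trans
      (congrArg (fun v => (Scheme.pointSmallEtale (z ≫ j)).toPresheafFiber _ v G.obj)
        (CategoryTheory.Over.OverMorphism.ext rfl)))

theorem restrStalkMap_germ (z : Spec (CommRingCat.of Ω) ⟶ U) (G : Sheaf X.smallEtaleTopology A) (W : U.Etale)
    (w : (Scheme.pointSmallEtale z).fiber.obj W) :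
    (Scheme.pointSmallEtale z).toPresheafFiber W w
        (((EtShriek.compEtale j).sheafPushforwardContinuous A U.smallEtaleTopology X.smallEtaleTopology).obj G).obj ≫
      restrStalkMap j z G =
      (Scheme.pointSmallEtale (z ≫ j)).toPresheafFiber ((EtShriek.compEtale j).obj W)
        (extLiftPt (ξ := z ≫ j) ⟨z, rfl⟩ W w) G.obj := by
  exact GrothendieckTopology.Point.toPresheafFiber_presheafFiberDesc _ _ _ W w

theorem restrStalkMap_bijective [Mono j] (z : Spec (CommRingCat.of Ω) ⟶ U) (G : Sheaf X.smallEtaleTopology A) :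
    Function.Bijective (restrStalkMap j z G) := by
  have hg : ∀ (W : U.Etale) (w : (Scheme.pointSmallEtale z).fiber.obj W)
      (s : ToType (G.obj.obj (op ((EtShriek.compEtale j).obj W)))),
      restrStalkMap j z G ((Scheme.pointSmallEtale z).toPresheafFiber W w
        (((EtShriek.compEtale j).sheafPushforwardContinuous A U.smallEtaleTopology X.smallEtaleTopology).obj G).obj s) =
      (Scheme.pointSmallEtale (z ≫ j)).toPresheafFiber ((EtShriek.compEtale j).obj W)
        (extLiftPt (ξ := z ≫ j) ⟨z, rfl⟩ W w) G.obj s := fun W w s =>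
    (ConcreteCategory.comp_apply _ _ s).symm.trans (ConcreteCategory.congr_hom (restrStalkMap_germ j z G W w) s)
  constructor
  · intro p q hpq
    obtain ⟨W, w, a, b, rfl, rfl⟩ := (Scheme.pointSmallEtale z).toPresheafFiber_jointly_surjective₂ p q
    have e := (hg W w a).symm.trans (hpq.trans (hg W w b))
    obtain ⟨V, g, v, hv, hab⟩ := ((Scheme.pointSmallEtale (z ≫ j)).toPresheafFiber_eq_iff' _ _ _ _).1 e
    obtain ⟨W', i⟩ := EtShriek.compEtaleLift j g
    obtain ⟨g', hg'⟩ := (EtShriek.compEtale j).map_surjective (i.hom ≫ g)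
    let v' : (Scheme.pointSmallEtale (z ≫ j)).fiber.obj ((EtShriek.compEtale j).obj W') :=
      (Scheme.pointSmallEtale (z ≫ j)).fiber.map i.inv v
    have hw' : (v'.left : Spec (CommRingCat.of Ω) ⟶ W'.left) ≫ W'.hom = z :=
      (cancel_mono j).1 ((Category.assoc _ _ _).trans (CategoryTheory.Over.w v'))
    have hvv : (Scheme.pointSmallEtale (z ≫ j)).fiber.map ((EtShriek.compEtale j).map g') v' =
        extLiftPt (ξ := z ≫ j) ⟨z, rfl⟩ W w := by
      rw [hg', ← hv, ← ConcreteCategory.comp_apply, ← Functor.map_comp, Iso.inv_hom_id_assoc]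
    refine ((Scheme.pointSmallEtale z).toPresheafFiber_eq_iff' _ _ _ _).2
      ⟨W', g', CategoryTheory.Over.homMk (v'.left : Spec (CommRingCat.of Ω) ⟶ W'.left) hw',
        CategoryTheory.Over.OverMorphism.ext (congr(($hvv).left)), ?_⟩
    change G.obj.map ((EtShriek.compEtale j).map g').op a = G.obj.map ((EtShriek.compEtale j).map g').op b
    rw [hg', op_comp, Functor.map_comp, ConcreteCategory.comp_apply, ConcreteCategory.comp_apply]
    exact congrArg _ hab
  · intro p
    obtain ⟨V, v, s, rfl⟩ := (Scheme.pointSmallEtale (z ≫ j)).toPresheafFiber_jointly_surjective p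
    let W : U.Etale := (EtCoh.bc j).obj V
    let g : (EtShriek.compEtale j).obj W ⟶ V := MorphismProperty.Over.homMk (pullback.fst V.hom j) pullback.condition
    let w : (Scheme.pointSmallEtale z).fiber.obj W := CategoryTheory.Over.homMk
      (pullback.lift (v.left : Spec (CommRingCat.of Ω) ⟶ V.left) z (CategoryTheory.Over.w v)) (pullback.lift_snd _ _ _)
    refine ⟨_, (hg W w (G.obj.map g.op s)).trans (((Scheme.pointSmallEtale (z ≫ j)).toPresheafFiber_w_apply g _ G.obj s).trans ?_)⟩
    exact congrArg (fun v' => (Scheme.pointSmallEtale (z ≫ j)).toPresheafFiber V v' G.obj s)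
      (CategoryTheory.Over.OverMorphism.ext (pullback.lift_fst _ _ _))

theorem unit_restrStalkMap (F : Sheaf U.smallEtaleTopology A) (z : Spec (CommRingCat.of Ω) ⟶ U) :
    (Scheme.pointSmallEtale z).sheafFiber.map
        (((EtShriek.compEtale j).sheafAdjunctionContinuous A U.smallEtaleTopology X.smallEtaleTopology).unit.app F) ≫
      restrStalkMap j z _ = extZeroι j (z ≫ j) F ⟨z, rfl⟩ := by
  refine (Scheme.pointSmallEtale z).presheafFiber_hom_ext fun W w => ?_
  refine (Category.assoc _ _ _).symm.trans ((congrArg (· ≫ _)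
    ((Scheme.pointSmallEtale z).toPresheafFiber_naturality _ W w)).trans ((Category.assoc _ _ _).trans ?_))
  refine Eq.trans ?_ (extZeroι_germ j (z ≫ j) F ⟨z, rfl⟩ W w).symm
  exact congrArg (_ ≫ ·) (restrStalkMap_germ j z _ W w)

theorem isIso_stalk_unit [Mono j] [(forget A).ReflectsIsomorphisms] (F : Sheaf U.smallEtaleTopology A)
    (z : Spec (CommRingCat.of Ω) ⟶ U) :
    IsIso ((Scheme.pointSmallEtale z).sheafFiber.map
      (((EtShriek.compEtale j).sheafAdjunctionContinuous A U.smallEtaleTopology X.smallEtaleTopology).unit.app F)) := by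
  have : Subsingleton (PtsOver j (z ≫ j)) :=
    ⟨fun a b => Subtype.ext ((cancel_mono j).1 (a.2.trans b.2.symm))⟩
  let : Unique (PtsOver j (z ≫ j)) := uniqueOfSubsingleton ⟨z, rfl⟩
  have h1 : IsIso (extZeroι j (z ≫ j) F ⟨z, rfl⟩) := by
    let c : Cofan (fun y : PtsOver j (z ≫ j) => (Scheme.pointSmallEtale y.1).sheafFiber.obj F) :=
      Cofan.mk ((Scheme.pointSmallEtale z).sheafFiber.obj F) (fun y => eqToHom (by rw [Subsingleton.elim y ⟨z, rfl⟩]))
    have hc : IsColimit c := Cofan.IsColimit.mk _ (fun s => s.inj ⟨z, rfl⟩)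
      (fun s y => by obtain rfl : y = ⟨z, rfl⟩ := Subsingleton.elim _ _; simp [c])
      (fun s m hm => by
        have := hm ⟨z, rfl⟩
        simpa [c] using this)
    have e := hc.comp_coconePointUniqueUpToIso_hom (extZeroCofanIsColimit j (z ≫ j) F) ⟨⟨z, rfl⟩⟩
    have e' : (hc.coconePointUniqueUpToIso (extZeroCofanIsColimit j (z ≫ j) F)).hom = extZeroι j (z ≫ j) F ⟨z, rfl⟩ :=
      (Category.id_comp _).symm.trans e
    rw [← e']; infer_instance
  have : IsIso (restrStalkMap j z
      (((EtShriek.compEtale j).sheafPullback A U.smallEtaleTopology X.smallEtaleTopology).obj F)) :=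
    (ConcreteCategory.isIso_iff_bijective _).2 (restrStalkMap_bijective j z _)
  rw [← unit_restrStalkMap] at h1
  exact IsIso.of_isIso_comp_right _ (restrStalkMap j z
    (((EtShriek.compEtale j).sheafPullback A U.smallEtaleTopology X.smallEtaleTopology).obj F))

end unit

end Groth.Agent.EtFound

namespace Groth.Agent.EtFound

set_option backward.isDefEq.respectTransparency.types false

/-- `j_!` of abelian sheaves is exact -/
theorem extZero_preservesFiniteLimits {U X : Scheme.{u}} (j : U ⟶ X) [AlgebraicGeometry.Etale j]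
    [EtShriek.JCont j] : PreservesFiniteLimits (EtShriek.extZero j) := by
  refine ⟨fun J _ _ => ⟨fun {K} => ⟨fun {c} hc => ?_⟩⟩⟩
  refine ⟨IsLimit.ofPointIso (limit.isLimit _) (i := (isIso_iff_stalks _).2 fun Ω _ _ ξ => ?_)⟩
  have : AB4OfSize.{u} AddCommGrpCat.{u + 1} := AB4.of_AB5 _
  have : HasExactColimitsOfShape (Discrete (PtsOver j ξ)) AddCommGrpCat.{u + 1} := inferInstance
  have hP : PreservesFiniteLimits (EtShriek.extZero j ⋙ EtCoh.stalk ξ) :=
    haveI := ptsStalks_colim_preservesFiniteLimits (A := AddCommGrpCat.{u + 1}) j ξ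
    preservesFiniteLimits_of_natIso (extZeroStalkIso (A := AddCommGrpCat.{u + 1}) j ξ).symm
  have h1 : IsLimit ((EtCoh.stalk ξ).mapCone ((EtShriek.extZero j).mapCone c)) :=
    isLimitOfPreserves (EtShriek.extZero j ⋙ EtCoh.stalk ξ) hc
  let α := (limit.isLimit (K ⋙ EtShriek.extZero j)).lift ((EtShriek.extZero j).mapCone c)
  let φ : (EtCoh.stalk ξ).mapCone ((EtShriek.extZero j).mapCone c) ⟶
      (EtCoh.stalk ξ).mapCone (limit.cone (K ⋙ EtShriek.extZero j)) :=
    { hom := (EtCoh.stalk ξ).map α
      w := fun k => by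
        change (EtCoh.stalk ξ).map α ≫ (EtCoh.stalk ξ).map _ = (EtCoh.stalk ξ).map _
        rw [← Functor.map_comp]
        exact congrArg _ (limit.lift_π _ k) }
  have hφ := IsLimit.hom_isIso h1 (isLimitOfPreserves (EtCoh.stalk ξ) (limit.isLimit _)) φ
  exact inferInstanceAs (IsIso ((Cone.forget _).map φ))

end Groth.Agent.EtFound
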