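import Groth.Agent.EtMVLib.Abstract

/-! comparison maps on Ext induced by exact functors: bijectivity and transitivity -/

universe w

open CategoryTheory CategoryTheory.Limits CategoryTheory.Abelian

namespace Groth.Agent.EtFound

open Groth.Agent.EtMVLib

variable {A B C : Type*} [Category* A] [Category* B] [Category* C] [Abelian A] [Abelian B] [Abelian C]
  [HasExt.{w} A] [HasExt.{w} B] [HasExt.{w} C] [EnoughInjectives A]

variable {Z : A} {cB : B} (R : A ⥤ B) [R.Additive] [PreservesFiniteLimits R] [PreservesFiniteColimits R]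
  (c : cB ⟶ R.obj Z)

theorem hp_apply (F : A) (n : ℕ) (x : Ext Z F n) :
    hp R c F n x = (Ext.mk₀ c).comp (x.mapExactFunctor R) (zero_add n) := rfl

theorem hp_mk₀ {F : A} (f : Z ⟶ F) : hp R c F 0 (Ext.mk₀ f) = Ext.mk₀ (c ≫ R.map f) := by
  rw [hp_apply, Ext.mapExactFunctor_mk₀, Ext.mk₀_comp_mk₀]

/-- the comparison is bijective in all degrees if it is in degree zero -/
theorem hp_bijective {L : B ⥤ A} (adj : L ⊣ R) [L.PreservesMonomorphisms]
    (h : ∀ F : A, Function.Bijective (fun f : Z ⟶ F => c ≫ R.map f)) (F : A) (n : ℕ) :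
    Function.Bijective (hp R c F n) := by
  let d := (adj.homEquiv _ _).symm c
  have hd : ∀ (G : A) (f : Z ⟶ G), adj.homEquiv _ _ (d ≫ f) = c ≫ R.map f := fun G f => by
    rw [Adjunction.homEquiv_naturality_right, Equiv.apply_symm_apply]
  obtain ⟨e, he⟩ := (h (L.obj cB)).2 (adj.homEquiv _ _ (𝟙 _))
  have h1 : d ≫ e = 𝟙 _ := (adj.homEquiv _ _).injective ((hd _ e).trans he)
  have h2 : e ≫ d = 𝟙 _ := (h Z).1 (show c ≫ R.map (e ≫ d) = c ≫ R.map (𝟙 Z) by
    rw [← hd, ← hd, ← Category.assoc, h1, Category.id_comp, Category.comp_id])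
  have hb : Function.Bijective (fun x : Ext Z F n => (Ext.mk₀ d).comp x (zero_add n)) := by
    refine ⟨fun x y hxy => ?_, fun y => ⟨(Ext.mk₀ e).comp y (zero_add n), ?_⟩⟩
    · have key : ∀ z : Ext Z F n, (Ext.mk₀ e).comp ((Ext.mk₀ d).comp z (zero_add n)) (zero_add n) = z := fun z => by
        rw [Ext.mk₀_comp_mk₀_assoc, h2, Ext.mk₀_id_comp]
      have hxy' : (Ext.mk₀ d).comp x (zero_add n) = (Ext.mk₀ d).comp y (zero_add n) := hxy
      rw [← key x, hxy', key]
    · show (Ext.mk₀ d).comp ((Ext.mk₀ e).comp y (zero_add n)) (zero_add n) = y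
      rw [Ext.mk₀_comp_mk₀_assoc, h1, Ext.mk₀_id_comp]
  have : (hp R c F n : Ext Z F n → _) = adjExtMap adj cB F n ∘ fun x => (Ext.mk₀ d).comp x (zero_add n) :=
    funext fun x => hp_eq R c adj F n x
  rw [this]
  exact (adjExtMap_bijective adj cB F n).comp hb

variable {cC : C} (R' : A ⥤ C) [R'.Additive] [PreservesFiniteLimits R'] [PreservesFiniteColimits R']
  (K : B ⥤ C) [K.Additive] [PreservesFiniteLimits K] [PreservesFiniteColimits K]
  [EnoughInjectives B]
  (cK : cC ⟶ K.obj cB) (θ : R ⋙ K ≅ R')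

/-- transitivity -/
theorem hp_trans (c' : cC ⟶ R'.obj Z) (hc : cK ≫ K.map c ≫ θ.hom.app Z = c') (F : A) (n : ℕ) (x : Ext Z F n) :
    hp R' c' F n x = (hp K cK (R.obj F) n (hp R c F n x)).comp (Ext.mk₀ (θ.hom.app F)) (add_zero n) := by
  haveI := comp_preservesFiniteLimits R K
  haveI := comp_preservesFiniteColimits R K
  have h0 : (x.mapExactFunctor (R ⋙ K)).comp (Ext.mk₀ (θ.hom.app F)) (add_zero n) =
      (Ext.mk₀ (θ.hom.app Z)).comp (x.mapExactFunctor R') (zero_add n) :=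
    mapExactFunctor_natTrans (R ⋙ K) R' θ.hom x
  rw [mapExactFunctor_functorComp] at h0
  rw [hp_apply, hp_apply, hp_apply, Ext.mapExactFunctor_comp, Ext.mapExactFunctor_mk₀,
    Ext.mk₀_comp_mk₀_assoc, Ext.comp_assoc_of_third_deg_zero]
  erw [h0]
  rw [Ext.mk₀_comp_mk₀_assoc, ← hc, Category.assoc]

end Groth.Agent.EtFound
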