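import Groth.Agent.EtFound.PushImm

/-! direct images along closed immersions, away from the closed set -/

universe u

open CategoryTheory CategoryTheory.Limits AlgebraicGeometry Opposite

namespace Groth.Agent.EtFound

set_option backward.isDefEq.respectTransparency.types false

variable {A : Type (u + 2)} [Category.{u + 1} A] [HasColimitsOfSize.{u, u} A] [HasProducts.{u} A]
  {FA : A → A → Type*} {CA : A → Type (u + 1)}
  [∀ M N, FunLike (FA M N) (CA M) (CA N)] [ConcreteCategory.{u + 1} A FA]
  [PreservesFilteredColimitsOfSize.{u, u} (forget A)]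
  {X Y : Scheme.{u}} [X.smallEtaleTopology.HasSheafCompose (forget A)]

omit [HasColimitsOfSize.{u, u} A] [HasProducts.{u} A] [PreservesFilteredColimitsOfSize.{u, u} (forget A)] in
theorem nonempty_unique_of_isEmpty (G : Sheaf X.smallEtaleTopology A) (U : X.Etale) [h : IsEmpty ↥U.left] :
    Nonempty (Unique (ToType (G.obj.obj (op U)))) :=
  ⟨Types.isTerminalEquivUnique _ (Sheaf.isTerminalOfBotCover ((sheafCompose X.smallEtaleTopology (forget A)).obj G) U
    ((mem_topology_iff _).2 fun x => isEmptyElim x))⟩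

/-- restriction of an etale scheme to an open subscheme -/
noncomputable def restrictEtale (U : X.Etale) (O : U.left.Opens) : X.Etale :=
  have : AlgebraicGeometry.Etale U.hom := U.prop
  Scheme.Etale.mk (O.ι ≫ U.hom)

noncomputable def restrictEtaleHom (U : X.Etale) (O : U.left.Opens) : restrictEtale U O ⟶ U :=
  MorphismProperty.Over.homMk O.ι rfl

/-- at a point outside a closed set, germs come from etale schemes avoiding it -/
theorem exists_avoiding {C : Set X} (hC : IsClosed C) {Ω : Type u} [Field Ω] [IsSepClosed Ω]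
    (ξ : Spec (CommRingCat.of Ω) ⟶ X) (hξ : ξ.base (default : Spec (CommRingCat.of Ω)) ∉ C)
    (U : X.Etale) (u : (Scheme.pointSmallEtale ξ).fiber.obj U) :
    ∃ (U' : X.Etale) (g : U' ⟶ U) (u' : (Scheme.pointSmallEtale ξ).fiber.obj U'),
      (Scheme.pointSmallEtale ξ).fiber.map g u' = u ∧ Disjoint (Set.range U'.hom.base) C := by
  let O : U.left.Opens := ⟨(U.hom.base ⁻¹' C)ᶜ, (hC.preimage U.hom.continuous).isOpen_compl⟩
  have hu : (u.left : Spec (CommRingCat.of Ω) ⟶ U.left).base (default : Spec (CommRingCat.of Ω)) ∈ O := fun h => hξ (by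
    have e : ((u.left : Spec (CommRingCat.of Ω) ⟶ U.left) ≫ U.hom) = ξ := CategoryTheory.Over.w u
    rw [← e]
    exact Set.mem_of_eq_of_mem (Scheme.Hom.comp_apply _ _ _) h)
  obtain ⟨u', h1, -⟩ := exists_lift_point (restrictEtaleHom U O) u ⟨_, hu⟩ rfl
  refine ⟨_, _, u', h1, Set.disjoint_left.2 ?_⟩
  rintro _ ⟨v, rfl⟩ hv
  exact v.2 (show U.hom.base (O.ι.base v) ∈ C from Set.mem_of_eq_of_mem (Scheme.Hom.comp_apply _ _ v).symm hv)

/-- the stalk is a singleton if sections avoiding a closed set are -/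
theorem nonempty_unique_stalk {C : Set X} (hC : IsClosed C) (F : Sheaf X.smallEtaleTopology A)
    (hF : ∀ U : X.Etale, Disjoint (Set.range U.hom.base) C → Nonempty (Unique (ToType (F.obj.obj (op U)))))
    {Ω : Type u} [Field Ω] [IsSepClosed Ω] (ξ : Spec (CommRingCat.of Ω) ⟶ X)
    (hξ : ξ.base (default : Spec (CommRingCat.of Ω)) ∉ C) :
    Nonempty (Unique (ToType ((Scheme.pointSmallEtale ξ).sheafFiber.obj F))) := by
  obtain ⟨U', g, u', -, hU'⟩ := exists_avoiding hC ξ hξ (EtCoh.top X)
    (CategoryTheory.Over.homMk ξ (Category.comp_id _))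
  obtain ⟨hu⟩ := hF U' hU'
  refine ⟨@Unique.mk' _ ⟨(Scheme.pointSmallEtale ξ).toPresheafFiber U' u' F.obj hu.default⟩ ⟨fun p q => ?_⟩⟩
  obtain ⟨V, v, a, b, rfl, rfl⟩ := (Scheme.pointSmallEtale ξ).toPresheafFiber_jointly_surjective₂ p q
  obtain ⟨V', g', v', rfl, hV'⟩ := exists_avoiding hC ξ hξ V v
  obtain ⟨hv⟩ := hF V' hV'
  refine ((Scheme.pointSmallEtale ξ).toPresheafFiber_w_apply g' v' F.obj a).symm.trans
    (Eq.trans ?_ ((Scheme.pointSmallEtale ξ).toPresheafFiber_w_apply g' v' F.obj b))
  exact congrArg _ (hv.eq_default _ |>.trans (hv.eq_default _).symm)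

omit [HasColimitsOfSize.{u, u} A] [HasProducts.{u} A] [PreservesFilteredColimitsOfSize.{u, u} (forget A)] in
/-- direct images have no sections away from the image -/
theorem push_unique_of_disjoint (f : X ⟶ Y)
    (G : Sheaf X.smallEtaleTopology A) (V : Y.Etale) (hV : Disjoint (Set.range V.hom.base) (Set.range f.base)) :
    Nonempty (Unique (ToType (G.obj.obj (op ((EtCoh.bc f).obj V))))) := by
  have : IsEmpty ↥((EtCoh.bc f).obj V).left := ⟨fun p => Set.disjoint_left.1 hV
    ⟨(pullback.fst V.hom f).base p, rfl⟩ ⟨(pullback.snd V.hom f).base p, (Scheme.Hom.comp_apply _ _ p).symm.trans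
      ((congrArg (fun a : _ ⟶ Y => a.base p) pullback.condition.symm).trans (Scheme.Hom.comp_apply _ _ p))⟩⟩
  exact nonempty_unique_of_isEmpty G _

variable [Y.smallEtaleTopology.HasSheafCompose (forget A)] [(forget A).ReflectsIsomorphisms]

/-- the unit is an isomorphism for sheaves trivial away from the image -/
theorem unit_isIso_of_outside' (f : X ⟶ Y) (hf : Liftable f) (he : UnivEmb f)
    [((EtCoh.bc f).sheafPushforwardContinuous A Y.smallEtaleTopology X.smallEtaleTopology).IsRightAdjoint]
    (hcl : IsClosed (Set.range f.base)) (F : Sheaf Y.smallEtaleTopology A)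
    (hF : ∀ (k : Type u) (_ : Field k) (_ : IsSepClosed k) (ξ : Spec (CommRingCat.of k) ⟶ Y),
      ξ.base (default : Spec (CommRingCat.of k)) ∉ Set.range f.base →
        Nonempty (Unique (ToType ((Scheme.pointSmallEtale ξ).sheafFiber.obj F)))) :
    IsIso (((EtCoh.bc f).sheafAdjunctionContinuous A Y.smallEtaleTopology X.smallEtaleTopology).unit.app F) := by
  let adj := (EtCoh.bc f).sheafAdjunctionContinuous A Y.smallEtaleTopology X.smallEtaleTopology
  refine isIso_of_stalks _ fun k _ _ ξ => ?_
  by_cases hξ : ξ.base (default : Spec (CommRingCat.of k)) ∈ Set.range f.base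
  · obtain ⟨x, hx⟩ := hξ
    obtain ⟨z, -, -⟩ := Scheme.Pullback.exists_preimage_pullback (f := f) (g := ξ) x default hx
    let Ω := SeparableClosure ((pullback f ξ).residueField z)
    let mm : Spec (CommRingCat.of Ω) ⟶ pullback f ξ :=
      Spec.map (CommRingCat.ofHom (algebraMap ((pullback f ξ).residueField z) Ω)) ≫ (pullback f ξ).fromSpecResidueField z
    have hl : (mm ≫ pullback.snd f ξ) ≫ ξ = (mm ≫ pullback.fst f ξ) ≫ f := by
      simp only [Category.assoc, pullback.condition]
    have h1 : IsIso ((Scheme.pointSmallEtale (mm ≫ pullback.fst f ξ)).sheafFiber.map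
        (((EtCoh.bc f).sheafPullback A Y.smallEtaleTopology X.smallEtaleTopology).map (adj.unit.app F))) := by
      have := counit_isIso' (Y := Y) f hf he (((EtCoh.bc f).sheafPullback A Y.smallEtaleTopology X.smallEtaleTopology).obj F)
      have := IsIso.of_isIso_fac_right (adj.left_triangle_components F)
      infer_instance
    have h2 : IsIso ((Scheme.pointSmallEtale ((mm ≫ pullback.fst f ξ) ≫ f)).sheafFiber.map (adj.unit.app F)) :=
      (NatIso.isIso_map_iff (sheafFiberPullIso f (mm ≫ pullback.fst f ξ)) (adj.unit.app F)).1 h1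
    rw [← hl] at h2
    exact (ConcreteCategory.isIso_iff_bijective _).1
      ((NatIso.isIso_map_iff (stalkExtIso A ξ (mm ≫ pullback.snd f ξ)) (adj.unit.app F)).2 h2)
  · obtain ⟨h1⟩ := hF k _ _ ξ hξ
    obtain ⟨h2⟩ := nonempty_unique_stalk hcl
      (((EtCoh.bc f).sheafPushforwardContinuous A Y.smallEtaleTopology X.smallEtaleTopology).obj
        (((EtCoh.bc f).sheafPullback A Y.smallEtaleTopology X.smallEtaleTopology).obj F))
      (fun V hV => push_unique_of_disjoint f _ V hV) ξ hξ
    exact ⟨fun a b _ => (h1.eq_default a).trans (h1.eq_default b).symm,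
      fun b => ⟨h1.default, (h2.eq_default _).trans (h2.eq_default b).symm⟩⟩

theorem unit_isIso_of_outside (f : X ⟶ Y) (hf : Liftable f) [IsPreimmersion f]
    [((EtCoh.bc f).sheafPushforwardContinuous A Y.smallEtaleTopology X.smallEtaleTopology).IsRightAdjoint]
    (hcl : IsClosed (Set.range f.base)) (F : Sheaf Y.smallEtaleTopology A)
    (hF : ∀ (k : Type u) (_ : Field k) (_ : IsSepClosed k) (ξ : Spec (CommRingCat.of k) ⟶ Y),
      ξ.base (default : Spec (CommRingCat.of k)) ∉ Set.range f.base →
        Nonempty (Unique (ToType ((Scheme.pointSmallEtale ξ).sheafFiber.obj F)))) :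
    IsIso (((EtCoh.bc f).sheafAdjunctionContinuous A Y.smallEtaleTopology X.smallEtaleTopology).unit.app F) :=
  unit_isIso_of_outside' f hf (univEmb_of_isPreimmersion f) hcl F hF

end Groth.Agent.EtFound
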