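import Groth.Agent.EtFound.ExtZeroExact
import Groth.Agent.EtFound.PushOutside
import Mathlib.Algebra.Homology.ShortComplex.Abelian

/-! the open-closed sequence of abelian etale sheaves -/

universe u

open CategoryTheory CategoryTheory.Limits AlgebraicGeometry Opposite

namespace Groth.Agent.EtFound

set_option backward.isDefEq.respectTransparency.types false

/-- points in the image lift after an extension of the field -/
theorem exists_lift_extension {X Y : Scheme.{u}} (f : X ⟶ Y) {k : Type u} [Field k]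
    (ξ : Spec (CommRingCat.of k) ⟶ Y) (hξ : ξ.base (default : Spec (CommRingCat.of k)) ∈ Set.range f.base) :
    ∃ (Ω : Type u) (_ : Field Ω) (_ : IsSepClosed Ω) (z : Spec (CommRingCat.of Ω) ⟶ X)
      (e : Spec (CommRingCat.of Ω) ⟶ Spec (CommRingCat.of k)), e ≫ ξ = z ≫ f := by
  obtain ⟨x, hx⟩ := hξ
  obtain ⟨p, -, -⟩ := Scheme.Pullback.exists_preimage_pullback (f := f) (g := ξ) x default hx
  let Ω := SeparableClosure ((pullback f ξ).residueField p)
  let mm : Spec (CommRingCat.of Ω) ⟶ pullback f ξ :=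
    Spec.map (CommRingCat.ofHom (algebraMap ((pullback f ξ).residueField p) Ω)) ≫ (pullback f ξ).fromSpecResidueField p
  exact ⟨Ω, inferInstance, inferInstance, mm ≫ pullback.fst _ _, mm ≫ pullback.snd _ _, by
    simp only [Category.assoc, pullback.condition]⟩

theorem isIso_stalk_of_lift {X Y : Scheme.{u}} (f : X ⟶ Y) {F G : EtCoh.Ab Y} (a : F ⟶ G)
    {k : Type u} [Field k] [IsSepClosed k]
    (ξ : Spec (CommRingCat.of k) ⟶ Y) (hξ : ξ.base (default : Spec (CommRingCat.of k)) ∈ Set.range f.base)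
    (h : ∀ (Ω : Type u) (_ : Field Ω) (_ : IsSepClosed Ω) (z : Spec (CommRingCat.of Ω) ⟶ X),
      IsIso ((EtCoh.stalk (z ≫ f)).map a)) : IsIso ((EtCoh.stalk ξ).map a) := by
  obtain ⟨Ω, _, _, z, e, he⟩ := exists_lift_extension f ξ hξ
  have := h Ω ‹_› ‹_› z
  rw [← he] at this
  exact (NatIso.isIso_map_iff (stalkExtIso AddCommGrpCat.{u + 1} ξ e) a).2 this

section

variable {U X : Scheme.{u}} (j : U ⟶ X) [AlgebraicGeometry.Etale j] [EtShriek.JCont j]
  {Ω : Type u} [Field Ω] [IsSepClosed Ω]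

theorem restrStalkMap_naturality (z : Spec (CommRingCat.of Ω) ⟶ U) {G G' : EtCoh.Ab X} (a : G ⟶ G') :
    (EtCoh.stalk z).map ((EtShriek.restrAlong j).map a) ≫ restrStalkMap j z G' =
      restrStalkMap j z G ≫ (EtCoh.stalk (z ≫ j)).map a := by
  refine (Scheme.pointSmallEtale z).presheafFiber_hom_ext fun W w => ?_
  refine (Category.assoc _ _ _).symm.trans ((congrArg (· ≫ _)
    ((Scheme.pointSmallEtale z).toPresheafFiber_naturality _ W w)).trans ((Category.assoc _ _ _).trans ?_))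
  refine (congrArg (_ ≫ ·) (restrStalkMap_germ j z G' W w)).trans ?_
  refine Eq.trans ?_ ((congrArg (· ≫ _) (restrStalkMap_germ j z G W w)).symm.trans (Category.assoc _ _ _))
  exact ((Scheme.pointSmallEtale (z ≫ j)).toPresheafFiber_naturality a.hom _ _).symm

theorem isIso_stalk_of_restr [Mono j] (z : Spec (CommRingCat.of Ω) ⟶ U) {G G' : EtCoh.Ab X} (a : G ⟶ G')
    (h : IsIso ((EtCoh.stalk z).map ((EtShriek.restrAlong j).map a))) :
    IsIso ((EtCoh.stalk (z ≫ j)).map a) := by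
  have h1 : IsIso (restrStalkMap j z G) :=
    (ConcreteCategory.isIso_iff_bijective _).2 (restrStalkMap_bijective j z G)
  have h2 : IsIso (restrStalkMap j z G') :=
    (ConcreteCategory.isIso_iff_bijective _).2 (restrStalkMap_bijective j z G')
  have : IsIso (restrStalkMap j z G ≫ (EtCoh.stalk (z ≫ j)).map a) := by
    rw [← restrStalkMap_naturality j z a]
    exact @IsIso.comp_isIso _ _ _ _ _ _ _ h h2
  exact @IsIso.of_isIso_comp_left _ _ _ _ _ (restrStalkMap j z G) _ h1 this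

theorem isZero_stalk_extZero (ξ : Spec (CommRingCat.of Ω) ⟶ X)
    (hξ : ξ.base (default : Spec (CommRingCat.of Ω)) ∉ Set.range j.base) (F : EtCoh.Ab U) :
    IsZero ((EtCoh.stalk ξ).obj ((EtShriek.extZero j).obj F)) := by
  have : IsEmpty (PtsOver j ξ) := ⟨fun z => hξ (by
    rw [← z.2]
    exact ⟨_, (Scheme.Hom.comp_apply _ _ _).symm⟩)⟩
  rw [IsZero.iff_id_eq_zero]
  exact Cofan.IsColimit.hom_ext (extZeroCofanIsColimit j ξ F) _ _ (fun z => isEmptyElim z)

theorem isIso_counit_stalk [Mono j] (z : Spec (CommRingCat.of Ω) ⟶ U) (G : EtCoh.Ab X) :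
    IsIso ((EtCoh.stalk (z ≫ j)).map ((EtShriek.extZeroAdj j).counit.app G)) := by
  refine isIso_stalk_of_restr j z _ ?_
  have h := isIso_stalk_unit j (A := AddCommGrpCat.{u + 1}) ((EtShriek.restrAlong j).obj G) z
  have e : (EtCoh.stalk z).map ((EtShriek.extZeroAdj j).unit.app ((EtShriek.restrAlong j).obj G)) ≫
      (EtCoh.stalk z).map ((EtShriek.restrAlong j).map ((EtShriek.extZeroAdj j).counit.app G)) = 𝟙 _ := by
    refine ((EtCoh.stalk z).map_comp _ _).symm.trans ?_
    refine (congrArg (EtCoh.stalk z).map ((EtShriek.extZeroAdj j).right_triangle_components G)).trans ?_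
    exact (EtCoh.stalk z).map_id _
  exact @IsIso.of_isIso_fac_left _ _ _ _ _ _ _ _ h inferInstance e

end

/-- a sheaf vanishing outside an open is extended by zero from it -/
theorem extZero_iso_of_outside {U X : Scheme.{u}} (j : U ⟶ X) [IsOpenImmersion j]
    [AlgebraicGeometry.Etale j] [EtShriek.JCont j] (G : EtCoh.Ab X)
    (hzero : ∀ (Ω : Type u) [Field Ω] [IsSepClosed Ω] (ξ : Spec (CommRingCat.of Ω) ⟶ X),
      ξ.base (default : Spec (CommRingCat.of Ω)) ∉ Set.range j.base → IsZero ((EtCoh.stalk ξ).obj G)) :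
    IsIso ((EtShriek.extZeroAdj j).counit.app G) := by
  refine (isIso_iff_stalks _).2 fun Ω _ _ ξ => ?_
  by_cases hξ : ξ.base (default : Spec (CommRingCat.of Ω)) ∈ Set.range j.base
  · exact isIso_stalk_of_lift j _ ξ hξ fun k _ _ z => isIso_counit_stalk j z G
  · exact (isZero_stalk_extZero j ξ hξ _).isIso (hzero Ω ξ hξ) _

theorem isIso_stalk_unit_closed {Z X : Scheme.{u}} (i : Z ⟶ X) [IsClosedImmersion i] [EtCoh.BCCont i] (F : EtCoh.Ab X)
    {Ω : Type u} [Field Ω] [IsSepClosed Ω] (ξ : Spec (CommRingCat.of Ω) ⟶ X)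
    (hξ : ξ.base (default : Spec (CommRingCat.of Ω)) ∈ Set.range i.base) :
    IsIso ((EtCoh.stalk ξ).map ((EtCoh.pullPushAdj i).unit.app F)) := by
  refine isIso_stalk_of_lift i _ ξ hξ fun k _ _ z => ?_
  refine (NatIso.isIso_map_iff (sheafFiberPullIso (A := AddCommGrpCat.{u + 1}) i z) _).1 ?_
  have := counit_isIso (A := AddCommGrpCat.{u + 1}) i (liftable_of_isClosedImmersion i) ((EtCoh.pull i).obj F)
  have : IsIso ((EtCoh.pull i).map ((EtCoh.pullPushAdj i).unit.app F)) :=
    @IsIso.of_isIso_fac_right _ _ _ _ _ _ _ _ this (IsIso.id _) ((EtCoh.pullPushAdj i).left_triangle_components F)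
  exact inferInstanceAs (IsIso ((EtCoh.stalk z).map ((EtCoh.pull i).map ((EtCoh.pullPushAdj i).unit.app F))))

theorem isZero_stalk_push_closed {Z X : Scheme.{u}} (i : Z ⟶ X) [IsClosedImmersion i] [EtCoh.BCCont i] (F : EtCoh.Ab Z)
    {Ω : Type u} [Field Ω] [IsSepClosed Ω] (ξ : Spec (CommRingCat.of Ω) ⟶ X)
    (hξ : ξ.base (default : Spec (CommRingCat.of Ω)) ∉ Set.range i.base) :
    IsZero ((EtCoh.stalk ξ).obj ((EtCoh.push i).obj F)) := by
  obtain ⟨h⟩ := nonempty_unique_stalk (A := AddCommGrpCat.{u + 1}) i.isClosedEmbedding.isClosed_range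
    ((EtCoh.push i).obj F) (fun V hV => push_unique_of_disjoint i F V hV) ξ hξ
  exact @AddCommGrpCat.isZero_of_subsingleton _ ⟨fun a b => (h.eq_default a).trans (h.eq_default b).symm⟩

/-- `0 → j_! j^{-1} F → F → i_* i^{-1} F → 0` -/
theorem recollement_shortExact {Z X U : Scheme.{u}} (i : Z ⟶ X) [IsClosedImmersion i] [EtCoh.BCCont i]
    (j : U ⟶ X) [IsOpenImmersion j] [AlgebraicGeometry.Etale j] [EtShriek.JCont j]
    (hU : Set.range j.base = (Set.range i.base)ᶜ) (F : EtCoh.Ab X) :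
    ∃ w : (EtShriek.extZeroAdj j).counit.app F ≫ (EtCoh.pullPushAdj i).unit.app F = 0,
      (ShortComplex.mk _ _ w).ShortExact := by
  set c := (EtShriek.extZeroAdj j).counit.app F
  set η := (EtCoh.pullPushAdj i).unit.app F
  have hin : ∀ {Ω : Type u} [Field Ω] [IsSepClosed Ω] (ξ : Spec (CommRingCat.of Ω) ⟶ X),
      ξ.base (default : Spec (CommRingCat.of Ω)) ∉ Set.range i.base →
      IsIso ((EtCoh.stalk ξ).map c) ∧ IsZero ((EtCoh.stalk ξ).obj ((EtCoh.push i).obj ((EtCoh.pull i).obj F))) :=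
    fun ξ h => ⟨isIso_stalk_of_lift j _ ξ (by rw [hU]; exact h) fun k _ _ z => isIso_counit_stalk j z F,
      isZero_stalk_push_closed i _ ξ h⟩
  have hout : ∀ {Ω : Type u} [Field Ω] [IsSepClosed Ω] (ξ : Spec (CommRingCat.of Ω) ⟶ X),
      ξ.base (default : Spec (CommRingCat.of Ω)) ∈ Set.range i.base →
      IsZero ((EtCoh.stalk ξ).obj ((EtShriek.extZero j).obj ((EtShriek.restrAlong j).obj F))) ∧
      IsIso ((EtCoh.stalk ξ).map η) :=
    fun ξ h => ⟨isZero_stalk_extZero j ξ (by rw [hU]; exact fun h' => h' h) _, isIso_stalk_unit_closed i F ξ h⟩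
  have w : c ≫ η = 0 := by
    refine eq_of_stalks _ _ fun Ω _ _ ξ => ?_
    by_cases h : ξ.base (default : Spec (CommRingCat.of Ω)) ∈ Set.range i.base
    · exact (hout ξ h).1.eq_of_src _ _
    · exact (hin ξ h).2.eq_of_tgt _ _
  refine ⟨w, ShortComplex.ShortExact.mk' ?_ ?_ ?_⟩
  · refine (exact_iff_stalks _).2 fun Ω _ _ ξ => ?_
    by_cases h : ξ.base (default : Spec (CommRingCat.of Ω)) ∈ Set.range i.base
    · obtain ⟨h0, h1⟩ := hout ξ h
      exact (ShortComplex.exact_iff_mono _ (h0.eq_of_src _ _)).2 (@IsIso.mono_of_iso _ _ _ _ _ h1)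
    · obtain ⟨h1, h0⟩ := hin ξ h
      exact (ShortComplex.exact_iff_epi _ (h0.eq_of_tgt _ _)).2 (@IsIso.epi_of_iso _ _ _ _ _ h1)
  · refine (mono_iff_stalks _).2 fun Ω _ _ ξ => ?_
    by_cases h : ξ.base (default : Spec (CommRingCat.of Ω)) ∈ Set.range i.base
    · exact fun a b _ => @Subsingleton.elim _ (AddCommGrpCat.subsingleton_of_isZero (hout ξ h).1) a b
    · exact ((ConcreteCategory.isIso_iff_bijective _).1 (hin ξ h).1).1
  · refine (epi_iff_stalks _).2 fun Ω _ _ ξ => ?_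
    by_cases h : ξ.base (default : Spec (CommRingCat.of Ω)) ∈ Set.range i.base
    · exact ((ConcreteCategory.isIso_iff_bijective _).1 (hout ξ h).2).2
    · exact fun b => ⟨0, @Subsingleton.elim _ (AddCommGrpCat.subsingleton_of_isZero (hin ξ h).2) _ b⟩

end Groth.Agent.EtFound
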