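import Groth.Agent.EtFound.PullSecAt
import Groth.Agent.EtFound.PullExtAbs
import Groth.Agent.EtFound.PullStalk
import Groth.Agent.EtFound.ExtZeroExact
import Groth.Agent.EtFound.TorsionCoh
import Groth.Agent.EtMVLib.OpenSeq

/-! comparison maps `Ext(ℤ[W], F) → H(Z, h⁻¹F)` -/

universe u

open CategoryTheory CategoryTheory.Limits AlgebraicGeometry Opposite CategoryTheory.Abelian

namespace Groth.Agent.EtFound

open Groth.Agent.EtMVLib

set_option backward.isDefEq.respectTransparency.types false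
set_option maxHeartbeats 400000

variable {X Z Z' : Scheme.{u}}

/-- restriction along an étale morphism is inverse image -/
noncomputable def restrPullIso (j : Z ⟶ X) [AlgebraicGeometry.Etale j] :
    haveI := jCont j
    EtShriek.restrAlong j ≅ EtCoh.pull j :=
  haveI := jCont j
  let a : EtShriek.compEtale j ⊣ EtCoh.bc j :=
    MorphismProperty.Over.mapPullbackAdj EtCoh.etaleMP ⊤ j
      (inferInstanceAs (AlgebraicGeometry.Etale j)) trivial
  Adjunction.leftAdjointUniq
    (a.sheafPushforwardContinuous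
      (E := AddCommGrpCat.{u + 1}) Z.smallEtaleTopology X.smallEtaleTopology)
    (EtCoh.pullPushAdj j)

theorem atPt_bijective (h : Z ⟶ X) [AlgebraicGeometry.Etale h] (W : X.Etale) (ρ : Z ⟶ W.left) [IsIso ρ]
    (e : ρ ≫ W.hom = h) (F : EtCoh.Ab X) : Function.Bijective (atPt h W ρ e F) := by
  haveI := jCont h
  let a : EtShriek.compEtale h ⊣ EtCoh.bc h :=
    MorphismProperty.Over.mapPullbackAdj EtCoh.etaleMP ⊤ h
      (inferInstanceAs (AlgebraicGeometry.Etale h)) trivial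
  let a' := a.sheafPushforwardContinuous (E := AddCommGrpCat.{u + 1}) Z.smallEtaleTopology X.smallEtaleTopology
  let R := (restrPullIso h).hom.app F
  have hu : ((a'.unit.app F).hom.app (op W)) ≫ R.hom.app (op ((EtCoh.bc h).obj W)) =
      ((EtCoh.pullPushAdj h).unit.app F).hom.app (op W) :=
    congrArg (fun m : F ⟶ _ => m.hom.app (op W)) (Adjunction.unit_leftAdjointUniq_hom_app a' (EtCoh.pullPushAdj h) F)
  let m : (EtShriek.compEtale h).obj (EtCoh.top Z) ⟶ W :=
    (EtShriek.compEtale h).map (ptSec h W ρ e) ≫ a.counit.app W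
  have hml : m.left = ρ := by
    change pullback.lift ρ (𝟙 Z) _ ≫ (a.counit.app W).left = ρ
    refine Eq.trans ?_ (pullback.lift_fst ρ (𝟙 Z) (e.trans (Category.id_comp h).symm))
    congr 1
  haveI : IsIso m.left := by rw [hml]; exact ‹IsIso ρ›
  let mi : W ⟶ (EtShriek.compEtale h).obj (EtCoh.top Z) :=
    MorphismProperty.Over.homMk (inv m.left) (by rw [IsIso.inv_comp_eq]; exact (MorphismProperty.Over.w m).symm)
  haveI : IsIso m :=
    ⟨mi, MorphismProperty.Over.Hom.ext (IsIso.hom_inv_id m.left), MorphismProperty.Over.Hom.ext (IsIso.inv_hom_id m.left)⟩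
  have hfac : atPt h W ρ e F = F.obj.map m.op ≫ R.hom.app (op (EtCoh.top Z)) := by
    refine (congrArg (· ≫ _) hu.symm).trans ?_
    refine (Category.assoc _ _ _).trans ((congrArg (_ ≫ ·) (R.hom.naturality (ptSec h W ρ e).op).symm).trans ?_)
    refine (Category.assoc _ _ _).symm.trans (congrArg (· ≫ _) ?_)
    change F.obj.map (a.counit.app W).op ≫ F.obj.map ((EtShriek.compEtale h).map (ptSec h W ρ e)).op = _
    rw [← Functor.map_comp, ← op_comp]
  haveI : IsIso (R.hom.app (op (EtCoh.top Z))) :=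
    ((sheafToPresheaf _ _).mapIso ((restrPullIso h).app F)).app (op (EtCoh.top Z)) |>.isIso_hom
  haveI : IsIso (F.obj.map m.op) := inferInstance
  rw [hfac]
  exact (ConcreteCategory.bijective_of_isIso (R.hom.app (op (EtCoh.top Z)))).comp
    (ConcreteCategory.bijective_of_isIso (F.obj.map m.op))

/-- the value of a morphism out of the constant sheaf `ℤ` on its generator -/
noncomputable def constVal {G : EtCoh.Ab Z} (ψ : EtCoh.const Z ℤ ⟶ G) : (EtCore.gsec Z).obj G :=
  (EtCore.constAdj Z).homEquiv _ _ ψ (⟨1⟩ : ULift.{u + 1} ℤ)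

theorem constVal_comp {G G' : EtCoh.Ab Z} (ψ : EtCoh.const Z ℤ ⟶ G) (a : G ⟶ G') :
    constVal (ψ ≫ a) = (EtCore.gsec Z).map a (constVal ψ) := by
  unfold constVal
  rw [Adjunction.homEquiv_naturality_right]
  rfl

theorem constVal_eq {G : EtCoh.Ab Z} (ψ : EtCoh.const Z ℤ ⟶ G) :
    constVal ψ = (EtCore.gsec Z).map ψ ((EtCore.constAdj Z).unit.app _ (⟨1⟩ : ULift.{u + 1} ℤ)) :=
  ConcreteCategory.congr_hom ((EtCore.constAdj Z).homEquiv_unit _ _ ψ) (⟨1⟩ : ULift.{u + 1} ℤ)

theorem constVal_bijective (G : EtCoh.Ab Z) : Function.Bijective (constVal (G := G)) := by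
  refine ⟨fun ψ ψ' h => ((EtCore.constAdj Z).homEquiv _ _).injective (AddCommGrpCat.ext fun m => ?_), fun a => ?_⟩
  · have hm : m = m.down • (⟨1⟩ : ULift.{u + 1} ℤ) := ULift.ext _ _ (by simp)
    rw [hm, map_zsmul, map_zsmul]
    exact congrArg (m.down • ·) h
  · refine ⟨((EtCore.constAdj Z).homEquiv _ _).symm (AddCommGrpCat.ofHom
      ((zmultiplesHom _ a).comp (AddEquiv.ulift : ULift.{u + 1} ℤ ≃+ ℤ).toAddMonoidHom)), ?_⟩
    unfold constVal
    rw [Equiv.apply_symm_apply]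
    exact one_zsmul a

theorem constVal_pullConst (k : Z' ⟶ Z) {G : EtCoh.Ab Z} (ψ : EtCoh.const Z ℤ ⟶ G) :
    constVal ((EtCore.pullConst k ℤ).inv ≫ (EtCoh.pull k).map ψ) = (pullSec k).app G (constVal ψ) := by
  have h1 : constVal (EtCore.pullConst k ℤ).inv =
      (pullSec k).app (EtCoh.const Z ℤ)
        ((EtCore.constAdj Z).unit.app (AddCommGrpCat.of (ULift.{u + 1} ℤ)) (⟨1⟩ : ULift.{u + 1} ℤ)) := by
    unfold constVal
    rw [homEquiv_pullConst_inv]
    rfl
  refine (constVal_comp _ _).trans ?_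
  rw [h1]
  have h2 := ConcreteCategory.congr_hom ((pullSec k).naturality ψ) ((EtCore.constAdj Z).unit.app _ (⟨1⟩ : ULift.{u + 1} ℤ))
  rw [constVal_eq ψ]
  exact h2.symm

/-- a morphism `ℤ ⟶ G` with prescribed value -/
noncomputable def ofVal {G : EtCoh.Ab Z} (a : (EtCore.gsec Z).obj G) : EtCoh.const Z ℤ ⟶ G :=
  ((constVal_bijective G).2 a).choose

theorem constVal_ofVal {G : EtCoh.Ab Z} (a : (EtCore.gsec Z).obj G) : constVal (ofVal a) = a :=
  ((constVal_bijective G).2 a).choose_spec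

theorem freeVal_comp {W : X.Etale} {G G' : EtCoh.Ab X} (ψ : freeOn W ⟶ G) (a : G ⟶ G') :
    freeVal (ψ ≫ a) = a.hom.app (op W) (freeVal ψ) := rfl

/-- the generator of `h⁻¹ ℤ[W]` at a point -/
noncomputable def ptGen (h : Z ⟶ X) (W : X.Etale) (ρ : Z ⟶ W.left) (e : ρ ≫ W.hom = h) :
    EtCoh.const Z ℤ ⟶ (EtCoh.pull h).obj (freeOn W) :=
  ofVal (atPt h W ρ e _ (freeVal (𝟙 (freeOn W))))

/-- `Ext(ℤ[W], F) ⟶ H(Z, h⁻¹F)` -/
noncomputable def ptMap (h : Z ⟶ X) (W : X.Etale) (ρ : Z ⟶ W.left) (e : ρ ≫ W.hom = h)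
    [PreservesFiniteLimits (EtCoh.pull h)] (F : EtCoh.Ab X) (n : ℕ) :
    Ext.{u + 1} (freeOn W) F n →+ EtCoh.H Z ((EtCoh.pull h).obj F) n :=
  hp (EtCoh.pull h) (ptGen h W ρ e) F n

theorem constVal_ptGen_map (h : Z ⟶ X) (W : X.Etale) (ρ : Z ⟶ W.left) (e : ρ ≫ W.hom = h)
    {F : EtCoh.Ab X} (f : freeOn W ⟶ F) :
    constVal (ptGen h W ρ e ≫ (EtCoh.pull h).map f) = atPt h W ρ e F (freeVal f) := by
  rw [constVal_comp, ptGen, constVal_ofVal, ← atPt_naturality_apply]
  refine congrArg (atPt h W ρ e F) ?_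
  exact (freeVal_comp _ _).symm.trans (congrArg freeVal (Category.id_comp f))

theorem freeVal_bijective (W : X.Etale) (F : EtCoh.Ab X) :
    Function.Bijective (freeVal : (freeOn W ⟶ F) → F.obj.obj (op W)) :=
  ⟨fun _ _ h => free_ext h, fun a => exists_free_hom a⟩

theorem preservesMono_extZero_etale (j : Z ⟶ X) [AlgebraicGeometry.Etale j] :
    haveI := jCont j
    (EtShriek.extZero j).PreservesMonomorphisms := by
  haveI := jCont j
  haveI := extZero_preservesFiniteLimits j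
  infer_instance

/-- comparisons along étale morphisms from a generator are bijective -/
theorem hp_bijective_etale (j : Z ⟶ X) [AlgebraicGeometry.Etale j] [PreservesFiniteLimits (EtCoh.pull j)]
    {P : EtCoh.Ab X} (c : EtCoh.const Z ℤ ⟶ (EtCoh.pull j).obj P)
    (hc : ∀ F : EtCoh.Ab X, Function.Bijective (fun f : P ⟶ F => constVal (c ≫ (EtCoh.pull j).map f)))
    (F : EtCoh.Ab X) (n : ℕ) : Function.Bijective (hp (EtCoh.pull j) c F n) := by
  haveI := jCont j
  haveI := preservesMono_extZero_etale j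
  exact hp_bijective (EtCoh.pull j) c ((EtShriek.extZeroAdj j).ofNatIsoRight (restrPullIso j))
    (fun F => (Function.Bijective.of_comp_iff' (constVal_bijective _) _).1 (hc F)) F n

theorem ptMap_bijective (h : Z ⟶ X) [AlgebraicGeometry.Etale h] (W : X.Etale) (ρ : Z ⟶ W.left) [IsIso ρ]
    (e : ρ ≫ W.hom = h) [PreservesFiniteLimits (EtCoh.pull h)] (F : EtCoh.Ab X) (n : ℕ) :
    Function.Bijective (ptMap h W ρ e F n) :=
  hp_bijective_etale h _ (fun F => by
    simp only [constVal_ptGen_map]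
    exact (atPt_bijective h W ρ e F).comp (freeVal_bijective W F)) F n

variable (k : Z' ⟶ Z) (h : Z ⟶ X) (w : Z' ⟶ X) (hw : k ≫ h = w)

/-- compatibility with pullback of cohomology -/
theorem ptMap_Hpull [PreservesFiniteLimits (EtCoh.pull k)] [PreservesFiniteLimits (EtCoh.pull h)]
    [PreservesFiniteLimits (EtCoh.pull w)] (W : X.Etale) (ρ : Z ⟶ W.left) (e : ρ ≫ W.hom = h)
    (ρ' : Z' ⟶ W.left) (hρ : ρ' = k ≫ ρ) (e' : ρ' ≫ W.hom = w) (F : EtCoh.Ab X) (n : ℕ)
    (x : Ext.{u + 1} (freeOn W) F n) :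
    ptMap w W ρ' e' F n x = (EtCore.Hpull k ((EtCoh.pull h).obj F) n (ptMap h W ρ e F n x)).comp
      (Ext.mk₀ ((θPull k h w hw).hom.app F)) (add_zero n) := by
  refine hp_trans (EtCoh.pull h) (ptGen h W ρ e) (EtCoh.pull w) (EtCoh.pull k) (EtCore.pullConst k ℤ).inv
    (θPull k h w hw) (ptGen w W ρ' e') ((constVal_bijective _).1 ?_) F n x
  rw [← Category.assoc, constVal_comp, constVal_pullConst, ptGen, constVal_ofVal, ptGen, constVal_ofVal]
  exact ConcreteCategory.congr_hom (atPt_pullSec k h w hw W ρ e ρ' hρ e' (freeOn W)) (freeVal (𝟙 (freeOn W)))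

/-- the generator of `k⁻¹ h⁻¹ ℤ[W]` at a point -/
noncomputable def bcGen (W : X.Etale) (σ : Z' ⟶ ((EtCoh.bc h).obj W).left)
    (hσ : σ ≫ ((EtCoh.bc h).obj W).hom = k) :
    EtCoh.const Z' ℤ ⟶ (EtCoh.pull k).obj ((EtCoh.pull h).obj (freeOn W)) :=
  ofVal (atPt k ((EtCoh.bc h).obj W) σ hσ _
    (((EtCoh.pullPushAdj h).unit.app (freeOn W)).hom.app (op W) (freeVal (𝟙 (freeOn W)))))

/-- compatibility with inverse image of Ext groups -/
theorem ptMap_bc [PreservesFiniteLimits (EtCoh.pull k)] [PreservesFiniteLimits (EtCoh.pull h)]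
    [PreservesFiniteLimits (EtCoh.pull w)] (W : X.Etale) (σ : Z' ⟶ ((EtCoh.bc h).obj W).left)
    (hσ : σ ≫ ((EtCoh.bc h).obj W).hom = k) (ρ' : Z' ⟶ W.left) (hρ : ρ' = σ ≫ pullback.fst W.hom h)
    (e' : ρ' ≫ W.hom = w) (F : EtCoh.Ab X) (n : ℕ) (x : Ext.{u + 1} (freeOn W) F n) :
    ptMap w W ρ' e' F n x = (hp (EtCoh.pull k) (bcGen k h W σ hσ) ((EtCoh.pull h).obj F) n
      (x.mapExactFunctor (EtCoh.pull h))).comp (Ext.mk₀ ((θPull k h w hw).hom.app F)) (add_zero n) := by
  have h1 : hp (EtCoh.pull h) (𝟙 ((EtCoh.pull h).obj (freeOn W))) F n x = x.mapExactFunctor (EtCoh.pull h) := by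
    rw [hp_apply, Ext.mk₀_id_comp]
  rw [← h1]
  refine hp_trans (EtCoh.pull h) (𝟙 ((EtCoh.pull h).obj (freeOn W))) (EtCoh.pull w) (EtCoh.pull k) (bcGen k h W σ hσ)
    (θPull k h w hw) (ptGen w W ρ' e') ((constVal_bijective _).1 ?_) F n x
  rw [CategoryTheory.Functor.map_id, Category.id_comp, constVal_comp, bcGen, constVal_ofVal, ptGen, constVal_ofVal]
  exact ConcreteCategory.congr_hom (atPt_comp k h w hw W σ hσ ρ' hρ e' (freeOn W)) (freeVal (𝟙 (freeOn W)))

/-- the comparison out of `h⁻¹ ℤ[W]` is bijective at the tautological point -/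
theorem hp_bcGen_bijective [AlgebraicGeometry.Etale k] [PreservesFiniteLimits (EtCoh.pull k)] (W : X.Etale)
    (σ : Z' ⟶ ((EtCoh.bc h).obj W).left) [IsIso σ] (hσ : σ ≫ ((EtCoh.bc h).obj W).hom = k)
    (G : EtCoh.Ab Z) (n : ℕ) : Function.Bijective (hp (EtCoh.pull k) (bcGen k h W σ hσ) G n) := by
  refine hp_bijective_etale k _ (fun G => ?_) G n
  have : (fun f : (EtCoh.pull h).obj (freeOn W) ⟶ G => constVal (bcGen k h W σ hσ ≫ (EtCoh.pull k).map f)) =
      atPt k ((EtCoh.bc h).obj W) σ hσ G ∘ (fun φ : freeOn W ⟶ (EtCoh.push h).obj G => freeVal (W := W) (G := (EtCoh.push h).obj G) φ) ∘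
        (EtCoh.pullPushAdj h).homEquiv (freeOn W) G := funext fun f => by
    rw [constVal_comp, bcGen, constVal_ofVal, ← atPt_naturality_apply]
    refine congrArg (atPt k ((EtCoh.bc h).obj W) σ hσ G) ?_
    show _ = freeVal ((EtCoh.pullPushAdj h).homEquiv (freeOn W) G f)
    rw [Adjunction.homEquiv_unit]
    refine Eq.trans ?_ (freeVal_comp _ _).symm
    refine congrArg (((EtCoh.push h).map f).hom.app (op W)) ?_
    exact (freeVal_comp _ _).symm.trans (congrArg freeVal (Category.id_comp _))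
  rw [this]
  exact (atPt_bijective k _ σ hσ G).comp
    ((freeVal_bijective W ((EtCoh.push h).obj G)).comp ((EtCoh.pullPushAdj h).homEquiv (freeOn W) G).bijective)

/-- pullback of cohomology is functorial -/
theorem Hpull_comp [PreservesFiniteLimits (EtCoh.pull k)] [PreservesFiniteLimits (EtCoh.pull h)]
    [PreservesFiniteLimits (EtCoh.pull w)] (G : EtCoh.Ab X) (n : ℕ) (x : EtCoh.H X G n) :
    EtCore.Hpull w G n x = (EtCore.Hpull k ((EtCoh.pull h).obj G) n (EtCore.Hpull h G n x)).comp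
      (Ext.mk₀ ((θPull k h w hw).hom.app G)) (add_zero n) :=
  hp_trans (EtCoh.pull h) (EtCore.pullConst h ℤ).inv (EtCoh.pull w) (EtCoh.pull k) (EtCore.pullConst k ℤ).inv
    (θPull k h w hw) (EtCore.pullConst w ℤ).inv (pullConst_comp h w k hw) G n x

/-- pullback of cohomology along an isomorphism is bijective -/
theorem Hpull_bijective_of_isIso [IsIso k] [PreservesFiniteLimits (EtCoh.pull k)] (G : EtCoh.Ab Z) (n : ℕ) :
    Function.Bijective (EtCore.Hpull k G n) := by
  refine hp_bijective_etale k (EtCore.pullConst k ℤ).inv (fun G => ?_) G n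
  simp only [constVal_pullConst]
  refine Function.Bijective.comp ?_ (constVal_bijective G)
  have e : k ≫ (EtCoh.top Z).hom = k := Category.comp_id k
  have : (pullSec k).app G = atPt k (EtCoh.top Z) k e G := by
    refine congrArg (_ ≫ ·) (congrArg (fun m => ((EtCoh.pull k).obj G).obj.map (Quiver.Hom.op m)) ?_)
    exact (IsTerminal.isTerminalObj (EtCoh.bc k) _ (EtCore.topIsTerminal Z)).hom_ext _ _
  rw [this]
  exact @atPt_bijective Z Z' k inferInstance (EtCoh.top Z) k ‹IsIso k› e G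

end Groth.Agent.EtFound
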