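import Groth.Agent.EtMVLib.ExtTools
import Groth.Agent.SiteBase.Horseshoe

/-! the edge map `Ext(P, R G) → Ext(L P, G)` and the vanishing of higher derived functors of a right adjoint -/

universe w v u

open CategoryTheory CategoryTheory.Limits CategoryTheory.Abelian

namespace Groth.Agent.EtFound

set_option backward.isDefEq.respectTransparency.types false
set_option maxHeartbeats 400000

open Groth.Agent.EtMVLib

section LES

variable {A B : Type*} [Category* A] [Category* B] [Abelian A] [Abelian B] [EnoughInjectives A]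
  (R : A ⥤ B) [R.Additive] {S : ShortComplex A}

theorem isZero_rightDerived_succ_left (hS : S.ShortExact) [Injective S.X₂] (q : ℕ)
    (h : IsZero ((R.rightDerived q).obj S.X₃)) : IsZero ((R.rightDerived (q + 1)).obj S.X₁) := by
  have hex := (SESResLib.derivedLES R).exact₁ S hS q (q + 1) rfl
  exact hex.isZero_of_both_zeros (h.eq_of_src _ _) ((R.isZero_rightDerived_obj_injective_succ q S.X₂).eq_of_tgt _ _)

theorem isZero_rightDerived_right (hS : S.ShortExact) [Injective S.X₂] (q : ℕ)
    (h : IsZero ((R.rightDerived (q + 2)).obj S.X₁)) : IsZero ((R.rightDerived (q + 1)).obj S.X₃) := by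
  have hex := (SESResLib.derivedLES R).exact₃ S hS (q + 1) (q + 2) rfl
  exact hex.isZero_of_both_zeros ((R.isZero_rightDerived_obj_injective_succ q S.X₂).eq_of_src _ _) (h.eq_of_tgt _ _)

variable [PreservesFiniteLimits R]

theorem epi_map_g_iff (hS : S.ShortExact) [Injective S.X₂] :
    Epi (R.map S.g) ↔ IsZero ((R.rightDerived 1).obj S.X₁) := by
  let Δ := SESResLib.derivedLES R
  have n := (R.rightDerivedZeroIsoSelf).hom.naturality S.g
  have hiff : Epi ((R.rightDerived 0).map S.g) ↔ Epi (R.map S.g) := by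
    constructor <;> intro h
    · haveI : Epi (R.rightDerivedZeroIsoSelf.hom.app S.X₂ ≫ R.map S.g) := by
        rw [← n]; infer_instance
      exact epi_of_epi (R.rightDerivedZeroIsoSelf.hom.app S.X₂) _
    · have : (R.rightDerived 0).map S.g =
          R.rightDerivedZeroIsoSelf.hom.app S.X₂ ≫ R.map S.g ≫ R.rightDerivedZeroIsoSelf.inv.app S.X₃ := by
        rw [← Category.assoc, ← n, Category.assoc, Iso.hom_inv_id_app, Category.comp_id]
      rw [this]
      infer_instance
  rw [← hiff]
  have h2 : IsZero ((R.rightDerived 1).obj S.X₂) := R.isZero_rightDerived_obj_injective_succ 0 S.X₂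
  constructor
  · intro h
    have h0 : Δ.δ S hS 0 1 rfl = 0 := by
      rw [← cancel_epi ((R.rightDerived 0).map S.g), Δ.comp_δ S hS 0 1 rfl, comp_zero]
    exact (Δ.exact₁ S hS 0 1 rfl).isZero_of_both_zeros h0 (h2.eq_of_tgt _ _)
  · intro h
    exact (Δ.exact₃ S hS 0 1 rfl).epi_f (h.eq_of_tgt _ _)

theorem map_shortExact_of_isZero (hS : S.ShortExact) [Injective S.X₂]
    (h : IsZero ((R.rightDerived 1).obj S.X₁)) : (S.map R).ShortExact := by
  haveI : Epi (R.map S.g) := (epi_map_g_iff R hS).2 h
  haveI := hS.mono_f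
  exact { exact := hS.exact.map_of_mono_of_preservesKernel R inferInstance inferInstance
          mono_f := inferInstanceAs (Mono (R.map S.f))
          epi_g := inferInstanceAs (Epi (R.map S.g)) }

end LES

section Edge

variable {A : Type u} [Category.{v} A] [Abelian A] [HasExt.{w} A] [EnoughInjectives A]
  {B : Type*} [Category* B] [Abelian B] [HasExt.{w} B] [EnoughInjectives B]
  {L : B ⥤ A} {R : A ⥤ B} (adj : L ⊣ R) [L.Additive] [PreservesFiniteLimits L] [PreservesFiniteColimits L]
  [R.Additive]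

omit [EnoughInjectives A] [EnoughInjectives B] [R.Additive] in
theorem mapExt_extClass_natural {T : ShortComplex B} (hT : T.ShortExact) {S : ShortComplex A} (hS : S.ShortExact)
    (φ : T.map L ⟶ S) {P : B} {n : ℕ} (x : Ext P T.X₃ n) :
    ((x.comp hT.extClass (rfl : n + 1 = n + 1)).mapExactFunctor L).comp (Ext.mk₀ φ.τ₁) (add_zero (n + 1)) =
      ((x.mapExactFunctor L).comp (Ext.mk₀ φ.τ₃) (add_zero n)).comp hS.extClass rfl := by
  let x' : Ext (L.obj P) (T.map L).X₃ n := x.mapExactFunctor L
  have h1 : (x.comp hT.extClass (rfl : n + 1 = n + 1)).mapExactFunctor L =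
      x'.comp (hT.map_of_exact L).extClass rfl := by
    rw [Ext.mapExactFunctor_comp, Ext.mapExactFunctor_extClass]
    rfl
  refine (congrArg (fun t : Ext (L.obj P) (T.map L).X₁ (n + 1) => t.comp (Ext.mk₀ φ.τ₁) (add_zero (n + 1))) h1).trans ?_
  rw [Ext.comp_assoc_of_third_deg_zero, ShortComplex.ShortExact.extClass_naturality (hT.map_of_exact L) hS φ,
    ← Ext.comp_assoc_of_second_deg_zero]
  rfl

omit [HasExt.{w} A] [EnoughInjectives A] [EnoughInjectives B] [R.Additive] [L.Additive] [PreservesFiniteLimits L]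
  [PreservesFiniteColimits L] in
theorem comp_g_extClass {T : ShortComplex B} (hT : T.ShortExact) {P : B} {n : ℕ} (w : Ext P T.X₂ n) :
    (w.comp (Ext.mk₀ T.g) (add_zero n)).comp hT.extClass (rfl : n + 1 = n + 1) = 0 := by
  rw [Ext.comp_assoc_of_second_deg_zero, hT.comp_extClass, Ext.comp_zero]

/-- the edge map -/
noncomputable def edge (P : B) (G : A) (n : ℕ) : Ext P (R.obj G) n →+ Ext (L.obj P) G n :=
  AddMonoidHom.mk' (fun x => (x.mapExactFunctor L).comp (Ext.mk₀ (adj.counit.app G)) (add_zero n))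
    fun a b => by rw [Ext.mapExactFunctor_add, Ext.add_comp]

omit [EnoughInjectives A] [EnoughInjectives B] [R.Additive] in
theorem edge_apply {P : B} {G : A} {n : ℕ} (x : Ext P (R.obj G) n) :
    edge adj P G n x = (x.mapExactFunctor L).comp (Ext.mk₀ (adj.counit.app G)) (add_zero n) := rfl

omit [EnoughInjectives A] [EnoughInjectives B] [R.Additive] in
theorem edge_mk₀ {P : B} {G : A} (f : P ⟶ R.obj G) :
    edge adj P G 0 (Ext.mk₀ f) = Ext.mk₀ ((adj.homEquiv _ _).symm f) := by
  rw [edge_apply]
  rw [Ext.mapExactFunctor_mk₀, Ext.mk₀_comp_mk₀, Adjunction.homEquiv_counit]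

omit [EnoughInjectives A] [EnoughInjectives B] [R.Additive] in
theorem edge_zero_bijective (P : B) (G : A) : Function.Bijective (edge adj P G 0) := by
  refine ⟨fun x y h => ?_, fun y => ?_⟩
  · obtain ⟨f, rfl⟩ := (Ext.mk₀_bijective _ _).2 x
    obtain ⟨g, rfl⟩ := (Ext.mk₀_bijective _ _).2 y
    rw [edge_mk₀, edge_mk₀] at h
    rw [(adj.homEquiv _ _).symm.injective ((Ext.mk₀_bijective _ _).1 h)]
  · obtain ⟨g, rfl⟩ := (Ext.mk₀_bijective _ _).2 y
    exact ⟨Ext.mk₀ (adj.homEquiv _ _ g), by rw [edge_mk₀, Equiv.symm_apply_apply]⟩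

omit [EnoughInjectives A] [EnoughInjectives B] in
theorem edge_mapExt {P : B} {G G' : A} (a : G ⟶ G') {n : ℕ} (x : Ext P (R.obj G) n) :
    edge adj P G' n (x.comp (Ext.mk₀ (R.map a)) (add_zero n)) =
      (edge adj P G n x).comp (Ext.mk₀ a) (add_zero n) := by
  rw [edge_apply, edge_apply]
  rw [Ext.mapExactFunctor_comp, Ext.mapExactFunctor_mk₀, Ext.comp_assoc_of_third_deg_zero,
    Ext.comp_assoc_of_third_deg_zero, Ext.mk₀_comp_mk₀, Ext.mk₀_comp_mk₀]
  congr 2
  exact adj.counit.naturality a

omit [EnoughInjectives A] [EnoughInjectives B] in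
theorem edge_extClass {S : ShortComplex A} (hS : S.ShortExact) (hRS : (S.map R).ShortExact) {P : B} {n : ℕ}
    (x : Ext P (R.obj S.X₃) n) :
    edge adj P S.X₁ (n + 1) (x.comp hRS.extClass rfl) = (edge adj P S.X₃ n x).comp hS.extClass rfl := by
  let φ : (S.map R).map L ⟶ S :=
    { τ₁ := adj.counit.app S.X₁
      τ₂ := adj.counit.app S.X₂
      τ₃ := adj.counit.app S.X₃
      comm₁₂ := (adj.counit.naturality S.f).symm
      comm₂₃ := (adj.counit.naturality S.g).symm }
  exact mapExt_extClass_natural hRS hS φ x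

/-- in degree one the edge map is injective -/
theorem edge_one_injective (P : B) (G : A) : Function.Injective (edge adj P G 1) := by
  haveI : R.IsRightAdjoint := adj.isRightAdjoint
  haveI : L.PreservesMonomorphisms := inferInstance
  obtain ⟨S, hS, hI, rfl⟩ : ∃ S : ShortComplex A, S.ShortExact ∧ Injective S.X₂ ∧ S.X₁ = G :=
    ⟨injSES G, injSES_shortExact G, inferInstanceAs (Injective (Injective.under G)), rfl⟩
  haveI := hS.mono_f
  let T : ShortComplex B := ShortComplex.mk (R.map S.f) (cokernel.π (R.map S.f)) (cokernel.condition _)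
  have hT : T.ShortExact :=
    { exact := ShortComplex.exact_of_g_is_cokernel _ (cokernelIsCokernel _)
      mono_f := inferInstanceAs (Mono (R.map S.f)) }
  haveI : Injective T.X₂ := Injective.injective_of_adjoint adj _
  haveI : PreservesFiniteLimits R := by
    haveI : PreservesLimitsOfSize.{0, 0} R := adj.rightAdjoint_preservesLimits
    exact PreservesLimitsOfSize.preservesFiniteLimits _
  let c : T.X₃ ⟶ R.obj S.X₃ := cokernel.desc _ (R.map S.g) (by rw [← R.map_comp, S.zero, R.map_zero])
  haveI : Mono c := by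
    refine Preadditive.mono_of_cancel_zero _ fun {Y} g hg => ?_
    obtain ⟨Y', π, hπ, a, ha⟩ := surjective_up_to_refinements_of_epi (cokernel.π (R.map S.f)) g
    have : a ≫ R.map S.g = 0 := by
      have : a ≫ cokernel.π (R.map S.f) ≫ c = 0 := by rw [← Category.assoc, ← ha, Category.assoc, hg, comp_zero]
      simpa [c] using this
    haveI : Mono (S.map R).f := inferInstanceAs (Mono (R.map S.f))
    obtain ⟨b, hb⟩ : ∃ b : Y' ⟶ R.obj S.X₁, b ≫ R.map S.f = a :=
      ⟨_, (KernelFork.IsLimit.lift' ((hS.exact.map_of_mono_of_preservesKernel R inferInstance inferInstance).fIsKernel) a (by assumption)).2⟩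
    rw [← cancel_epi π, comp_zero, ha]
    rw [← hb, Category.assoc, cokernel.condition, comp_zero]
  let φ : T.map L ⟶ S :=
    { τ₁ := adj.counit.app S.X₁
      τ₂ := adj.counit.app S.X₂
      τ₃ := (adj.homEquiv _ _).symm c
      comm₁₂ := (adj.counit.naturality S.f).symm
      comm₂₃ := by
        change adj.counit.app S.X₂ ≫ S.g = L.map (cokernel.π (R.map S.f)) ≫ (adj.homEquiv _ _).symm c
        rw [← adj.homEquiv_naturality_left_symm, cokernel.π_desc, Adjunction.homEquiv_counit]
        exact (adj.counit.naturality S.g).symm }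
  rw [injective_iff_map_eq_zero]
  intro x hx
  obtain ⟨h₀, rfl⟩ := Ext.covariant_sequence_exact₁ P hT x (Ext.eq_zero_of_injective _) (rfl : 0 + 1 = 1)
  obtain ⟨h, rfl⟩ := (Ext.mk₀_bijective _ _).2 h₀
  have hx' : (Ext.mk₀ ((adj.homEquiv _ _).symm (h ≫ c))).comp hS.extClass (zero_add 1) = 0 := by
    refine Eq.trans ?_ hx
    refine Eq.trans ?_ (mapExt_extClass_natural hT hS φ (Ext.mk₀ h)).symm
    rw [Ext.mapExactFunctor_mk₀, Ext.mk₀_comp_mk₀, adj.homEquiv_naturality_left_symm]
  obtain ⟨w, hw⟩ := Ext.covariant_sequence_exact₃ _ hS _ (rfl : 0 + 1 = 1) hx'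
  obtain ⟨a, rfl⟩ := (Ext.mk₀_bijective _ _).2 w
  rw [Ext.mk₀_comp_mk₀] at hw
  have e := congrArg (adj.homEquiv P S.X₃) ((Ext.mk₀_bijective _ _).1 hw)
  rw [Equiv.apply_symm_apply, Adjunction.homEquiv_naturality_right] at e
  have : h = adj.homEquiv P S.X₂ a ≫ cokernel.π (R.map S.f) := by
    rw [← cancel_mono c, Category.assoc, cokernel.π_desc, e]
  rw [this, ← Ext.mk₀_comp_mk₀]
  exact comp_g_extClass hT (Ext.mk₀ (adj.homEquiv P S.X₂ a))

variable [PreservesFiniteLimits R]

/-- vanishing of higher direct images gives the bijectivity of the edge maps -/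
theorem edge_bijective_of_vanish (n : ℕ) (G : A)
    (h : ∀ q, 1 ≤ q → q ≤ n → IsZero ((R.rightDerived q).obj G)) (P : B) :
    (∀ q, q ≤ n → Function.Bijective (edge adj P G q)) ∧ Function.Injective (edge adj P G (n + 1)) := by
  induction n generalizing G with
  | zero =>
    exact ⟨fun q hq => by obtain rfl := Nat.le_zero.1 hq; exact edge_zero_bijective adj P G,
      edge_one_injective adj P G⟩
  | succ n ih =>
    obtain ⟨S, hS, hI, rfl⟩ : ∃ S : ShortComplex A, S.ShortExact ∧ Injective S.X₂ ∧ S.X₁ = G :=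
      ⟨injSES G, injSES_shortExact G, inferInstanceAs (Injective (Injective.under G)), rfl⟩
    have hRS := map_shortExact_of_isZero R hS (h 1 le_rfl (by omega))
    haveI : Injective (S.map R).X₂ := Injective.injective_of_adjoint adj _
    obtain ⟨ihb, ihi⟩ := ih S.X₃ fun q hq hqn => by
      obtain ⟨q, rfl⟩ := Nat.exists_eq_add_of_le hq
      rw [Nat.add_comm]
      exact isZero_rightDerived_right R hS q (h (q + 2) (by omega) (by omega))
    have key : ∀ q, q ≤ n + 1 → Function.Injective (edge adj P S.X₁ (q + 1)) ∧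
        (q ≤ n → Function.Surjective (edge adj P S.X₁ (q + 1))) := by
      intro q hq
      have hinj : Function.Injective (edge adj P S.X₃ q) := by
        obtain h' | h' := Nat.lt_or_eq_of_le hq
        · exact (ihb q (by omega)).1
        · exact h' ▸ ihi
      refine ⟨(injective_iff_map_eq_zero _).2 fun x hx => ?_, fun hqn y => ?_⟩
      · obtain ⟨z, rfl⟩ := Ext.covariant_sequence_exact₁ P hRS x (Ext.eq_zero_of_injective _) (rfl : q + 1 = q + 1)
        obtain ⟨w, hw⟩ := Ext.covariant_sequence_exact₃ _ hS (edge adj P S.X₃ q z) (rfl : q + 1 = q + 1)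
          ((edge_extClass adj hS hRS z).symm.trans hx)
        obtain ⟨w', rfl⟩ : ∃ w', edge adj P S.X₂ q w' = w := by
          obtain _ | p := q
          · exact (edge_zero_bijective adj P S.X₂).2 w
          · exact ⟨0, by rw [map_zero, Ext.eq_zero_of_injective w]⟩
        rw [← edge_mapExt] at hw
        rw [← hinj hw]
        exact comp_g_extClass hRS w'
      · obtain ⟨z, rfl⟩ := Ext.covariant_sequence_exact₁ _ hS y (Ext.eq_zero_of_injective _) (rfl : q + 1 = q + 1)
        obtain ⟨x, rfl⟩ := (ihb q hqn).2 z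
        exact ⟨x.comp hRS.extClass rfl, edge_extClass adj hS hRS x⟩
    refine ⟨fun q hq => ?_, (key (n + 1) le_rfl).1⟩
    obtain _ | q := q
    · exact edge_zero_bijective adj P _
    · exact ⟨(key q (by omega)).1, (key q (by omega)).2 (by omega)⟩

/-- bijectivity of the edge maps on a family detecting epimorphisms gives vanishing -/
theorem vanish_of_edge_bijective {ι : Type*} (p : ι → B)
    (hp : ∀ {M N : B} (f : M ⟶ N), (∀ i (h : p i ⟶ N), ∃ a, a ≫ f = h) → Epi f) (n : ℕ) (G : A)
    (hG : ∀ i q, q ≤ n → Function.Bijective (edge adj (p i) G q)) :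
    ∀ q, 1 ≤ q → q ≤ n → IsZero ((R.rightDerived q).obj G) := by
  induction n generalizing G with
  | zero => intro q hq hq'; omega
  | succ n ih =>
    obtain ⟨S, hS, hI, rfl⟩ : ∃ S : ShortComplex A, S.ShortExact ∧ Injective S.X₂ ∧ S.X₁ = G :=
      ⟨injSES G, injSES_shortExact G, inferInstanceAs (Injective (Injective.under G)), rfl⟩
    haveI := hS.mono_f
    haveI : Mono (R.map S.f) := inferInstance
    let T : ShortComplex B := ShortComplex.mk (R.map S.f) (cokernel.π (R.map S.f)) (cokernel.condition _)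
    have hT : T.ShortExact := { exact := ShortComplex.exact_of_g_is_cokernel _ (cokernelIsCokernel _) }
    haveI : Injective T.X₂ := Injective.injective_of_adjoint adj _
    let c : T.X₃ ⟶ R.obj S.X₃ := cokernel.desc _ (R.map S.g) (by rw [← R.map_comp, S.zero, R.map_zero])
    haveI : Epi c := by
      refine hp c fun i h => ?_
      let φ : T.map L ⟶ S :=
        { τ₁ := adj.counit.app S.X₁
          τ₂ := adj.counit.app S.X₂
          τ₃ := (adj.homEquiv _ _).symm c
          comm₁₂ := (adj.counit.naturality S.f).symm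
          comm₂₃ := by
            change adj.counit.app S.X₂ ≫ S.g = L.map (cokernel.π (R.map S.f)) ≫ (adj.homEquiv _ _).symm c
            rw [← adj.homEquiv_naturality_left_symm, cokernel.π_desc, Adjunction.homEquiv_counit]
            exact (adj.counit.naturality S.g).symm }
      obtain ⟨x, hx⟩ := (hG i 1 (by omega)).2
        ((Ext.mk₀ ((adj.homEquiv _ _).symm h)).comp hS.extClass (zero_add 1))
      obtain ⟨z, rfl⟩ := Ext.covariant_sequence_exact₁ (p i) hT x (Ext.eq_zero_of_injective _) (rfl : 0 + 1 = 1)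
      obtain ⟨h₀, rfl⟩ := (Ext.mk₀_bijective _ _).2 z
      have hx' : (Ext.mk₀ ((adj.homEquiv _ _).symm (h₀ ≫ c))).comp hS.extClass (zero_add 1) =
          (Ext.mk₀ ((adj.homEquiv _ _).symm h)).comp hS.extClass (zero_add 1) := by
        refine Eq.trans ?_ hx
        refine Eq.trans ?_ (mapExt_extClass_natural hT hS φ (Ext.mk₀ h₀)).symm
        rw [Ext.mapExactFunctor_mk₀, Ext.mk₀_comp_mk₀, adj.homEquiv_naturality_left_symm]
      have h0 : (Ext.mk₀ ((adj.homEquiv _ _).symm h - (adj.homEquiv _ _).symm (h₀ ≫ c))).comp hS.extClass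
          (zero_add 1) = 0 := by
        have e : Ext.mk₀ ((adj.homEquiv _ _).symm h) =
            Ext.mk₀ ((adj.homEquiv _ _).symm h - (adj.homEquiv _ _).symm (h₀ ≫ c)) +
              Ext.mk₀ ((adj.homEquiv _ _).symm (h₀ ≫ c)) := by rw [← Ext.mk₀_add, sub_add_cancel]
        have := hx'.symm
        rw [e, Ext.add_comp] at this
        exact add_eq_right.1 this
      obtain ⟨w, hw⟩ := Ext.covariant_sequence_exact₃ _ hS _ (rfl : 0 + 1 = 1) h0
      obtain ⟨a, rfl⟩ := (Ext.mk₀_bijective _ _).2 w
      rw [Ext.mk₀_comp_mk₀] at hw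
      have e := (Ext.mk₀_bijective _ _).1 hw
      refine ⟨h₀ + adj.homEquiv _ _ a ≫ cokernel.π (R.map S.f), (adj.homEquiv _ _).symm.injective ?_⟩
      rw [Preadditive.add_comp, Category.assoc, cokernel.π_desc, ← Adjunction.homEquiv_naturality_right]
      change (adj.homAddEquiv _ _).symm (_ + _) = _
      rw [map_add]
      change (adj.homEquiv _ _).symm (h₀ ≫ c) + (adj.homEquiv _ _).symm (adj.homEquiv _ _ (a ≫ S.g)) = _
      rw [Equiv.symm_apply_apply, e, add_sub_cancel]
    haveI : Epi (R.map S.g) := by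
      have : cokernel.π (R.map S.f) ≫ c = R.map S.g := cokernel.π_desc _ _ _
      rw [← this]; infer_instance
    have h1 : IsZero ((R.rightDerived 1).obj S.X₁) := (epi_map_g_iff R hS).1 inferInstance
    have hRS := map_shortExact_of_isZero R hS h1
    haveI : Injective (S.map R).X₂ := Injective.injective_of_adjoint adj _
    have hX₃ : ∀ i q, q ≤ n → Function.Bijective (edge adj (p i) S.X₃ q) := by
      intro i q hq
      obtain _ | q := q
      · exact edge_zero_bijective adj _ _
      refine ⟨(injective_iff_map_eq_zero _).2 fun x hx => ?_, fun y => ?_⟩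
      · have h' : x.comp hRS.extClass (rfl : q + 1 + 1 = q + 2) = 0 :=
          (injective_iff_map_eq_zero _).1 (hG i (q + 2) (by omega)).1 _ ((edge_extClass adj hS hRS x).trans (by rw [hx, Ext.zero_comp]))
        obtain ⟨w, rfl⟩ := Ext.covariant_sequence_exact₃ _ hRS x (rfl : q + 1 + 1 = q + 2) h'
        rw [Ext.eq_zero_of_injective w, Ext.zero_comp]; rfl
      · obtain ⟨z, hz⟩ := (hG i (q + 2) (by omega)).2 (y.comp hS.extClass rfl)
        obtain ⟨x, rfl⟩ := Ext.covariant_sequence_exact₁ (p i) hRS z (Ext.eq_zero_of_injective _) (rfl : q + 1 + 1 = q + 2)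
        have hz : (edge adj (p i) S.X₃ (q + 1) x).comp hS.extClass (rfl : q + 1 + 1 = q + 2) =
            y.comp hS.extClass rfl := (edge_extClass adj hS hRS x).symm.trans hz
        obtain ⟨w, hw⟩ := Ext.covariant_sequence_exact₃ _ hS (y - edge adj (p i) S.X₃ (q + 1) x)
          (rfl : q + 1 + 1 = q + 2) (by
            rw [sub_eq_add_neg, Ext.add_comp, Ext.neg_comp, hz, add_neg_cancel])
        refine ⟨x, ?_⟩
        rw [Ext.eq_zero_of_injective w, Ext.zero_comp] at hw
        exact (sub_eq_zero.1 hw.symm).symm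
    intro q hq hqn
    obtain ⟨q, rfl⟩ := Nat.exists_eq_add_of_le hq
    obtain _ | q := q
    · exact h1
    · rw [show 1 + (q + 1) = (q + 1) + 1 from by omega]
      exact isZero_rightDerived_succ_left R hS (q + 1) (ih S.X₃ hX₃ (q + 1) (by omega) (by omega))

end Edge

section Bij

variable {A : Type u} [Category.{v} A] [Abelian A] [HasExt.{w} A]

theorem postcomp_bijective {X Y Z : A} (e : Y ⟶ Z) [IsIso e] (n : ℕ) :
    Function.Bijective (fun x : Ext X Y n => x.comp (Ext.mk₀ e) (add_zero n)) := by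
  refine Function.bijective_iff_has_inverse.2 ⟨fun y => y.comp (Ext.mk₀ (inv e)) (add_zero n), fun x => ?_, fun y => ?_⟩
  · simp
  · simp

theorem precomp_bijective {X Y Z : A} (e : X ⟶ Y) [IsIso e] (n : ℕ) :
    Function.Bijective (fun x : Ext Y Z n => (Ext.mk₀ e).comp x (zero_add n)) := by
  refine Function.bijective_iff_has_inverse.2 ⟨fun y => (Ext.mk₀ (inv e)).comp y (zero_add n), fun x => ?_, fun y => ?_⟩
  · simp
  · simp

end Bij

end Groth.Agent.EtFound
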