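import Groth.Agent.EtFound.PullExt
import Groth.Agent.EtFound.EdgeVanish
import Groth.Agent.S8525
import Groth.Prelude.Def_EtAcyc

/-! composition of acyclic morphisms -/

universe u

open CategoryTheory CategoryTheory.Limits AlgebraicGeometry Opposite CategoryTheory.Abelian

namespace Groth.Agent.EtFound

set_option backward.isDefEq.respectTransparency.types false

variable {A B C : Scheme.{u}}

theorem isLTorsion_pull (f : A ⟶ B) (L : Set ℕ) {F : EtCoh.Ab B} (hF : EtAcyc.IsLTorsion L F) :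
    EtAcyc.IsLTorsion L ((EtCoh.pull f).obj F) := by
  refine (S8525.result L _).2 fun Ω _ _ ξ t => ?_
  let e := (stalkPullIso f ξ).app F
  obtain ⟨m, hm, h0⟩ := (S8525.result L F).1 hF Ω (ξ ≫ f) (e.hom t)
  refine ⟨m, hm, (ConcreteCategory.bijective_of_isIso e.hom).1 ?_⟩
  refine (map_nsmul e.hom.hom m t).trans (h0.trans (map_zero e.hom.hom).symm)

/-- the comparison condition for one coefficient sheaf -/
def GoodAt (f : A ⟶ B) [PreservesFiniteLimits (EtCoh.pull f)] (F : EtCoh.Ab B) (n : ℕ) : Prop :=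
  (∀ q : ℕ, q ≤ n → Function.Bijective (EtCore.Hpull f F q)) ∧ Function.Injective (EtCore.Hpull f F (n + 1))

theorem goodAt_of_isIso (a : A ⟶ B) [IsIso a] [PreservesFiniteLimits (EtCoh.pull a)] (F : EtCoh.Ab B) (n : ℕ) :
    GoodAt a F n :=
  ⟨fun q _ => Hpull_bijective_of_isIso a F q, (Hpull_bijective_of_isIso a F _).1⟩

theorem goodAt_comp_iff (a : A ⟶ B) (b : B ⟶ C) (w : A ⟶ C) (hw : a ≫ b = w)
    [PreservesFiniteLimits (EtCoh.pull a)] [PreservesFiniteLimits (EtCoh.pull b)]
    [PreservesFiniteLimits (EtCoh.pull w)] (F : EtCoh.Ab C) (n : ℕ)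
    (ha : GoodAt a ((EtCoh.pull b).obj F) n) : GoodAt b F n ↔ GoodAt w F n := by
  have hfun : ∀ q, (EtCore.Hpull w F q : _ → _) =
      (fun z => z.comp (Ext.mk₀ ((θPull a b w hw).hom.app F)) (add_zero q)) ∘
        EtCore.Hpull a ((EtCoh.pull b).obj F) q ∘ EtCore.Hpull b F q :=
    fun q => funext fun x => Hpull_comp a b w hw F q x
  have hp : ∀ q, Function.Bijective (fun z : EtCoh.H A ((EtCoh.pull a).obj ((EtCoh.pull b).obj F)) q =>
      z.comp (Ext.mk₀ ((θPull a b w hw).hom.app F)) (add_zero q)) := fun q => postcomp_bijective _ _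
  constructor
  · rintro ⟨h1, h2⟩
    refine ⟨fun q hq => ?_, ?_⟩
    · rw [hfun q]; exact (hp q).comp ((ha.1 q hq).comp (h1 q hq))
    · rw [hfun]; exact (hp _).1.comp (ha.2.comp h2)
  · rintro ⟨h1, h2⟩
    refine ⟨fun q hq => ?_, ?_⟩
    · have h := h1 q hq
      rw [hfun q] at h
      exact (Function.Bijective.of_comp_iff' (ha.1 q hq) _).1
        ((Function.Bijective.of_comp_iff' (hp q) _).1 h)
    · rw [hfun, ← Function.comp_assoc] at h2
      exact h2.of_comp

/-- the unit for an isomorphism -/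
theorem unitSh_isIso_of_isIso (σ : A ⟶ B) [IsIso σ] (F : EtDesc.Sh B) : IsIso ((EtDesc.adjSh σ).unit.app F) := by
  haveI := jCont σ
  let a : EtShriek.compEtale σ ⊣ EtCoh.bc σ :=
    MorphismProperty.Over.mapPullbackAdj EtCoh.etaleMP ⊤ σ
      (inferInstanceAs (AlgebraicGeometry.Etale σ)) trivial
  let a' := a.sheafPushforwardContinuous (E := Type (u + 1)) A.smallEtaleTopology B.smallEtaleTopology
  rw [← Adjunction.unit_leftAdjointUniq_hom_app a' (EtDesc.adjSh σ) F]
  haveI : IsIso (a'.unit.app F) := by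
    haveI : IsIso ((sheafToPresheaf B.smallEtaleTopology (Type (u + 1))).map (a'.unit.app F)) := by
      haveI : ∀ W, IsIso (((sheafToPresheaf B.smallEtaleTopology (Type (u + 1))).map (a'.unit.app F)).app W) := by
        intro W
        have hi : IsIso (a.counit.app W.unop) := by
          haveI : IsIso (pullback.fst W.unop.hom σ) := inferInstance
          haveI : IsIso (a.counit.app W.unop).left := by
            rwa [show (a.counit.app W.unop).left = pullback.fst W.unop.hom σ from ?_]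
            change _ = _
            simp [a]
          let m := a.counit.app W.unop
          let m₀ : ((EtShriek.compEtale σ).obj ((EtCoh.bc σ).obj W.unop)).left ⟶ W.unop.left := m.left
          haveI : IsIso m₀ := ‹IsIso (a.counit.app W.unop).left›
          refine ⟨MorphismProperty.Over.homMk (inv m₀) ?_, MorphismProperty.Over.Hom.ext (IsIso.hom_inv_id m₀),
            MorphismProperty.Over.Hom.ext (IsIso.inv_hom_id m₀)⟩
          rw [IsIso.inv_comp_eq]
          exact (MorphismProperty.Over.w m).symm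
        exact inferInstanceAs (IsIso (F.obj.map (a.counit.app W.unop).op))
      exact NatIso.isIso_of_isIso_app _
    exact isIso_of_fully_faithful (sheafToPresheaf _ _) _
  infer_instance

theorem unitSh_isIso_comp_iff (a : A ⟶ B) (b : B ⟶ C) (F : EtDesc.Sh C)
    [IsIso ((EtDesc.adjSh a).unit.app ((EtDesc.pullSh b).obj F))] :
    IsIso ((EtDesc.adjSh (a ≫ b)).unit.app F) ↔ IsIso ((EtDesc.adjSh b).unit.app F) := by
  let α := ((EtDesc.adjSh b).comp (EtDesc.adjSh a)).ofNatIsoRight (EtDesc.pushCompSh b a)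
  have h1 := Adjunction.unit_leftAdjointUniq_hom_app (EtDesc.adjSh (a ≫ b)) α F
  have h2 : α.unit.app F = (EtDesc.adjSh b).unit.app F ≫
      (EtDesc.pushSh b).map ((EtDesc.adjSh a).unit.app ((EtDesc.pullSh b).obj F)) ≫
        (EtDesc.pushCompSh b a).hom.app _ := by
    simp [α]
  constructor
  · intro h
    haveI : IsIso (α.unit.app F) := by rw [← h1]; infer_instance
    rw [h2] at this
    exact IsIso.of_isIso_comp_right _ ((EtDesc.pushSh b).map ((EtDesc.adjSh a).unit.app ((EtDesc.pullSh b).obj F)) ≫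
        (EtDesc.pushCompSh b a).hom.app _)
  · intro h
    haveI : IsIso (α.unit.app F) := by rw [h2]; infer_instance
    rw [← h1] at this
    exact IsIso.of_isIso_comp_right _ ((EtDesc.pushSh (a ≫ b)).map ((Adjunction.leftAdjointUniq (EtDesc.adjSh (a ≫ b)) α).hom.app F))

variable {X Y Z : Scheme.{u}} (g : X ⟶ Y) (h : Y ⟶ Z) (V : Z.Etale)

/-- `X ×_Z V ≅ X ×_Y (Y ×_Z V)` -/
noncomputable def prjSplit : pullback V.hom (g ≫ h) ⟶ pullback ((EtCoh.bc h).obj V).hom g :=
  (pullbackLeftPullbackSndIso V.hom h g).inv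

instance : IsIso (prjSplit g h V) := by unfold prjSplit; infer_instance

theorem prjSplit_comp : prjSplit g h V ≫ EtAcyc.prj g ((EtCoh.bc h).obj V) ≫ EtAcyc.prj h V = EtAcyc.prj (g ≫ h) V :=
  pullbackLeftPullbackSndIso_inv_fst V.hom h g

theorem isAcyclicN_comp_iff (L : Set ℕ) (n : ℕ) (hg : EtAcyc.IsAcyclicN g L n) :
    EtAcyc.IsAcyclicN h L n ↔ EtAcyc.IsAcyclicN (g ≫ h) L n := by
  refine forall_congr' fun V => forall_congr' fun F => forall_congr' fun hF => ?_
  let p := EtAcyc.prj g ((EtCoh.bc h).obj V)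
  let b : ((EtCoh.bc h).obj V).left ⟶ V.left := EtAcyc.prj h V
  let σ := prjSplit g h V
  haveI := pull_preservesFiniteLimits p
  haveI := pull_preservesFiniteLimits b
  haveI := pull_preservesFiniteLimits σ
  haveI := pull_preservesFiniteLimits (σ ≫ p)
  haveI := pull_preservesFiniteLimits (EtAcyc.prj (g ≫ h) V)
  have hp : GoodAt p ((EtCoh.pull b).obj F) n := hg _ _ (isLTorsion_pull b L hF)
  have hσp := (goodAt_comp_iff σ p (σ ≫ p) rfl _ n (goodAt_of_isIso σ _ n)).1 hp
  have key := goodAt_comp_iff (σ ≫ p) b (EtAcyc.prj (g ≫ h) V)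
    ((Category.assoc _ _ _).trans (prjSplit_comp g h V)) F n hσp
  exact ⟨fun h1 _ => key.1 (@h1 (pull_preservesFiniteLimits b)), fun h1 _ => key.2 (@h1 (pull_preservesFiniteLimits _))⟩

theorem isZeroAcyclic_comp_iff (hg : EtAcyc.IsZeroAcyclic g) :
    EtAcyc.IsZeroAcyclic h ↔ EtAcyc.IsZeroAcyclic (g ≫ h) := by
  refine forall_congr' fun V => forall_congr' fun F => ?_
  let p := EtAcyc.prj g ((EtCoh.bc h).obj V)
  let b : ((EtCoh.bc h).obj V).left ⟶ V.left := EtAcyc.prj h V
  let σ := prjSplit g h V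
  haveI := hg ((EtCoh.bc h).obj V) ((EtDesc.pullSh b).obj F)
  haveI := unitSh_isIso_of_isIso σ ((EtDesc.pullSh p).obj ((EtDesc.pullSh b).obj F))
  have h3 := (unitSh_isIso_comp_iff σ p ((EtDesc.pullSh b).obj F)).2 (hg ((EtCoh.bc h).obj V) ((EtDesc.pullSh b).obj F))
  have key := @unitSh_isIso_comp_iff _ _ _ (σ ≫ p) b F h3
  have he : (σ ≫ p) ≫ b = EtAcyc.prj (g ≫ h) V := (Category.assoc _ _ _).trans (prjSplit_comp g h V)
  rw [← he]
  exact key.symm

end Groth.Agent.EtFound
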