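import Groth.Agent.EtFound.Cospec
import Groth.Agent.SpecLib.Basic

/-! supports of sections of constructible sheaves -/

universe u

open CategoryTheory CategoryTheory.Limits AlgebraicGeometry Opposite Topology

namespace Groth.Agent.EtFound

set_option backward.isDefEq.respectTransparency.types false

variable {X : Scheme.{u}}

/-- the points where the germ of a section is nonzero -/
def germSupp (F : EtCoh.Ab X) (U : X.Etale) (s : F.obj.obj (op U)) : Set U.left :=
  {q | ∀ (Ω : Type u) [Field Ω] [IsAlgClosed Ω] (ξ : Spec (CommRingCat.of Ω) ⟶ X)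
    (z : (Scheme.pointSmallEtale ξ).fiber.obj U), ptOf z = q →
      (Scheme.pointSmallEtale ξ).toPresheafFiber U z F.obj s ≠ 0}

theorem mem_germSupp_iff {F : EtCoh.Ab X} {U : X.Etale} (s : F.obj.obj (op U)) {Ω : Type u} [Field Ω]
    [IsSepClosed Ω] {ξ : Spec (CommRingCat.of Ω) ⟶ X} (z : (Scheme.pointSmallEtale ξ).fiber.obj U) :
    ptOf z ∈ germSupp F U s ↔ (Scheme.pointSmallEtale ξ).toPresheafFiber U z F.obj s ≠ 0 := by
  refine ⟨fun h h0 => ?_, fun h k _ _ ζ w hw h0 => h (germ_eq_zero_of_specializes s z w (specializes_of_eq hw.symm) h0)⟩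
  obtain ⟨k, _, _, ζ, w, hw⟩ := exists_algClosed_point U (ptOf z)
  exact h k ζ w hw (germ_eq_zero_of_specializes s w z (specializes_of_eq hw) h0)

theorem isClosed_germSupp (F : EtCoh.Ab X) (U : X.Etale) (s : F.obj.obj (op U)) : IsClosed (germSupp F U s) := by
  refine ⟨isOpen_iff_forall_mem_open.2 fun q hq => ?_⟩
  obtain ⟨k, _, _, ξ, z, rfl⟩ := exists_algClosed_point U q
  have h0 : (Scheme.pointSmallEtale ξ).toPresheafFiber U z F.obj s = 0 := by
    by_contra h
    exact hq ((mem_germSupp_iff s z).2 h)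
  rw [← map_zero ((Scheme.pointSmallEtale ξ).toPresheafFiber U z F.obj).hom] at h0
  obtain ⟨V, f, v, hv, hf⟩ := ((Scheme.pointSmallEtale ξ).toPresheafFiber_eq_iff' U z _ _).1 h0
  rw [map_zero] at hf
  let g : V.left ⟶ U.left := f.left
  haveI : AlgebraicGeometry.Etale g := etale_left f
  refine ⟨Set.range g.base, ?_, g.isOpenMap.isOpen_range, ptOf v, ?_⟩
  · rintro _ ⟨y, rfl⟩ hy
    obtain ⟨L, _, _, θ, w, hw⟩ := exists_algClosed_point V y
    refine hy L θ ((Scheme.pointSmallEtale θ).fiber.map f w) ((ptOf_map f w).trans (congrArg g.base hw)) ?_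
    rw [← (Scheme.pointSmallEtale θ).toPresheafFiber_w_apply, hf, map_zero]
  · subst hv
    exact (ptOf_map f v).symm

/-- along a stratum of finite local constancy supports of sections are relatively open -/
theorem exists_isOpen_germSupp {F : EtCoh.Ab X} {T : Scheme.{u}} (g : T ⟶ X) [IsImmersion g]
    (hT : EtCoh.IsFiniteLocallyConstant ((EtCoh.pull g).obj F)) (U : X.Etale) (s : F.obj.obj (op U)) :
    ∃ O : Set U.left, IsOpen O ∧
      U.hom.base ⁻¹' Set.range g.base ∩ O = U.hom.base ⁻¹' Set.range g.base ∩ germSupp F U s := by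
  let P := (EtCoh.bc g).obj U
  let k : P.left ⟶ U.left := pullback.fst U.hom g
  let s' : ((EtCoh.pull g).obj F).obj.obj (op P) :=
    (((EtCoh.bc g).sheafAdjunctionContinuous AddCommGrpCat.{u + 1} X.smallEtaleTopology T.smallEtaleTopology).unit.app F).hom.app (op U) s
  have htr : ∀ {Ω : Type u} [Field Ω] [IsSepClosed Ω] {ξ : Spec (CommRingCat.of Ω) ⟶ T}
      (z : (Scheme.pointSmallEtale ξ).fiber.obj P),
      k.base (ptOf z) ∈ germSupp F U s ↔ ptOf z ∈ germSupp ((EtCoh.pull g).obj F) P s' := by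
    intro Ω _ _ ξ z
    let i := ((sheafFiberPullIso (A := AddCommGrpCat.{u + 1}) g ξ).app F).symm
    have hi : Function.Bijective i.hom := i.addCommGroupIsoToAddEquiv.bijective
    have e : i.hom ((Scheme.pointSmallEtale (ξ ≫ g)).toPresheafFiber U (bcFiberEquiv g ξ U z) F.obj s) =
        (Scheme.pointSmallEtale ξ).toPresheafFiber P z ((EtCoh.pull g).obj F).obj s' :=
      ConcreteCategory.congr_hom (sheafFiberPullIso_germ g ξ F U z) s
    have hp : ptOf (bcFiberEquiv g ξ U z) = k.base (ptOf z) := Scheme.Hom.comp_apply _ _ _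
    rw [← hp, mem_germSupp_iff, mem_germSupp_iff, ← e]
    exact not_congr ⟨fun h => (congrArg _ h).trans (map_zero i.hom.hom), fun h => hi.1 (h.trans (map_zero i.hom.hom).symm)⟩
  have hop : IsOpen (germSupp ((EtCoh.pull g).obj F) P s') := by
    refine isOpen_iff_forall_mem_open.2 fun q hq => ?_
    obtain ⟨U₁, p₁, hp₁, S, hS⟩ := (isFiniteLocallyConstant_iff _).1 hT (P.hom.base q)
    obtain ⟨Ω, _, _, ξ, z, rfl⟩ := exists_algClosed_point P q
    obtain ⟨z₁, -⟩ := Scheme.pointSmallEtaleFiberObjToPreimage_surjective ξ rfl U₁ ⟨p₁, hp₁.trans (base_of_point z)⟩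
    obtain ⟨⟨W, w⟩, ⟨a, ha⟩, ⟨b, hb⟩, -⟩ := IsCofilteredOrEmpty.cone_objs
      ((Scheme.pointSmallEtale ξ).fiber.elementsMk P z) ((Scheme.pointSmallEtale ξ).fiber.elementsMk U₁ z₁)
    obtain ⟨a', ha'⟩ : ∃ a' : W ⟶ P, (Scheme.pointSmallEtale ξ).fiber.map a' w = z := ⟨a, ha⟩
    have hS' := hS.restrict b
    obtain ⟨r, hr⟩ := (hS'.bijective w).2 ((Scheme.pointSmallEtale ξ).toPresheafFiber P z ((EtCoh.pull g).obj F).obj s')
    rw [← ha', ← (Scheme.pointSmallEtale ξ).toPresheafFiber_w_apply] at hr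
    obtain ⟨V, f, v, hv, hf⟩ := ((Scheme.pointSmallEtale ξ).toPresheafFiber_eq_iff' W w _ _).1 hr
    let h : V.left ⟶ P.left := (f ≫ a').left
    haveI : AlgebraicGeometry.Etale h := etale_left (f ≫ a')
    refine ⟨Set.range h.base, ?_, h.isOpenMap.isOpen_range, ptOf v, ?_⟩
    · rintro _ ⟨y, rfl⟩ L _ _ θ zL hzL h0
      obtain ⟨L', _, _, θ', w', hw'⟩ := exists_algClosed_point V y
      have h1 := germ_eq_zero_of_specializes s' ((Scheme.pointSmallEtale θ').fiber.map (f ≫ a') w') zL
        (specializes_of_eq (((ptOf_map _ w').trans (congrArg h.base hw')).trans hzL.symm)) h0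
      rw [← (Scheme.pointSmallEtale θ').toPresheafFiber_w_apply, op_comp, Functor.map_comp_apply, ← hf,
        (Scheme.pointSmallEtale θ').toPresheafFiber_w_apply] at h1
      have hr0 : r.1 = 0 := congrArg Subtype.val ((hS'.bijective ((Scheme.pointSmallEtale θ').fiber.map f w')).1
        (a₁ := r) (a₂ := 0) (h1.trans (map_zero _).symm))
      rw [hr0, map_zero] at hf
      refine (mem_germSupp_iff s' z).1 hq ?_
      rw [← ha', ← hv, ← Functor.map_comp_apply, ← (Scheme.pointSmallEtale ξ).toPresheafFiber_w_apply, op_comp,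
        Functor.map_comp_apply, ← hf, map_zero]
    · exact (ptOf_map (f ≫ a') v).symm.trans (congrArg ptOf ((Functor.map_comp_apply _ _ _ _).trans
        ((congrArg _ hv).trans ha')))
  haveI : IsImmersion k := MorphismProperty.pullback_fst _ _ ‹_›
  obtain ⟨O, hO, hOe⟩ := k.isEmbedding.isInducing.isOpen_iff.1 hop
  refine ⟨O, hO, ?_⟩
  have hr : Set.range k.base = U.hom.base ⁻¹' Set.range g.base := Scheme.Pullback.range_fst U.hom g
  rw [← hr]
  ext q
  refine and_congr_right fun ⟨y, hy⟩ => ?_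
  subst hy
  obtain ⟨L, _, _, θ, w, rfl⟩ := exists_algClosed_point P y
  exact ((Set.ext_iff.1 hOe _).trans (htr w).symm)

/-- supports of sections of constructible sheaves are constructible on affines -/
theorem isConstructible_germSupp {F : EtCoh.Ab X} (hF : EtPBC.IsConstructible F) (U : X.Etale) (s : F.obj.obj (op U))
    {V : X.Opens} (hV : IsAffineOpen V) {A : U.left.Opens} (hA : IsAffineOpen A) (hAV : A ≤ U.hom ⁻¹ᵁ V) :
    IsConstructible ((Subtype.val : ↥(A : Set U.left) → U.left) ⁻¹' germSupp F U s) := by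
  have : CompactSpace ↥(A : Set U.left) := isCompact_iff_compactSpace.1 hA.isCompact
  have : QuasiSeparatedSpace ↥(A : Set U.left) :=
    (isQuasiSeparated_iff_quasiSeparatedSpace _ A.2).1 hA.isQuasiSeparated
  have : PrespectralSpace ↥(A : Set U.left) := A.2.isOpenEmbedding_subtypeVal.prespectralSpace
  obtain ⟨n, E, hE, hc, hu⟩ := exists_pieces (hF V hV)
  have e : (Subtype.val ⁻¹' germSupp F U s : Set ↥(A : Set U.left)) =
      ⋃ j, Subtype.val ⁻¹' (U.hom.base ⁻¹' E j) ∩ Subtype.val ⁻¹' germSupp F U s := by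
    rw [← Set.iUnion_inter, ← Set.preimage_iUnion, ← Set.preimage_iUnion, hu]
    exact (Set.inter_eq_right.2 fun (x : ↥(A : Set U.left)) _ => hAV x.2).symm
  rw [e]
  refine IsConstructible.iUnion fun j => ?_
  obtain ⟨T, g, hg, hr, hT⟩ := hE j
  obtain ⟨O, hO, hOe⟩ := exists_isOpen_germSupp g hT U s
  rw [hr] at hOe
  rw [← Set.preimage_inter, ← hOe, Set.preimage_inter]
  refine isConstructible_inter_of_open (isConstructible_preimage_affine U.hom hA hV hAV (hc j))
    (hO.preimage continuous_subtype_val)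
    ((isClosed_germSupp F U s).isOpen_compl.preimage continuous_subtype_val) ?_
  rw [← Set.preimage_inter, hOe, ← Set.preimage_sdiff, Set.sdiff_compl]

end Groth.Agent.EtFound
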