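import Groth.Agent.EtFound.Detect
import Mathlib.CategoryTheory.Sites.Point.Comap

/-! germs of sections pulled back by the unit -/

universe w v v' v'' u u' u''

open CategoryTheory CategoryTheory.Limits Opposite

namespace Groth.Agent.EtFound

section general

variable {C : Type u} [Category.{v} C] {D : Type u'} [Category.{v'} D]
  {J : GrothendieckTopology C} {K : GrothendieckTopology D}
  (Φ : GrothendieckTopology.Point.{w} K) (F : C ⥤ D) (hF : CoverPreserving J K F)
  [RepresentablyFlat F] [InitiallySmall.{w} (F ⋙ Φ.fiber).Elements]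
  (A : Type u'') [Category.{v''} A] [HasProducts.{w} A] [Functor.IsContinuous F J K]
  [(F.sheafPushforwardContinuous A J K).IsRightAdjoint] [HasColimitsOfSize.{w, w} A]

set_option backward.isDefEq.respectTransparency false in
theorem comapIso_germ (G : Sheaf J A) (X : C) (x : Φ.fiber.obj (F.obj X)) :
    (Φ.comap F hF).toPresheafFiber X x G.obj ≫ (Φ.sheafFiberComapIso F hF A).hom.app G =
      ((F.sheafAdjunctionContinuous A J K).unit.app G).hom.app (op X) ≫
        Φ.toPresheafFiber (F.obj X) x ((F.sheafPullback A J K).obj G).obj := by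
  have h := unit_conjugateEquiv_symm
    ((F.sheafAdjunctionContinuous A J K).comp Φ.skyscraperSheafAdjunction)
    (Φ.comap F hF).skyscraperSheafAdjunction
    (Φ.skyscraperSheafFunctorCompSheafPushforwardContinuous F hF A).hom G
  have h' := congr(($h).hom.app (op X) ≫ Pi.π _ x)
  have e1 : (Φ.sheafFiberComapIso F hF A).hom =
    (conjugateEquiv ((F.sheafAdjunctionContinuous A J K).comp Φ.skyscraperSheafAdjunction)
    (Φ.comap F hF).skyscraperSheafAdjunction).symm
      (Φ.skyscraperSheafFunctorCompSheafPushforwardContinuous F hF A).hom := rfl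
  rw [e1]
  generalize (conjugateEquiv ((F.sheafAdjunctionContinuous A J K).comp Φ.skyscraperSheafAdjunction)
    (Φ.comap F hF).skyscraperSheafAdjunction).symm
      (Φ.skyscraperSheafFunctorCompSheafPushforwardContinuous F hF A).hom = β at h'
  simp only [Adjunction.comp_unit_app, Category.assoc] at h'
  simp only [GrothendieckTopology.Point.skyscraperSheafFunctorCompSheafPushforwardContinuous] at h'
  simp [GrothendieckTopology.Point.skyscraperSheafAdjunction, Adjunction.mkOfHomEquiv,
    GrothendieckTopology.Point.skyscraperPresheafHomEquiv, Functor.FullyFaithful.homEquiv] at h'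
  refine (congrArg ((Φ.comap F hF).toPresheafFiber X x G.obj ≫ ·) (Category.id_comp _).symm).trans
    (h'.symm.trans (congrArg (((F.sheafAdjunctionContinuous A J K).unit.app G).hom.app (op X) ≫ ·) ?_))
  exact (Pi.lift_π (fun x => _ ≫ 𝟙 _) x).trans (Category.comp_id _)

omit [InitiallySmall.{w} (F ⋙ Φ.fiber).Elements] [RepresentablyFlat F] in
theorem pointHom_germ {Φ₁ Φ₂ : GrothendieckTopology.Point.{w} J} (g : Φ₁ ⟶ Φ₂) (P : Cᵒᵖ ⥤ A) (X : C)
    (x : Φ₂.fiber.obj X) :
    Φ₂.toPresheafFiber X x P ≫ g.presheafFiber.app P = Φ₁.toPresheafFiber X (g.hom.app X x) P := by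
  simp

end general

section etale

open AlgebraicGeometry

set_option backward.isDefEq.respectTransparency.types false

variable {A : Type (u + 2)} [Category.{u + 1} A] [HasColimitsOfSize.{u, u} A] [HasProducts.{u} A]
  {X Y : Scheme.{u}} {Ω : Type u} [Field Ω] [IsSepClosed Ω] (f : X ⟶ Y)
  [((EtCoh.bc f).sheafPushforwardContinuous A Y.smallEtaleTopology X.smallEtaleTopology).IsRightAdjoint]
  (ξ : Spec (CommRingCat.of Ω) ⟶ X)

/-- the stalk of the inverse image, on germs -/
theorem sheafFiberPullIso_germ (G : Sheaf Y.smallEtaleTopology A) (V : Y.Etale)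
    (t : (Scheme.pointSmallEtale ξ).fiber.obj ((EtCoh.bc f).obj V)) :
    (Scheme.pointSmallEtale (ξ ≫ f)).toPresheafFiber V (bcFiberEquiv f ξ V t) G.obj ≫
        (sheafFiberPullIso f ξ).inv.app G =
      (((EtCoh.bc f).sheafAdjunctionContinuous A Y.smallEtaleTopology X.smallEtaleTopology).unit.app G).hom.app
          (op V) ≫
        (Scheme.pointSmallEtale ξ).toPresheafFiber ((EtCoh.bc f).obj V) t
          (((EtCoh.bc f).sheafPullback A Y.smallEtaleTopology X.smallEtaleTopology).obj G).obj := by
  rw [← comapIso_germ (Scheme.pointSmallEtale ξ) (EtCoh.bc f) (EtCoh.coverPreserving_bc f) A G V t]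
  change _ ≫ ((bcPointIso f ξ).hom.sheafFiber.app G ≫
    ((Scheme.pointSmallEtale ξ).sheafFiberComapIso (EtCoh.bc f) (EtCoh.coverPreserving_bc f) A).hom.app G) = _
  refine (Category.assoc _ _ _).symm.trans (congrArg (· ≫ _) ?_)
  refine (pointHom_germ A (bcPointIso f ξ).hom G.obj V _).trans ?_
  exact congrArg (fun x => ((Scheme.pointSmallEtale ξ).comap (EtCoh.bc f) (EtCoh.coverPreserving_bc f)).toPresheafFiber V x G.obj)
    ((bcFiberEquiv f ξ V).symm_apply_apply t)

variable {FA : A → A → Type w} {CA : A → Type (u + 1)}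
  [∀ M N, FunLike (FA M N) (CA M) (CA N)] [ConcreteCategory.{u + 1} A FA]

/-- pulled back sections have equal germs iff the sections do at the image point -/
theorem germ_unit_eq_iff (G : Sheaf Y.smallEtaleTopology A) (V : Y.Etale)
    (t : (Scheme.pointSmallEtale ξ).fiber.obj ((EtCoh.bc f).obj V)) (a b : ToType (G.obj.obj (op V))) :
    ((Scheme.pointSmallEtale ξ).toPresheafFiber _ t
        (((EtCoh.bc f).sheafPullback A Y.smallEtaleTopology X.smallEtaleTopology).obj G).obj
        ((((EtCoh.bc f).sheafAdjunctionContinuous A Y.smallEtaleTopology X.smallEtaleTopology).unit.app G).hom.app (op V) a) =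
      (Scheme.pointSmallEtale ξ).toPresheafFiber _ t
        (((EtCoh.bc f).sheafPullback A Y.smallEtaleTopology X.smallEtaleTopology).obj G).obj
        ((((EtCoh.bc f).sheafAdjunctionContinuous A Y.smallEtaleTopology X.smallEtaleTopology).unit.app G).hom.app (op V) b)) ↔
    ((Scheme.pointSmallEtale (ξ ≫ f)).toPresheafFiber V (bcFiberEquiv f ξ V t) G.obj a =
      (Scheme.pointSmallEtale (ξ ≫ f)).toPresheafFiber V (bcFiberEquiv f ξ V t) G.obj b) := by
  have h := fun c : ToType (G.obj.obj (op V)) => (ConcreteCategory.comp_apply _ _ c).symm.trans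
    ((ConcreteCategory.congr_hom (sheafFiberPullIso_germ f ξ G V t) c).trans (ConcreteCategory.comp_apply _ _ c))
  refine ⟨fun e => ?_, fun e => ?_⟩
  · have hinj : Function.Injective ((sheafFiberPullIso f ξ).inv.app G) :=
      Function.LeftInverse.injective (g := (sheafFiberPullIso f ξ).hom.app G) fun x =>
        (ConcreteCategory.comp_apply _ _ x).symm.trans
          ((ConcreteCategory.congr_hom ((sheafFiberPullIso f ξ).inv_hom_id_app G) x).trans
            (ConcreteCategory.id_apply x))
    exact hinj ((h a).trans (e.trans (h b).symm))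
  · exact (h a).symm.trans ((congrArg _ e).trans (h b))

end etale

end Groth.Agent.EtFound
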