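import Groth.Prelude.Def_BigSite
import Groth.Agent.EtFound.Basic
import Groth.Agent.EtFound.PushOutside
import Mathlib.CategoryTheory.Sites.EpiMono

/-! consequences of conditions (A), (B), (C) for direct images -/

universe u

open CategoryTheory CategoryTheory.Limits AlgebraicGeometry Opposite

namespace Groth.Agent.EtFound

set_option backward.isDefEq.respectTransparency.types false

variable {A : Type (u + 2)} [Category.{u + 1} A]
  {FA : A → A → Type*} {CA : A → Type (u + 1)}
  [∀ M N, FunLike (FA M N) (CA M) (CA N)] [ConcreteCategory.{u + 1} A FA]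
  {X Y : Scheme.{u}} [X.smallEtaleTopology.HasSheafCompose (forget A)]

/-- sections glue along disjoint opens -/
theorem exists_glue_disjoint (G : Sheaf X.smallEtaleTopology A) (U : X.Etale) {μ : Type u} (O : μ → U.left.Opens)
    (hd : ∀ a b, a ≠ b → Disjoint (O a) (O b)) (hO : (⨆ a, O a) = ⊤)
    (t : ∀ a, ToType (G.obj.obj (op (restrictEtale U (O a))))) :
    ∃ s : ToType (G.obj.obj (op U)), ∀ a, G.obj.map (restrictEtaleHom U (O a)).op s = t a := by
  have h := ((isSheaf_iff_isSheaf_of_type _ _).1 ((sheafCompose X.smallEtaleTopology (forget A)).obj G).property)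
    (Sieve.generate (Presieve.ofArrows _ (fun a => restrictEtaleHom U (O a)))) (X := U) (by
      refine (mem_topology_iff _).2 fun x => ?_
      obtain ⟨a, ha⟩ := TopologicalSpace.Opens.mem_iSup.1 (hO.ge (TopologicalSpace.Opens.mem_top x))
      exact ⟨_, restrictEtaleHom U (O a), ⟨x, ha⟩, Sieve.le_generate _ _ _ (Presieve.ofArrows.mk a), rfl⟩)
  rw [← Presieve.isSheafFor_iff_generate, Presieve.isSheafFor_arrows_iff] at h
  refine (h t fun a b Z ga gb e => ?_).exists
  by_cases hab : a = b
  · subst hab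
    have : ga = gb := MorphismProperty.Over.Hom.ext
      ((cancel_mono (O a).ι).1 (congrArg (fun k => k.left) e))
    rw [this]
  · have : IsEmpty ↥Z.left := ⟨fun z => by
      have e' : (O a).ι.base (ga.left.base z) = (O b).ι.base (gb.left.base z) := by
        exact ((Scheme.Hom.comp_apply ga.left (O a).ι z).symm.trans
          (congrArg (fun k : _ ⟶ U.left => k.base z) (congrArg (fun k => k.left) e))).trans
            (Scheme.Hom.comp_apply gb.left (O b).ι z)
      exact (Set.disjoint_left.1 (TopologicalSpace.Opens.coe_disjoint.2 (hd a b hab))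
        (ga.left.base z).2) ((congrArg (· ∈ O b) e').mpr (gb.left.base z).2)⟩
    obtain ⟨hu⟩ := nonempty_unique_of_isEmpty G Z
    exact (hu.eq_default _).trans (hu.eq_default _).symm

theorem cancel_inv {C : Type*} [Category C] {a b c d : C} (h : a ⟶ b) (g : b ⟶ c) (e : d ≅ c) (r : a ⟶ d)
    (hh : h ≫ g ≫ e.inv = r) : h ≫ g = r ≫ e.hom := by
  simp [← hh]

variable [Y.smallEtaleTopology.HasSheafCompose (forget A)]

/-- swap the factors -/
noncomputable abbrev swap (f : X ⟶ Y) (V : Y.Etale) : pullback f V.hom ⟶ ((EtCoh.bc f).obj V).left :=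
  (pullbackSymmetry f V.hom).hom

theorem swap_snd (f : X ⟶ Y) (V : Y.Etale) : swap f V ≫ ((EtCoh.bc f).obj V).hom = pullback.fst f V.hom :=
  pullbackSymmetry_hom_comp_snd _ _

omit [Y.smallEtaleTopology.HasSheafCompose (forget A)] in
/-- (B) direct image preserves local surjectivity -/
theorem isLocallySurjective_push_of_propB (f : X ⟶ Y) (hB : BigSite.PropB f)
    {F G : Sheaf X.smallEtaleTopology A} (φ : F ⟶ G) [Sheaf.IsLocallySurjective φ] :
    Sheaf.IsLocallySurjective
      (((EtCoh.bc f).sheafPushforwardContinuous A Y.smallEtaleTopology X.smallEtaleTopology).map φ) := by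
  constructor
  intro V s
  have hs := Presheaf.imageSieve_mem X.smallEtaleTopology φ.hom (U := op ((EtCoh.bc f).obj V)) s
  rw [mem_topology_iff] at hs ⊢
  choose W g w hg hw using hs
  let σ := swap f V
  let gi := fun x : ((EtCoh.bc f).obj V).left => (g x).left ≫ (pullbackSymmetry f V.hom).inv
  have hgi : ∀ x, Etale (gi x) := fun x => by
    have := etale_left (g x)
    infer_instance
  obtain ⟨κ, V', v', hv', hcov, hsplit⟩ := hB V.left V.hom _ (fun x => (W x).left) gi hgi fun y =>
    ⟨σ.base y, w _, by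
      rw [Scheme.Hom.comp_apply, hw]
      rw [← Scheme.Hom.comp_apply, Iso.hom_inv_id]
      rfl⟩
  intro y
  obtain ⟨j, z, hz⟩ := hcov y
  have := hv' j
  have hV : Etale V.hom := V.prop
  let Vj : Y.Etale := Scheme.Etale.mk (v' j ≫ V.hom)
  let gj : Vj ⟶ V := MorphismProperty.Over.homMk (v' j) rfl
  refine ⟨Vj, gj, z, ?_, hz⟩
  obtain ⟨μ, O, hd, hO, hfac⟩ := hsplit j
  choose i h hh using hfac
  let U : X.Etale := (EtCoh.bc f).obj Vj
  let τ : U.left ⟶ pullback f (v' j ≫ V.hom) := (pullbackSymmetry (v' j ≫ V.hom) f).hom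
  let O' : μ → U.left.Opens := fun a => τ ⁻¹ᵁ O a
  let k : ∀ a, (O' a : Scheme.{u}) ⟶ (O a : Scheme.{u}) := fun a => τ ∣_ (O a)
  have hk : ∀ a, (k a ≫ h a) ≫ (g (i a)).left =
      (O' a).ι ≫ ((EtCoh.bc f).map gj).left := fun a => by
    refine (Category.assoc _ _ _).trans ((congrArg (k a ≫ ·)
      (cancel_inv _ _ (pullbackSymmetry f V.hom) _ (hh a))).trans ?_)
    simp only [k, Category.assoc, morphismRestrict_ι_assoc]
    congr 1
    apply pullback.hom_ext
    · simp only [τ, gj, Category.assoc, pullbackSymmetry_hom_comp_fst, pullback.map]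
      erw [pullback.lift_snd, pullback.lift_fst, pullbackSymmetry_hom_comp_snd_assoc]
      rfl
    · simp only [τ, gj, Category.assoc, pullbackSymmetry_hom_comp_snd, pullback.map]
      erw [pullback.lift_fst, pullback.lift_snd, Category.comp_id, pullbackSymmetry_hom_comp_fst]
      rfl
  let gO : ∀ a, restrictEtale U (O' a) ⟶ W (i a) := fun a =>
    MorphismProperty.Over.homMk (k a ≫ h a) (by
      refine (congrArg ((k a ≫ h a) ≫ ·) (MorphismProperty.Over.w (g (i a))).symm).trans ?_
      refine (Category.assoc _ _ _).symm.trans ?_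
      refine (congrArg (· ≫ ((EtCoh.bc f).obj V).hom) (hk a)).trans ?_
      exact (Category.assoc _ _ _).trans (congrArg ((O' a).ι ≫ ·) (MorphismProperty.Over.w ((EtCoh.bc f).map gj))))
  have hgO : ∀ a, gO a ≫ g (i a) = restrictEtaleHom U (O' a) ≫ (EtCoh.bc f).map gj := fun a =>
    MorphismProperty.Over.Hom.ext (hk a)
  choose t ht using hg
  obtain ⟨T, hT⟩ := exists_glue_disjoint F U O' (fun a b hab => by
      rw [disjoint_iff, show O' a ⊓ O' b = τ ⁻¹ᵁ (O a ⊓ O b) from rfl, disjoint_iff.1 (hd a b hab)]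
      rfl)
    (by rw [← Scheme.Hom.preimage_iSup, hO]; rfl)
    (fun a => F.obj.map (gO a).op (t (i a)))
  refine ⟨T, eq_of_cover G _ _ ?_⟩
  refine (mem_topology_iff _).2 fun x => ?_
  obtain ⟨a, ha⟩ := TopologicalSpace.Opens.mem_iSup.1 (hO.ge (TopologicalSpace.Opens.mem_top (τ.base x)))
  refine ⟨restrictEtale U (O' a), restrictEtaleHom U (O' a), ⟨x, ha⟩, ?_, rfl⟩
  show G.obj.map _ (φ.hom.app _ T) = G.obj.map _ (G.obj.map ((EtCoh.bc f).map gj).op s)
  rw [← NatTrans.naturality_apply, hT, NatTrans.naturality_apply, ht, ← ConcreteCategory.comp_apply,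
    ← G.obj.map_comp, ← op_comp, hgO, op_comp, G.obj.map_comp, ConcreteCategory.comp_apply]

omit [Y.smallEtaleTopology.HasSheafCompose (forget A)] in
/-- (C) direct image reflects injectivity on sections -/
theorem injective_of_propC (f : X ⟶ Y) (hC : BigSite.PropC f)
    {F G : Sheaf X.smallEtaleTopology A} (φ : F ⟶ G)
    (h : ∀ V : Y.Etale, Function.Injective (φ.hom.app (op ((EtCoh.bc f).obj V)))) (U : X.Etale) :
    Function.Injective (φ.hom.app (op U)) := by
  intro a b hab
  have hU : Etale U.hom := U.prop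
  obtain ⟨V, v, hv, m, hm, hs⟩ := hC U.left U.hom
  let V' : Y.Etale := Scheme.Etale.mk v
  let g : (EtCoh.bc f).obj V' ⟶ U := MorphismProperty.Over.homMk
    ((pullbackSymmetry v f).hom ≫ m)
    ((Category.assoc _ _ _).trans ((congrArg ((pullbackSymmetry v f).hom ≫ ·) hm).trans
      (pullbackSymmetry_hom_comp_fst v f)))
  refine eq_of_cover F _ _ ((mem_topology_iff _).2 fun x => ?_)
  obtain ⟨z, hz⟩ := hs.surj x
  refine ⟨_, g, (pullbackSymmetry v f).inv.base z, h V' ?_, ?_⟩
  · rw [NatTrans.naturality_apply, NatTrans.naturality_apply, hab]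
  · refine ((Scheme.Hom.comp_apply (pullbackSymmetry v f).inv _ z).symm.trans ?_).trans hz
    exact congrArg (fun k : _ ⟶ U.left => k.base z) ((pullbackSymmetry v f).inv_hom_id_assoc m)

omit [Y.smallEtaleTopology.HasSheafCompose (forget A)] in
/-- (C) direct image reflects local surjectivity -/
theorem isLocallySurjective_of_propC (f : X ⟶ Y) (hC : BigSite.PropC f)
    {F G : Sheaf X.smallEtaleTopology A} (φ : F ⟶ G)
    [Sheaf.IsLocallySurjective
      (((EtCoh.bc f).sheafPushforwardContinuous A Y.smallEtaleTopology X.smallEtaleTopology).map φ)] :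
    Sheaf.IsLocallySurjective φ := by
  constructor
  intro U s
  have hU : Etale U.hom := U.prop
  obtain ⟨V, v, hv, m, hm, hs⟩ := hC U.left U.hom
  let V' : Y.Etale := Scheme.Etale.mk v
  let g : (EtCoh.bc f).obj V' ⟶ U := MorphismProperty.Over.homMk
    ((pullbackSymmetry v f).hom ≫ m)
    ((Category.assoc _ _ _).trans ((congrArg ((pullbackSymmetry v f).hom ≫ ·) hm).trans
      (pullbackSymmetry_hom_comp_fst v f)))
  have hp := Presheaf.imageSieve_mem Y.smallEtaleTopology
    (((EtCoh.bc f).sheafPushforwardContinuous A Y.smallEtaleTopology X.smallEtaleTopology).map φ).hom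
    (U := op V') (G.obj.map g.op s)
  rw [mem_topology_iff] at hp ⊢
  intro x
  obtain ⟨z, hz⟩ := hs.surj x
  let z' : ((EtCoh.bc f).obj V').left := (pullbackSymmetry v f).inv.base z
  obtain ⟨W, w, y, ⟨t, ht⟩, hy⟩ := hp ((pullback.fst v f).base z')
  obtain ⟨r, hr1, hr2⟩ := Scheme.Pullback.exists_preimage_pullback (f := w.left) (g := pullback.fst v f) y z' hy
  let l : pullback w.left (pullback.fst v f) ⟶ ((EtCoh.bc f).obj W).left :=
    pullback.lift (pullback.fst _ _) (pullback.snd _ _ ≫ pullback.snd v f) (by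
      refine (congrArg (pullback.fst w.left (pullback.fst v f) ≫ ·) (MorphismProperty.Over.w w).symm).trans ?_
      refine (Category.assoc _ _ _).symm.trans ?_
      refine (congrArg (· ≫ v) pullback.condition).trans ?_
      exact (Category.assoc _ _ _).trans ((congrArg (pullback.snd w.left (pullback.fst v f) ≫ ·)
        pullback.condition).trans (Category.assoc _ _ _).symm))
  have hl : l ≫ ((EtCoh.bc f).map w).left = pullback.snd _ _ := by
    refine pullback.hom_ext ?_ ?_
    · refine (Category.assoc _ _ _).trans ((congrArg (l ≫ ·) (pullback.lift_fst _ _ _)).trans ?_)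
      exact (Category.assoc _ _ _).symm.trans ((congrArg (· ≫ w.left) (pullback.lift_fst _ _ _)).trans pullback.condition)
    · refine (Category.assoc _ _ _).trans ((congrArg (l ≫ ·) (pullback.lift_snd _ _ _)).trans ?_)
      exact (pullback.lift_snd _ _ _)
  refine ⟨_, (EtCoh.bc f).map w ≫ g, l.base r, ⟨t, ?_⟩, ?_⟩
  · exact ht.trans (by
      rw [op_comp, G.obj.map_comp, ConcreteCategory.comp_apply]
      rfl)
  · refine (Scheme.Hom.comp_apply ((EtCoh.bc f).map w).left g.left (l.base r)).trans ?_
    refine (congrArg (g.left.base ·) (((Scheme.Hom.comp_apply l _ r).symm.trans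
      (congrArg (fun k : _ ⟶ ((EtCoh.bc f).obj V').left => k.base r) hl)).trans hr2)).trans ?_
    refine ((Scheme.Hom.comp_apply (pullbackSymmetry v f).inv _ z).symm.trans ?_).trans hz
    exact congrArg (fun k : _ ⟶ U.left => k.base z) ((pullbackSymmetry v f).inv_hom_id_assoc m)

section counit

/-- (A) the counit is locally surjective -/
theorem isLocallySurjective_counit_of_propA {X Y : Scheme.{u}} (f : X ⟶ Y) (hA : BigSite.PropA f)
    (G : EtCoh.Ab X) : Sheaf.IsLocallySurjective ((EtCoh.pullPushAdj f).counit.app G) := by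
  constructor
  intro U s
  rw [mem_topology_iff]
  intro x
  have hU : Etale U.hom := U.prop
  obtain ⟨V, v, hv, W, hW, h, hh, u, hu⟩ := hA U.left U.hom x
  let V' : Y.Etale := Scheme.Etale.mk v
  let B : X.Etale := (EtCoh.bc f).obj V'
  let τ : B.left ⟶ pullback f v := (pullbackSymmetry v f).hom
  let O : ULift.{u} Bool → B.left.Opens := fun b => match b with
    | ⟨true⟩ => τ ⁻¹ᵁ W
    | ⟨false⟩ => τ ⁻¹ᵁ ⟨(W : Set ↥(pullback f v))ᶜ, hW.isOpen_compl⟩
  let k : restrictEtale B (O ⟨true⟩) ⟶ U := MorphismProperty.Over.homMk ((τ ∣_ W) ≫ h) (by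
    refine (Category.assoc _ _ _).trans ((congrArg ((τ ∣_ W) ≫ ·) hh).trans ?_)
    refine (Category.assoc _ _ _).symm.trans ((congrArg (· ≫ pullback.fst f v) (morphismRestrict_ι τ W)).trans ?_)
    exact (Category.assoc _ _ _).trans (congrArg ((τ ⁻¹ᵁ W).ι ≫ ·) (pullbackSymmetry_hom_comp_fst v f)))
  have hd' : Disjoint (O ⟨true⟩) (O ⟨false⟩) := by
    rw [← TopologicalSpace.Opens.coe_disjoint, Set.disjoint_left]
    exact fun w hw hw' => hw' hw
  obtain ⟨t, ht⟩ := exists_glue_disjoint G B O (fun a b hab => by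
      match a, b, hab with
      | ⟨true⟩, ⟨true⟩, hab => exact absurd rfl hab
      | ⟨false⟩, ⟨false⟩, hab => exact absurd rfl hab
      | ⟨true⟩, ⟨false⟩, _ => exact hd'
      | ⟨false⟩, ⟨true⟩, _ => exact hd'.symm)
    (eq_top_iff.2 fun w _ => TopologicalSpace.Opens.mem_iSup.2
      (Classical.byCases (fun hw : τ.base w ∈ W => ⟨⟨true⟩, hw⟩) (fun hw => ⟨⟨false⟩, hw⟩)))
    (fun b => match b with
      | ⟨true⟩ => G.obj.map k.op s
      | ⟨false⟩ => (0 : ↑(G.obj.obj (op (restrictEtale B (O ⟨false⟩))))))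
  let a := ((EtCoh.pullPushAdj f).unit.app ((EtCoh.push f).obj G)).hom.app (op V') t
  have ha : ((EtCoh.pullPushAdj f).counit.app G).hom.app (op B) a = t := by
    have h1 := congrArg (fun η : (EtCoh.push f).obj G ⟶ (EtCoh.push f).obj G => η.hom.app (op V') t)
      ((EtCoh.pullPushAdj f).right_triangle_components G)
    exact h1
  have hpt : ∀ q, τ.base ((pullbackSymmetry v f).inv.base q) = q := fun q =>
    (Scheme.Hom.comp_apply _ _ q).symm.trans
      (congrArg (fun k : _ ⟶ pullback f v => k.base q) (pullbackSymmetry v f).inv_hom_id)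
  refine ⟨restrictEtale B (O ⟨true⟩), k,
    ⟨(pullbackSymmetry v f).inv.base (W.ι.base u), ?_⟩,
    ⟨((EtCoh.pull f).obj ((EtCoh.push f).obj G)).obj.map (restrictEtaleHom B (O ⟨true⟩)).op a, ?_⟩, ?_⟩
  · show τ.base ((pullbackSymmetry v f).inv.base (W.ι.base u)) ∈ W
    exact (congrArg (· ∈ W) (hpt (W.ι.base u))).mpr u.2
  · exact (NatTrans.naturality_apply _ _ _).trans ((congrArg _ ha).trans (ht ⟨true⟩))
  · refine (Scheme.Hom.comp_apply (τ ∣_ W) h _).trans (Eq.trans (congrArg _ ?_) hu)
    refine W.ι.isOpenEmbedding.injective ?_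
    rw [← Scheme.Hom.comp_apply, morphismRestrict_ι, Scheme.Hom.comp_apply]
    show τ.base ((pullbackSymmetry v f).inv.base (W.ι.base u)) = _
    exact hpt _

end counit

/-- (C) and closedness give almost cocontinuity -/
theorem isAlmostCocontinuous_of_propC {X Y : Scheme.{u}} (f : X ⟶ Y)
    (hC : ∀ (V : Scheme.{u}) (v : V ⟶ Y) [Etale v], BigSite.PropC (pullback.snd f v))
    (hcl : ∀ (V : Scheme.{u}) (v : V ⟶ Y) [Etale v], IsClosedMap (pullback.snd f v).base) :
    BigSite.IsAlmostCocontinuous (EtCoh.bc f) Y.smallEtaleTopology X.smallEtaleTopology := by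
  intro U R hR
  let R' : Sieve U :=
    { arrows := fun V g => (⊥ : Sieve ((EtCoh.bc f).obj V)) ∈ X.smallEtaleTopology _ ∨ R ((EtCoh.bc f).map g)
      downward_closed := by
        rintro V W g (hg | hg) k
        · refine Or.inl ?_
          have h := X.smallEtaleTopology.pullback_stable ((EtCoh.bc f).map k) hg
          rwa [Sieve.pullback_bot] at h
        · refine Or.inr ?_
          rw [Functor.map_comp]
          exact R.downward_closed hg _ }
  refine ⟨R', ?_, fun V g h => h⟩
  rw [mem_topology_iff] at hR ⊢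
  intro y
  have hU : Etale U.hom := U.prop
  by_cases hy : y ∈ Set.range (pullback.snd f U.hom).base
  · obtain ⟨q, hq⟩ := hy
    obtain ⟨W, g, w, hg, hw⟩ := hR ((pullbackSymmetry f U.hom).hom.base q)
    have := etale_left g
    obtain ⟨V, v, hv, m, hm, hs⟩ := hC U.left U.hom W.left (g.left ≫ (pullbackSymmetry f U.hom).inv)
    let V' : Y.Etale := Scheme.Etale.mk (v ≫ U.hom)
    let gv : V' ⟶ U := MorphismProperty.Over.homMk v rfl
    let l : ((EtCoh.bc f).obj V').left ⟶ pullback (pullback.snd f U.hom) v :=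
      pullback.lift (pullback.lift (pullback.snd _ _) (pullback.fst (v ≫ U.hom) f ≫ v)
        (pullback.condition.symm.trans (Category.assoc _ _ _).symm)) (pullback.fst (v ≫ U.hom) f)
        (pullback.lift_snd _ _ _)
    have e1 : l ≫ pullback.fst (pullback.snd f U.hom) v = ((EtCoh.bc f).map gv).left ≫ (pullbackSymmetry f U.hom).inv := by
      refine (pullback.lift_fst _ _ _).trans (pullback.hom_ext ?_ ?_)
      · refine (pullback.lift_fst _ _ _).trans ?_
        refine ((Category.assoc _ _ _).trans ?_).symm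
        exact (congrArg (((EtCoh.bc f).map gv).left ≫ ·) (pullbackSymmetry_inv_comp_fst f U.hom)).trans
          (pullback.lift_snd _ _ _)
      · refine (pullback.lift_snd _ _ _).trans ?_
        refine ((Category.assoc _ _ _).trans ?_).symm
        exact (congrArg (((EtCoh.bc f).map gv).left ≫ ·) (pullbackSymmetry_inv_comp_snd f U.hom)).trans
          (pullback.lift_fst _ _ _)
    have h2 : (l ≫ m) ≫ g.left = ((EtCoh.bc f).map gv).left :=
      (cancel_inv (l ≫ m) g.left (pullbackSymmetry f U.hom) _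
        ((Category.assoc _ _ _).trans ((congrArg (l ≫ ·) hm).trans e1))).trans
        ((Category.assoc _ _ _).trans ((congrArg (((EtCoh.bc f).map gv).left ≫ ·)
          (pullbackSymmetry f U.hom).inv_hom_id).trans (Category.comp_id _)))
    let lw : (EtCoh.bc f).obj V' ⟶ W := MorphismProperty.Over.homMk (l ≫ m) (by
      refine (congrArg ((l ≫ m) ≫ ·) (MorphismProperty.Over.w g).symm).trans ?_
      refine (Category.assoc _ _ _).symm.trans ((congrArg (· ≫ ((EtCoh.bc f).obj U).hom) h2).trans ?_)
      exact MorphismProperty.Over.w ((EtCoh.bc f).map gv))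
    have hlw : lw ≫ g = (EtCoh.bc f).map gv := MorphismProperty.Over.Hom.ext h2
    obtain ⟨z, hz⟩ := hs.surj w
    refine ⟨V', gv, (pullback.snd (pullback.snd f U.hom) v).base z, Or.inr ?_, ?_⟩
    · rw [← hlw]
      exact R.downward_closed hg _
    · refine ((Scheme.Hom.comp_apply _ _ _).symm.trans (congrArg (fun k : _ ⟶ U.left => k.base z)
        pullback.condition.symm)).trans ((Scheme.Hom.comp_apply _ _ _).trans ((congrArg _ ?_).trans hq))
      refine ((congrArg (fun k : _ ⟶ pullback f U.hom => k.base z) hm).symm.trans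
        ((Scheme.Hom.comp_apply _ _ _).trans (congrArg _ hz))).trans ?_
      refine (Scheme.Hom.comp_apply _ _ _).trans ((congrArg _ hw).trans ?_)
      exact (Scheme.Hom.comp_apply _ _ _).symm.trans
        (congrArg (fun k : _ ⟶ pullback f U.hom => k.base q) (pullbackSymmetry f U.hom).hom_inv_id)
  · let O : U.left.Opens := ⟨(Set.range (pullback.snd f U.hom).base)ᶜ,
      (hcl U.left U.hom).isClosed_range.isOpen_compl⟩
    refine ⟨restrictEtale U O, restrictEtaleHom U O, ⟨y, hy⟩, Or.inl ?_, rfl⟩
    refine (mem_topology_iff _).2 fun z => False.elim ?_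
    let z' : ↥O := (pullback.fst (O.ι ≫ U.hom) f).base z
    obtain ⟨a, -, ha⟩ := Scheme.Pullback.exists_preimage_pullback (f := f) (g := U.hom)
      ((pullback.snd (O.ι ≫ U.hom) f).base z) (O.ι.base z') (by
        refine (Scheme.Hom.comp_apply _ _ _).symm.trans ?_
        refine (congrArg (fun k : _ ⟶ Y => k.base z) pullback.condition.symm).trans ?_
        exact (Scheme.Hom.comp_apply _ _ _).trans (Scheme.Hom.comp_apply _ _ _))
    exact z'.2 ⟨a, ha⟩

end Groth.Agent.EtFound
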