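import Groth.Agent.EtFound.IntegralProps
import Groth.Agent.EtFound.PropPush
import Mathlib.Algebra.Homology.ShortComplex.ExactFunctor

/-! direct images along integral morphisms are exact -/

universe u

open CategoryTheory CategoryTheory.Limits AlgebraicGeometry Opposite

namespace Groth.Agent.EtFound

set_option backward.isDefEq.respectTransparency.types false

theorem push_preservesEpimorphisms {X Y : Scheme.{u}} (f : X ⟶ Y) [IsIntegralHom f] [EtCoh.BCCont f] :
    (EtCoh.push f).PreservesEpimorphisms :=
  ⟨fun {F G} φ _ => by
    have := (Sheaf.isLocallySurjective_iff_epi' _ φ).2 inferInstance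
    exact (Sheaf.isLocallySurjective_iff_epi' _ _).1
      (isLocallySurjective_push_of_propB f (propB_integral f) φ)⟩

theorem push_preservesFiniteLimits {X Y : Scheme.{u}} (f : X ⟶ Y) [EtCoh.BCCont f] :
    PreservesFiniteLimits (EtCoh.push f) :=
  have : (EtCoh.push f).IsRightAdjoint := (EtCoh.pullPushAdj f).isRightAdjoint
  inferInstance

/-- direct image along an integral morphism is exact -/
theorem push_preservesFiniteColimits {X Y : Scheme.{u}} (f : X ⟶ Y) [IsIntegralHom f] [EtCoh.BCCont f] :
    PreservesFiniteColimits (EtCoh.push f) := by
  have := push_preservesEpimorphisms f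
  have := push_preservesFiniteLimits f
  rw [Functor.preservesFiniteColimits_iff_forall_exact_map_and_epi]
  intro S hS
  have := hS.epi_g
  refine ⟨?_, inferInstance⟩
  have h := ((Functor.preservesFiniteLimits_tfae (EtCoh.push f)).out 3 0 rfl rfl).1 (push_preservesFiniteLimits f)
  exact (h S hS).1

end Groth.Agent.EtFound
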