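import Groth.Agent.EtFound.FLCNear

/-! a pointwise criterion for constructibility -/

universe u

open CategoryTheory CategoryTheory.Limits AlgebraicGeometry Opposite Topology

namespace Groth.Agent.EtFound

set_option backward.isDefEq.respectTransparency.types false

section top

variable {S : Type*} [TopologicalSpace S] [CompactSpace S] [QuasiSeparatedSpace S] [PrespectralSpace S] [QuasiSober S]

/-- clopen sets of the constructible topology are constructible -/
theorem isConstructible_of_cc_co {E : Set S} (hc : SpecLib.CC E) (ho : SpecLib.CO E) : IsConstructible E := by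
  have key : ∀ O : Set S, TopologicalSpace.GenerateOpen (constructibleTopologySubbasis S) O →
      ∀ x ∈ O, ∃ C, IsConstructible C ∧ x ∈ C ∧ C ⊆ O := by
    intro O hO
    induction hO with
    | basic s hs =>
      intro x hx
      rcases hs with ⟨h1, h2⟩ | ⟨h1, h2⟩
      · exact ⟨s, (IsCompact.isRetrocompact h2 h1).isConstructible h1, hx, subset_rfl⟩
      · refine ⟨s, ?_, hx, subset_rfl⟩
        have := (IsCompact.isRetrocompact h2 h1.isOpen_compl).isConstructible h1.isOpen_compl
        simpa using this.compl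
    | univ => exact fun x hx => ⟨Set.univ, IsConstructible.univ, hx, subset_rfl⟩
    | inter s t _ _ hs ht =>
      intro x hx
      obtain ⟨C, hC, hxC, hCs⟩ := hs x hx.1
      obtain ⟨D, hD, hxD, hDt⟩ := ht x hx.2
      exact ⟨C ∩ D, hC.inter hD, ⟨hxC, hxD⟩, Set.inter_subset_inter hCs hDt⟩
    | sUnion T _ hT =>
      rintro x ⟨t, ht, hxt⟩
      obtain ⟨C, hC, hxC, hCt⟩ := hT t ht x hxt
      exact ⟨C, hC, hxC, hCt.trans (Set.subset_sUnion_of_mem ht)⟩
  choose C hC hxC hCE using fun x : E => key E ho x.1 x.2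
  obtain ⟨t, ht⟩ := @IsCompact.elim_finite_subcover S (constructibleTopology S) E _ hc.isCompact_cons (fun x : E => C x)
    (fun x => (SpecLib.cons_clopen (hC x)).2) fun x hx => Set.mem_iUnion.2 ⟨⟨x, hx⟩, hxC _⟩
  have e : E = ⋃ x : t, C x.1 := by
    refine Set.Subset.antisymm (fun x hx => ?_) (Set.iUnion_subset fun x => hCE _)
    obtain ⟨i, hi, hxi⟩ : ∃ i ∈ t, x ∈ C i := by simpa using ht hx
    exact Set.mem_iUnion.2 ⟨⟨i, hi⟩, hxi⟩
  rw [e]
  exact IsConstructible.iUnion fun x => hC _

/-- a space covered by constructible sets is covered by finitely many -/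
theorem exists_finite_cover {κ : Type*} (E : κ → Set S) (hE : ∀ k, IsConstructible (E k)) (hcov : ∀ x, ∃ k, x ∈ E k) :
    ∃ t : Finset κ, ∀ x, ∃ k ∈ t, x ∈ E k := by
  obtain ⟨t, ht⟩ := @IsCompact.elim_finite_subcover S (constructibleTopology S) Set.univ _
    (SpecLib.cc_of_isClosed isClosed_univ).isCompact_cons E (fun k => (SpecLib.cons_clopen (hE k)).2)
    fun x _ => Set.mem_iUnion.2 (hcov x)
  exact ⟨t, fun x => by simpa using ht (Set.mem_univ x)⟩

end top

variable {X : Scheme.{u}}

/-- finite stalks whose orders and whose supports of sections vary constructibly -/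
structure IsWeaklyConstructible (F : EtCoh.Ab X) : Prop where
  finite : ∀ (Ω : Type u) [Field Ω] [IsSepClosed Ω] (ξ : Spec (CommRingCat.of Ω) ⟶ X), Finite ((EtCoh.stalk ξ).obj F)
  card : ∀ n : ℕ, IsLocallyConstructible (stalkSet F fun A => Nat.card A = n)
  supp : ∀ (U : X.Etale) (s : F.obj.obj (op U)) (V : X.Opens), IsAffineOpen V → ∀ A : U.left.Opens, IsAffineOpen A →
    A ≤ U.hom ⁻¹ᵁ V → IsConstructible ((Subtype.val : ↥(A : Set U.left) → U.left) ⁻¹' germSupp F U s)

theorem isWeaklyConstructible_of_isConstructible {F : EtCoh.Ab X} (hF : EtPBC.IsConstructible F) :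
    IsWeaklyConstructible F where
  finite _ _ _ ξ := finite_stalk_of_isConstructible hF ξ
  card n := isLocallyConstructible_stalkSet hF fun A B ⟨e⟩ hA => (Nat.card_congr e).symm.trans hA
  supp U s V hV A hA hAV := isConstructible_germSupp hF U s hV hA hAV

/-- germs bijective over a stratum give constant germs for the inverse image -/
theorem finConst_pull {T : Scheme.{u}} (g : T ⟶ X) {F : EtCoh.Ab X} {U : X.Etale}
    (S : AddSubgroup (F.obj.obj (op U))) [Finite S]
    (h : ∀ (k : Type u) [Field k] [IsAlgClosed k] (η : Spec (CommRingCat.of k) ⟶ X)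
      (z : (Scheme.pointSmallEtale η).fiber.obj U), U.hom.base (ptOf z) ∈ Set.range g.base →
        Function.Bijective fun s : S => (Scheme.pointSmallEtale η).toPresheafFiber U z F.obj s.1) :
    ∃ S', FinConst ((EtCoh.pull g).obj F) ((EtCoh.bc g).obj U) S' := by
  let m := (((EtCoh.bc g).sheafAdjunctionContinuous AddCommGrpCat.{u + 1} X.smallEtaleTopology
    T.smallEtaleTopology).unit.app F).hom.app (op U)
  let e : S → S.map m.hom := fun s => ⟨m s.1, AddSubgroup.mem_map_of_mem _ s.2⟩
  have he : Function.Surjective e := fun ⟨_, s, hs, rfl⟩ => ⟨⟨s, hs⟩, rfl⟩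
  refine ⟨S.map m.hom, Finite.of_surjective e he, fun Ω _ _ ξ z => ?_⟩
  let i := ((sheafFiberPullIso (A := AddCommGrpCat.{u + 1}) g ξ).app F).symm
  have hi : Function.Bijective i.hom := i.addCommGroupIsoToAddEquiv.bijective
  have hp : U.hom.base (ptOf (bcFiberEquiv g ξ U z)) ∈ Set.range g.base :=
    ⟨ξ.base (default : Spec (CommRingCat.of Ω)), (Scheme.Hom.comp_apply _ _ _).symm.trans (hom_ptOf _).symm⟩
  have hb : Function.Bijective (i.hom ∘ fun s : S =>
      (Scheme.pointSmallEtale (ξ ≫ g)).toPresheafFiber U (bcFiberEquiv g ξ U z) F.obj s.1) :=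
    hi.comp (h Ω (ξ ≫ g) _ hp)
  let T' := fun t : S.map m.hom => (Scheme.pointSmallEtale ξ).toPresheafFiber ((EtCoh.bc g).obj U) z ((EtCoh.pull g).obj F).obj t.1
  have hT : Function.Bijective (T' ∘ e) := by
    refine Eq.mp (congrArg Function.Bijective (funext fun s => ?_)) hb
    exact ConcreteCategory.congr_hom (sheafFiberPullIso_germ g ξ F U z) s.1
  exact ⟨Function.Injective.of_comp_right hT.1 he, Function.Surjective.of_comp hT.2⟩

/-- a section group inducing the stalks along a constructible neighbourhood of a point gives a constructible piece -/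
theorem exists_piece_of_good {F : EtCoh.Ab X} {V : X.Opens} (hV : IsAffineOpen V) {U : X.Etale} {Ω : Type u} [Field Ω]
    [IsSepClosed Ω] {ξ : Spec (CommRingCat.of Ω) ⟶ X} (u : (Scheme.pointSmallEtale ξ).fiber.obj U)
    {A : U.left.Opens} (hA : IsAffineOpen A) (hAV : A ≤ U.hom ⁻¹ᵁ V) (hpA : ptOf u ∈ A)
    (S : AddSubgroup (F.obj.obj (op U))) [Finite S]
    {Good : Set ↥(A : Set U.left)} (hGood : IsConstructible Good) (hpGood : (⟨ptOf u, hpA⟩ : ↥(A : Set U.left)) ∈ Good)
    (hgood : ∀ {k : Type u} [Field k] [IsAlgClosed k] {η : Spec (CommRingCat.of k) ⟶ X}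
      (z : (Scheme.pointSmallEtale η).fiber.obj U), (∃ a ∈ Good, a.1 = ptOf z) →
        Function.Bijective fun s : S => (Scheme.pointSmallEtale η).toPresheafFiber U z F.obj s.1) :
    ∃ E : Set X, ξ.base (default : Spec (CommRingCat.of Ω)) ∈ E ∧ IsPiece F E ∧
      IsConstructible ((Subtype.val : ↥(V : Set X) → X) ⁻¹' E) := by
  have : AlgebraicGeometry.Etale U.hom := U.prop
  have : CompactSpace ↥(A : Set U.left) := isCompact_iff_compactSpace.1 hA.isCompact
  have : QuasiSeparatedSpace ↥(A : Set U.left) :=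
    (isQuasiSeparated_iff_quasiSeparatedSpace _ A.2).1 hA.isQuasiSeparated
  have : PrespectralSpace ↥(A : Set U.left) := A.2.isOpenEmbedding_subtypeVal.prespectralSpace
  have : QuasiSober ↥(A : Set U.left) := A.2.isOpenEmbedding_subtypeVal.quasiSober
  have : CompactSpace ↥(V : Set X) := isCompact_iff_compactSpace.1 hV.isCompact
  have : QuasiSeparatedSpace ↥(V : Set X) := (isQuasiSeparated_iff_quasiSeparatedSpace _ V.2).1 hV.isQuasiSeparated
  have : PrespectralSpace ↥(V : Set X) := V.2.isOpenEmbedding_subtypeVal.prespectralSpace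
  have : QuasiSober ↥(V : Set X) := V.2.isOpenEmbedding_subtypeVal.quasiSober
  let val : ↥(A : Set U.left) → U.left := Subtype.val
  let π : ↥(A : Set U.left) → ↥(V : Set X) := fun a => ⟨U.hom.base a.1, hAV a.2⟩
  have hπ : Continuous π := (U.hom.continuous.comp continuous_subtype_val).subtype_mk _
  let p : ↥(A : Set U.left) := ⟨ptOf u, hpA⟩
  -- an open of `A` meeting the fibre only in the point
  have hfib : (π ⁻¹' {π p} \ {p}).Finite := by
    have : IsAffine A.toScheme := hA
    have : IsAffine V.toScheme := hV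
    let f : A.toScheme ⟶ V.toScheme := Scheme.Hom.resLE U.hom V A hAV
    have hf : LocallyQuasiFinite f := by
      rw [HasRingHomProperty.iff_appLE (P := @LocallyQuasiFinite)]
      intro U₀ W₀ e'
      have := HasRingHomProperty.appLE @AlgebraicGeometry.Etale f inferInstance U₀ W₀ e'
      algebraize [(f.appLE U₀.1 W₀.1 e').hom]
      exact (inferInstance : Algebra.QuasiFinite Γ(V.toScheme, U₀.1) Γ(A.toScheme, W₀.1))
    have : QuasiCompact f := (quasiCompact_iff_compactSpace f).2 inferInstance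
    refine (f.finite_preimage_singleton (π p)).subset fun q hq => ?_
    refine Set.mem_singleton_iff.2 (Subtype.ext ?_)
    refine Eq.trans ?_ (congrArg Subtype.val hq.1)
    show V.ι.base (f.base q) = U.hom.base q.1
    rw [← Scheme.Hom.comp_apply, Scheme.Hom.resLE_comp_ι]
    exact Scheme.Hom.comp_apply _ _ _
  have hsep : ∀ q ∈ π ⁻¹' {π p} \ {p}, ∃ O : Set ↥(A : Set U.left), IsOpen O ∧ p ∈ O ∧ q ∉ O := fun q hq => by
    by_contra h
    push Not at h
    have hs : val q ⤳ val p := (specializes_iff_forall_open.2 fun O hO hp => h O hO hp).map continuous_subtype_val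
    exact hq.2 (Subtype.ext (eq_of_specializes U hs (congrArg Subtype.val hq.1)))
  choose! O hO hpO hqO using hsep
  obtain ⟨O', hO', hO'c, hpO', hO'O⟩ := SpecLib.exists_qc (x := p)
    (O := ⋂ q ∈ π ⁻¹' {π p} \ {p}, O q) (Set.mem_iInter₂.2 hpO) (hfib.isOpen_biInter hO)
  -- some constructible neighbourhood of the point pulls back into the good locus
  obtain ⟨E, ⟨hEc, hElc, hyE⟩, hEgood⟩ : ∃ E : Set ↥(V : Set X),
      (IsConstructible E ∧ IsLocallyClosed E ∧ π p ∈ E) ∧ O' ∩ π ⁻¹' E ⊆ Good := by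
    by_contra hno
    push Not at hno
    let I := {E : Set ↥(V : Set X) // IsConstructible E ∧ IsLocallyClosed E ∧ π p ∈ E}
    haveI : Nonempty I := ⟨⟨Set.univ, IsConstructible.univ, isOpen_univ.isLocallyClosed, trivial⟩⟩
    have hpre : ∀ E : I, IsConstructible (π ⁻¹' E.1) := fun E => by
      have h1 : IsConstructible ((Subtype.val : ↥(V : Set X) → X) ⁻¹' (Subtype.val '' E.1)) := by
        rw [Set.preimage_image_eq _ Subtype.val_injective]
        exact E.2.1
      have h2 := isConstructible_preimage_affine U.hom hA hV hAV h1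
      refine Eq.mp (congrArg IsConstructible ?_) h2
      ext a
      exact ⟨fun ⟨b, hb, e⟩ => show π a ∈ E.1 from Set.mem_of_eq_of_mem (Subtype.ext e.symm : π a = b) hb, fun ha => ⟨π a, ha, rfl⟩⟩
    obtain ⟨q, hq⟩ := SpecLib.CC.nonempty_iInter (fun E : I => (O' ∩ π ⁻¹' E.1) \ Good)
      (fun E E' => ⟨⟨E.1 ∩ E'.1, E.2.1.inter E'.2.1, E.2.2.1.inter E'.2.2.1, E.2.2.2, E'.2.2.2⟩,
        fun a ha => ⟨⟨ha.1.1, ha.1.2.1⟩, ha.2⟩, fun a ha => ⟨⟨ha.1.1, ha.1.2.2⟩, ha.2⟩⟩)
      (fun E => by
        obtain ⟨a, ha, ha'⟩ := Set.not_subset.1 (hno E.1 E.2)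
        exact ⟨a, ha, ha'⟩)
      (fun E => ((SpecLib.cc_of_isOpen_isCompact hO' hO'c).inter (SpecLib.cons_clopen (hpre E)).1).inter
        (SpecLib.cons_clopen hGood.compl).1)
    rw [Set.mem_iInter] at hq
    have hq0 := hq (Classical.arbitrary I)
    have hqp : π q = π p := by
      by_contra hne
      obtain ⟨W, hW, hWc, hWne⟩ := SpecLib.exists_qc_separating hne
      have hWC := (IsCompact.isRetrocompact hWc hW).isConstructible hW
      by_cases hy : π p ∈ W
      · exact hWne (iff_of_true (hq ⟨W, hWC, hW.isLocallyClosed, hy⟩).1.2 hy)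
      · exact (hq ⟨Wᶜ, hWC.compl, hW.isClosed_compl.isLocallyClosed, hy⟩).1.2
          (by_contra fun hq' => hWne (iff_of_false hq' hy))
    by_cases hqe : q = p
    · exact hq0.2 (hqe ▸ hpGood)
    · exact hqO q ⟨hqp, hqe⟩ (Set.mem_iInter₂.1 (hO'O hq0.1.1) q ⟨hqp, hqe⟩)
  -- the stratum
  let W : U.left.Opens := ⟨val '' O', A.2.isOpenMap_subtype_val _ hO'⟩
  let E' : Set X := Subtype.val '' E ∩ U.hom.base '' (W : Set U.left)
  have hlc : IsLocallyClosed E' :=
    (hElc.image IsInducing.subtypeVal (by rw [Subtype.range_coe]; exact V.2.isLocallyClosed)).inter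
      (U.hom.isOpenMap (W : Set U.left) W.2).isLocallyClosed
  obtain ⟨T, g, hg, hr⟩ := exists_immersion_range hlc
  refine ⟨E', ⟨⟨π p, hyE, hom_ptOf u⟩, ptOf u, ⟨p, hpO', rfl⟩, hom_ptOf u⟩, ⟨T, g, hg, hr, ?_⟩, ?_⟩
  · let U' : X.Etale := Scheme.Etale.mk (W.ι ≫ U.hom)
    let r : U' ⟶ U := MorphismProperty.Over.homMk W.ι rfl
    let e : S → S.map (F.obj.map r.op).hom := fun s => ⟨F.obj.map r.op s.1, AddSubgroup.mem_map_of_mem _ s.2⟩
    have he : Function.Surjective e := fun ⟨_, s, hs, rfl⟩ => ⟨⟨s, hs⟩, rfl⟩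
    have : Finite (S.map (F.obj.map r.op).hom) := Finite.of_surjective e he
    obtain ⟨S', hS'⟩ := finConst_pull g (S.map (F.obj.map r.op).hom) fun k _ _ η z hz => by
      obtain ⟨a, ha, hae⟩ : ptOf ((Scheme.pointSmallEtale η).fiber.map r z) ∈ W := (ptOf_map r z).symm ▸ (ptOf z).2
      have hb := hgood ((Scheme.pointSmallEtale η).fiber.map r z) ⟨a, hEgood ⟨ha, ?_⟩, hae⟩
      · let T' := fun t : S.map (F.obj.map r.op).hom => (Scheme.pointSmallEtale η).toPresheafFiber U' z F.obj t.1
        have hT : Function.Bijective (T' ∘ e) := by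
          refine Eq.mp (congrArg Function.Bijective (funext fun s => ?_)) hb
          exact ((Scheme.pointSmallEtale η).toPresheafFiber_w_apply r z F.obj s.1).symm
        exact ⟨Function.Injective.of_comp_right hT.1 he, Function.Surjective.of_comp hT.2⟩
      · obtain ⟨b, hb, hbe⟩ := (hr.le hz).1
        have h1 : W.ι.base (ptOf z) = val a := (ptOf_map r z).symm.trans hae.symm
        have : b = π a := Subtype.ext (hbe.trans ((Scheme.Hom.comp_apply _ _ _).trans (congrArg U.hom.base h1)))
        show π a ∈ E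
        exact this ▸ hb
    refine (isFiniteLocallyConstant_iff _).2 fun t => ?_
    obtain ⟨q, hq, hqe⟩ := (hr.le ⟨t, rfl⟩).2
    obtain ⟨w, -, hw⟩ := Scheme.Pullback.exists_preimage_pullback (f := U'.hom) (g := g) (⟨q, hq⟩ : W.toScheme) t
      ((Scheme.Hom.comp_apply _ _ _).trans hqe)
    exact ⟨_, w, hw, S', hS'⟩
  · have hc' : IsCompact (π '' O') := hO'c.image hπ
    have ho' : IsOpen (π '' O') := by
      have h1 : π '' O' = Subtype.val ⁻¹' (U.hom.base '' (W : Set U.left)) := by
        ext b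
        constructor
        · rintro ⟨a, ha, rfl⟩
          exact ⟨a.1, ⟨a, ha, rfl⟩, rfl⟩
        · rintro ⟨_, ⟨a, ha, rfl⟩, e⟩
          exact ⟨a, ha, Subtype.ext e⟩
      rw [h1]
      exact (U.hom.isOpenMap (W : Set U.left) W.2).preimage continuous_subtype_val
    refine Eq.mp (congrArg IsConstructible ?_) (hEc.inter ((IsCompact.isRetrocompact hc' ho').isConstructible ho'))
    ext b
    constructor
    · rintro ⟨hb, a, ha, rfl⟩
      exact ⟨⟨π a, hb, rfl⟩, a.1, ⟨a, ha, rfl⟩, rfl⟩
    · rintro ⟨⟨b', hb', e⟩, _, ⟨a, ha, rfl⟩, e'⟩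
      exact ⟨Subtype.ext e ▸ hb', a, ha, Subtype.ext e'⟩

/-- constructibility from constructible pieces through all points -/
theorem isConstructible_of_pieces {F : EtCoh.Ab X} (h : ∀ (V : X.Opens), IsAffineOpen V → ∀ y : X, y ∈ V →
    ∃ E : Set X, y ∈ E ∧ IsPiece F E ∧ IsConstructible ((Subtype.val : ↥(V : Set X) → X) ⁻¹' E)) :
    EtPBC.IsConstructible F := by
  intro V hV
  have : CompactSpace ↥(V : Set X) := isCompact_iff_compactSpace.1 hV.isCompact
  have : QuasiSeparatedSpace ↥(V : Set X) := (isQuasiSeparated_iff_quasiSeparatedSpace _ V.2).1 hV.isQuasiSeparated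
  have : PrespectralSpace ↥(V : Set X) := V.2.isOpenEmbedding_subtypeVal.prespectralSpace
  have : QuasiSober ↥(V : Set X) := V.2.isOpenEmbedding_subtypeVal.quasiSober
  choose E hyE hE hEc using fun y : ↥(V : Set X) => h V hV y.1 y.2
  obtain ⟨t, ht⟩ := exists_finite_cover (fun y => Subtype.val ⁻¹' E y) hEc fun y => ⟨y, hyE y⟩
  refine adaptedStrata_of_cover V.2.isLocallyClosed (fun k : t => E k.1) (fun k => hE _) (fun k => hEc _) fun x hx => ?_
  obtain ⟨k, hk, hxk⟩ := ht ⟨x, hx⟩
  exact Set.mem_iUnion.2 ⟨⟨k, hk⟩, hxk⟩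

/-- weak constructibility gives a constructible piece through every point of an affine open -/
theorem IsWeaklyConstructible.exists_piece {F : EtCoh.Ab X} (hF : IsWeaklyConstructible F) {V : X.Opens}
    (hV : IsAffineOpen V) (y : X) (hyV : y ∈ V) :
    ∃ E : Set X, y ∈ E ∧ IsPiece F E ∧ IsConstructible ((Subtype.val : ↥(V : Set X) → X) ⁻¹' E) := by
  obtain ⟨Ω, _, _, ξ, rfl⟩ := exists_geomPoint y
  have : Finite ((EtCoh.stalk ξ).obj F) := hF.finite Ω ξ
  obtain ⟨U, u, l, hl⟩ := exists_stalk_sections (F := F) ξ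
  have : AlgebraicGeometry.Etale U.hom := U.prop
  have hlinj : Function.Injective l := fun a b e => (hl a).symm.trans ((congrArg _ e).trans (hl b))
  have : Finite l.range := Finite.of_surjective l.rangeRestrict l.rangeRestrict_surjective
  have hu : Function.Bijective fun s : l.range => (Scheme.pointSmallEtale ξ).toPresheafFiber U u F.obj s.1 :=
    ⟨fun ⟨_, a, rfl⟩ ⟨_, b, rfl⟩ e => Subtype.ext (congrArg l ((hl a).symm.trans (e.trans (hl b)))),
      fun c => ⟨⟨l c, c, rfl⟩, hl c⟩⟩
  let n := Nat.card ((EtCoh.stalk ξ).obj F)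
  have hP : ∀ A B : Type (u + 1), Nonempty (A ≃ B) → Nat.card A = n → Nat.card B = n :=
    fun A B ⟨e⟩ hA => (Nat.card_congr e).symm.trans hA
  have hcard : Nat.card l.range = n := Nat.card_eq_of_bijective _ hu
  obtain ⟨A, hA, hpA, hAV⟩ := exists_isAffineOpen_mem_and_subset
    (U := (U.hom ⁻¹ᵁ V : U.left.Opens)) (x := ptOf u) (show U.hom.base (ptOf u) ∈ V from Set.mem_of_eq_of_mem (hom_ptOf u) hyV)
  -- the spaces
  have : CompactSpace ↥(A : Set U.left) := isCompact_iff_compactSpace.1 hA.isCompact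
  have : QuasiSeparatedSpace ↥(A : Set U.left) :=
    (isQuasiSeparated_iff_quasiSeparatedSpace _ A.2).1 hA.isQuasiSeparated
  have : PrespectralSpace ↥(A : Set U.left) := A.2.isOpenEmbedding_subtypeVal.prespectralSpace
  have : QuasiSober ↥(A : Set U.left) := A.2.isOpenEmbedding_subtypeVal.quasiSober
  have : CompactSpace ↥(V : Set X) := isCompact_iff_compactSpace.1 hV.isCompact
  have : QuasiSeparatedSpace ↥(V : Set X) := (isQuasiSeparated_iff_quasiSeparatedSpace _ V.2).1 hV.isQuasiSeparated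
  have : PrespectralSpace ↥(V : Set X) := V.2.isOpenEmbedding_subtypeVal.prespectralSpace
  have : QuasiSober ↥(V : Set X) := V.2.isOpenEmbedding_subtypeVal.quasiSober
  let val : ↥(A : Set U.left) → U.left := Subtype.val
  let p : ↥(A : Set U.left) := ⟨ptOf u, hpA⟩
  -- where the germs are bijective
  let K : Set ↥(A : Set U.left) := val ⁻¹' (U.hom.base ⁻¹' stalkSet F fun A => Nat.card A = n)
  let Good : Set ↥(A : Set U.left) := K ∩ ⋂ c : {c : (EtCoh.stalk ξ).obj F // c ≠ 0}, val ⁻¹' germSupp F U (l c.1)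
  have hGood : IsConstructible Good := by
    refine IsConstructible.inter ?_ (IsConstructible.iInter fun c => hF.supp U _ V hV A hA hAV)
    exact isConstructible_preimage_affine U.hom hA hV hAV
      ((hF.card n).preimage_of_isOpenEmbedding V.2.isOpenEmbedding_subtypeVal).isConstructible
  have hpGood : p ∈ Good := by
    refine ⟨?_, Set.mem_iInter.2 fun c => ?_⟩
    · show U.hom.base (ptOf u) ∈ stalkSet F (fun B => Nat.card B = n)
      rw [hom_ptOf u, mem_stalkSet_iff hP]
    · show ptOf u ∈ germSupp F U (l c.1)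
      rw [mem_germSupp_iff, hl]
      exact c.2
  have hgood : ∀ {k : Type u} [Field k] [IsSepClosed k] {η : Spec (CommRingCat.of k) ⟶ X}
      (z : (Scheme.pointSmallEtale η).fiber.obj U), (∃ a ∈ Good, val a = ptOf z) →
        Function.Bijective fun s : l.range => (Scheme.pointSmallEtale η).toPresheafFiber U z F.obj s.1 := by
    rintro k _ _ η z ⟨a, ⟨haK, haS⟩, haz⟩
    have hfin : Finite ((EtCoh.stalk η).obj F) := hF.finite k η
    have hn : Nat.card ((EtCoh.stalk η).obj F) = n := by
      rw [← mem_stalkSet_iff hP η (P := fun B => Nat.card B = n), ← hom_ptOf z, ← haz]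
      exact haK
    refine @Function.Injective.bijective_of_nat_card_le _ _ hfin _ ?_ (hn.trans hcard.symm).le
    rintro ⟨_, a', rfl⟩ ⟨_, b', rfl⟩ e
    refine Subtype.ext (congrArg l (sub_eq_zero.1 (by_contra fun hab =>
      (mem_germSupp_iff _ z).1 (Set.mem_of_eq_of_mem haz.symm (Set.mem_iInter.1 haS ⟨_, hab⟩)) ?_)))
    rw [map_sub, map_sub, sub_eq_zero]
    exact e
  exact exists_piece_of_good hV u hA hAV hpA l.range hGood hpGood fun z hz => hgood z hz

/-- weakly constructible sheaves are constructible -/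
theorem IsWeaklyConstructible.isConstructible {F : EtCoh.Ab X} (hF : IsWeaklyConstructible F) :
    EtPBC.IsConstructible F :=
  isConstructible_of_pieces fun _ hV y hy => hF.exists_piece hV y hy

end Groth.Agent.EtFound
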