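import Groth.Agent.EtFound.Detect
import Groth.Agent.EtFound.ConstStalk
import Mathlib.CategoryTheory.Sites.ConstantSheaf

/-! sheaves on the small etale site of a separably closed field -/

universe u

open CategoryTheory CategoryTheory.Limits AlgebraicGeometry Opposite

namespace Groth.Agent.EtFound

set_option backward.isDefEq.respectTransparency.types false

variable (k : Type u) [Field k] [IsSepClosed k]

/-- the only geometric point -/
noncomputable abbrev idTop : (Scheme.pointSmallEtale (𝟙 (Spec (CommRingCat.of k)))).fiber.obj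
    (EtCoh.top (Spec (CommRingCat.of k))) :=
  CategoryTheory.Over.homMk (𝟙 _) (Category.comp_id _)

variable {k}

theorem exists_hom_idTop {U : (Spec (CommRingCat.of k)).Etale}
    (u : (Scheme.pointSmallEtale (𝟙 (Spec (CommRingCat.of k)))).fiber.obj U) :
    ∃ g : EtCoh.top (Spec (CommRingCat.of k)) ⟶ U,
      (Scheme.pointSmallEtale (𝟙 (Spec (CommRingCat.of k)))).fiber.map g (idTop k) = u :=
  ⟨MorphismProperty.Over.homMk (u.left : Spec (CommRingCat.of k) ⟶ U.left) (CategoryTheory.Over.w u),
    CategoryTheory.Over.OverMorphism.ext (Category.id_comp _)⟩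

theorem hom_top_eq_id (e : EtCoh.top (Spec (CommRingCat.of k)) ⟶ EtCoh.top (Spec (CommRingCat.of k))) :
    e = 𝟙 _ :=
  (MorphismProperty.Over.mkIdTerminal EtCoh.etaleMP (Spec (CommRingCat.of k))).hom_ext _ _

variable {A : Type (u + 2)} [Category.{u + 1} A] {FA : A → A → Type*} {CA : A → Type (u + 1)}
  [∀ M N, FunLike (FA M N) (CA M) (CA N)] [hCC : ConcreteCategory.{u + 1} A FA]
  [HasColimitsOfSize.{u, u} A] [hpf : PreservesFilteredColimitsOfSize.{u, u} (forget A)]

theorem toPresheafFiber_idTop_bijective (P : (Spec (CommRingCat.of k)).Etaleᵒᵖ ⥤ A) :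
    Function.Bijective ((Scheme.pointSmallEtale (𝟙 (Spec (CommRingCat.of k)))).toPresheafFiber _ (idTop k) P) := by
  refine ⟨fun s t h => ?_, fun p => ?_⟩
  · obtain ⟨V, f, v, hv, hf⟩ :=
      ((Scheme.pointSmallEtale (𝟙 (Spec (CommRingCat.of k)))).toPresheafFiber_eq_iff' _ _ s t).1 h
    obtain ⟨g, -⟩ := exists_hom_idTop v
    have := congr(P.map g.op $hf)
    simpa only [← ConcreteCategory.comp_apply, ← Functor.map_comp, ← op_comp, hom_top_eq_id (g ≫ f), op_id,
      CategoryTheory.Functor.map_id, ConcreteCategory.id_apply] using this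
  · obtain ⟨V, v, z, rfl⟩ :=
      (Scheme.pointSmallEtale (𝟙 (Spec (CommRingCat.of k)))).toPresheafFiber_jointly_surjective p
    obtain ⟨g, hg⟩ := exists_hom_idTop v
    exact ⟨P.map g.op z, by
      rw [← hg]; exact (Scheme.pointSmallEtale (𝟙 (Spec (CommRingCat.of k)))).toPresheafFiber_w_apply g _ P z⟩

variable [hri : (forget A).ReflectsIsomorphisms]

variable (k A) in
/-- global sections = the stalk -/
noncomputable def sectTopIso :
    (sheafSections (Spec (CommRingCat.of k)).smallEtaleTopology A).obj (op (EtCoh.top (Spec (CommRingCat.of k)))) ≅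
      (Scheme.pointSmallEtale (𝟙 (Spec (CommRingCat.of k)))).sheafFiber :=
  NatIso.ofComponents
    (fun F => @asIso _ _ _ _ ((Scheme.pointSmallEtale (𝟙 (Spec (CommRingCat.of k)))).toPresheafFiber _ (idTop k) F.obj)
      ((ConcreteCategory.isIso_iff_bijective _).2 (toPresheafFiber_idTop_bijective F.obj)))
    (fun f => ((Scheme.pointSmallEtale (𝟙 (Spec (CommRingCat.of k)))).toPresheafFiber_naturality f.hom _ _).symm)

variable [HasProducts.{u} A] [hsc : (Spec (CommRingCat.of k)).smallEtaleTopology.HasSheafCompose (forget A)]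
  [HasWeakSheafify (Spec (CommRingCat.of k)).smallEtaleTopology A]
  [hW : (Spec (CommRingCat.of k)).smallEtaleTopology.WEqualsLocallyBijective A]

include hCC hpf hri hsc hW

theorem sectTop_reflectsIso :
    ((sheafSections (Spec (CommRingCat.of k)).smallEtaleTopology A).obj
      (op (EtCoh.top (Spec (CommRingCat.of k))))).ReflectsIsomorphisms := by
  refine ⟨fun {F G} a ha => isIso_of_stalks a fun Ω _ _ ξ => ?_⟩
  have h1 := (NatIso.isIso_map_iff (sectTopIso k A) a).1 ha
  have h2 := (NatIso.isIso_map_iff (stalkExtIso A (𝟙 (Spec (CommRingCat.of k))) ξ) a).1 h1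
  rw [Category.comp_id] at h2
  exact (ConcreteCategory.isIso_iff_bijective _).1 h2

theorem constantSheafAdj_unit_isIso (M : A) :
    IsIso ((constantSheafAdj (Spec (CommRingCat.of k)).smallEtaleTopology A
      (MorphismProperty.Over.mkIdTerminal EtCoh.etaleMP (Spec (CommRingCat.of k)))).unit.app M) := by
  refine (ConcreteCategory.isIso_iff_bijective _).2 ?_
  have h := toSheafify_const_germ_bijective (𝟙 (Spec (CommRingCat.of k))) A M _ (idTop k)
  have h' := Function.Bijective.of_comp_iff' (toPresheafFiber_idTop_bijective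
    (sheafify (Spec (CommRingCat.of k)).smallEtaleTopology ((Functor.const _).obj M)))
    (fun m => (toSheafify (Spec (CommRingCat.of k)).smallEtaleTopology ((Functor.const _).obj M)).app
      (op (EtCoh.top (Spec (CommRingCat.of k)))) m)
  have e : (constantSheafAdj (Spec (CommRingCat.of k)).smallEtaleTopology A
      (MorphismProperty.Over.mkIdTerminal EtCoh.etaleMP (Spec (CommRingCat.of k)))).unit.app M =
      (toSheafify (Spec (CommRingCat.of k)).smallEtaleTopology ((Functor.const _).obj M)).app
        (op (EtCoh.top (Spec (CommRingCat.of k)))) := by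
    simp [constantSheafAdj, constantPresheafAdj, Adjunction.comp_unit_app]
  rw [e]
  exact h'.1 h

theorem sectTop_isEquivalence :
    ((sheafSections (Spec (CommRingCat.of k)).smallEtaleTopology A).obj
      (op (EtCoh.top (Spec (CommRingCat.of k))))).IsEquivalence := by
  let adj := constantSheafAdj (Spec (CommRingCat.of k)).smallEtaleTopology A
      (MorphismProperty.Over.mkIdTerminal EtCoh.etaleMP (Spec (CommRingCat.of k)))
  have : ∀ M, IsIso (adj.unit.app M) := constantSheafAdj_unit_isIso
  have := sectTop_reflectsIso (k := k) (A := A)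
  have : ∀ F, IsIso (adj.counit.app F) := fun F => by
    have h : IsIso (((sheafSections (Spec (CommRingCat.of k)).smallEtaleTopology A).obj
        (op (EtCoh.top (Spec (CommRingCat.of k))))).map (adj.counit.app F)) := by
      have := adj.right_triangle_components F
      exact IsIso.of_isIso_fac_left this
    exact isIso_of_reflects_iso (adj.counit.app F) ((sheafSections (Spec (CommRingCat.of k)).smallEtaleTopology A).obj
      (op (EtCoh.top (Spec (CommRingCat.of k)))))
  exact adj.toEquivalence.isEquivalence_inverse

theorem sheafFiber_isEquivalence :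
    (Scheme.pointSmallEtale (𝟙 (Spec (CommRingCat.of k)))).sheafFiber (A := A).IsEquivalence := by
  have := sectTop_isEquivalence (k := k) (A := A)
  exact Functor.isEquivalence_of_iso (sectTopIso k A)

end Groth.Agent.EtFound
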