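import Groth.Agent.EtFound.IntegralSplit
import Groth.Agent.EtFound.PushOutside
import Mathlib.AlgebraicGeometry.Morphisms.UniversallyInjective

/-! direct images along universally injective integral morphisms -/

universe u

open CategoryTheory CategoryTheory.Limits AlgebraicGeometry Opposite

namespace Groth.Agent.EtFound

set_option backward.isDefEq.respectTransparency.types false

variable {X Y : Scheme.{u}} (f : X ⟶ Y) [IsIntegralHom f] [UniversallyInjective f]

theorem liftable_of_integral_univInj : Liftable f := by
  intro U x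
  have : AlgebraicGeometry.Etale U.hom := U.prop
  obtain ⟨V, v, hv, z, -, h, hh, w, hw⟩ := exists_split f U.hom (f.base (U.hom.base x))
    (fun y hy => ⟨x, (f.injective hy).symm⟩) x rfl
  refine ⟨Scheme.Etale.mk v, MorphismProperty.Over.homMk ((pullbackSymmetry v f).hom ≫ h)
    ((Category.assoc _ _ _).trans ((congrArg ((pullbackSymmetry v f).hom ≫ ·) hh).trans
      (pullbackSymmetry_hom_comp_fst v f))), (pullbackSymmetry v f).inv.base w, ?_⟩
  refine ((Scheme.Hom.comp_apply (pullbackSymmetry v f).inv _ w).symm.trans ?_).trans hw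
  exact congrArg (fun k : _ ⟶ U.left => k.base w) ((pullbackSymmetry v f).inv_hom_id_assoc h)

theorem univEmb_of_integral_univInj : UnivEmb f := fun V =>
  have : UniversallyInjective (pullback.fst V.hom f) :=
    MorphismProperty.pullback_fst (P := @UniversallyInjective) V.hom f ‹UniversallyInjective f›
  (Topology.IsClosedEmbedding.of_continuous_injective_isClosedMap (pullback.fst V.hom f).continuous
    (pullback.fst V.hom f).injective (pullback.fst V.hom f).isClosedMap).isEmbedding

theorem counit_isIso_of_integral_univInj (G : EtCoh.Ab X) : IsIso ((EtCoh.pullPushAdj f).counit.app G) :=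
  counit_isIso' f (liftable_of_integral_univInj f) (univEmb_of_integral_univInj f) G

theorem unit_isIso_of_supp (F : EtCoh.Ab Y) (hF : ∀ (k : Type u) (_ : Field k) (_ : IsSepClosed k)
    (ξ : Spec (CommRingCat.of k) ⟶ Y), ξ.base (default : Spec (CommRingCat.of k)) ∉ Set.range f.base →
      IsZero ((EtCoh.stalk ξ).obj F)) :
    IsIso ((EtCoh.pullPushAdj f).unit.app F) := by
  refine unit_isIso_of_outside' f (liftable_of_integral_univInj f) (univEmb_of_integral_univInj f)
    f.isClosedMap.isClosed_range F fun k hk hk' ξ hξ => ?_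
  have := AddCommGrpCat.subsingleton_of_isZero (hF k hk hk' ξ hξ)
  exact ⟨@Unique.mk' _ ⟨(0 : (EtCoh.stalk ξ).obj F)⟩ this⟩

theorem unit_isIso_of_surjective [Surjective f] (F : EtCoh.Ab Y) : IsIso ((EtCoh.pullPushAdj f).unit.app F) :=
  unit_isIso_of_supp f F fun _ _ _ ξ hξ => absurd (f.surjective _) hξ

theorem pull_isEquivalence_of_surjective [Surjective f] : (EtCoh.pull f).IsEquivalence := by
  have : ∀ F, IsIso ((EtCoh.pullPushAdj f).unit.app F) := unit_isIso_of_surjective f
  have : ∀ G, IsIso ((EtCoh.pullPushAdj f).counit.app G) := counit_isIso_of_integral_univInj f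
  exact (EtCoh.pullPushAdj f).toEquivalence.isEquivalence_functor

end Groth.Agent.EtFound
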