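import Groth.Agent.EtFound.IntegralCore
import Mathlib.AlgebraicGeometry.Morphisms.Integral
import Mathlib.AlgebraicGeometry.Morphisms.Etale
import Mathlib.AlgebraicGeometry.Pullbacks
import Mathlib.AlgebraicGeometry.Limits

/-! etale covers along integral morphisms split etale locally on the base -/

universe u

open CategoryTheory CategoryTheory.Limits AlgebraicGeometry
open scoped TensorProduct

namespace Groth.Agent.EtFound

set_option backward.isDefEq.respectTransparency.types false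

/-- affine case -/
theorem exists_split_spec {A B C : CommRingCat.{u}} (φ : A ⟶ B) (χ : B ⟶ C)
    [IsIntegralHom (Spec.map φ)] [Etale (Spec.map χ)] (p : Spec A)
    (hs : ∀ x : Spec B, (Spec.map φ).base x = p → ∃ u, (Spec.map χ).base u = x)
    (Q : Spec C) (hQ : (Spec.map φ).base ((Spec.map χ).base Q) = p) :
    ∃ (A' : CommRingCat.{u}) (a : A ⟶ A') (_ : Etale (Spec.map a)) (z : Spec A') (_ : (Spec.map a).base z = p)
      (h : pullback (Spec.map φ) (Spec.map a) ⟶ Spec C),
      h ≫ Spec.map χ = pullback.fst (Spec.map φ) (Spec.map a) ∧ Q ∈ Set.range h.base := by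
  algebraize [φ.hom, χ.hom]
  have : Algebra.Etale B C := (HasRingHomProperty.Spec_iff (P := @Etale)).mp ‹Etale (Spec.map χ)›
  have : Algebra.IsIntegral A B :=
    ⟨IsIntegralHom.SpecMap_iff.mp ‹IsIntegralHom (Spec.map φ)›⟩
  obtain ⟨A', _, _, hA', p', ψ, x, hp', -, hxQ⟩ := exists_etale_section (A := A) (B := B) (C := C) p hs Q hQ
  refine ⟨CommRingCat.of A', CommRingCat.ofHom (algebraMap A A'), ?_, p', hp',
    (pullbackSpecIso A B A').hom ≫ Spec.map (CommRingCat.ofHom ψ.toRingHom), ?_, ?_⟩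
  · exact (HasRingHomProperty.Spec_iff (P := @Etale)).mpr (RingHom.etale_algebraMap.mpr hA')
  · rw [Category.assoc, ← Spec.map_comp]
    refine Eq.trans ?_ (pullbackSpecIso_hom_fst' A B A')
    congr 2
    ext b
    exact ψ.commutes b
  · exact ⟨(pullbackSpecIso A B A').inv.base x, by
      rw [← Scheme.Hom.comp_apply, Iso.inv_hom_id_assoc]
      exact hxQ⟩

variable {X Y U : Scheme.{u}} (f : X ⟶ Y) [IsIntegralHom f] (g : U ⟶ X) [Etale g]

/-- the fibre of `f` over `y` being covered by `U`, etale locally near `y` there is a section of `U`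
through any given point over `y` -/
theorem exists_split (y : Y) (hs : ∀ x : X, f.base x = y → ∃ u, g.base u = x) (u₀ : U)
    (hu₀ : f.base (g.base u₀) = y) :
    ∃ (V : Scheme.{u}) (v : V ⟶ Y) (_ : Etale v) (z : V) (_ : v.base z = y) (h : pullback f v ⟶ U),
      h ≫ g = pullback.fst f v ∧ u₀ ∈ Set.range h.base := by
  obtain ⟨A, j, hj, ⟨p, hp⟩, -⟩ := Scheme.exists_affine_mem_range_and_range_subset
    (x := y) (U := (⊤ : Y.Opens)) trivial
  have : IsAffine (pullback f j) := isAffine_of_isAffineHom (pullback.snd f j)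
  let B := Γ(pullback f j, ⊤)
  let e : pullback f j ≅ Spec B := (pullback f j).isoSpec
  obtain ⟨φ, hφ⟩ := Spec.map_surjective (e.inv ≫ pullback.snd f j)
  have : IsIntegralHom (Spec.map φ) := hφ ▸ inferInstanceAs (IsIntegralHom (e.inv ≫ pullback.snd f j))
  let k : Spec B ⟶ X := e.inv ≫ pullback.fst f j
  let UB := pullback g k
  -- affine opens of `UB` covering the fibre
  let 𝒰 := UB.affineCover
  have hS : IsCompact ((Spec.map φ).base ⁻¹' {p}) :=
    (Spec.map φ).isCompact_preimage_singleton p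
  obtain ⟨u₁, hu₁, hu₁'⟩ : ∃ u₁ : UB, (pullback.fst g k).base u₁ = u₀ ∧
      (Spec.map φ).base ((pullback.snd g k).base u₁) = p := by
    obtain ⟨b, hb, hb'⟩ := Scheme.Pullback.exists_preimage_pullback (g.base u₀) p (hu₀.trans hp.symm)
    obtain ⟨u₁, h1, h2⟩ := Scheme.Pullback.exists_preimage_pullback (f := g) (g := k) u₀ (e.hom.base b) (by
      simp only [k, ← Scheme.Hom.comp_apply, Iso.hom_inv_id_assoc]; exact hb.symm)
    refine ⟨u₁, h1, ?_⟩
    rw [h2, hφ]
    simp only [← Scheme.Hom.comp_apply, Iso.hom_inv_id_assoc]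
    exact hb'
  have hcov : ∀ x : Spec B, (Spec.map φ).base x = p → ∃ u : UB, (pullback.snd g k).base u = x := by
    intro x hx
    obtain ⟨u, hu⟩ := hs (k.base x) (by
      rw [← hp, ← hx, hφ]
      simp only [k, ← Scheme.Hom.comp_apply, Category.assoc, pullback.condition])
    obtain ⟨w, -, hw⟩ := Scheme.Pullback.exists_preimage_pullback (f := g) (g := k) u x hu
    exact ⟨w, hw⟩
  obtain ⟨t, ht⟩ := hS.elim_finite_subcover
    (fun i => (pullback.snd g k).base '' Set.range (𝒰.f i).base)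
    (fun i => (pullback.snd g k).isOpenMap _ (𝒰.f i).isOpenEmbedding.isOpen_range)
    (fun x hx => by
      obtain ⟨u, hu⟩ := hcov x hx
      obtain ⟨i, w, hw⟩ := 𝒰.exists_eq u
      exact Set.mem_iUnion.mpr ⟨i, u, ⟨w, hw⟩, hu⟩)
  obtain ⟨i₁, w₁, hw₁⟩ := 𝒰.exists_eq u₁
  classical
  let t' := insert i₁ t
  let Z := fun i : {i // i ∈ t'} => 𝒰.X i.1
  let c : (∐ Z) ⟶ UB := Sigma.desc fun i => 𝒰.f i.1
  have : Etale c := IsZariskiLocalAtSource.sigmaDesc fun i => inferInstance
  have : ∀ i, IsAffine (Z i) := fun i => inferInstanceAs (IsAffine (UB.affineCover.X i.1))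
  let eC := (∐ Z).isoSpec
  obtain ⟨χ, hχ⟩ := Spec.map_surjective (eC.inv ≫ c ≫ pullback.snd g k)
  have : Etale (Spec.map χ) := hχ ▸ inferInstanceAs (Etale (eC.inv ≫ c ≫ pullback.snd g k))
  have hmem : ∀ (i : {i // i ∈ t'}) (w : Z i), (Spec.map χ).base (eC.hom.base ((Sigma.ι Z i).base w)) =
      (pullback.snd g k).base ((𝒰.f i.1).base w) := fun i w => by
    rw [hχ]
    simp only [← Scheme.Hom.comp_apply, Iso.hom_inv_id_assoc, c, Sigma.ι_desc_assoc, Category.assoc]
  obtain ⟨A', a, ha, z, hz, h, hh, hQ⟩ := exists_split_spec φ χ p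
    (fun x hx => by
      obtain ⟨i, hi⟩ := Set.mem_iUnion.mp (ht hx)
      obtain ⟨hit, u, ⟨w, rfl⟩, rfl⟩ := Set.mem_iUnion.mp hi
      exact ⟨_, hmem ⟨i, Finset.mem_insert_of_mem hit⟩ w⟩)
    (eC.hom.base ((Sigma.ι Z ⟨i₁, Finset.mem_insert_self _ _⟩).base w₁)) (by rw [hmem, hw₁, hu₁'])
  have P : IsPullback (pullback.fst (Spec.map φ) (Spec.map a) ≫ k)
      (pullback.snd (Spec.map φ) (Spec.map a)) f (Spec.map a ≫ j) := by
    refine ((IsPullback.of_hasPullback (Spec.map φ) (Spec.map a)).flip.paste_vert ?_).flip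
    exact (IsPullback.of_iso (IsPullback.of_hasPullback f j) e (Iso.refl _) (Iso.refl _) (Iso.refl _)
      (by simp [k]) (by simp [hφ]) (by simp) (by simp)).flip
  refine ⟨Spec A', Spec.map a ≫ j, inferInstance, z, (Scheme.Hom.comp_apply _ _ _).trans (by rw [hz, hp]),
    P.isoPullback.inv ≫ h ≫ eC.inv ≫ c ≫ pullback.fst g k, ?_, ?_⟩
  · simp only [Category.assoc, pullback.condition]
    rw [← Category.assoc c, ← Category.assoc eC.inv, ← hχ, reassoc_of% hh, P.isoPullback_inv_fst]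
  · obtain ⟨b, hb⟩ := hQ
    refine ⟨P.isoPullback.hom.base b, ?_⟩
    simp only [← Scheme.Hom.comp_apply, Iso.hom_inv_id_assoc]
    rw [Scheme.Hom.comp_apply, hb, ← Scheme.Hom.comp_apply, ← Scheme.Hom.comp_apply]
    simp only [c, Category.assoc, Iso.hom_inv_id_assoc, Sigma.ι_desc_assoc]
    rw [Scheme.Hom.comp_apply, hw₁, hu₁]

/-- etale covers along integral morphisms split near every point of the base -/
theorem exists_split' (y : Y) (hs : ∀ x : X, f.base x = y → ∃ u, g.base u = x) :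
    ∃ (V : Scheme.{u}) (v : V ⟶ Y) (_ : Etale v) (_ : y ∈ Set.range v.base) (h : pullback f v ⟶ U),
      h ≫ g = pullback.fst f v := by
  by_cases hy : y ∈ Set.range f.base
  · obtain ⟨x, hx⟩ := hy
    obtain ⟨u, rfl⟩ := hs x hx
    obtain ⟨V, v, hv, z, hz, h, hh, -⟩ := exists_split f g y hs u hx
    exact ⟨V, v, hv, ⟨z, hz⟩, h, hh⟩
  · let O : Y.Opens := ⟨(Set.range f.base)ᶜ, f.isClosedMap.isClosed_range.isOpen_compl⟩
    have : IsEmpty ↥(pullback f O.ι) := ⟨fun w => by
      refine ((pullback.snd f O.ι).base w).2 ⟨(pullback.fst f O.ι).base w, ?_⟩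
      rw [← Scheme.Hom.comp_apply, pullback.condition]
      rfl⟩
    exact ⟨O, O.ι, inferInstance, ⟨⟨y, hy⟩, rfl⟩, isInitialOfIsEmpty.to U, isInitialOfIsEmpty.hom_ext _ _⟩

end Groth.Agent.EtFound
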