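import Groth.Prelude.Def_BigSite
import Groth.Agent.EtFound.IntegralSplit
import Mathlib.AlgebraicGeometry.Morphisms.IsIso
import Mathlib.AlgebraicGeometry.PullbackCarrier

/-! conditions (A), (B), (C) for integral morphisms -/

universe u

open CategoryTheory CategoryTheory.Limits AlgebraicGeometry

namespace Groth.Agent.EtFound

set_option backward.isDefEq.respectTransparency.types false

variable {X Y : Scheme.{u}}

theorem etale_sigmaDesc {ι : Type u} {Z : ι → Scheme.{u}} (g : ∀ i, Z i ⟶ X) [∀ i, Etale (g i)] :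
    Etale (Sigma.desc g) := IsZariskiLocalAtSource.sigmaDesc fun i => inferInstance

theorem isClosed_opensRange_sigmaι {ι : Type u} (Z : ι → Scheme.{u}) (i : ι) :
    IsClosed ((Sigma.ι Z i).opensRange : Set ↥(∐ Z)) := by
  rw [← isOpen_compl_iff, isOpen_iff_forall_mem_open]
  intro x hx
  obtain ⟨j, z, rfl⟩ := (sigmaOpenCover Z).exists_eq x
  refine ⟨Set.range (Sigma.ι Z j).base, fun w hw hw' => ?_, (Sigma.ι Z j).isOpenEmbedding.isOpen_range,
    ⟨z, rfl⟩⟩
  obtain ⟨a, rfl⟩ := hw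
  obtain ⟨b, hb⟩ := hw'
  obtain ⟨rfl⟩ := (sigmaι_eq_iff _ _ _ _ _).mp hb
  exact hx ⟨z, rfl⟩

theorem propA_integral (f : X ⟶ Y) [IsIntegralHom f] : BigSite.PropA f := by
  intro U g _ u
  let Z : ULift.{u} Bool → Scheme.{u} := fun b => Bool.rec X U b.down
  let m : ∀ b, Z b ⟶ X := fun b => match b with
    | ⟨true⟩ => g
    | ⟨false⟩ => 𝟙 X
  have hm : ∀ b, Etale (m b) := fun b => match b with
    | ⟨true⟩ => ‹Etale g›
    | ⟨false⟩ => inferInstanceAs (Etale (𝟙 X))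
  have : Etale (Sigma.desc m) := @etale_sigmaDesc X _ Z m hm
  obtain ⟨V, v, hv, z, -, h, hh, w, hw⟩ := exists_split f (Sigma.desc m) (f.base (g.base u))
    (fun x _ => ⟨(Sigma.ι Z ⟨false⟩).base x, by
      rw [← Scheme.Hom.comp_apply, Sigma.ι_desc]; rfl⟩)
    ((Sigma.ι Z ⟨true⟩).base u) (by
      congr 1
      exact (Scheme.Hom.comp_apply _ _ _).symm.trans (by rw [Sigma.ι_desc]))
  let W : (pullback f v).Opens := h ⁻¹ᵁ (Sigma.ι Z ⟨true⟩).opensRange
  have hle : Set.range (W.ι ≫ h).base ⊆ Set.range (Sigma.ι Z ⟨true⟩).base := by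
    rintro _ ⟨a, rfl⟩
    exact a.2
  refine ⟨V, v, hv, W, (isClosed_opensRange_sigmaι Z ⟨true⟩).preimage h.continuous,
    IsOpenImmersion.lift (Sigma.ι Z ⟨true⟩) (W.ι ≫ h) hle, ?_, ⟨⟨w, ?_⟩, ?_⟩⟩
  · have h1 := IsOpenImmersion.lift_fac (Sigma.ι Z ⟨true⟩) (W.ι ≫ h) hle
    have h2 := congrArg (· ≫ Sigma.desc m) h1
    simp only [Category.assoc, Sigma.ι_desc, hh] at h2
    exact h2
  · exact ⟨u, hw.symm⟩
  · refine (Sigma.ι Z ⟨true⟩).isOpenEmbedding.injective ?_
    rw [← Scheme.Hom.comp_apply, IsOpenImmersion.lift_fac]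
    exact hw

theorem propB_integral (f : X ⟶ Y) [IsIntegralHom f] : BigSite.PropB f := by
  intro V v _ ι U g hg hcov
  have := etale_sigmaDesc g
  choose V' v' hv' hy h hh using fun y : V => exists_split' (pullback.snd f v) (Sigma.desc g) y
    (fun x _ => by
      obtain ⟨i, a, ha⟩ := hcov x
      exact ⟨(Sigma.ι U i).base a, by rw [← Scheme.Hom.comp_apply, Sigma.ι_desc]; exact ha⟩)
  refine ⟨V, V', v', hv', fun y => ⟨y, hy y⟩, fun j => ?_⟩
  let k : pullback f (v' j ≫ v) ⟶ pullback (pullback.snd f v) (v' j) :=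
    pullback.lift (pullback.map f (v' j ≫ v) f v (𝟙 X) (v' j) (𝟙 Y) (by simp) (by simp))
      (pullback.snd f (v' j ≫ v)) (pullback.lift_snd _ _ _)
  let W : ι → (pullback f (v' j ≫ v)).Opens := fun i => (k ≫ h j) ⁻¹ᵁ (Sigma.ι U i).opensRange
  have hle : ∀ i, Set.range ((W i).ι ≫ k ≫ h j).base ⊆ Set.range (Sigma.ι U i).base := by
    rintro i _ ⟨a, rfl⟩
    exact a.2
  refine ⟨ι, W, fun a b hab => ?_, ?_, fun a => ⟨a, IsOpenImmersion.lift (Sigma.ι U a) _ (hle a), ?_⟩⟩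
  · have := disjoint_opensRange_sigmaι U a b hab
    rw [disjoint_iff] at this ⊢
    rw [show W a ⊓ W b = (k ≫ h j) ⁻¹ᵁ ((Sigma.ι U a).opensRange ⊓ (Sigma.ι U b).opensRange) from rfl, this]
    rfl
  · refine eq_top_iff.2 fun x _ => ?_
    obtain ⟨i, a, ha⟩ := (sigmaOpenCover U).exists_eq ((k ≫ h j).base x)
    exact TopologicalSpace.Opens.mem_iSup.2 ⟨i, a, ha⟩
  · have h2 := congrArg (· ≫ Sigma.desc g) (IsOpenImmersion.lift_fac (Sigma.ι U a) _ (hle a))
    simp only [Category.assoc, Sigma.ι_desc] at h2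
    rw [h2, hh, pullback.lift_fst]

theorem propC_integral (f : X ⟶ Y) [IsIntegralHom f] (hf : Topology.IsClosedEmbedding f.base) :
    BigSite.PropC f := by
  intro U g _
  choose V v hv z _ h hh hu using fun u : U => exists_split f g (f.base (g.base u))
    (fun x hx => ⟨u, (hf.injective hx).symm⟩) u rfl
  have := etale_sigmaDesc v
  let α : ∀ u, pullback f (v u) ⟶ pullback f (Sigma.desc v) := fun u =>
    pullback.map f (v u) f (Sigma.desc v) (𝟙 X) (Sigma.ι V u) (𝟙 Y) (by simp) (by simp)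
  have hr : ∀ u, Set.range (α u).base =
      (pullback.snd f (Sigma.desc v)).base ⁻¹' Set.range (Sigma.ι V u).base := fun u => by
    rw [Scheme.Pullback.range_map]
    simp
  have : IsIso (Sigma.desc α) := by
    rw [isIso_iff_isOpenImmersion_and_surjective]
    refine ⟨isOpenImmersion_sigmaDesc _ α fun a b hab => ?_, ⟨fun x => ?_⟩⟩
    · show Disjoint (Set.range (α a).base) (Set.range (α b).base)
      rw [hr, hr]
      refine Disjoint.preimage _ (Set.disjoint_left.2 fun w hw hw' => ?_)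
      obtain ⟨p, rfl⟩ := hw
      obtain ⟨q, hq⟩ := hw'
      obtain ⟨rfl⟩ := (sigmaι_eq_iff _ _ _ _ _).mp hq
      exact hab rfl
    · obtain ⟨u, a, ha⟩ := (sigmaOpenCover V).exists_eq ((pullback.snd f (Sigma.desc v)).base x)
      obtain ⟨w, hw⟩ := (hr u).ge ⟨a, ha⟩
      exact ⟨(Sigma.ι (fun u => pullback f (v u)) u).base w, by
        rw [← Scheme.Hom.comp_apply, Sigma.ι_desc]; exact hw⟩
  refine ⟨∐ V, Sigma.desc v, inferInstance, inv (Sigma.desc α) ≫ Sigma.desc h, ?_, ⟨fun u => ?_⟩⟩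
  · rw [Category.assoc, IsIso.inv_comp_eq]
    refine Sigma.hom_ext _ _ fun u => ?_
    simp [α, hh, pullback.map]
    exact (pullback.lift_fst _ _ _).symm
  · obtain ⟨w, hw⟩ := hu u
    refine ⟨(α u).base w, ?_⟩
    rw [← Scheme.Hom.comp_apply, show α u ≫ inv (Sigma.desc α) ≫ Sigma.desc h = h u by
      rw [← Sigma.ι_desc α u, Category.assoc, IsIso.hom_inv_id_assoc, Sigma.ι_desc]]
    exact hw

end Groth.Agent.EtFound
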