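import Groth.Agent.EtFound.IntegralStalk

/-! base change for direct images along integral morphisms -/

universe u

open CategoryTheory CategoryTheory.Limits AlgebraicGeometry Opposite

namespace Groth.Agent.EtFound

set_option backward.isDefEq.respectTransparency.types false

variable {X Y X' Y' : Scheme.{u}} {f : X ⟶ Y} {g : Y' ⟶ Y} {f' : X' ⟶ Y'} {g' : X' ⟶ X}

/-- the part over an open maps to the base change of that open -/
noncomputable def restrictBC {V : X.Etale} {S : X'.Etale} (B : S ⟶ (EtCoh.bc g').obj V) (O : V.left.Opens) :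
    restrictEtale S ((B.left ≫ pullback.fst V.hom g') ⁻¹ᵁ O) ⟶ (EtCoh.bc g').obj (restrictEtale V O) :=
  MorphismProperty.Over.homMk
    (pullback.lift (Scheme.Hom.resLE (B.left ≫ pullback.fst V.hom g') O _ le_rfl)
      (restrictEtale S ((B.left ≫ pullback.fst V.hom g') ⁻¹ᵁ O)).hom (by
        refine (Category.assoc _ _ _).symm.trans ((congrArg (· ≫ V.hom) (Scheme.Hom.resLE_comp_ι _ _)).trans ?_)
        refine (Category.assoc _ _ _).trans ((congrArg (_ ≫ ·) ?_).trans (Category.assoc _ _ _).symm)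
        refine (Category.assoc _ _ _).trans ((congrArg (_ ≫ ·) pullback.condition).trans ?_)
        exact (Category.assoc _ _ _).symm.trans (congrArg (· ≫ g') (MorphismProperty.Over.w B))))
    (pullback.lift_snd _ _ _) trivial

theorem restrictBC_fiber {V : X.Etale} {S : X'.Etale} (B : S ⟶ (EtCoh.bc g').obj V) (O : V.left.Opens)
    {Ω : Type u} [Field Ω] [IsSepClosed Ω] {ξ' : Spec (CommRingCat.of Ω) ⟶ X'}
    (r' : (Scheme.pointSmallEtale ξ').fiber.obj (restrictEtale S ((B.left ≫ pullback.fst V.hom g') ⁻¹ᵁ O)))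
    (r : (Scheme.pointSmallEtale (ξ' ≫ g')).fiber.obj (restrictEtale V O))
    (h : (Scheme.pointSmallEtale ξ').fiber.map B ((Scheme.pointSmallEtale ξ').fiber.map (restrictEtaleHom S _) r') =
      (bcFiberEquiv g' ξ' V).symm ((Scheme.pointSmallEtale (ξ' ≫ g')).fiber.map (restrictEtaleHom V O) r)) :
    (Scheme.pointSmallEtale ξ').fiber.map (restrictBC B O) r' = (bcFiberEquiv g' ξ' _).symm r := by
  apply (bcFiberEquiv g' ξ' _).injective
  rw [Equiv.apply_symm_apply]
  apply CategoryTheory.Over.OverMorphism.ext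
  change ((r'.left : Spec (CommRingCat.of Ω) ⟶ (restrictEtale S _).left) ≫ (restrictBC B O).left) ≫
    pullback.fst (restrictEtale V O).hom g' = r.left
  refine (cancel_mono O.ι).1 ?_
  have h' := (congrArg (bcFiberEquiv g' ξ' V) h).trans (Equiv.apply_symm_apply _ _)
  refine Eq.trans ?_ congr(($h').left)
  refine (Category.assoc _ _ _).trans ((Category.assoc _ _ _).trans ?_)
  refine (congrArg (_ ≫ ·) ((Category.assoc _ _ _).symm.trans ((congrArg (· ≫ O.ι) (pullback.lift_fst _ _ _)).trans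
    (Scheme.Hom.resLE_comp_ι _ _)))).trans ?_
  exact ((congrArg (· ≫ pullback.fst V.hom g') (Category.assoc _ _ _)).trans
    ((Category.assoc _ _ _).trans (congrArg (_ ≫ ·) (Category.assoc _ _ _)))).symm

variable {Ω : Type u} [Field Ω] [IsAlgClosed Ω]

/-- the geometric fibre of the base change is the geometric fibre -/
noncomputable def fibreCompare (h : IsPullback g' f' f g) (η : Spec (CommRingCat.of Ω) ⟶ Y') :
    pullback f (η ≫ g) ⟶ pullback f' η :=
  pullback.lift (h.lift (pullback.fst f (η ≫ g)) (pullback.snd f (η ≫ g) ≫ η)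
    (pullback.condition.trans (Category.assoc _ _ _).symm)) (pullback.snd f (η ≫ g)) (h.lift_snd _ _ _)

theorem fibreCompare_pt (h : IsPullback g' f' f g) {η : Spec (CommRingCat.of Ω) ⟶ Y'}
    {ξ' : Spec (CommRingCat.of Ω) ⟶ X'} (hξ' : ξ' ≫ f' = η) (hξ : (ξ' ≫ g') ≫ f = η ≫ g) :
    (fibreCompare h η).base (fibrePt f hξ) = fibrePt f' hξ' := by
  refine (Scheme.Hom.comp_apply _ _ _).symm.trans (congrArg (fun k : Spec (CommRingCat.of Ω) ⟶
    pullback f' η => k.base (default : Spec (CommRingCat.of Ω))) ?_)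
  refine pullback.hom_ext (h.hom_ext ?_ ?_) ?_
  all_goals simp only [fibreCompare, Category.assoc]
  · erw [pullback.lift_fst_assoc, h.lift_fst, pullback.lift_fst, pullback.lift_fst_assoc]
  · erw [pullback.lift_fst_assoc, h.lift_snd, pullback.lift_snd_assoc, pullback.lift_fst_assoc]
    rw [Category.id_comp, hξ']
  · erw [pullback.lift_snd, pullback.lift_snd, pullback.lift_snd]

variable {A : Type (u + 2)} [Category.{u + 1} A] [HasColimitsOfSize.{u, u} A] [HasProducts.{u} A]
  [∀ {P Q : Scheme.{u}} (h : P ⟶ Q),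
    ((EtCoh.bc h).sheafPushforwardContinuous A Q.smallEtaleTopology P.smallEtaleTopology).IsRightAdjoint]
  {FA : A → A → Type*} {CA : A → Type (u + 1)}
  [∀ M N, FunLike (FA M N) (CA M) (CA N)] [ConcreteCategory.{u + 1} A FA]
  [PreservesFilteredColimitsOfSize.{u, u} (forget A)]
  [∀ Z : Scheme.{u}, Z.smallEtaleTopology.HasSheafCompose (forget A)] [(forget A).ReflectsIsomorphisms]

include FA CA in
/-- base change along integral morphisms -/
theorem isIso_baseChange_of_integral (h : IsPullback g' f' f g) [IsIntegralHom f] (F : Sheaf X.smallEtaleTopology A)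
    (β : (pullA A g).obj ((pushA A f).obj F) ⟶ (pushA A f').obj ((pullA A g').obj F))
    (hβ : ∀ V : Y.Etale,
      (((EtCoh.bc g).sheafAdjunctionContinuous A Y.smallEtaleTopology Y'.smallEtaleTopology).unit.app
          ((pushA A f).obj F)).hom.app (op V) ≫ β.hom.app (op ((EtCoh.bc g).obj V)) =
        (((EtCoh.bc g').sheafAdjunctionContinuous A X.smallEtaleTopology X'.smallEtaleTopology).unit.app F).hom.app
          (op ((EtCoh.bc f).obj V)) ≫ ((pullA A g').obj F).obj.map (bcSquare h.w V).op) : IsIso β := by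
  have : IsIntegralHom f' := MorphismProperty.of_isPullback h ‹IsIntegralHom f›
  refine isIso_of_stalks β fun Ω₀ _ _ η₀ => ?_
  let Ω := AlgebraicClosure Ω₀
  let l : Spec (CommRingCat.of Ω) ⟶ Spec (CommRingCat.of Ω₀) :=
    Spec.map (CommRingCat.ofHom (algebraMap Ω₀ Ω))
  let η := l ≫ η₀
  let E := pointsEquiv h η
  let i := (sheafFiberPullIso g η).app ((pushA A f).obj F)
  let j := fun ξ : {ξ : Spec (CommRingCat.of Ω) ⟶ X' // ξ ≫ f' = η} => (sheafFiberPullIso g' ξ.1).app F
  have hb : ∀ {M N : A} (e : M ≅ N), Function.Bijective e.hom := fun e =>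
    (ConcreteCategory.isIso_iff_bijective e.hom).1 inferInstance
  let T := (Equiv.piCongrLeft' (fun ξ => ToType ((Scheme.pointSmallEtale ξ.1).sheafFiber.obj F)) E.symm).trans
    (Equiv.piCongrRight fun ξ : {ξ : Spec (CommRingCat.of Ω) ⟶ X' // ξ ≫ f' = η} =>
      Equiv.ofBijective _ (hb (j ξ).symm))
  have key : ∀ p (ξ' : {ξ : Spec (CommRingCat.of Ω) ⟶ X' // ξ ≫ f' = η}),
      (pushStalkAt f' ξ'.2).app ((pullA A g').obj F) ((Scheme.pointSmallEtale η).sheafFiber.map β (i.inv p)) =
        (j ξ').inv ((pushStalkAt f (E ξ').2).app F p) := fun p ξ' =>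
    ((ConcreteCategory.comp_apply _ _ _).trans (ConcreteCategory.comp_apply _ _ _)).symm.trans
      ((ConcreteCategory.congr_hom (baseChange_stalk f g f' g' h.w F β hβ ξ'.2 (E ξ').2) p).trans
        (ConcreteCategory.comp_apply _ _ _))
  have hinj : Function.Injective ((Scheme.pointSmallEtale η).sheafFiber.map β) := by
    intro p₁ p₂ e
    obtain ⟨q₁, rfl⟩ := (hb i.symm).2 p₁
    obtain ⟨q₂, rfl⟩ := (hb i.symm).2 p₂
    refine congrArg _ (pushStalkAt_injective f F (T.injective (funext fun ξ' => ?_)))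
    exact (key q₁ ξ').symm.trans ((congrArg _ e).trans (key q₂ ξ'))
  have hsurj : Function.Surjective ((Scheme.pointSmallEtale η).sheafFiber.map β) := by
    intro q
    let c := T.symm fun ξ' => (pushStalkAt f' ξ'.2).app ((pullA A g').obj F) q
    have hc : ∀ ξ', (j ξ').inv (c (E ξ')) = (pushStalkAt f' ξ'.2).app ((pullA A g').obj F) q := fun ξ' =>
      congrFun (T.apply_symm_apply _) ξ'
    suffices hp : ∃ p, ∀ ξ, (pushStalkAt f ξ.2).app F p = c ξ by
      obtain ⟨p, hp⟩ := hp
      refine ⟨i.inv p, pushStalkAt_injective f' _ (funext fun ξ' => ?_)⟩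
      exact (key p ξ').trans ((congrArg _ (hp (E ξ'))).trans (hc ξ'))
    refine exists_preimage_of_local f F c fun ξ₀ => ?_
    obtain ⟨ξ₀', rfl⟩ := E.surjective ξ₀
    obtain ⟨U, u, s₀, hs₀⟩ := (Scheme.pointSmallEtale (E ξ₀').1).toPresheafFiber_jointly_surjective (c (E ξ₀'))
    obtain ⟨V, v, O, m, t, ht, hmt⟩ := exists_open_factor f (E ξ₀').2 U u
    let σ := F.obj.map m.op s₀
    have hσ₀ : (Scheme.pointSmallEtale (E ξ₀').1).toPresheafFiber _ t F.obj σ = c (E ξ₀') := by
      refine ((Scheme.pointSmallEtale (E ξ₀').1).toPresheafFiber_w_apply m t F.obj s₀).trans ?_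
      rw [hmt]
      exact hs₀
    obtain ⟨V', v', s, rfl⟩ := (Scheme.pointSmallEtale η).toPresheafFiber_jointly_surjective q
    obtain ⟨⟨W, w⟩, ⟨a, ha⟩, ⟨b, hb'⟩, -⟩ := IsCofilteredOrEmpty.cone_objs
      ((Scheme.pointSmallEtale η).fiber.elementsMk V' v')
      ((Scheme.pointSmallEtale η).fiber.elementsMk ((EtCoh.bc g).obj V) ((bcFiberEquiv g η V).symm v))
    let B : (EtCoh.bc f').obj W ⟶ (EtCoh.bc g').obj ((EtCoh.bc f).obj V) := (EtCoh.bc f').map b ≫ bcSquare h.w V
    let O' : ((EtCoh.bc f').obj W).left.Opens := (B.left ≫ pullback.fst ((EtCoh.bc f).obj V).hom g') ⁻¹ᵁ O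
    let ρ := restrictEtaleHom ((EtCoh.bc f').obj W) O'
    let sa := ((pullA A g').obj F).obj.map (ρ ≫ (EtCoh.bc f').map a).op s
    let sb := ((pullA A g').obj F).obj.map (restrictBC B O).op
      ((((EtCoh.bc g').sheafAdjunctionContinuous A X.smallEtaleTopology X'.smallEtaleTopology).unit.app F).hom.app
        (op (restrictEtale ((EtCoh.bc f).obj V) O)) σ)
    have hB : ∀ ξ' : {ξ : Spec (CommRingCat.of Ω) ⟶ X' // ξ ≫ f' = η},
        (Scheme.pointSmallEtale ξ'.1).fiber.map B (liftPt f' ξ'.2 w) =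
          (bcFiberEquiv g' ξ'.1 _).symm (liftPt f (E ξ').2 v) := fun ξ' => by
      refine (FunctorToTypes.map_comp_apply _ _ _ _).trans ?_
      rw [liftPt_map]
      refine Eq.trans ?_ (bcSquare_fiber h.w ξ'.2 (E ξ').2 v)
      exact congrArg (fun x => (Scheme.pointSmallEtale ξ'.1).fiber.map (bcSquare h.w V) (liftPt f' ξ'.2 x)) hb'
    have hgerm : ∀ (ξ' : {ξ : Spec (CommRingCat.of Ω) ⟶ X' // ξ ≫ f' = η})
        (r' : (Scheme.pointSmallEtale ξ'.1).fiber.obj (restrictEtale _ O'))
        (r : (Scheme.pointSmallEtale (E ξ').1).fiber.obj (restrictEtale ((EtCoh.bc f).obj V) O)),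
        (Scheme.pointSmallEtale ξ'.1).fiber.map ρ r' = liftPt f' ξ'.2 w →
        (Scheme.pointSmallEtale (E ξ').1).fiber.map (restrictEtaleHom _ O) r = liftPt f (E ξ').2 v →
        (Scheme.pointSmallEtale ξ'.1).toPresheafFiber _ r' ((pullA A g').obj F).obj sa = (j ξ').inv (c (E ξ')) ∧
        (Scheme.pointSmallEtale ξ'.1).toPresheafFiber _ r' ((pullA A g').obj F).obj sb =
          (j ξ').inv ((Scheme.pointSmallEtale (E ξ').1).toPresheafFiber _ r F.obj σ) := by
      intro ξ' r' r hr' hr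
      refine ⟨?_, ?_⟩
      · refine ((Scheme.pointSmallEtale ξ'.1).toPresheafFiber_w_apply _ r' _ s).trans ?_
        refine Eq.trans ?_ ((hc ξ').trans (pushStalkAt_germ_apply f' ξ'.2 _ v' s)).symm
        have e : (Scheme.pointSmallEtale ξ'.1).fiber.map (ρ ≫ (EtCoh.bc f').map a) r' = liftPt f' ξ'.2 v' := by
          refine (FunctorToTypes.map_comp_apply _ _ _ _).trans ?_
          rw [hr', liftPt_map]
          exact congrArg _ ha
        rw [e]
        rfl
      · refine ((Scheme.pointSmallEtale ξ'.1).toPresheafFiber_w_apply (restrictBC B O) r' _ _).trans ?_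
        rw [restrictBC_fiber B O r' r ((congrArg _ hr').trans ((hB ξ').trans (congrArg _ hr.symm)))]
        have h5 := sheafFiberPullIso_germ g' ξ'.1 F (restrictEtale ((EtCoh.bc f).obj V) O)
          ((bcFiberEquiv g' ξ'.1 _).symm r)
        rw [Equiv.apply_symm_apply] at h5
        exact ((ConcreteCategory.comp_apply _ _ σ).symm.trans
          ((ConcreteCategory.congr_hom h5 σ).symm.trans (ConcreteCategory.comp_apply _ _ σ)))
    have hO' : ((liftPt f' ξ₀'.2 w).left : Spec (CommRingCat.of Ω) ⟶ ((EtCoh.bc f').obj W).left).base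
        (default : Spec (CommRingCat.of Ω)) ∈ O' := by
      have e := congrArg (bcFiberEquiv g' ξ₀'.1 _) (hB ξ₀')
      rw [Equiv.apply_symm_apply, ← ht] at e
      show (B.left ≫ pullback.fst ((EtCoh.bc f).obj V).hom g').base _ ∈ O
      refine mem_opens_congr ((Scheme.Hom.comp_apply _ _ _).symm.trans
        ((congrArg (fun k : Spec (CommRingCat.of Ω) ⟶ ((EtCoh.bc f).obj V).left =>
          k.base (default : Spec (CommRingCat.of Ω))) ((Category.assoc _ _ _).symm.trans congr(($e).left))).trans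
            (Scheme.Hom.comp_apply _ _ _))) ?_
      exact Subtype.coe_prop _
    obtain ⟨r₀, hr₀, -⟩ := exists_lift_point ρ (liftPt f' ξ₀'.2 w) ⟨_, hO'⟩ rfl
    obtain ⟨U₂, k, z, hz, hk⟩ := ((Scheme.pointSmallEtale ξ₀'.1).toPresheafFiber_eq_iff' _ r₀ sa sb).1
      ((hgerm ξ₀' r₀ t hr₀ ht).1.trans ((congrArg _ hσ₀.symm).trans (hgerm ξ₀' r₀ t hr₀ ht).2.symm))
    let R : Set ↥((EtCoh.bc f').obj W).left := Set.range (k ≫ ρ).left.base
    have hR : IsOpen R := by
      have := etale_left (k ≫ ρ)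
      exact (Scheme.Hom.isOpenMap (k ≫ ρ).left).isOpen_range
    refine ⟨V, v, O, σ, (fibreCompare h η).base ⁻¹' ((fibreTo f' w).base ⁻¹' R),
      (hR.preimage (fibreTo f' w).continuous).preimage (fibreCompare h η).continuous, ?_, ?_, fun ξ r hr hE => ?_⟩
    · show (fibreTo f' w).base ((fibreCompare h η).base _) ∈ R
      refine Set.mem_of_eq_of_mem ((congrArg _ (fibreCompare_pt h ξ₀'.2 (E ξ₀').2)).trans (fibreTo_pt f' ξ₀'.2 w)) ?_
      rw [← hr₀, ← hz]
      refine ⟨(z.left : Spec (CommRingCat.of Ω) ⟶ U₂.left).base (default : Spec (CommRingCat.of Ω)), ?_⟩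
      exact ((Scheme.Hom.comp_apply _ _ _).symm.trans (congrArg (fun k : Spec (CommRingCat.of Ω) ⟶
        ((EtCoh.bc f').obj W).left => k.base (default : Spec (CommRingCat.of Ω))) (Category.assoc _ _ _).symm))
    · rw [← ht]
      exact mem_opens_congr (Scheme.Hom.comp_apply _ _ _) (Subtype.coe_prop _)
    · obtain ⟨ξ', rfl⟩ := E.surjective ξ
      replace hE : (fibreTo f' w).base ((fibreCompare h η).base (fibrePt f (E ξ').2)) ∈ R := hE
      replace hE := Set.mem_of_eq_of_mem
        ((congrArg _ (fibreCompare_pt h ξ'.2 (E ξ').2)).trans (fibreTo_pt f' ξ'.2 w)).symm hE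
      obtain ⟨x, hx⟩ := hE
      obtain ⟨z', hz', -⟩ := exists_lift_point (k ≫ ρ) (liftPt f' ξ'.2 w) x hx
      have hr' : (Scheme.pointSmallEtale ξ'.1).fiber.map ρ ((Scheme.pointSmallEtale ξ'.1).fiber.map k z') =
          liftPt f' ξ'.2 w := (FunctorToTypes.map_comp_apply _ _ _ _).symm.trans hz'
      have hg := hgerm ξ' _ r hr' hr
      refine (hb (j ξ').symm).1 (hg.2.symm.trans (Eq.trans ?_ hg.1))
      refine ((Scheme.pointSmallEtale ξ'.1).toPresheafFiber_w_apply k z' _ sb).symm.trans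
        (Eq.trans ?_ ((Scheme.pointSmallEtale ξ'.1).toPresheafFiber_w_apply k z' _ sa))
      exact congrArg _ hk.symm
  have : IsIso ((Scheme.pointSmallEtale η).sheafFiber.map β) :=
    (ConcreteCategory.isIso_iff_bijective _).2 ⟨hinj, hsurj⟩
  have := (NatIso.isIso_map_iff (stalkExtIso A η₀ l) β).2 this
  exact (ConcreteCategory.isIso_iff_bijective ((Scheme.pointSmallEtale η₀).sheafFiber.map β)).1 this

end Groth.Agent.EtFound
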