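import Mathlib.AlgebraicGeometry.Morphisms.Etale
import Mathlib.AlgebraicGeometry.Morphisms.FlatMono
import Mathlib.AlgebraicGeometry.Morphisms.Separated

/-! sections of separated unramified morphisms -/

universe u

open CategoryTheory CategoryTheory.Limits AlgebraicGeometry

namespace Groth.Agent.EtFound

set_option backward.isDefEq.respectTransparency.types false

variable {Z Y : Scheme.{u}} (p : Z ⟶ Y) [FormallyUnramified p] [LocallyOfFiniteType p]

theorem isOpenImmersion_section (s : Y ⟶ Z) (hs : s ≫ p = 𝟙 Y) : IsOpenImmersion s := by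
  have : Mono s := mono_of_mono_fac hs
  have : AlgebraicGeometry.Etale (s ≫ p) := by rw [hs]; infer_instance
  have := Etale.of_comp s p
  exact IsOpenImmersion.of_flat_of_mono s

theorem isClosed_range_section [IsSeparated p] (s : Y ⟶ Z) (hs : s ≫ p = 𝟙 Y) : IsClosed (Set.range s.base) := by
  have : IsClosedImmersion (s ≫ p) := by rw [hs]; infer_instance
  have := IsClosedImmersion.of_comp s p
  exact s.isClosedEmbedding.isClosed_range

theorem section_eq_of_range_eq (s t : Y ⟶ Z) (hs : s ≫ p = 𝟙 Y) (ht : t ≫ p = 𝟙 Y)
    (h : Set.range t.base = Set.range s.base) : t = s := by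
  have := isOpenImmersion_section p s hs
  have e := IsOpenImmersion.lift_fac s t h.le
  have e2 : IsOpenImmersion.lift s t h.le = 𝟙 Y := by
    have := congr($e ≫ p)
    rw [Category.assoc, hs, ht, Category.comp_id] at this
    exact this
  rw [e2, Category.id_comp] at e
  exact e.symm

end Groth.Agent.EtFound
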