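import Groth.Prelude.Def_Hensel
import Mathlib.FieldTheory.IsSepClosed

/-! local maps between strict henselizations -/

universe u

open IsLocalRing

namespace Groth.Agent.EtFound

variable {R₁ R₂ R₃ : Type u} [CommRing R₁] [CommRing R₂] [CommRing R₃] [IsLocalRing R₁] [IsLocalRing R₂]
  [IsLocalRing R₃]
  (S₁ S₂ S₃ : Type u) [CommRing S₁] [CommRing S₂] [CommRing S₃] [IsLocalRing S₁] [IsLocalRing S₂] [IsLocalRing S₃]
  [Algebra R₁ S₁] [IsLocalHom (algebraMap R₁ S₁)] [Hensel.IsStrictHenselization R₁ S₁]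
  [Algebra R₂ S₂] [IsLocalHom (algebraMap R₂ S₂)] [Hensel.IsStrictHenselization R₂ S₂]
  [Algebra R₃ S₃] [IsLocalHom (algebraMap R₃ S₃)]

/-- a map of strict henselizations with prescribed map of residue fields -/
theorem exists_lift_of_residueMap {T : Type u} [CommRing T] [HenselianLocalRing T] (f : R₁ →+* T) [IsLocalHom f]
    (τ : ResidueField S₁ →+* ResidueField T)
    (hτ : τ.comp (ResidueField.map (algebraMap R₁ S₁)) = ResidueField.map f) :
    ∃ g : S₁ →+* T, IsLocalHom g ∧ g.comp (algebraMap R₁ S₁) = f ∧ ∀ x, residue T (g x) = τ (residue S₁ x) := by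
  obtain ⟨g, ⟨h1, h2⟩, -⟩ := Hensel.IsStrictHenselization.universal (R := R₁) (S := S₁) T f τ hτ
  refine ⟨g, ⟨fun x hx => ?_⟩, h1, h2⟩
  have h3 : residue T (g x) ≠ 0 := residue_ne_zero_iff_isUnit _ |>.2 hx
  rw [h2] at h3
  exact (residue_ne_zero_iff_isUnit _).1 fun h0 => h3 (by rw [h0, map_zero])

/-- existence of a map of strict henselizations -/
theorem exists_strictMap (f : R₁ →+* R₂) [IsLocalHom f] :
    ∃ g : S₁ →+* S₂, IsLocalHom g ∧ g.comp (algebraMap R₁ S₁) = (algebraMap R₂ S₂).comp f := by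
  haveI : HenselianLocalRing S₂ := Hensel.IsStrictHenselization.henselian R₂
  haveI : IsSepClosed (ResidueField S₂) :=
    (Hensel.IsStrictHenselization.isSepClosure (R := R₂) (S := S₂)).sep_closed
  haveI : Algebra.IsSeparable (ResidueField R₁) (ResidueField S₁) :=
    (Hensel.IsStrictHenselization.isSepClosure (R := R₁) (S := S₁)).separable
  letI : Algebra (ResidueField R₁) (ResidueField S₂) := (ResidueField.map ((algebraMap R₂ S₂).comp f)).toAlgebra
  let τ : ResidueField S₁ →ₐ[ResidueField R₁] ResidueField S₂ := IsSepClosed.lift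
  obtain ⟨g, h1, h2, -⟩ := exists_lift_of_residueMap S₁ ((algebraMap R₂ S₂).comp f) τ.toRingHom
    (RingHom.ext fun r => τ.commutes r)
  exact ⟨g, h1, h2⟩

/-- factorisation of a map of strict henselizations -/
theorem exists_strictFactor [HenselianLocalRing S₃] (f : R₁ →+* R₂) [IsLocalHom f] (f' : R₂ →+* R₃) [IsLocalHom f']
    (φ : S₁ →+* S₃) [IsLocalHom φ] (hφ : φ.comp (algebraMap R₁ S₁) = (algebraMap R₃ S₃).comp (f'.comp f))
    (ψ : S₂ →+* S₃) [IsLocalHom ψ] (hψ : ψ.comp (algebraMap R₂ S₂) = (algebraMap R₃ S₃).comp f') :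
    ∃ χ : S₁ →+* S₂, IsLocalHom χ ∧ χ.comp (algebraMap R₁ S₁) = (algebraMap R₂ S₂).comp f ∧ ψ.comp χ = φ := by
  haveI : HenselianLocalRing S₂ := Hensel.IsStrictHenselization.henselian R₂
  haveI : IsSepClosed (ResidueField S₂) :=
    (Hensel.IsStrictHenselization.isSepClosure (R := R₂) (S := S₂)).sep_closed
  haveI : Algebra.IsSeparable (ResidueField R₁) (ResidueField S₁) :=
    (Hensel.IsStrictHenselization.isSepClosure (R := R₁) (S := S₁)).separable
  let a := ResidueField.map φ
  let b := ResidueField.map ψ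
  let i := ResidueField.map ((algebraMap R₂ S₂).comp f)
  have hab : b.comp i = a.comp (ResidueField.map (algebraMap R₁ S₁)) := by
    refine RingHom.ext fun r => ?_
    obtain ⟨r, rfl⟩ := residue_surjective r
    show residue S₃ (ψ (algebraMap R₂ S₂ (f r))) = residue S₃ (φ (algebraMap R₁ S₁ r))
    rw [show ψ (algebraMap R₂ S₂ (f r)) = algebraMap R₃ S₃ (f' (f r)) from congr($hψ (f r)),
      show φ (algebraMap R₁ S₁ r) = algebraMap R₃ S₃ (f' (f r)) from congr($hφ r)]
  have hrange : ∀ x, a x ∈ b.fieldRange := by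
    intro x
    have hsep : (minpoly (ResidueField R₁) x).Separable := Algebra.IsSeparable.isSeparable _ x
    have hs : ((minpoly (ResidueField R₁) x).map i).Splits := IsSepClosed.splits_codomain _ hsep
    refine hs.mem_range_of_isRoot ((Polynomial.map_ne_zero_iff i.injective).2 hsep.ne_zero) (i := b) ?_
    rw [Polynomial.map_map, hab, ← Polynomial.map_map]
    exact Polynomial.IsRoot.map (by
      rw [Polynomial.IsRoot.def, Polynomial.eval_map]
      exact minpoly.aeval (ResidueField R₁) x)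
  choose t ht using hrange
  let τ : ResidueField S₁ →+* ResidueField S₂ :=
    { toFun := t
      map_one' := b.injective (by rw [ht, map_one, map_one])
      map_mul' := fun x y => b.injective (by rw [ht, map_mul, map_mul, ht, ht])
      map_zero' := b.injective (by rw [ht, map_zero, map_zero])
      map_add' := fun x y => b.injective (by rw [ht, map_add, map_add, ht, ht]) }
  obtain ⟨χ, h1, h2, h3⟩ := exists_lift_of_residueMap S₁ ((algebraMap R₂ S₂).comp f) τ
    (RingHom.ext fun r => b.injective ((ht _).trans congr($hab.symm r)))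
  refine ⟨χ, h1, h2, ?_⟩
  have hτ : (b.comp τ).comp (ResidueField.map (algebraMap R₁ S₁)) = ResidueField.map (φ.comp (algebraMap R₁ S₁)) := by
    refine RingHom.ext fun r => ?_
    obtain ⟨r, rfl⟩ := residue_surjective r
    exact ht _
  refine (Hensel.IsStrictHenselization.universal (R := R₁) (S := S₁) S₃ (φ.comp (algebraMap R₁ S₁)) (b.comp τ)
    hτ).unique ⟨?_, fun x => ?_⟩ ⟨rfl, fun x => ((ht (residue S₁ x)).trans (ResidueField.map_residue φ x)).symm⟩
  · rw [RingHom.comp_assoc, h2, ← RingHom.comp_assoc, hψ, RingHom.comp_assoc, ← hφ]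
  · show residue S₃ (ψ (χ x)) = b (τ (residue S₁ x))
    rw [← h3]
    rfl

end Groth.Agent.EtFound
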