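import Groth.Agent.EtFound.LocConst
import Groth.Agent.EtFound.Stalk
import Mathlib.Algebra.Group.Shrink
import Mathlib.Algebra.Homology.ShortComplex.Ab

/-! finite locally constant abelian sheaves: kernels, cokernels, extensions -/

universe u

open CategoryTheory CategoryTheory.Limits AlgebraicGeometry Opposite

namespace Groth.Agent.EtFound

set_option backward.isDefEq.respectTransparency.types false

variable {X : Scheme.{u}}

/-- a finite group of sections inducing all geometric stalks over `U` -/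
def FinConst (F : EtCoh.Ab X) (U : X.Etale) (S : AddSubgroup (F.obj.obj (op U))) : Prop :=
  Finite S ∧ ∀ (Ω : Type u) [Field Ω] [IsAlgClosed Ω] (ξ : Spec (CommRingCat.of Ω) ⟶ X)
    (z : (Scheme.pointSmallEtale ξ).fiber.obj U),
      Function.Bijective fun s : S => (Scheme.pointSmallEtale ξ).toPresheafFiber U z F.obj s.1

theorem FinConst.restrict {F : EtCoh.Ab X} {U : X.Etale} {S : AddSubgroup (F.obj.obj (op U))}
    (h : FinConst F U S) {V : X.Etale} (g : V ⟶ U) : FinConst F V (S.map (F.obj.map g.op).hom) := by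
  have := h.1
  let e : S → S.map (F.obj.map g.op).hom := fun s => ⟨F.obj.map g.op s.1, AddSubgroup.mem_map_of_mem _ s.2⟩
  have he : Function.Surjective e := fun ⟨_, s, hs, rfl⟩ => ⟨⟨s, hs⟩, rfl⟩
  refine ⟨Finite.of_surjective e he, fun Ω _ _ ξ z => ?_⟩
  let T := fun t : S.map (F.obj.map g.op).hom => (Scheme.pointSmallEtale ξ).toPresheafFiber V z F.obj t.1
  have hT : Function.Bijective (T ∘ e) := by
    refine Eq.mp (congrArg Function.Bijective (funext fun s => ?_))
      (h.2 Ω ξ ((Scheme.pointSmallEtale ξ).fiber.map g z))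
    exact ((Scheme.pointSmallEtale ξ).toPresheafFiber_w_apply g z F.obj s.1).symm
  exact ⟨(Function.Injective.of_comp_right hT.1 he), Function.Surjective.of_comp hT.2⟩

theorem finConst_range {F : EtCoh.Ab X} {U : X.Etale} {M : AddCommGrpCat.{u + 1}} [Finite M]
    {φ : M ⟶ F.obj.obj (op U)} (h : ConstBy F φ) : FinConst F U φ.hom.range := by
  let e : M → φ.hom.range := φ.hom.rangeRestrict
  have he : Function.Surjective e := φ.hom.rangeRestrict_surjective
  refine ⟨Finite.of_surjective e he, fun Ω _ _ ξ z => ?_⟩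
  let T := fun t : φ.hom.range => (Scheme.pointSmallEtale ξ).toPresheafFiber U z F.obj t.1
  have hT : Function.Bijective (T ∘ e) := h Ω ξ z
  exact ⟨Function.Injective.of_comp_right hT.1 he, Function.Surjective.of_comp hT.2⟩

/-- criterion for finite local constancy -/
theorem isFiniteLocallyConstant_iff (F : EtCoh.Ab X) :
    EtCoh.IsFiniteLocallyConstant F ↔
      ∀ x : X, ∃ (U : X.Etale) (p : U.left), U.hom.base p = x ∧ ∃ S, FinConst F U S := by
  refine ⟨fun ⟨ι, U, hU, h⟩ x => ?_, fun h => ?_⟩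
  · obtain ⟨i, p, hp⟩ := hU x
    obtain ⟨M, iM, fM, ⟨e⟩⟩ := h i
    obtain ⟨φ, hφ⟩ := exists_constBy e
    have : Finite (ULift.{u + 1} M) := inferInstance
    exact ⟨U i, p, hp, _, finConst_range hφ⟩
  · choose U p hp S hS using h
    refine ⟨X, U, fun x => ⟨x, p x, hp x⟩, fun x => ?_⟩
    have := (hS x).1
    let e : ULift.{u + 1} (Shrink.{0} (S x)) ≃+ S x :=
      AddEquiv.ulift.trans (Shrink.addEquiv.{0} (α := S x))
    refine ⟨Shrink.{0} (S x), inferInstance, Finite.of_equiv _ (equivShrink.{0} (S x)),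
      nonempty_restr_iso_const (φ := AddCommGrpCat.ofHom ((S x).subtype.comp e.toAddMonoidHom)) ?_⟩
    intro Ω _ _ ξ z
    exact ((hS x).2 Ω ξ z).comp e.bijective

/-- finitely many germ equalities hold on one neighbourhood -/
theorem exists_forall_eq {A : Type*} [Category.{u + 1} A] [HasColimitsOfSize.{u, u} A]
    {FA : A → A → Type*} {CA : A → Type (u + 1)} [∀ M N, FunLike (FA M N) (CA M) (CA N)]
    [ConcreteCategory.{u + 1} A FA] [PreservesFilteredColimitsOfSize.{u, u} (forget A)]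
    (P : X.Etaleᵒᵖ ⥤ A) {U : X.Etale} {Ω : Type u} [Field Ω] [IsSepClosed Ω]
    {ξ : Spec (CommRingCat.of Ω) ⟶ X} (u : (Scheme.pointSmallEtale ξ).fiber.obj U) {κ : Type*} [Finite κ]
    (a b : κ → ToType (P.obj (op U)))
    (h : ∀ k, (Scheme.pointSmallEtale ξ).toPresheafFiber U u P (a k) = (Scheme.pointSmallEtale ξ).toPresheafFiber U u P (b k)) :
    ∃ (V : X.Etale) (g : V ⟶ U) (v : (Scheme.pointSmallEtale ξ).fiber.obj V),
      (Scheme.pointSmallEtale ξ).fiber.map g v = u ∧ ∀ k, P.map g.op (a k) = P.map g.op (b k) := by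
  classical
  haveI := Fintype.ofFinite κ
  suffices key : ∀ s : Finset κ, ∃ (V : X.Etale) (g : V ⟶ U) (v : (Scheme.pointSmallEtale ξ).fiber.obj V),
      (Scheme.pointSmallEtale ξ).fiber.map g v = u ∧ ∀ k ∈ s, P.map g.op (a k) = P.map g.op (b k) by
    obtain ⟨V, g, v, hv, hs⟩ := key Finset.univ
    exact ⟨V, g, v, hv, fun k => hs k (Finset.mem_univ k)⟩
  intro s
  induction s using Finset.induction with
  | empty => exact ⟨U, 𝟙 U, u, by simp, fun k hk => absurd hk (Finset.notMem_empty k)⟩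
  | @insert k s _ ih =>
    obtain ⟨V, g, v, hv, hs⟩ := ih
    have e : (Scheme.pointSmallEtale ξ).toPresheafFiber V v P (P.map g.op (a k)) =
        (Scheme.pointSmallEtale ξ).toPresheafFiber V v P (P.map g.op (b k)) := by
      rw [(Scheme.pointSmallEtale ξ).toPresheafFiber_w_apply, (Scheme.pointSmallEtale ξ).toPresheafFiber_w_apply,
        hv]
      exact h k
    obtain ⟨W, d, w, hw, hd⟩ := ((Scheme.pointSmallEtale ξ).toPresheafFiber_eq_iff' V v _ _).1 e
    refine ⟨W, d ≫ g, w, ?_, fun k' hk' => ?_⟩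
    · rw [Functor.map_comp_apply, hw, hv]
    · rw [op_comp, Functor.map_comp_apply, Functor.map_comp_apply]
      rcases Finset.mem_insert.1 hk' with rfl | hk''
      · exact hd
      · rw [hs k' hk'']

/-- two finite locally constant sheaves are constant on a common neighbourhood -/
theorem exists_common {F G : EtCoh.Ab X} (hF : EtCoh.IsFiniteLocallyConstant F)
    (hG : EtCoh.IsFiniteLocallyConstant G) (x : X) :
    ∃ (Ω : Type u) (_ : Field Ω) (_ : IsAlgClosed Ω) (ξ : Spec (CommRingCat.of Ω) ⟶ X) (U : X.Etale)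
      (_ : (Scheme.pointSmallEtale ξ).fiber.obj U) (S : AddSubgroup (F.obj.obj (op U)))
      (R : AddSubgroup (G.obj.obj (op U))),
      ξ.base (default : Spec (CommRingCat.of Ω)) = x ∧ FinConst F U S ∧ FinConst G U R := by
  obtain ⟨U₁, p₁, hp₁, S, hS⟩ := (isFiniteLocallyConstant_iff F).1 hF x
  obtain ⟨U₂, p₂, hp₂, R, hR⟩ := (isFiniteLocallyConstant_iff G).1 hG x
  obtain ⟨Ω, _, _, ξ, u₁, hu₁⟩ := exists_algClosed_point U₁ p₁
  have hξ : ξ.base (default : Spec (CommRingCat.of Ω)) = x := by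
    rw [← hp₁, ← hu₁]
    exact ((Scheme.Hom.comp_apply _ _ _).symm.trans (congrArg (fun k : Spec (CommRingCat.of Ω) ⟶ X =>
      k.base (default : Spec (CommRingCat.of Ω))) (CategoryTheory.Over.w u₁))).symm
  obtain ⟨u₂, -⟩ := Scheme.pointSmallEtaleFiberObjToPreimage_surjective ξ hξ U₂ ⟨p₂, hp₂⟩
  obtain ⟨⟨W, w⟩, ⟨a, -⟩, ⟨b, -⟩, -⟩ := IsCofilteredOrEmpty.cone_objs
    ((Scheme.pointSmallEtale ξ).fiber.elementsMk U₁ u₁) ((Scheme.pointSmallEtale ξ).fiber.elementsMk U₂ u₂)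
  exact ⟨Ω, inferInstance, inferInstance, ξ, W, w, _, _, hξ, hS.restrict a, hR.restrict b⟩

theorem base_of_point {Ω : Type u} [Field Ω] [IsSepClosed Ω] {ξ : Spec (CommRingCat.of Ω) ⟶ X} {U : X.Etale}
    (v : (Scheme.pointSmallEtale ξ).fiber.obj U) :
    U.hom.base ((v.left : Spec (CommRingCat.of Ω) ⟶ U.left).base (default : Spec (CommRingCat.of Ω))) =
      ξ.base (default : Spec (CommRingCat.of Ω)) :=
  (Scheme.Hom.comp_apply _ _ _).symm.trans (congrArg (fun k : Spec (CommRingCat.of Ω) ⟶ X =>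
    k.base (default : Spec (CommRingCat.of Ω))) (CategoryTheory.Over.w v))

/-- kernels of finite locally constant sheaves -/
theorem isFiniteLocallyConstant_of_kernel {S : ShortComplex (EtCoh.Ab X)} [Mono S.f] (hS : S.Exact)
    (h2 : EtCoh.IsFiniteLocallyConstant S.X₂) (h3 : EtCoh.IsFiniteLocallyConstant S.X₃) :
    EtCoh.IsFiniteLocallyConstant S.X₁ := by
  rw [isFiniteLocallyConstant_iff]
  intro x
  obtain ⟨Ω, _, _, ξ, U, u, P, R, hξ, hP, hR⟩ := exists_common h2 h3 x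
  have := hP.1
  have := hR.1
  -- compare the image of `P` with `R`
  choose r hr using fun s : P => (hR.2 Ω ξ u).2
    ((Scheme.pointSmallEtale ξ).toPresheafFiber U u S.X₃.obj (S.g.hom.app (op U) s.1))
  obtain ⟨V, g, v, hv, hg⟩ := exists_forall_eq S.X₃.obj u (fun s : P => (r s).1)
    (fun s => S.g.hom.app (op U) s.1) hr
  have hP' := hP.restrict g
  have hR' := hR.restrict g
  have := hP'.1
  have hin : ∀ (W : X.Etale), Function.Injective (S.f.hom.app (op W)) := fun W =>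
    injective_of_stalks S.f (fun Ω _ _ ξ => ((mono_iff_stalks S.f).1 inferInstance Ω ξ)) W
  let K : AddSubgroup (S.X₁.obj.obj (op V)) := (P.map (S.X₂.obj.map g.op).hom).comap (S.f.hom.app (op V)).hom
  refine ⟨V, _, (base_of_point v).trans hξ, K, ?_, fun Ω' _ _ ζ z => ?_⟩
  · exact Finite.of_injective (fun k : K => (⟨S.f.hom.app (op V) k.1, k.2⟩ : P.map (S.X₂.obj.map g.op).hom))
      fun a b e => Subtype.ext (hin V (Subtype.ext_iff.1 e))
  · have hnat := fun c => ((Scheme.pointSmallEtale ζ).toPresheafFiber_naturality_apply S.f.hom V z c)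
    have hmono := (mono_iff_stalks S.f).1 inferInstance Ω' ζ
    have hex := (exact_iff_stalks S).1 hS Ω' ζ
    rw [ShortComplex.ab_exact_iff] at hex
    refine ⟨fun a b e => Subtype.ext (hin V (congrArg Subtype.val ((hP'.2 Ω' ζ z).1
      (a₁ := ⟨_, a.2⟩) (a₂ := ⟨_, b.2⟩) ((hnat a.1).symm.trans ((congrArg _ e).trans (hnat b.1)))))), fun c => ?_⟩
    obtain ⟨⟨s, hs⟩, hsc⟩ := (hP'.2 Ω' ζ z).2 ((EtCoh.stalk ζ).map S.f c)
    have h0 : S.g.hom.app (op V) s = 0 := by
      obtain ⟨s₀, hs₀, rfl⟩ := hs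
      have e1 : S.g.hom.app (op V) (S.X₂.obj.map g.op s₀) = S.X₃.obj.map g.op (r ⟨s₀, hs₀⟩).1 :=
        (NatTrans.naturality_apply S.g.hom g.op s₀).trans (hg ⟨s₀, hs₀⟩).symm
      have e2 : (Scheme.pointSmallEtale ζ).toPresheafFiber V z S.X₃.obj
          (S.g.hom.app (op V) (S.X₂.obj.map g.op s₀)) = 0 := by
        refine ((Scheme.pointSmallEtale ζ).toPresheafFiber_naturality_apply S.g.hom V z _).symm.trans ?_
        refine (congrArg _ hsc).trans ?_
        exact congr(($((S.map (EtCoh.stalk ζ)).zero)) c)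
      refine e1.trans ?_
      have := (hR'.2 Ω' ζ z).1 (a₁ := ⟨_, AddSubgroup.mem_map_of_mem _ (r ⟨s₀, hs₀⟩).2⟩) (a₂ := 0)
        ((congrArg _ e1.symm).trans (e2.trans (map_zero _).symm))
      exact congrArg Subtype.val this
    have hker : ∃ k, S.f.hom.app (op V) k = s := by
      have h1 : (S.map (sheafToPresheaf _ _ ⋙ (evaluation _ AddCommGrpCat.{u + 1}).obj (op V))).Exact := by
        have := hS.map_of_mono_of_preservesKernel (sheafToPresheaf _ _ ⋙ (evaluation _ AddCommGrpCat.{u + 1}).obj (op V))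
          inferInstance inferInstance
        exact this
      rw [ShortComplex.ab_exact_iff] at h1
      exact h1 s h0
    obtain ⟨k, rfl⟩ := hker
    exact ⟨⟨k, hs⟩, hmono ((hnat k).trans hsc)⟩

/-- cokernels of finite locally constant sheaves -/
theorem isFiniteLocallyConstant_of_cokernel {S : ShortComplex (EtCoh.Ab X)} [Epi S.g] (hS : S.Exact)
    (h1 : EtCoh.IsFiniteLocallyConstant S.X₁) (h2 : EtCoh.IsFiniteLocallyConstant S.X₂) :
    EtCoh.IsFiniteLocallyConstant S.X₃ := by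
  rw [isFiniteLocallyConstant_iff]
  intro x
  obtain ⟨Ω, _, _, ξ, U, u, P, R, hξ, hP, hR⟩ := exists_common h1 h2 x
  have := hP.1
  have := hR.1
  choose r hr using fun s : P => (hR.2 Ω ξ u).2
    ((Scheme.pointSmallEtale ξ).toPresheafFiber U u S.X₂.obj (S.f.hom.app (op U) s.1))
  obtain ⟨V, g, v, hv, hg⟩ := exists_forall_eq S.X₂.obj u (fun s : P => (r s).1)
    (fun s => S.f.hom.app (op U) s.1) hr
  have hP' := hP.restrict g
  have hR' := hR.restrict g
  have := hR'.1
  let C := (R.map (S.X₂.obj.map g.op).hom).map (S.g.hom.app (op V)).hom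
  refine ⟨V, _, (base_of_point v).trans hξ, C, ?_, fun Ω' _ _ ζ z => ?_⟩
  · exact Finite.of_surjective (fun t : R.map (S.X₂.obj.map g.op).hom =>
      (⟨S.g.hom.app (op V) t.1, AddSubgroup.mem_map_of_mem _ t.2⟩ : C)) fun ⟨_, t, ht, rfl⟩ => ⟨⟨t, ht⟩, rfl⟩
  · have hepi := (epi_iff_stalks S.g).1 inferInstance Ω' ζ
    have hex := (exact_iff_stalks S).1 hS Ω' ζ
    rw [ShortComplex.ab_exact_iff] at hex
    let germ := fun c : C => (Scheme.pointSmallEtale ζ).toPresheafFiber V z S.X₃.obj c.1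
    refine ⟨fun a b e => ?_, fun q => ?_⟩
    · obtain ⟨_, t, ht, rfl⟩ := a
      obtain ⟨_, t', ht', rfl⟩ := b
      refine Subtype.ext ?_
      have h0 : (EtCoh.stalk ζ).map S.g ((Scheme.pointSmallEtale ζ).toPresheafFiber V z S.X₂.obj (t - t')) = 0 := by
        refine ((Scheme.pointSmallEtale ζ).toPresheafFiber_naturality_apply S.g.hom V z _).trans ?_
        rw [map_sub, map_sub]
        exact sub_eq_zero.2 e
      obtain ⟨y, hy⟩ := hex _ h0
      obtain ⟨⟨p, hp⟩, rfl⟩ := (hP'.2 Ω' ζ z).2 y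
      have e1 : S.f.hom.app (op V) p ∈ R.map (S.X₂.obj.map g.op).hom := by
        obtain ⟨p₀, hp₀, rfl⟩ := hp
        exact ⟨_, (r ⟨p₀, hp₀⟩).2, ((NatTrans.naturality_apply S.f.hom g.op p₀).trans (hg ⟨p₀, hp₀⟩).symm).symm⟩
      have e2 : S.f.hom.app (op V) p = t - t' := congrArg Subtype.val ((hR'.2 Ω' ζ z).1
        (a₁ := ⟨_, e1⟩) (a₂ := ⟨_, sub_mem ht ht'⟩)
        (((Scheme.pointSmallEtale ζ).toPresheafFiber_naturality_apply S.f.hom V z p).symm.trans hy))
      have e3 : S.g.hom.app (op V) (S.f.hom.app (op V) p) = 0 := congr(($(S.zero)).hom.app (op V) p)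
      rw [e2, map_sub, sub_eq_zero] at e3
      exact e3
    · obtain ⟨y, rfl⟩ := hepi q
      obtain ⟨⟨t, ht⟩, rfl⟩ := (hR'.2 Ω' ζ z).2 y
      exact ⟨⟨_, AddSubgroup.mem_map_of_mem _ ht⟩,
        ((Scheme.pointSmallEtale ζ).toPresheafFiber_naturality_apply S.g.hom V z t).symm⟩

/-- extensions of finite locally constant sheaves -/
theorem isFiniteLocallyConstant_of_extension {S : ShortComplex (EtCoh.Ab X)} (hS : S.ShortExact)
    (h1 : EtCoh.IsFiniteLocallyConstant S.X₁) (h3 : EtCoh.IsFiniteLocallyConstant S.X₃) :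
    EtCoh.IsFiniteLocallyConstant S.X₂ := by
  have := hS.mono_f
  have := hS.epi_g
  rw [isFiniteLocallyConstant_iff]
  intro x
  obtain ⟨Ω, _, _, ξ, U, u, P, R, hξ, hP, hR⟩ := exists_common h1 h3 x
  have := hP.1
  have := hR.1
  let Φ := Scheme.pointSmallEtale ξ
  -- lifts of the sections in `R` near the point
  have hl : ∀ r : R, ∃ (V : X.Etale) (g : V ⟶ U) (v : Φ.fiber.obj V) (e : S.X₂.obj.obj (op V)),
      Φ.fiber.map g v = u ∧ S.g.hom.app (op V) e = S.X₃.obj.map g.op r.1 := fun r => by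
    obtain ⟨q, hq⟩ := (epi_iff_stalks S.g).1 inferInstance Ω ξ (Φ.toPresheafFiber U u S.X₃.obj r.1)
    obtain ⟨W, w, e, rfl⟩ := Φ.toPresheafFiber_jointly_surjective q
    have hq' := (Φ.toPresheafFiber_naturality_apply S.g.hom W w e).symm.trans hq
    obtain ⟨⟨T, t⟩, ⟨a, ha⟩, ⟨b, hb⟩, -⟩ := IsCofilteredOrEmpty.cone_objs
      (Φ.fiber.elementsMk W w) (Φ.fiber.elementsMk U u)
    obtain ⟨a', ha'⟩ : ∃ a' : T ⟶ W, Φ.fiber.map a' t = w := ⟨a, ha⟩
    obtain ⟨b', hb'⟩ : ∃ b' : T ⟶ U, Φ.fiber.map b' t = u := ⟨b, hb⟩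
    rw [← ha', ← hb', ← Φ.toPresheafFiber_w_apply, ← Φ.toPresheafFiber_w_apply] at hq'
    obtain ⟨T', c, t', ht', hc⟩ := (Φ.toPresheafFiber_eq_iff' T t _ _).1 hq'
    refine ⟨T', c ≫ b', t', S.X₂.obj.map (c ≫ a').op e, by rw [Functor.map_comp_apply, ht', hb'], ?_⟩
    rw [NatTrans.naturality_apply S.g.hom (c ≫ a').op e, op_comp, op_comp, Functor.map_comp_apply,
      Functor.map_comp_apply]
    exact hc
  -- bring them to one neighbourhood
  have hl' : ∃ (V : X.Etale) (g : V ⟶ U) (v : Φ.fiber.obj V) (e : R → S.X₂.obj.obj (op V)),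
      Φ.fiber.map g v = u ∧ ∀ r : R, S.g.hom.app (op V) (e r) = S.X₃.obj.map g.op r.1 := by
    classical
    haveI := Fintype.ofFinite R
    suffices key : ∀ s : Finset R, ∃ (V : X.Etale) (g : V ⟶ U) (v : Φ.fiber.obj V) (e : R → S.X₂.obj.obj (op V)),
        Φ.fiber.map g v = u ∧ ∀ r ∈ s, S.g.hom.app (op V) (e r) = S.X₃.obj.map g.op r.1 by
      obtain ⟨V, g, v, e, hv, he⟩ := key Finset.univ
      exact ⟨V, g, v, e, hv, fun r => he r (Finset.mem_univ r)⟩
    intro s
    induction s using Finset.induction with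
    | empty => exact ⟨U, 𝟙 U, u, fun _ => 0, by simp, fun k hk => absurd hk (Finset.notMem_empty k)⟩
    | @insert r s hrs ih =>
      obtain ⟨V, g, v, e, hv, he⟩ := ih
      obtain ⟨V₁, g₁, v₁, e₁, hv₁, he₁⟩ := hl r
      obtain ⟨⟨T, t⟩, ⟨a, ha⟩, ⟨b, hb⟩, -⟩ := IsCofilteredOrEmpty.cone_objs
        (Φ.fiber.elementsMk V v) (Φ.fiber.elementsMk V₁ v₁)
      obtain ⟨a', ha'⟩ : ∃ a' : T ⟶ V, Φ.fiber.map a' t = v := ⟨a, ha⟩
      obtain ⟨b', hb'⟩ : ∃ b' : T ⟶ V₁, Φ.fiber.map b' t = v₁ := ⟨b, hb⟩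
      obtain ⟨T', c, t', ht', hc⟩ : ∃ (T' : X.Etale) (c : T' ⟶ T) (t' : Φ.fiber.obj T'),
          Φ.fiber.map c t' = t ∧ S.X₃.obj.map (c ≫ b' ≫ g₁).op r.1 = S.X₃.obj.map (c ≫ a' ≫ g).op r.1 := by
        have e0 : Φ.toPresheafFiber T t S.X₃.obj (S.X₃.obj.map (b' ≫ g₁).op r.1) =
            Φ.toPresheafFiber T t S.X₃.obj (S.X₃.obj.map (a' ≫ g).op r.1) := by
          rw [Φ.toPresheafFiber_w_apply, Φ.toPresheafFiber_w_apply, Functor.map_comp_apply,
            Functor.map_comp_apply, ha', hb', hv, hv₁]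
        obtain ⟨T', c, t', ht', hc⟩ := (Φ.toPresheafFiber_eq_iff' T t _ _).1 e0
        refine ⟨T', c, t', ht', ?_⟩
        rwa [op_comp (f := c), op_comp (f := c), Functor.map_comp_apply, Functor.map_comp_apply]
      refine ⟨T', c ≫ a' ≫ g, t', Function.update (fun k => S.X₂.obj.map (c ≫ a').op (e k)) r
        (S.X₂.obj.map (c ≫ b').op e₁), by rw [Functor.map_comp_apply, Functor.map_comp_apply, ht', ha', hv],
        fun k hk => ?_⟩
      rcases Finset.mem_insert.1 hk with rfl | hk'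
      · rw [Function.update_self, NatTrans.naturality_apply S.g.hom (c ≫ b').op e₁, he₁,
          ← Functor.map_comp_apply, ← op_comp, Category.assoc, hc]
      · rw [Function.update_of_ne (fun e => hrs (by rw [← e]; exact hk')), NatTrans.naturality_apply S.g.hom (c ≫ a').op (e k),
          he k hk', ← Functor.map_comp_apply, ← op_comp, Category.assoc]
  obtain ⟨V₀, g₀, v₀, e₀, hv₀, he₀⟩ := hl'
  -- the failure of additivity comes from `P`
  have hP₀ := hP.restrict g₀
  have hz : ∀ p : R × R, S.g.hom.app (op V₀) (e₀ p.1 + e₀ p.2 - e₀ (p.1 + p.2)) = 0 := fun p => by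
    rw [map_sub, map_add, he₀, he₀, he₀, AddSubgroup.coe_add, map_add, sub_self]
  have hex₀ : ∀ p : R × R, ∃ c : P.map (S.X₁.obj.map g₀.op).hom,
      (EtCoh.stalk ξ).map S.f (Φ.toPresheafFiber V₀ v₀ S.X₁.obj c.1) =
        Φ.toPresheafFiber V₀ v₀ S.X₂.obj (e₀ p.1 + e₀ p.2 - e₀ (p.1 + p.2)) := fun p => by
    have hex := (exact_iff_stalks S).1 hS.exact Ω ξ
    rw [ShortComplex.ab_exact_iff] at hex
    obtain ⟨y, hy⟩ := hex (Φ.toPresheafFiber V₀ v₀ S.X₂.obj (e₀ p.1 + e₀ p.2 - e₀ (p.1 + p.2)))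
      ((Φ.toPresheafFiber_naturality_apply S.g.hom V₀ v₀ _).trans ((congrArg _ (hz p)).trans (map_zero _)))
    obtain ⟨c, rfl⟩ := (hP₀.2 Ω ξ v₀).2 y
    exact ⟨c, hy⟩
  choose c hc using hex₀
  obtain ⟨V, g, v, hv, hcg⟩ := exists_forall_eq S.X₂.obj v₀ (fun p : R × R => S.f.hom.app (op V₀) (c p).1)
    (fun p => e₀ p.1 + e₀ p.2 - e₀ (p.1 + p.2))
    (fun p => (Φ.toPresheafFiber_naturality_apply S.f.hom V₀ v₀ (c p).1).symm.trans (hc p))
  let P' := (P.map (S.X₁.obj.map g₀.op).hom).map (S.X₁.obj.map g.op).hom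
  have hP' : FinConst S.X₁ V P' := hP₀.restrict g
  have hR' : FinConst S.X₃ V ((R.map (S.X₃.obj.map g₀.op).hom).map (S.X₃.obj.map g.op).hom) :=
    (hR.restrict g₀).restrict g
  let PI := P'.map (S.f.hom.app (op V)).hom
  let el : R → S.X₂.obj.obj (op V) := fun r => S.X₂.obj.map g.op (e₀ r)
  have hadd : ∀ r r', el r + el r' - el (r + r') ∈ PI := fun r r' => by
    refine ⟨S.X₁.obj.map g.op (c (r, r')).1, AddSubgroup.mem_map_of_mem _ (c (r, r')).2, ?_⟩
    refine (NatTrans.naturality_apply S.f.hom g.op _).trans ((hcg (r, r')).trans ?_)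
    simp [el]
  let E : AddSubgroup (S.X₂.obj.obj (op V)) :=
    { carrier := {s | ∃ r : R, s - el r ∈ PI}
      zero_mem' := ⟨0, by
        have := hadd 0 0
        rw [add_zero, add_sub_cancel_right] at this
        simpa using PI.neg_mem this⟩
      add_mem' := fun {a b} ⟨r, hr⟩ ⟨r', hr'⟩ => ⟨r + r', by
        have := PI.add_mem (PI.add_mem hr hr') (hadd r r')
        convert this using 1
        abel⟩
      neg_mem' := fun {a} ⟨r, hr⟩ => ⟨-r, by
        have h0 : el 0 ∈ PI := by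
          have := hadd 0 0
          rwa [add_zero, add_sub_cancel_right] at this
        have := PI.sub_mem (PI.sub_mem (PI.neg_mem hr) h0) (hadd r (-r))
        rw [add_neg_cancel] at this
        convert this using 1
        abel⟩ }
  have := hP'.1
  refine ⟨V, _, (base_of_point v).trans hξ, E, ?_, fun Ω' _ _ ζ z => ?_⟩
  · refine Finite.of_surjective (fun q : R × P' => (⟨el q.1 + S.f.hom.app (op V) q.2.1, q.1, by
      rw [add_sub_cancel_left]; exact AddSubgroup.mem_map_of_mem _ q.2.2⟩ : E)) ?_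
    rintro ⟨s, r, p, hp, hps⟩
    exact ⟨(r, ⟨p, hp⟩), Subtype.ext (by
      show el r + S.f.hom.app (op V) p = s
      rw [show S.f.hom.app (op V) p = s - el r from hps, add_sub_cancel])⟩
  · let Ψ := Scheme.pointSmallEtale ζ
    have hgr : ∀ r : R, S.g.hom.app (op V) (el r) = S.X₃.obj.map g.op (S.X₃.obj.map g₀.op r.1) := fun r =>
      (NatTrans.naturality_apply S.g.hom g.op (e₀ r)).trans (congrArg _ (he₀ r))
    have hpi : ∀ {s}, s ∈ PI → S.g.hom.app (op V) s = 0 := fun {s} hs => by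
      obtain ⟨p, -, rfl⟩ := hs
      exact congr(($(S.zero)).hom.app (op V) p)
    have hinj : ∀ s ∈ E, Ψ.toPresheafFiber V z S.X₂.obj s = 0 → s = 0 := by
      rintro s ⟨r, hr⟩ h0
      have e1 : S.g.hom.app (op V) s = S.X₃.obj.map g.op (S.X₃.obj.map g₀.op r.1) := by
        have := hpi hr
        rw [map_sub, sub_eq_zero] at this
        exact this.trans (hgr r)
      have e2 : Ψ.toPresheafFiber V z S.X₃.obj (S.g.hom.app (op V) s) = 0 :=
        (Ψ.toPresheafFiber_naturality_apply S.g.hom V z s).symm.trans ((congrArg _ h0).trans (map_zero _))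
      have e3 : S.X₃.obj.map g.op (S.X₃.obj.map g₀.op r.1) = 0 := congrArg Subtype.val ((hR'.2 Ω' ζ z).1
        (a₁ := ⟨_, AddSubgroup.mem_map_of_mem _ (AddSubgroup.mem_map_of_mem _ r.2)⟩) (a₂ := 0)
        ((congrArg _ e1.symm).trans (e2.trans (map_zero _).symm)))
      have hr0 : r = 0 := by
        have h4 := congrArg (Φ.toPresheafFiber V v S.X₃.obj) e3
        rw [Φ.toPresheafFiber_w_apply, Φ.toPresheafFiber_w_apply, hv, hv₀, map_zero] at h4
        exact (hR.2 Ω ξ u).1 (a₁ := r) (a₂ := 0) (h4.trans (map_zero _).symm)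
      subst hr0
      have hsPI : s ∈ PI := by
        have := hadd 0 0
        rw [add_zero, add_sub_cancel_right] at this
        simpa using PI.add_mem hr this
      obtain ⟨p, hp, rfl⟩ := hsPI
      have h5 : Ψ.toPresheafFiber V z S.X₁.obj p = 0 := (mono_iff_stalks S.f).1 inferInstance Ω' ζ
        (((Ψ.toPresheafFiber_naturality_apply S.f.hom V z p).trans h0).trans (map_zero _).symm)
      have h6 : p = 0 := congrArg Subtype.val
        ((hP'.2 Ω' ζ z).1 (a₁ := ⟨p, hp⟩) (a₂ := 0) (h5.trans (map_zero _).symm))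
      rw [h6, map_zero]
    refine ⟨fun a b e => sub_eq_zero.1 (Subtype.ext (hinj _ (a - b).2 ?_)), fun q => ?_⟩
    · rw [AddSubgroup.coe_sub, map_sub, sub_eq_zero]
      exact e
    · obtain ⟨⟨_, _, ⟨r, hr, rfl⟩, rfl⟩, hr'⟩ := (hR'.2 Ω' ζ z).2 ((EtCoh.stalk ζ).map S.g q)
      have e1 : (EtCoh.stalk ζ).map S.g (q - Ψ.toPresheafFiber V z S.X₂.obj (el ⟨r, hr⟩)) = 0 := by
        refine (map_sub _ _ _).trans (sub_eq_zero.2 ?_)
        refine hr'.symm.trans ((congrArg _ (hgr ⟨r, hr⟩).symm).trans ?_)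
        exact (Ψ.toPresheafFiber_naturality_apply S.g.hom V z _).symm
      have hex := (exact_iff_stalks S).1 hS.exact Ω' ζ
      rw [ShortComplex.ab_exact_iff] at hex
      obtain ⟨y, hy⟩ := hex _ e1
      obtain ⟨⟨p, hp⟩, rfl⟩ := (hP'.2 Ω' ζ z).2 y
      refine ⟨⟨el ⟨r, hr⟩ + S.f.hom.app (op V) p, ⟨r, hr⟩,
        by rw [add_sub_cancel_left]; exact AddSubgroup.mem_map_of_mem _ hp⟩, ?_⟩
      show Ψ.toPresheafFiber V z S.X₂.obj (el ⟨r, hr⟩ + S.f.hom.app (op V) p) = q
      rw [map_add]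
      refine (congrArg (Ψ.toPresheafFiber V z S.X₂.obj (el ⟨r, hr⟩) + ·)
        ((Ψ.toPresheafFiber_naturality_apply S.f.hom V z p).symm.trans hy)).trans ?_
      exact add_sub_cancel _ q

end Groth.Agent.EtFound
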