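import Groth.Agent.EtFound.Strata
import Groth.Agent.EtFound.FLCAb
import Groth.Agent.EtFound.PullStalk
import Groth.Agent.EtFound.AbRecollement
import Mathlib.Topology.Spectral.Prespectral

/-! loci defined by geometric stalks -/

universe u

open CategoryTheory CategoryTheory.Limits AlgebraicGeometry Opposite Topology

namespace Groth.Agent.EtFound

set_option backward.isDefEq.respectTransparency.types false

variable {X : Scheme.{u}}

theorem range_point {Ω : Type u} [Field Ω] (ξ : Spec (CommRingCat.of Ω) ⟶ X) :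
    Set.range ξ.base = {ξ.base (default : Spec (CommRingCat.of Ω))} :=
  Set.range_unique

/-- stalks only depend on the image point -/
theorem nonempty_stalk_equiv (F : EtCoh.Ab X) {k k' : Type u} [Field k] [IsSepClosed k] [Field k'] [IsSepClosed k']
    (ξ : Spec (CommRingCat.of k) ⟶ X) (ξ' : Spec (CommRingCat.of k') ⟶ X)
    (h : ξ.base (default : Spec (CommRingCat.of k)) = ξ'.base (default : Spec (CommRingCat.of k'))) :
    Nonempty ((EtCoh.stalk ξ).obj F ≃ (EtCoh.stalk ξ').obj F) := by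
  obtain ⟨Ω, _, _, z, e, he⟩ := exists_lift_extension ξ ξ' ⟨default, h⟩
  let a := (stalkExtIso AddCommGrpCat.{u + 1} ξ z).app F ≪≫
    eqToIso (congrArg (fun q => (EtCoh.stalk q).obj F) he.symm) ≪≫ ((stalkExtIso AddCommGrpCat.{u + 1} ξ' e).app F).symm
  exact ⟨a.addCommGroupIsoToAddEquiv.toEquiv⟩

/-- the locus where the geometric stalk has a property -/
def stalkSet (F : EtCoh.Ab X) (P : Type (u + 1) → Prop) : Set X :=
  {x | ∃ (Ω : Type u) (_ : Field Ω) (_ : IsSepClosed Ω) (ξ : Spec (CommRingCat.of Ω) ⟶ X),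
    Set.range ξ = {x} ∧ P ((EtCoh.stalk ξ).obj F)}

theorem mem_stalkSet_iff {F : EtCoh.Ab X} {P : Type (u + 1) → Prop} (hP : ∀ A B, Nonempty (A ≃ B) → P A → P B)
    {Ω : Type u} [Field Ω] [IsSepClosed Ω] (ξ : Spec (CommRingCat.of Ω) ⟶ X) :
    ξ.base (default : Spec (CommRingCat.of Ω)) ∈ stalkSet F P ↔ P ((EtCoh.stalk ξ).obj F) := by
  refine ⟨fun ⟨k, _, _, ζ, hr, hζ⟩ => ?_, fun h => ⟨Ω, _, _, ξ, range_point ξ, h⟩⟩
  rw [range_point, Set.singleton_eq_singleton_iff] at hr
  exact hP _ _ (nonempty_stalk_equiv F ζ ξ hr) hζ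

theorem exists_geomPoint (x : X) : ∃ (Ω : Type u) (_ : Field Ω) (_ : IsAlgClosed Ω)
    (ξ : Spec (CommRingCat.of Ω) ⟶ X), ξ.base (default : Spec (CommRingCat.of Ω)) = x := by
  refine ⟨AlgebraicClosure (X.residueField x), inferInstance, inferInstance,
    Spec.map (CommRingCat.ofHom (algebraMap (X.residueField x) (AlgebraicClosure (X.residueField x)))) ≫
      X.fromSpecResidueField x, ?_⟩
  exact (Scheme.Hom.comp_apply _ _ _).trans (Scheme.fromSpecResidueField_apply x _)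

theorem preimage_stalkSet {T : Scheme.{u}} (g : T ⟶ X) {F : EtCoh.Ab X} {P : Type (u + 1) → Prop}
    (hP : ∀ A B, Nonempty (A ≃ B) → P A → P B) :
    g.base ⁻¹' stalkSet F P = stalkSet ((EtCoh.pull g).obj F) P := by
  ext t
  obtain ⟨Ω, _, _, ξ, rfl⟩ := exists_geomPoint t
  rw [Set.mem_preimage, ← Scheme.Hom.comp_apply, mem_stalkSet_iff hP, mem_stalkSet_iff hP]
  have e : Nonempty ((EtCoh.stalk ξ).obj ((EtCoh.pull g).obj F) ≃ (EtCoh.stalk (ξ ≫ g)).obj F) :=
    ⟨((stalkPullIso g ξ).app F).addCommGroupIsoToAddEquiv.toEquiv⟩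
  exact ⟨hP _ _ (e.map Equiv.symm), hP _ _ e⟩

/-- loci of stalks of finite locally constant sheaves are open -/
theorem isOpen_stalkSet {F : EtCoh.Ab X} (hF : EtCoh.IsFiniteLocallyConstant F) {P : Type (u + 1) → Prop}
    (hP : ∀ A B, Nonempty (A ≃ B) → P A → P B) : IsOpen (stalkSet F P) := by
  refine isOpen_iff_forall_mem_open.2 fun x hx => ?_
  obtain ⟨U, p, hp, S, hS⟩ := (isFiniteLocallyConstant_iff F).1 hF x
  have : AlgebraicGeometry.Etale U.hom := U.prop
  refine ⟨Set.range U.hom.base, ?_, U.hom.isOpenMap.isOpen_range, p, hp⟩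
  have key : ∀ q : U.left, U.hom.base q ∈ stalkSet F P ↔ P S := fun q => by
    obtain ⟨Ω, _, _, ξ, z, hz⟩ := exists_algClosed_point U q
    rw [← show ξ.base (default : Spec (CommRingCat.of Ω)) = U.hom.base q from
      (base_of_point z).symm.trans (congrArg _ hz), mem_stalkSet_iff hP]
    have e : Nonempty (S ≃ (EtCoh.stalk ξ).obj F) := ⟨Equiv.ofBijective _ (hS.2 Ω ξ z)⟩
    exact ⟨hP _ _ (e.map Equiv.symm), hP _ _ e⟩
  rintro _ ⟨q, rfl⟩
  exact (key q).2 ((key p).1 (hp ▸ hx))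

theorem compl_stalkSet {F : EtCoh.Ab X} {P : Type (u + 1) → Prop} (hP : ∀ A B, Nonempty (A ≃ B) → P A → P B) :
    (stalkSet F P)ᶜ = stalkSet F (fun A => ¬ P A) := by
  ext x
  obtain ⟨Ω, _, _, ξ, rfl⟩ := exists_geomPoint x
  rw [Set.mem_compl_iff, mem_stalkSet_iff hP, mem_stalkSet_iff (fun A B e h h' => h (hP _ _ (e.map Equiv.symm) h'))]

/-- an open piece with open complement in a constructible set is constructible -/
theorem isConstructible_inter_of_open {S : Type*} [TopologicalSpace S] [PrespectralSpace S] [CompactSpace S] [QuasiSeparatedSpace S]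
    {E O O' : Set S} (hE : IsConstructible E) (hO : IsOpen O) (hO' : IsOpen O') (h : E ∩ O = E \ O') :
    IsConstructible (E ∩ O) := by
  have hc : IsCompact (E ∩ O) := by
    rw [h]
    refine IsCompact.diff ?_ hO'
    have := SpecLib.isRetrocompact_of_isConstructible hE isCompact_univ isOpen_univ
    rwa [Set.inter_univ] at this
  have hcov : ∀ x : ↥(E ∩ O), ∃ V : Set S, IsOpen V ∧ IsCompact V ∧ (x : S) ∈ V ∧ V ⊆ O := fun x => by
    obtain ⟨V, ⟨hV, hV'⟩, hxV, hVO⟩ := PrespectralSpace.isTopologicalBasis.exists_subset_of_mem_open x.2.2 hO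
    exact ⟨V, hV, hV', hxV, hVO⟩
  choose V hV hV' hxV hVO using hcov
  obtain ⟨t, ht⟩ := hc.elim_finite_subcover V hV fun x hx => Set.mem_iUnion.2 ⟨⟨x, hx⟩, hxV _⟩
  have e : E ∩ O = ⋃ i : t, E ∩ V i.1 := by
    ext x
    refine ⟨fun hx => ?_, fun hx => ?_⟩
    · obtain ⟨i, hi, hxi⟩ : ∃ i ∈ t, x ∈ V i := by simpa using ht hx
      exact Set.mem_iUnion.2 ⟨⟨i, hi⟩, hx.1, hxi⟩
    · obtain ⟨i, hi⟩ := Set.mem_iUnion.1 hx
      exact ⟨hi.1, hVO _ hi.2⟩
  rw [e]
  refine IsConstructible.iUnion fun i => hE.inter ?_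
  exact IsRetrocompact.isConstructible (hV _) (IsCompact.isRetrocompact (hV' _) (hV _))

/-- loci of stalks of constructible sheaves are locally constructible -/
theorem isLocallyConstructible_stalkSet {F : EtCoh.Ab X} (hF : EtPBC.IsConstructible F) {P : Type (u + 1) → Prop}
    (hP : ∀ A B, Nonempty (A ≃ B) → P A → P B) : IsLocallyConstructible (stalkSet F P) := by
  intro x
  obtain ⟨U, hU, hxU, -⟩ := exists_isAffineOpen_mem_and_subset (U := (⊤ : X.Opens)) (x := x) trivial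
  refine ⟨U, U.2.mem_nhds hxU, U.2, ?_⟩
  have : IsAffine U.toScheme := hU
  have : CompactSpace ↥(U : Set X) := isCompact_iff_compactSpace.1 hU.isCompact
  have : QuasiSeparatedSpace ↥(U : Set X) := (isQuasiSeparated_iff_quasiSeparatedSpace _ U.2).1 hU.isQuasiSeparated
  have : PrespectralSpace ↥(U : Set X) := U.2.isOpenEmbedding_subtypeVal.prespectralSpace
  obtain ⟨n, E, hE, hc, hu⟩ := exists_pieces (hF U hU)
  have e : (Subtype.val ⁻¹' stalkSet F P : Set ↥(U : Set X)) = ⋃ k, Subtype.val ⁻¹' E k ∩ Subtype.val ⁻¹' stalkSet F P := by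
    rw [← Set.iUnion_inter, ← Set.preimage_iUnion, hu, Subtype.coe_preimage_self, Set.univ_inter]
  show IsConstructible (Subtype.val ⁻¹' stalkSet F P)
  rw [e]
  refine IsConstructible.iUnion fun k => ?_
  obtain ⟨T, g, hg, hr, hT⟩ := hE k
  have hrel : ∀ {Q : Type (u + 1) → Prop}, (∀ A B, Nonempty (A ≃ B) → Q A → Q B) →
      ∃ O : Set X, IsOpen O ∧ E k ∩ stalkSet F Q = E k ∩ O := fun {Q} hQ => by
    obtain ⟨O, hO, hOe⟩ := g.isEmbedding.isInducing.isOpen_iff.1 (isOpen_stalkSet hT hQ)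
    refine ⟨O, hO, ?_⟩
    rw [← hr, ← Set.image_preimage_eq_range_inter, ← Set.image_preimage_eq_range_inter, preimage_stalkSet g hQ, hOe]
  obtain ⟨O, hO, hOe⟩ := hrel hP
  obtain ⟨O', hO', hO'e⟩ := hrel (Q := fun A => ¬ P A) fun A B e h h' => h (hP _ _ (e.map Equiv.symm) h')
  rw [← Set.preimage_inter, hOe, Set.preimage_inter]
  refine isConstructible_inter_of_open (hc k) (hO.preimage continuous_subtype_val) (hO'.preimage continuous_subtype_val) ?_
  rw [← Set.preimage_inter, ← Set.preimage_sdiff, ← hOe]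
  refine congrArg _ ?_
  rw [← Set.sdiff_self_inter (t := O'), ← hO'e, ← compl_stalkSet hP, Set.sdiff_self_inter, Set.sdiff_compl]

end Groth.Agent.EtFound
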