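import Groth.Agent.EtFound.ProperHenselLifts
import Mathlib.Topology.Connected.TotallyDisconnected

/-!
Connectedness for proper schemes over henselian pairs.
-/

set_option autoImplicit false
set_option linter.style.haveILetI false

universe u

open CategoryTheory CategoryTheory.Limits AlgebraicGeometry Topology

namespace Groth.Agent.ProperHenselConn

open Groth.Agent HensCouple7 ProperHenselLifts

variable {A : Type u} [CommRing A] (I : Ideal A) [HenselianRing A I]
  {X : Scheme.{u}} (f : X ⟶ Spec (CommRingCat.of A)) [IsProper f]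

omit [HenselianRing A I] [IsProper f] in
theorem range_fst : Set.range (pullback.fst f (Spec.map (CommRingCat.ofHom (Ideal.Quotient.mk I)))) =
    f ⁻¹' PrimeSpectrum.zeroLocus (I : Set A) :=
  range_fst_mk I f

theorem connectedSpace_iff :
    ConnectedSpace X ↔ ConnectedSpace (f ⁻¹' PrimeSpectrum.zeroLocus (I : Set A) : Set X) := by
  let Z := f ⁻¹' PrimeSpectrum.zeroLocus (I : Set A)
  have hL := lifts_proper' I f
  constructor
  · intro hX
    refine connectedSpace_iff_clopen.2 ⟨?_, fun V hV => ?_⟩
    · by_contra hne
      rw [not_nonempty_iff] at hne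
      obtain ⟨x⟩ : Nonempty X := hX.toNonempty
      have := eq_empty_of_disjoint I f (D := Set.univ) isClosed_univ
        (Set.eq_empty_of_forall_notMem fun z hz => hne.elim ⟨z, hz.2⟩)
      exact (this ▸ Set.mem_univ x : x ∈ (∅ : Set X))
    · obtain ⟨U, ⟨hU, rfl⟩, -⟩ := hL V hV
      rcases isClopen_iff.1 hU with rfl | rfl
      · exact Or.inl rfl
      · exact Or.inr rfl
  · intro hZ
    obtain ⟨z⟩ : Nonempty Z := hZ.toNonempty
    refine connectedSpace_iff_clopen.2 ⟨⟨z.1⟩, fun U hU => ?_⟩
    rcases isClopen_iff.1 (hU.preimage (continuous_subtype_val (p := (· ∈ Z)))) with h | h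
    · refine Or.inl (eq_empty_of_disjoint I f hU.isClosed (Set.eq_empty_of_forall_notMem fun x hx => ?_))
      exact Set.eq_empty_iff_forall_notMem.1 h ⟨x, hx.2⟩ hx.1
    · refine Or.inr (Set.compl_empty_iff.1 (eq_empty_of_disjoint I f hU.compl.isClosed
        (Set.eq_empty_of_forall_notMem fun x hx => hx.1 ?_)))
      exact Set.eq_univ_iff_forall.1 h ⟨x, hx.2⟩

theorem isConnected_inter_closure (x : X) :
    IsConnected (f ⁻¹' PrimeSpectrum.zeroLocus (I : Set A) ∩ closure {x}) := by
  let K := Scheme.IdealSheafData.vanishingIdeal ⟨closure {x}, isClosed_closure⟩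
  let Y := K.subscheme
  let ι : Y ⟶ X := K.subschemeι
  have hr : Set.range ι = closure {x} := by
    rw [show Set.range ι = (K.support : Set X) from K.range_subschemeι]
    simp [K]
  haveI : IsProper (ι ≫ f) := inferInstance
  have hYc : ConnectedSpace Y := by
    have h := (ι.isEmbedding.isInducing.isPreconnected_image (s := Set.univ))
    rw [Set.image_univ, hr] at h
    obtain ⟨y, hy⟩ : x ∈ Set.range ι := hr ▸ subset_closure rfl
    exact { toPreconnectedSpace := ⟨h.1 (isPreirreducible_singleton.closure.isPreconnected)⟩, toNonempty := ⟨y⟩ }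
  have hW := (connectedSpace_iff I (ι ≫ f)).1 hYc
  rw [← isConnected_iff_connectedSpace] at hW
  have := hW.image ι ι.continuous.continuousOn
  rw [show (ι ≫ f) ⁻¹' PrimeSpectrum.zeroLocus (I : Set A) =
    ι ⁻¹' (f ⁻¹' PrimeSpectrum.zeroLocus (I : Set A)) from rfl, Set.image_preimage_eq_inter_range, hr] at this
  exact this

theorem bijective_connectedComponentsMap {Z : Type u} [TopologicalSpace Z]
    [TopologicalSpace.NoetherianSpace Z] (i : Z → X) (hi : IsEmbedding i)
    (hr : Set.range i = f ⁻¹' PrimeSpectrum.zeroLocus (I : Set A)) :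
    Function.Bijective hi.continuous.connectedComponentsMap := by
  classical
  have hfin : Finite (ConnectedComponents Z) := by
    haveI : Finite (irreducibleComponents Z) :=
      TopologicalSpace.NoetherianSpace.finite_irreducibleComponents.to_subtype
    refine Finite.of_surjective (fun C : irreducibleComponents Z =>
      ConnectedComponents.mk (C.2.1.nonempty).some) fun q => ?_
    obtain ⟨z, rfl⟩ := ConnectedComponents.surjective_coe q
    refine ⟨⟨irreducibleComponent z, irreducibleComponent_mem_irreducibleComponents z⟩,
      ConnectedComponents.coe_eq_coe'.2 ?_⟩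
    exact isIrreducible_irreducibleComponent.isConnected.isPreconnected.subset_connectedComponent
      mem_irreducibleComponent (Set.Nonempty.some_mem _)
  haveI : DiscreteTopology (ConnectedComponents Z) := inferInstance
  have hL := lifts_range_iff hi |>.2 (hr ▸ lifts_proper' I f)
  constructor
  · intro a b hab
    obtain ⟨a, rfl⟩ := ConnectedComponents.surjective_coe a
    obtain ⟨b, rfl⟩ := ConnectedComponents.surjective_coe b
    rw [Continuous.connectedComponentsMap_mk, Continuous.connectedComponentsMap_mk,
      ConnectedComponents.coe_eq_coe'] at hab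
    obtain ⟨U, ⟨hU, hUV⟩, -⟩ := hL (ConnectedComponents.mk ⁻¹' {ConnectedComponents.mk b})
      ((isClopen_discrete _).preimage ConnectedComponents.continuous_coe)
    have hb : i b ∈ U := (Set.ext_iff.1 hUV b).2 rfl
    exact (Set.ext_iff.1 hUV a).1 (hU.connectedComponent_subset hb hab)
  · intro q
    obtain ⟨x, rfl⟩ := ConnectedComponents.surjective_coe q
    by_contra hne
    push Not at hne
    have := eq_empty_of_disjoint I f (D := connectedComponent x) isClosed_connectedComponent
      (Set.eq_empty_of_forall_notMem fun z ⟨hz, hzK⟩ => by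
        obtain ⟨w, rfl⟩ : z ∈ Set.range i := hr ▸ hzK
        exact hne (ConnectedComponents.mk w) (ConnectedComponents.coe_eq_coe'.2 hz))
    exact (this ▸ mem_connectedComponent : x ∈ (∅ : Set X))

end Groth.Agent.ProperHenselConn
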