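import Groth.Agent.EtFound.GabberH0
import Groth.Agent.EtFound.ProperHenselConn

/-!
Global sections of etale sheaves on proper schemes over henselian pairs.
-/

set_option autoImplicit false
set_option linter.style.haveILetI false

universe u

open CategoryTheory CategoryTheory.Limits AlgebraicGeometry Opposite Topology

namespace Groth.Agent.ProperH0

theorem bijective_unit {A : Type u} [CommRing A] (I : Ideal A) [HenselianRing A I]
    {X Z : Scheme.{u}} (f : X ⟶ Spec (CommRingCat.of A)) [IsProper f] (i : Z ⟶ X) [IsClosedImmersion i]
    [EtCoh.BCCont i] (hi : Set.range i = f ⁻¹' PrimeSpectrum.zeroLocus (I : Set A)) (F : EtCoh.Ab X) :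
    Function.Bijective (((EtCoh.pullPushAdj i).unit.app F).hom.app (op (EtCoh.top X))) := by
  haveI : CompactSpace X := QuasiCompact.compactSpace_of_compactSpace f
  haveI : QuasiSeparatedSpace X := quasiSeparatedSpace_of_quasiSeparated f
  refine GabberH0.bijective_unit i F ?_
  rw [hi]
  intro X' π _ V hV
  exact ProperHenselLifts.lifts_proper' I (π ≫ f) V hV

end Groth.Agent.ProperH0
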