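import Groth.Agent.NormFieldX.Props
import Groth.Agent.SepClosedNormal.Basic
import Groth.Agent.EtFound.Henselian
import Mathlib.AlgebraicGeometry.Morphisms.Etale
import Mathlib.AlgebraicGeometry.SpreadingOut
import Mathlib.AlgebraicGeometry.Morphisms.FlatMono

/-!
Absolute normalisations of integral schemes, and etale schemes over them.
-/

set_option autoImplicit false
set_option linter.style.haveILetI false

universe u

open CategoryTheory CategoryTheory.Limits AlgebraicGeometry TopologicalSpace

namespace Groth.Agent.AbsNormal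

set_option backward.isDefEq.respectTransparency.types false

/-- Etale schemes over a normal integral scheme with separably closed function field have Zariski
local sections through every point. -/
theorem exists_section_nhd {W : Scheme.{u}} [IsIntegral W] [IsSepClosed W.functionField]
    (hN : ∀ w : W, IsIntegrallyClosed (W.presheaf.stalk w)) {T : Scheme.{u}} (q : T ⟶ W)
    [AlgebraicGeometry.Etale q] (t : T) :
    ∃ (N : W.Opens) (s : (N : Scheme.{u}) ⟶ T) (n : (N : Scheme.{u})), s ≫ q = N.ι ∧ N.ι n = q t ∧ s n = t := by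
  let w := q t
  let A := W.presheaf.stalk w
  haveI : IsIntegrallyClosed A := hN w
  haveI : HenselianLocalRing A := SepClosedNormal.henselianLocalRing A W.functionField
  haveI : IsSepClosed (IsLocalRing.ResidueField A) :=
    SepClosedNormal.isSepClosed_residueField A W.functionField
  let a : Spec (CommRingCat.of A) ⟶ W := W.fromSpecStalk w
  let u₀ : Spec (CommRingCat.of (IsLocalRing.ResidueField A)) ⟶ W := EtFound.cpt A ≫ a
  have hu₀ : q t = u₀ (default : Spec (CommRingCat.of (IsLocalRing.ResidueField A))) := by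
    show w = a (EtFound.cpt A (default : Spec (CommRingCat.of (IsLocalRing.ResidueField A))))
    rw [EtFound.cpt_base]
    exact (Scheme.fromSpecStalk_closedPoint).symm
  obtain ⟨l, hl, hlt⟩ := Scheme.exists_fac_of_etale_of_isSepClosed q u₀ t hu₀
  let P := pullback q a
  haveI : Etale (pullback.snd q a) := MorphismProperty.pullback_snd _ _ inferInstance
  let l' : Spec (CommRingCat.of (IsLocalRing.ResidueField A)) ⟶ P := pullback.lift l (EtFound.cpt A) hl
  obtain ⟨σ, ⟨hσ, hσl⟩, -⟩ := EtFound.existsUnique_section A (pullback.snd q a) l' (pullback.lift_snd _ _ _)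
  let φ : Spec (W.presheaf.stalk w) ⟶ T := σ ≫ pullback.fst q a
  have hφ : φ ≫ q = W.fromSpecStalk w ≫ 𝟙 W := by
    show (σ ≫ pullback.fst q a) ≫ q = _
    rw [Category.assoc, pullback.condition, ← Category.assoc, hσ, Category.id_comp, Category.comp_id]
  obtain ⟨N, hwN, s, hs, hsq⟩ := spread_out_of_isGermInjective' (𝟙 W) q φ hφ
  refine ⟨N, s, ⟨w, hwN⟩, hsq.trans (Category.comp_id _), rfl, ?_⟩
  have h1 : φ (IsLocalRing.closedPoint A) = t := by
    have h : EtFound.cpt A ≫ φ = l := by
      show EtFound.cpt A ≫ σ ≫ pullback.fst q a = l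
      rw [← Category.assoc, hσl, pullback.lift_fst]
    have h' := congrArg (fun k : Spec (CommRingCat.of (IsLocalRing.ResidueField A)) ⟶ T =>
      k (default : Spec (CommRingCat.of (IsLocalRing.ResidueField A)))) h
    rw [← hlt]
    refine Eq.trans ?_ h'
    show φ (IsLocalRing.closedPoint A) =
      φ (EtFound.cpt A (default : Spec (CommRingCat.of (IsLocalRing.ResidueField A))))
    rw [EtFound.cpt_base]
  have h2 := congrArg (fun k : Spec (W.presheaf.stalk w) ⟶ T => k (IsLocalRing.closedPoint A)) hs
  refine Eq.trans ?_ (h2.symm.trans h1)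
  show s ⟨w, hwN⟩ = s (N.fromSpecStalkOfMem w hwN (IsLocalRing.closedPoint A))
  refine congrArg _ (N.ι.isOpenEmbedding.injective ?_)
  rw [← Scheme.Hom.comp_apply, Scheme.Opens.fromSpecStalkOfMem_ι]
  exact Scheme.fromSpecStalk_closedPoint.symm

/-- Etale schemes over a normal integral scheme with separably closed function field are locally
isomorphic to it. -/
theorem exists_chart {W : Scheme.{u}} [IsIntegral W] [IsSepClosed W.functionField]
    (hN : ∀ w : W, IsIntegrallyClosed (W.presheaf.stalk w)) {T : Scheme.{u}} (q : T ⟶ W)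
    [AlgebraicGeometry.Etale q] (t : T) : ∃ O : T.Opens, t ∈ O ∧ IsOpenImmersion (O.ι ≫ q) := by
  obtain ⟨N, s, n, hs, -, hst⟩ := exists_section_nhd hN q t
  haveI : IsOpenImmersion (s ≫ q) := by rw [hs]; infer_instance
  haveI : Etale s := Etale.of_comp s q
  haveI : Mono s := by
    haveI : Mono (s ≫ q) := inferInstance
    exact mono_of_mono s q
  haveI : IsOpenImmersion s := IsOpenImmersion.of_flat_of_mono s
  refine ⟨s.opensRange, ⟨n, hst⟩, ?_⟩
  let e := s.isoOpensRange
  have : s.opensRange.ι ≫ q = e.inv ≫ N.ι := by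
    rw [← hs, ← Category.assoc]
    congr 1
    exact (s.isoOpensRange_inv_comp).symm
  rw [this]
  infer_instance

/-- An integral scheme has an absolute normalisation. -/
theorem exists_absolute (Y : Scheme.{u}) [IsIntegral Y] [QuasiSeparatedSpace Y] :
    ∃ (W : Scheme.{u}) (ω : W ⟶ Y) (_ : IsIntegral W) (_ : IsIntegralHom ω),
      IsAlgClosed W.functionField ∧ (∀ w : W, IsIntegrallyClosed (W.presheaf.stalk w)) ∧
      ω (genericPoint W) = genericPoint Y := by
  let L := Y.functionField
  let Ω := AlgebraicClosure L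
  let φ : L →+* Ω := algebraMap L Ω
  haveI : QuasiCompact (NormFieldX.pnt Y Ω φ) := inferInstance
  haveI : QuasiSeparated (NormFieldX.pnt Y Ω φ) := inferInstance
  obtain ⟨hinj, hrange⟩ := NormFieldX.range_stalkClosedPointTo Y Ω φ
  have hbij : Function.Bijective
      (Scheme.stalkClosedPointTo (NormFieldX.pnt Y Ω φ).toNormalization).hom := by
    refine ⟨hinj, fun y => ?_⟩
    have hy : y ∈ {y : Ω | ∃ q : Polynomial L, q.Monic ∧ Polynomial.eval₂ φ y q = 0} := by
      obtain ⟨q, hq, hq'⟩ := Algebra.IsIntegral.isIntegral (R := L) y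
      exact ⟨q, hq, hq'⟩
    rw [← hrange] at hy
    exact hy
  refine ⟨NormFieldX.norm Y Ω φ, NormFieldX.ν Y Ω φ, inferInstance, inferInstance, ?_,
    fun w => (NormFieldX.isNormalScheme_norm w).2, ?_⟩
  · exact IsAlgClosed.of_ringEquiv Ω _ ((RingEquiv.ofBijective _ hbij).symm.trans
      ((NormFieldX.norm Y Ω φ).presheaf.stalkCongr
        (.of_eq (NormFieldX.η_eq Y Ω φ))).commRingCatIsoToRingEquiv)
  · rw [← NormFieldX.η_eq]
    exact NormFieldX.ν_η Y Ω φ

end Groth.Agent.AbsNormal
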