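import Groth.Agent.EtFound.LocConst
import Groth.Agent.EtFound.PullGerm

/-! inverse images of sheaves constant over an etale scheme -/

universe u

open CategoryTheory CategoryTheory.Limits AlgebraicGeometry Opposite

namespace Groth.Agent.EtFound

set_option backward.isDefEq.respectTransparency.types false

variable {A : Type (u + 2)} [Category.{u + 1} A] [HasColimitsOfSize.{u, u} A] [HasProducts.{u} A]
  {FA : A → A → Type*} {CA : A → Type (u + 1)}
  [∀ M N, FunLike (FA M N) (CA M) (CA N)] [ConcreteCategory.{u + 1} A FA]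
  [PreservesFilteredColimitsOfSize.{u, u} (forget A)] [(forget A).ReflectsIsomorphisms]
  {X Y : Scheme.{u}} (f : X ⟶ Y)
  [((EtCoh.bc f).sheafPushforwardContinuous A Y.smallEtaleTopology X.smallEtaleTopology).IsRightAdjoint]

theorem constBy_pull {F : Sheaf Y.smallEtaleTopology A} {U : Y.Etale} {M : A} {φ : M ⟶ F.obj.obj (op U)}
    (h : ConstBy F φ) :
    ConstBy (((EtCoh.bc f).sheafPullback A Y.smallEtaleTopology X.smallEtaleTopology).obj F)
      (U := (EtCoh.bc f).obj U)
      (φ ≫ (((EtCoh.bc f).sheafAdjunctionContinuous A Y.smallEtaleTopology X.smallEtaleTopology).unit.app F).hom.app (op U)) := by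
  intro Ω _ _ ξ t
  let i := (sheafFiberPullIso f ξ).app F
  have hb : Function.Bijective i.inv := (ConcreteCategory.isIso_iff_bijective i.inv).1 inferInstance
  have e : ∀ m, i.inv ((φ ≫ (Scheme.pointSmallEtale (ξ ≫ f)).toPresheafFiber U (bcFiberEquiv f ξ U t) F.obj) m) =
      ((φ ≫ (((EtCoh.bc f).sheafAdjunctionContinuous A Y.smallEtaleTopology X.smallEtaleTopology).unit.app F).hom.app
        (op U)) ≫ (Scheme.pointSmallEtale ξ).toPresheafFiber ((EtCoh.bc f).obj U) t
          (((EtCoh.bc f).sheafPullback A Y.smallEtaleTopology X.smallEtaleTopology).obj F).obj) m := fun m => by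
    refine (ConcreteCategory.comp_apply _ _ m).symm.trans (ConcreteCategory.congr_hom ?_ m)
    exact (Category.assoc _ _ _).trans ((congrArg (φ ≫ ·) (sheafFiberPullIso_germ f ξ F U t)).trans
      (Category.assoc _ _ _).symm)
  exact Eq.mp (congrArg Function.Bijective (funext e)) (hb.comp (h Ω (ξ ≫ f) (bcFiberEquiv f ξ U t)))

variable [∀ U : Y.Etale, HasWeakSheafify (Y.smallEtaleTopology.over U) A]
  [∀ U : Y.Etale, (Y.smallEtaleTopology.over U).WEqualsLocallyBijective A]
  [∀ U : X.Etale, HasWeakSheafify (X.smallEtaleTopology.over U) A]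
  [∀ U : X.Etale, (X.smallEtaleTopology.over U).WEqualsLocallyBijective A]

include FA CA in
/-- inverse image preserves constancy over etale schemes -/
theorem nonempty_restr_pull_iso {F : Sheaf Y.smallEtaleTopology A} {U : Y.Etale} {M : A}
    (h : Nonempty (F.over U ≅ (constantSheaf (Y.smallEtaleTopology.over U) A).obj M)) :
    Nonempty ((((EtCoh.bc f).sheafPullback A Y.smallEtaleTopology X.smallEtaleTopology).obj F).over
      ((EtCoh.bc f).obj U) ≅ (constantSheaf (X.smallEtaleTopology.over ((EtCoh.bc f).obj U)) A).obj M) := by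
  obtain ⟨e⟩ := h
  obtain ⟨φ, hφ⟩ := exists_constBy e
  exact nonempty_restr_iso_const (constBy_pull f hφ)

omit [((EtCoh.bc f).sheafPushforwardContinuous A Y.smallEtaleTopology X.smallEtaleTopology).IsRightAdjoint] in
theorem covers_bc {ι : Type u} {U : ι → Y.Etale} (h : EtCoh.Covers U) :
    EtCoh.Covers (fun i => (EtCoh.bc f).obj (U i)) := fun x => by
  obtain ⟨i, y, hy⟩ := h (f.base x)
  obtain ⟨z, -, hz⟩ := Scheme.Pullback.exists_preimage_pullback (f := (U i).hom) (g := f) y x hy
  exact ⟨i, z, hz⟩

end Groth.Agent.EtFound
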