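import Groth.Agent.EtFound.Strata
import Groth.Agent.EtFound.FLCAb
import Groth.Agent.EtFound.PullStalk

/-! kernels, cokernels, extensions of constructible abelian sheaves -/

universe u

open CategoryTheory CategoryTheory.Limits AlgebraicGeometry Opposite Topology

namespace Groth.Agent.EtFound

set_option backward.isDefEq.respectTransparency.types false

variable {X : Scheme.{u}}

/-- a property implied by finite local constancy of two sheaves passes from strata to constructibility -/
theorem isConstructible_of_two {F G K : EtCoh.Ab X} (hF : EtPBC.IsConstructible F) (hG : EtPBC.IsConstructible G)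
    (h : ∀ (T : Scheme.{u}) (g : T ⟶ X), EtCoh.IsFiniteLocallyConstant ((EtCoh.pull g).obj F) →
      EtCoh.IsFiniteLocallyConstant ((EtCoh.pull g).obj G) → EtCoh.IsFiniteLocallyConstant ((EtCoh.pull g).obj K)) :
    EtPBC.IsConstructible K := by
  intro U hU
  obtain ⟨n, E, hE, hc, hu⟩ := exists_pieces (hF U hU)
  obtain ⟨m, E', hE', hc', hu'⟩ := exists_pieces (hG U hU)
  refine adaptedStrata_of_cover U.2.isLocallyClosed (fun p : Fin n × Fin m => E p.1 ∩ E' p.2) (fun p => ?_)
    (fun p => (hc p.1).inter (hc' p.2)) fun x hx => ?_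
  · obtain ⟨T, g, hg, hr, hT⟩ := hE p.1
    obtain ⟨T', g', hg', hr', hT'⟩ := hE' p.2
    refine ⟨pullback g g', pullback.fst g g' ≫ g, ?_, ?_, h _ _ ?_ ?_⟩
    · have : IsImmersion (pullback.fst g g') := MorphismProperty.pullback_fst _ _ hg'
      infer_instance
    · rw [Scheme.Hom.comp_base, TopCat.coe_comp, Set.range_comp, Scheme.Pullback.range_fst,
        Set.image_preimage_eq_range_inter, hr, hr']
    · exact isFiniteLocallyConstant_of_iso ((pullCompAb _ g).app F).symm (isFiniteLocallyConstant_pull _ hT)
    · rw [pullback.condition]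
      exact isFiniteLocallyConstant_of_iso ((pullCompAb _ g').app G).symm (isFiniteLocallyConstant_pull _ hT')
  · obtain ⟨i, hi⟩ := Set.mem_iUnion.1 (hu.ge hx)
    obtain ⟨j, hj⟩ := Set.mem_iUnion.1 (hu'.ge hx)
    exact Set.mem_iUnion.2 ⟨(i, j), hi, hj⟩

/-- kernels of constructible sheaves are constructible -/
theorem isConstructible_kernel {F G : EtCoh.Ab X} (φ : F ⟶ G) (hF : EtPBC.IsConstructible F)
    (hG : EtPBC.IsConstructible G) : EtPBC.IsConstructible (kernel φ) :=
  isConstructible_of_two hF hG fun T g h1 h2 => by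
    have := pull_preservesFiniteLimits g
    exact isFiniteLocallyConstant_of_iso (PreservesKernel.iso (EtCoh.pull g) φ).symm
      (isFiniteLocallyConstant_of_kernel
        (S := ShortComplex.mk (kernel.ι ((EtCoh.pull g).map φ)) ((EtCoh.pull g).map φ) (kernel.condition _))
        (ShortComplex.exact_of_f_is_kernel _ (kernelIsKernel _)) h1 h2)

/-- cokernels of constructible sheaves are constructible -/
theorem isConstructible_cokernel {F G : EtCoh.Ab X} (φ : F ⟶ G) (hF : EtPBC.IsConstructible F)
    (hG : EtPBC.IsConstructible G) : EtPBC.IsConstructible (cokernel φ) :=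
  isConstructible_of_two hF hG fun T g h1 h2 => by
    have : (EtCoh.pull g).IsLeftAdjoint := (EtCoh.pullPushAdj g).isLeftAdjoint
    exact isFiniteLocallyConstant_of_iso (PreservesCokernel.iso (EtCoh.pull g) φ).symm
      (isFiniteLocallyConstant_of_cokernel
        (S := ShortComplex.mk ((EtCoh.pull g).map φ) (cokernel.π ((EtCoh.pull g).map φ)) (cokernel.condition _))
        (ShortComplex.exact_of_g_is_cokernel _ (cokernelIsCokernel _)) h1 h2)

/-- extensions of constructible sheaves are constructible -/
theorem isConstructible_of_extension {S : ShortComplex (EtCoh.Ab X)} (hS : S.ShortExact)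
    (h1 : EtPBC.IsConstructible S.X₁) (h3 : EtPBC.IsConstructible S.X₃) : EtPBC.IsConstructible S.X₂ :=
  isConstructible_of_two h1 h3 fun T g k1 k3 => by
    have := pull_preservesFiniteLimits g
    have : (EtCoh.pull g).IsLeftAdjoint := (EtCoh.pullPushAdj g).isLeftAdjoint
    exact isFiniteLocallyConstant_of_extension (hS.map_of_exact (EtCoh.pull g)) k1 k3

end Groth.Agent.EtFound
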