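import Groth.Agent.EtFound.FiniteStalk
import Mathlib.AlgebraicGeometry.Morphisms.FormallyUnramified
import Mathlib.AlgebraicGeometry.Morphisms.Finite
import Mathlib.FieldTheory.IsAlgClosed.AlgebraicClosure

/-! finite morphisms split etale locally on the base -/

universe u

open CategoryTheory CategoryTheory.Limits AlgebraicGeometry Opposite

namespace Groth.Agent.EtFound

set_option backward.isDefEq.respectTransparency.types false

variable {X Y : Scheme.{u}} (f : X ⟶ Y) [IsFinite f] {Ω : Type u} [Field Ω] [IsAlgClosed Ω]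

/-- near a geometric point the source splits along the points above -/
theorem exists_separated_stage (η : Spec (CommRingCat.of Ω) ⟶ Y) :
    ∃ (W : Y.Etale) (w : (Scheme.pointSmallEtale η).fiber.obj W)
      (Q : {ξ : Spec (CommRingCat.of Ω) ⟶ X // ξ ≫ f = η} → ((EtCoh.bc f).obj W).left.Opens),
      Pairwise (fun a b => Disjoint (Q a) (Q b)) ∧ (⨆ a, Q a) = ⊤ ∧
      ∀ a, ((liftPt f a.2 w).left : Spec (CommRingCat.of Ω) ⟶ ((EtCoh.bc f).obj W).left).base
        (default : Spec (CommRingCat.of Ω)) ∈ Q a := by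
  haveI := finite_points f η
  haveI := Fintype.ofFinite {ξ : Spec (CommRingCat.of Ω) ⟶ X // ξ ≫ f = η}
  classical
  choose V v P P' hPd hP hP' using
    fun p : {p : {ξ : Spec (CommRingCat.of Ω) ⟶ X // ξ ≫ f = η} × {ξ : Spec (CommRingCat.of Ω) ⟶ X // ξ ≫ f = η} //
        p.1 ≠ p.2} =>
      exists_separation f p.1.1.2 p.1.2.2 (fun e => p.2 (Subtype.ext e))
  obtain ⟨⟨W, w⟩, hS⟩ := IsCofiltered.inf_objs_exists
    (Finset.univ.image fun p : {p : {ξ : Spec (CommRingCat.of Ω) ⟶ X // ξ ≫ f = η} ×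
      {ξ : Spec (CommRingCat.of Ω) ⟶ X // ξ ≫ f = η} // p.1 ≠ p.2} =>
      ((Scheme.pointSmallEtale η).fiber).elementsMk (V p) (v p))
  have hb : ∀ p, ∃ b : W ⟶ V p, (Scheme.pointSmallEtale η).fiber.map b w = v p := fun p =>
    ⟨_, (hS (Finset.mem_image_of_mem _ (Finset.mem_univ p))).some.2⟩
  choose b hb using hb
  have hpt : ∀ (ξ : {ξ : Spec (CommRingCat.of Ω) ⟶ X // ξ ≫ f = η}) {W₁ W₀ : Y.Etale} (c : W₁ ⟶ W₀)
      (w₁ : (Scheme.pointSmallEtale η).fiber.obj W₁) (w₀ : (Scheme.pointSmallEtale η).fiber.obj W₀),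
      (Scheme.pointSmallEtale η).fiber.map c w₁ = w₀ →
      ((EtCoh.bc f).map c).left.base (((liftPt f ξ.2 w₁).left : Spec (CommRingCat.of Ω) ⟶
        ((EtCoh.bc f).obj W₁).left).base (default : Spec (CommRingCat.of Ω))) =
      ((liftPt f ξ.2 w₀).left : Spec (CommRingCat.of Ω) ⟶ ((EtCoh.bc f).obj W₀).left).base
        (default : Spec (CommRingCat.of Ω)) := fun ξ W₁ W₀ c w₁ w₀ hc => by
    subst hc
    rw [← liftPt_map f ξ.2 c w₁]
    exact (Scheme.Hom.comp_apply _ _ _).symm
  let S : {ξ : Spec (CommRingCat.of Ω) ⟶ X // ξ ≫ f = η} →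
      {p : {ξ : Spec (CommRingCat.of Ω) ⟶ X // ξ ≫ f = η} × {ξ : Spec (CommRingCat.of Ω) ⟶ X // ξ ≫ f = η} //
        p.1 ≠ p.2} → Set ↥((EtCoh.bc f).obj W).left := fun ξ p =>
    {x | (p.1.1 = ξ → ((EtCoh.bc f).map (b p)).left.base x ∈ P p) ∧
      (p.1.2 = ξ → ((EtCoh.bc f).map (b p)).left.base x ∈ P' p)}
  have hS_open : ∀ ξ p, IsOpen (S ξ p) := fun ξ p => by
    refine IsOpen.inter (s := {x | p.1.1 = ξ → ((EtCoh.bc f).map (b p)).left.base x ∈ P p}) ?_ ?_
    · by_cases e : p.1.1 = ξ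
      · simp only [e, forall_const]
        exact (P p).2.preimage ((EtCoh.bc f).map (b p)).left.continuous
      · simp only [e, false_implies]; exact isOpen_univ
    · by_cases e : p.1.2 = ξ
      · simp only [e, forall_const]
        exact (P' p).2.preimage ((EtCoh.bc f).map (b p)).left.continuous
      · simp only [e, false_implies]; exact isOpen_univ
  let Q : {ξ : Spec (CommRingCat.of Ω) ⟶ X // ξ ≫ f = η} → ((EtCoh.bc f).obj W).left.Opens := fun ξ =>
    ⟨⋂ p, S ξ p, isOpen_iInter_of_finite (hS_open ξ)⟩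
  have hQ : ∀ ξ, ((liftPt f ξ.2 w).left : Spec (CommRingCat.of Ω) ⟶ ((EtCoh.bc f).obj W).left).base
      (default : Spec (CommRingCat.of Ω)) ∈ Q ξ := fun ξ => Set.mem_iInter.2 fun p =>
    ⟨fun e => by subst e; rw [hpt _ (b p) w (v p) (hb p)]; exact hP p,
      fun e => by subst e; rw [hpt _ (b p) w (v p) (hb p)]; exact hP' p⟩
  obtain ⟨W', d, w', hw', hd⟩ := exists_shrink f w (⨆ ξ, Q ξ) fun x hx => by
    obtain ⟨ξ, hξ, rfl⟩ := exists_liftPt_eq f w x hx
    exact TopologicalSpace.Opens.mem_iSup.2 ⟨⟨ξ, hξ⟩, hQ ⟨ξ, hξ⟩⟩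
  refine ⟨W', w', fun ξ => ((EtCoh.bc f).map d).left ⁻¹ᵁ Q ξ, fun ξ ξ' hne => ?_, eq_top_iff.2 fun x _ => ?_, fun ξ => ?_⟩
  · show Disjoint _ _
    rw [disjoint_iff]
    refine TopologicalSpace.Opens.ext (Set.eq_empty_iff_forall_notMem.2 fun x hx => ?_)
    exact Set.disjoint_left.1 (TopologicalSpace.Opens.coe_disjoint.2 (hPd ⟨(ξ, ξ'), hne⟩))
      ((Set.mem_iInter.1 hx.1 ⟨(ξ, ξ'), hne⟩).1 rfl) ((Set.mem_iInter.1 hx.2 ⟨(ξ, ξ'), hne⟩).2 rfl)
  · obtain ⟨ξ, hξ⟩ := TopologicalSpace.Opens.mem_iSup.1 (hd x)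
    exact TopologicalSpace.Opens.mem_iSup.2 ⟨ξ, hξ⟩
  · show ((EtCoh.bc f).map d).left.base _ ∈ Q ξ
    rw [hpt ξ d w' w hw']
    exact hQ ξ

/-- near a geometric point a finite unramified morphism splits into closed immersions -/
theorem exists_closedImmersion_stage [FormallyUnramified f] (η : Spec (CommRingCat.of Ω) ⟶ Y) :
    ∃ (W : Y.Etale) (w : (Scheme.pointSmallEtale η).fiber.obj W)
      (Q : {ξ : Spec (CommRingCat.of Ω) ⟶ X // ξ ≫ f = η} → ((EtCoh.bc f).obj W).left.Opens),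
      Pairwise (fun a b => Disjoint (Q a) (Q b)) ∧ (⨆ a, Q a) = ⊤ ∧
      (∀ a, ((liftPt f a.2 w).left : Spec (CommRingCat.of Ω) ⟶ ((EtCoh.bc f).obj W).left).base
        (default : Spec (CommRingCat.of Ω)) ∈ Q a) ∧
      ∀ a, IsClosedImmersion ((Q a).ι ≫ pullback.fst W.hom f) := by
  obtain ⟨W, w, Q, hd, hc, hm⟩ := exists_separated_stage f η
  haveI := finite_points f η
  have hcl : ∀ a, IsClosed (Q a : Set ↥((EtCoh.bc f).obj W).left) := fun a => by
    refine ⟨?_⟩
    have e : (Q a : Set ↥((EtCoh.bc f).obj W).left)ᶜ = ⋃ b : {b // b ≠ a}, (Q b.1 : Set _) := by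
      ext x
      refine ⟨fun hx => ?_, fun hx ha => ?_⟩
      · obtain ⟨b, hb⟩ := TopologicalSpace.Opens.mem_iSup.1 (hc.ge (TopologicalSpace.Opens.mem_top x))
        exact Set.mem_iUnion.2 ⟨⟨b, fun e => hx (e ▸ hb)⟩, hb⟩
      · obtain ⟨b, hb⟩ := Set.mem_iUnion.1 hx
        exact Set.disjoint_left.1 (TopologicalSpace.Opens.coe_disjoint.2 (hd b.2)) hb ha
    rw [e]
    exact isOpen_iUnion fun b => (Q b.1).2
  have hci : ∀ a, IsClosedImmersion (Q a).ι := fun a => .of_isPreimmersion _ (by simpa using hcl a)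
  let h : ∀ a, (Q a).toScheme ⟶ W.left := fun a => (Q a).ι ≫ pullback.fst W.hom f
  have hfin : ∀ a, IsFinite (h a) := fun a => by
    have h1 : IsFinite (pullback.fst W.hom f) := inferInstance
    have := hci a
    exact MorphismProperty.comp_mem @IsFinite _ _ (inferInstanceAs (IsFinite (Q a).ι)) h1
  have hunr : ∀ a, FormallyUnramified (h a) := fun a => by
    have h1 : FormallyUnramified (pullback.fst W.hom f) := MorphismProperty.pullback_fst _ _ ‹_›
    exact MorphismProperty.comp_mem @FormallyUnramified _ _ inferInstance h1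
  let B : {ξ : Spec (CommRingCat.of Ω) ⟶ X // ξ ≫ f = η} → Set ↥W.left := fun a =>
    (pullback.fst (h a) (h a) ≫ h a).base '' (Set.range (pullback.diagonal (h a)).base)ᶜ
  have hB : ∀ a, IsClosed (B a) := fun a => by
    have := hfin a
    have := hunr a
    have : IsFinite (pullback.fst (h a) (h a) ≫ h a) :=
      MorphismProperty.comp_mem @IsFinite _ _ (MorphismProperty.pullback_fst _ _ (hfin a)) (hfin a)
    exact (pullback.fst (h a) (h a) ≫ h a).isClosedMap _
      (pullback.diagonal (h a)).isOpenEmbedding.isOpen_range.isClosed_compl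
  let G : W.left.Opens := ⟨(⋃ a, B a)ᶜ, (isClosed_iUnion_of_finite hB).isOpen_compl⟩
  have hG : (w.left : Spec (CommRingCat.of Ω) ⟶ W.left).base (default : Spec (CommRingCat.of Ω)) ∈ G := by
    intro hw
    obtain ⟨a, z, hz, e⟩ := Set.mem_iUnion.1 hw
    have := hfin a
    have : IsFinite (pullback.fst (h a) (h a) ≫ h a) :=
      MorphismProperty.comp_mem @IsFinite _ _ (MorphismProperty.pullback_fst _ _ (hfin a)) (hfin a)
    obtain ⟨l, hl, hlz⟩ := exists_fac_of_integral (pullback.fst (h a) (h a) ≫ h a)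
      (w.left : Spec (CommRingCat.of Ω) ⟶ W.left) z e
    have key : ∀ p : Spec (CommRingCat.of Ω) ⟶ (Q a).toScheme, p ≫ h a = w.left →
        p ≫ (Q a).ι = ((liftPt f a.2 w).left : Spec (CommRingCat.of Ω) ⟶ ((EtCoh.bc f).obj W).left) := by
      intro p hp
      have e1 : (p ≫ (Q a).ι) ≫ pullback.fst W.hom f = w.left := (Category.assoc _ _ _).trans hp
      have hζ : ((p ≫ (Q a).ι) ≫ pullback.snd W.hom f) ≫ f = η := by
        refine (Category.assoc _ _ _).trans ((congrArg ((p ≫ (Q a).ι) ≫ ·) pullback.condition.symm).trans ?_)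
        exact (Category.assoc _ _ _).symm.trans ((congrArg (· ≫ W.hom) e1).trans (CategoryTheory.Over.w w))
      have e2 : p ≫ (Q a).ι = ((liftPt f hζ w).left : Spec (CommRingCat.of Ω) ⟶ ((EtCoh.bc f).obj W).left) :=
        pullback.hom_ext (e1.trans (liftPt_fst f hζ w).symm) (pullback.lift_snd _ _ _).symm
      have ha : (⟨_, hζ⟩ : {ξ : Spec (CommRingCat.of Ω) ⟶ X // ξ ≫ f = η}) = a := by
        by_contra hne
        refine Set.disjoint_left.1 (TopologicalSpace.Opens.coe_disjoint.2 (hd hne)) (hm ⟨_, hζ⟩) ?_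
        rw [← e2]
        exact Set.mem_of_eq_of_mem (s := (Q a).carrier) (Scheme.Hom.comp_apply _ _ _) (Subtype.coe_prop _)
      have hz' : ∀ (ζ : Spec (CommRingCat.of Ω) ⟶ X) (hζ : ζ ≫ f = η), ζ = a.1 →
          ((liftPt f hζ w).left : Spec (CommRingCat.of Ω) ⟶ ((EtCoh.bc f).obj W).left) = (liftPt f a.2 w).left := by
        rintro _ _ rfl
        rfl
      exact e2.trans (hz' _ hζ (congrArg Subtype.val ha))
    have h12 : l ≫ pullback.fst (h a) (h a) = l ≫ pullback.snd (h a) (h a) :=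
      (cancel_mono (Q a).ι).1 ((key _ ((Category.assoc _ _ _).trans hl)).trans
        (key _ ((Category.assoc _ _ _).trans
          ((congrArg (l ≫ ·) pullback.condition.symm).trans hl))).symm)
    have el : l = (l ≫ pullback.fst (h a) (h a)) ≫ pullback.diagonal (h a) := by
      refine pullback.hom_ext ?_ ?_
      · simp
      · simp [h12]
    refine hz ⟨(l ≫ pullback.fst (h a) (h a)).base (default : Spec (CommRingCat.of Ω)), ?_⟩
    rw [← hlz]
    conv_rhs => rw [el]
    exact (Scheme.Hom.comp_apply _ _ _).symm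
  obtain ⟨w', hw', -⟩ := exists_lift_point (restrictEtaleHom W G) w ⟨_, hG⟩ rfl
  let d : restrictEtale W G ⟶ W := restrictEtaleHom W G
  let Q' := fun a => ((EtCoh.bc f).map d).left ⁻¹ᵁ Q a
  refine ⟨restrictEtale W G, w', Q', fun a b hab => ?_, ?_, fun a => ?_, fun a => ?_⟩
  · show Disjoint _ _
    rw [disjoint_iff]
    exact (Scheme.Hom.preimage_inf _).symm.trans (congrArg (_ ⁻¹ᵁ ·) (disjoint_iff.1 (hd hab)))
  · refine eq_top_iff.2 fun x _ => ?_
    obtain ⟨a, ha⟩ := TopologicalSpace.Opens.mem_iSup.1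
      (hc.ge (TopologicalSpace.Opens.mem_top (((EtCoh.bc f).map d).left.base x)))
    exact TopologicalSpace.Opens.mem_iSup.2 ⟨a, ha⟩
  · show ((EtCoh.bc f).map d).left.base _ ∈ Q a
    have e := congr(($(liftPt_map f a.2 d w')).left)
    refine Set.mem_of_eq_of_mem (s := (Q a).carrier) ((Scheme.Hom.comp_apply _ _ _).symm.trans
      ((congrArg (fun j : Spec (CommRingCat.of Ω) ⟶ ((EtCoh.bc f).obj W).left =>
        j.base (default : Spec (CommRingCat.of Ω))) e).trans ?_)) (hm a)
    rw [hw']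
    rfl
  · have hci' : IsClosedImmersion (Q' a).ι :=
      .of_isPreimmersion _ (by simpa [Q'] using (hcl a).preimage ((EtCoh.bc f).map d).left.continuous)
    rw [IsClosedImmersion.iff_isFinite_and_mono]
    refine ⟨?_, ⟨fun {T} p q hpq => (cancel_mono (Q' a).ι).1 ?_⟩⟩
    · have h1 : IsFinite (pullback.fst (restrictEtale W G).hom f) := inferInstance
      exact MorphismProperty.comp_mem @IsFinite _ _ (inferInstanceAs (IsFinite (Q' a).ι)) h1
    · let r : (Q' a).toScheme ⟶ (Q a).toScheme := Scheme.Hom.resLE ((EtCoh.bc f).map d).left (Q a) (Q' a) le_rfl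
      have hr : ∀ p : T ⟶ (Q' a).toScheme, (p ≫ r) ≫ h a =
          (p ≫ (Q' a).ι ≫ pullback.fst (restrictEtale W G).hom f) ≫ d.left := fun p => by
        simp only [h, r, Category.assoc]
        refine congrArg (p ≫ ·) ((Category.assoc _ _ _).symm.trans
          ((congrArg (· ≫ pullback.fst W.hom f) (Scheme.Hom.resLE_comp_ι _ _)).trans ?_))
        exact (Category.assoc _ _ _).trans (congrArg ((Q' a).ι ≫ ·) (EtCoh.isPullback_bc_map f d).w)
      have := hfin a
      have := hunr a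
      let ℓ : T ⟶ pullback (h a) (h a) := pullback.lift (p ≫ r) (q ≫ r) (by rw [hr, hr, hpq])
      have hℓ : Set.range ℓ.base ⊆ Set.range (pullback.diagonal (h a)).base := by
        rintro _ ⟨t, rfl⟩
        by_contra hn
        have hG' : (p ≫ (Q' a).ι ≫ pullback.fst (restrictEtale W G).hom f ≫ d.left).base t ∈ G := by
          rw [← Category.assoc, ← Category.assoc, Scheme.Hom.comp_apply]
          exact (((p ≫ (Q' a).ι) ≫ pullback.fst (restrictEtale W G).hom f).base t).2
        refine hG' (Set.mem_iUnion.2 ⟨a, ℓ.base t, hn, ?_⟩)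
        rw [← Scheme.Hom.comp_apply]
        congr 1
        rw [← Category.assoc, pullback.lift_fst, hr]
        simp only [Category.assoc]
      have hpr : p ≫ r = q ≫ r := by
        have e := IsOpenImmersion.lift_fac (pullback.diagonal (h a)) ℓ hℓ
        have e1 := congrArg (· ≫ pullback.fst (h a) (h a)) e
        have e2 := congrArg (· ≫ pullback.snd (h a) (h a)) e
        simp only [Category.assoc, pullback.diagonal_fst, pullback.diagonal_snd, Category.comp_id, ℓ,
          pullback.lift_fst, pullback.lift_snd] at e1 e2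
        exact e1.symm.trans e2
      refine (EtCoh.isPullback_bc_map f d).hom_ext ?_ ?_
      · have e := congrArg (· ≫ (Q a).ι) hpr
        simp only [Category.assoc, r, Scheme.Hom.resLE_comp_ι] at e
        exact (Category.assoc _ _ _).trans (e.trans (Category.assoc _ _ _).symm)
      · exact (Category.assoc _ _ _).trans (hpq.trans (Category.assoc _ _ _).symm)

end Groth.Agent.EtFound
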