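import Groth.Agent.EtFound.Crit
import Groth.Agent.EtFound.FiniteSplit
import Groth.Agent.S4599
import Mathlib.AlgebraicGeometry.Morphisms.FinitePresentation

/-! direct images of constructible sheaves along finite morphisms of finite presentation -/

universe u

open CategoryTheory CategoryTheory.Limits AlgebraicGeometry Opposite Topology

namespace Groth.Agent.EtFound

set_option backward.isDefEq.respectTransparency.types false

/-- images of constructible sets along morphisms into an affine scheme, read in subspaces -/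
theorem isConstructible_image_over {P Q : Scheme.{u}} (k : P ⟶ Q) [QuasiCompact k] [LocallyOfFinitePresentation k]
    {A : Q.Opens} (hA : IsAffineOpen A) {C : Set P}
    (hC : IsConstructible ((Subtype.val : ↥((k ⁻¹ᵁ A : P.Opens) : Set P) → P) ⁻¹' C)) :
    IsConstructible ((Subtype.val : ↥(A : Set Q) → Q) ⁻¹' (k.base '' C)) := by
  have : IsAffine A.toScheme := hA
  have h := (k ∣_ A).isConstructible_image hC
  refine Eq.mp (congrArg IsConstructible ?_) h
  ext y
  constructor
  · rintro ⟨x, hx, rfl⟩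
    refine ⟨(k ⁻¹ᵁ A).ι.base x, hx, ?_⟩
    exact ((Scheme.Hom.comp_apply _ _ _).symm.trans ((congrArg (fun r : (k ⁻¹ᵁ A).toScheme ⟶ Q => r.base x)
      (morphismRestrict_ι k A).symm).trans (Scheme.Hom.comp_apply _ _ _)))
  · rintro ⟨x, hx, hxy⟩
    have hxA : x ∈ k ⁻¹ᵁ A := show k.base x ∈ A from hxy ▸ y.2
    refine ⟨⟨x, hxA⟩, hx, Subtype.ext (Eq.trans ?_ hxy)⟩
    exact ((Scheme.Hom.comp_apply _ _ _).symm.trans ((congrArg (fun r : (k ⁻¹ᵁ A).toScheme ⟶ Q => r.base ⟨x, hxA⟩)
      (morphismRestrict_ι k A)).trans (Scheme.Hom.comp_apply _ _ _)))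

variable {X Y : Scheme.{u}} (f : X ⟶ Y) [IsFinite f] {F : EtCoh.Ab X}

/-- stalks of finite direct images are finite -/
theorem finite_stalk_push (hF : ∀ (Ω : Type u) [Field Ω] [IsSepClosed Ω] (ξ : Spec (CommRingCat.of Ω) ⟶ X),
      Finite ((EtCoh.stalk ξ).obj F)) {k : Type u} [Field k] [IsSepClosed k] (η : Spec (CommRingCat.of k) ⟶ Y) :
    Finite ((EtCoh.stalk η).obj ((EtCoh.push f).obj F)) := by
  obtain ⟨Ω, _, _, η', hη'⟩ := exists_geomPoint (η.base (default : Spec (CommRingCat.of k)))
  have := finite_points f η'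
  have : ∀ ξ : {ξ : Spec (CommRingCat.of Ω) ⟶ X // ξ ≫ f = η'},
      Finite ((EtCoh.stalk ξ.1).obj F) := fun ξ => hF Ω ξ.1
  have h : Finite ((EtCoh.stalk η').obj ((EtCoh.push f).obj F)) :=
    Finite.of_injective _ (pushStalkAt_injective (A := AddCommGrpCat.{u + 1}) (η := η') f F)
  obtain ⟨e⟩ := nonempty_stalk_equiv ((EtCoh.push f).obj F) η' η hη'
  exact @Finite.of_equiv _ _ h e

/-- the support of a section of a finite direct image -/
theorem germSupp_push (U : Y.Etale) (s : ((EtCoh.push f).obj F).obj.obj (op U)) :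
    germSupp ((EtCoh.push f).obj F) U s =
      (pullback.fst U.hom f).base '' germSupp F ((EtCoh.bc f).obj U) s := by
  ext q
  obtain ⟨Ω, _, _, η, z, rfl⟩ := exists_algClosed_point U q
  let g : F.obj.obj (op ((EtCoh.bc f).obj U)) := s
  constructor
  · intro h
    have hne : ¬ ∀ ξ : {ξ : Spec (CommRingCat.of Ω) ⟶ X // ξ ≫ f = η},
        (Scheme.pointSmallEtale ξ.1).toPresheafFiber ((EtCoh.bc f).obj U) (liftPt f ξ.2 z) F.obj g = 0 := by
      intro hall
      refine (mem_germSupp_iff s z).1 h ((pushStalkAt_injective (A := AddCommGrpCat.{u + 1}) (η := η) f F) (funext fun ξ => ?_))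
      refine (pushStalkAt_germ_apply f ξ.2 F z g).trans ((hall ξ).trans ?_)
      exact (map_zero ((pushStalkAt f ξ.2).app F).hom).symm
    push Not at hne
    obtain ⟨ξ, hξ⟩ := hne
    refine ⟨ptOf (liftPt f ξ.2 z), (mem_germSupp_iff g _).2 hξ, ?_⟩
    exact (Scheme.Hom.comp_apply _ _ _).symm.trans (congrArg
      (fun r : Spec (CommRingCat.of Ω) ⟶ U.left => r.base (default : Spec (CommRingCat.of Ω))) (liftPt_fst f ξ.2 z))
  · rintro ⟨w, hw, hwz⟩
    obtain ⟨ξ, hξ, rfl⟩ := exists_liftPt_eq f z w hwz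
    refine (mem_germSupp_iff s z).2 fun h0 => (mem_germSupp_iff g (liftPt f hξ z)).1 hw ?_
    refine (pushStalkAt_germ_apply f hξ F z g).symm.trans ?_
    exact (congrArg ((pushStalkAt f hξ).app F) h0).trans (map_zero ((pushStalkAt f hξ).app F).hom)

/-- orders of stalks of finite direct images are constant along constructible sets -/
theorem exists_card_push_const [LocallyOfFinitePresentation f] (hF : EtPBC.IsConstructible F) {V : Y.Opens}
    (hV : IsAffineOpen V) (y : Y) (hyV : y ∈ V) :
    ∃ E : Set ↥(V : Set Y), IsConstructible E ∧ ⟨y, hyV⟩ ∈ E ∧ ∃ n : ℕ, ∀ (k : Type u) [Field k] [IsAlgClosed k]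
      (η : Spec (CommRingCat.of k) ⟶ Y), (∃ b ∈ E, b.1 = η.base (default : Spec (CommRingCat.of k))) →
        Nat.card ((EtCoh.stalk η).obj ((EtCoh.push f).obj F)) = n := by
  classical
  obtain ⟨Ω, _, _, η, rfl⟩ := exists_geomPoint y
  obtain ⟨W, w, Q, hd, hc, hm⟩ := exists_separated_stage f η
  haveI := finite_points f η
  haveI := Fintype.ofFinite {ξ : Spec (CommRingCat.of Ω) ⟶ X // ξ ≫ f = η}
  have : AlgebraicGeometry.Etale W.hom := W.prop
  let P := (EtCoh.bc f).obj W
  have hQc : ∀ a, IsClosedImmersion (Q a).ι := fun a => by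
    refine .of_isPreimmersion _ ?_
    rw [(Q a).range_ι]
    refine isOpen_compl_iff.1 ?_
    have e : (Q a : Set P.left)ᶜ = ⋃ b : {b // b ≠ a}, (Q b.1 : Set P.left) := by
      ext x
      refine ⟨fun hx => ?_, fun hx ha => ?_⟩
      · obtain ⟨b, hb⟩ := TopologicalSpace.Opens.mem_iSup.1 (hc.ge (TopologicalSpace.Opens.mem_top x))
        exact Set.mem_iUnion.2 ⟨⟨b, fun e => hx (e ▸ hb)⟩, hb⟩
      · obtain ⟨b, hb⟩ := Set.mem_iUnion.1 hx
        exact Set.disjoint_left.1 (TopologicalSpace.Opens.coe_disjoint.2 (hd b.2)) hb ha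
    rw [e]
    exact isOpen_iUnion fun b => (Q b.1).2
  let h : ∀ a, (Q a).toScheme ⟶ W.left := fun a => (Q a).ι ≫ pullback.fst W.hom f
  have hfin : ∀ a, IsFinite (h a) := fun a => by
    have := hQc a
    exact MorphismProperty.comp_mem @IsFinite _ _ (inferInstanceAs (IsFinite (Q a).ι))
      (inferInstanceAs (IsFinite (pullback.fst W.hom f)))
  have hlfp : ∀ a, LocallyOfFinitePresentation (h a) := fun a =>
    MorphismProperty.comp_mem @LocallyOfFinitePresentation _ _ inferInstance
      (MorphismProperty.pullback_fst _ _ ‹_›)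
  let cc : {ξ : Spec (CommRingCat.of Ω) ⟶ X // ξ ≫ f = η} → ℕ := fun a =>
    Nat.card ((EtCoh.stalk a.1).obj F)
  let kk : ∀ a, (Q a).toScheme ⟶ X := fun a => (Q a).ι ≫ pullback.snd W.hom f
  let C : ∀ a, Set (Q a).toScheme := fun a => (kk a).base ⁻¹' stalkSet F fun B => Nat.card B = cc a
  let B : {ξ : Spec (CommRingCat.of Ω) ⟶ X // ξ ≫ f = η} → Set W.left := fun a =>
    (pullback.fst (h a) (h a) ≫ h a).base '' (Set.range (pullback.diagonal (h a)).base)ᶜ
  obtain ⟨A, hA, hwA, hAV⟩ := exists_isAffineOpen_mem_and_subset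
    (U := (W.hom ⁻¹ᵁ V : W.left.Opens)) (x := ptOf w) (show W.hom.base (ptOf w) ∈ V from
      Set.mem_of_eq_of_mem (hom_ptOf w) hyV)
  let val : ↥(A : Set W.left) → W.left := Subtype.val
  have hfV : IsAffineOpen (f ⁻¹ᵁ V) := hV.preimage f
  -- the pieces are constructible in the affine
  have hBc : ∀ a, IsConstructible (val ⁻¹' B a) := fun a => by
    have := hfin a
    have := hlfp a
    have : IsFinite (pullback.fst (h a) (h a) ≫ h a) :=
      MorphismProperty.comp_mem @IsFinite _ _ (MorphismProperty.pullback_fst _ _ (hfin a)) (hfin a)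
    have : LocallyOfFinitePresentation (pullback.fst (h a) (h a) ≫ h a) :=
      MorphismProperty.comp_mem @LocallyOfFinitePresentation _ _ (MorphismProperty.pullback_fst _ _ (hlfp a)) (hlfp a)
    refine isConstructible_image_over _ hA ?_
    let O := (pullback.fst (h a) (h a) ≫ h a) ⁻¹ᵁ A
    have hO : IsAffineOpen O := hA.preimage _
    have : CompactSpace ↥(O : Set ↥(pullback (h a) (h a))) := isCompact_iff_compactSpace.1 hO.isCompact
    have : QuasiSeparatedSpace ↥(O : Set ↥(pullback (h a) (h a))) :=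
      (isQuasiSeparated_iff_quasiSeparatedSpace _ O.2).1 hO.isQuasiSeparated
    have : PrespectralSpace ↥(O : Set ↥(pullback (h a) (h a))) := O.2.isOpenEmbedding_subtypeVal.prespectralSpace
    rw [Set.preimage_compl]
    refine IsConstructible.compl ?_
    have : LocallyOfFiniteType (h a) := inferInstance
    have hd' : LocallyOfFinitePresentation (pullback.diagonal (h a)) := S4599.result (h a)
    have h1 := (pullback.diagonal (h a)).isLocallyConstructible_image IsLocallyConstructible.univ
    rw [Set.image_univ] at h1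
    exact (h1.preimage_of_isOpenEmbedding O.2.isOpenEmbedding_subtypeVal).isConstructible
  have hCc : ∀ a, IsConstructible (val ⁻¹' ((h a).base '' C a)) := fun a => by
    have := hfin a
    have := hlfp a
    refine isConstructible_image_over (h a) hA ?_
    have hO : IsAffineOpen (h a ⁻¹ᵁ A) := hA.preimage _
    refine isConstructible_preimage_affine (kk a) hO hfV (fun q hq => ?_) ?_
    · show f.base ((kk a).base q) ∈ V
      have h2 : W.hom.base ((h a).base q) ∈ V := hAV hq
      have e : kk a ≫ f = h a ≫ W.hom := (Category.assoc _ _ _).trans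
        ((congrArg ((Q a).ι ≫ ·) pullback.condition.symm).trans (Category.assoc _ _ _).symm)
      exact Set.mem_of_eq_of_mem ((Scheme.Hom.comp_apply _ _ _).symm.trans
        ((congrArg (fun r : (Q a).toScheme ⟶ Y => r.base q) e).trans (Scheme.Hom.comp_apply _ _ _))) h2
    · have : CompactSpace ↥((f ⁻¹ᵁ V : X.Opens) : Set X) := isCompact_iff_compactSpace.1 hfV.isCompact
      have : QuasiSeparatedSpace ↥((f ⁻¹ᵁ V : X.Opens) : Set X) :=
        (isQuasiSeparated_iff_quasiSeparatedSpace _ (f ⁻¹ᵁ V).2).1 hfV.isQuasiSeparated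
      have : PrespectralSpace ↥((f ⁻¹ᵁ V : X.Opens) : Set X) := (f ⁻¹ᵁ V).2.isOpenEmbedding_subtypeVal.prespectralSpace
      exact ((isLocallyConstructible_stalkSet hF fun B B' ⟨e⟩ hB => (Nat.card_congr e).symm.trans hB).preimage_of_isOpenEmbedding
        (f ⁻¹ᵁ V).2.isOpenEmbedding_subtypeVal).isConstructible
  let EA : Set ↥(A : Set W.left) := (⋂ a, (val ⁻¹' B a)ᶜ) ∩ ⋂ a, val ⁻¹' ((h a).base '' C a)
  have hEA : IsConstructible EA :=
    (IsConstructible.iInter fun a => (hBc a).compl).inter (IsConstructible.iInter hCc)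
  have : IsAffine A.toScheme := hA
  have : IsAffine V.toScheme := hV
  let φ : A.toScheme ⟶ V.toScheme := Scheme.Hom.resLE W.hom V A hAV
  have hφ : ∀ q, (φ.base q).1 = W.hom.base q.1 := fun q =>
    (Scheme.Hom.comp_apply _ _ _).symm.trans ((congrArg (fun r : A.toScheme ⟶ Y => r.base q)
      (Scheme.Hom.resLE_comp_ι W.hom hAV)).trans (Scheme.Hom.comp_apply _ _ _))
  have : QuasiCompact φ := (quasiCompact_iff_compactSpace φ).2 inferInstance
  have : AlgebraicGeometry.Etale φ := inferInstance
  refine ⟨φ.base '' EA, φ.isConstructible_image hEA,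
    ⟨⟨ptOf w, hwA⟩, ?_, Subtype.ext ((hφ _).trans (hom_ptOf w))⟩, ∏ a, cc a, ?_⟩
  · -- the given point lies in it
    refine ⟨Set.mem_iInter.2 fun a => ?_, Set.mem_iInter.2 fun a => ?_⟩
    · rintro ⟨z, hz, e⟩
      have := hfin a
      have : IsFinite (pullback.fst (h a) (h a) ≫ h a) :=
        MorphismProperty.comp_mem @IsFinite _ _ (MorphismProperty.pullback_fst _ _ (hfin a)) (hfin a)
      obtain ⟨l, hl, hlz⟩ := exists_fac_of_integral (pullback.fst (h a) (h a) ≫ h a)
        (w.left : Spec (CommRingCat.of Ω) ⟶ W.left) z e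
      have key : ∀ p : Spec (CommRingCat.of Ω) ⟶ (Q a).toScheme, p ≫ h a = w.left →
          p ≫ (Q a).ι = ((liftPt f a.2 w).left : Spec (CommRingCat.of Ω) ⟶ P.left) := by
        intro p hp
        have e1 : (p ≫ (Q a).ι) ≫ pullback.fst W.hom f = w.left := (Category.assoc _ _ _).trans hp
        have hζ : ((p ≫ (Q a).ι) ≫ pullback.snd W.hom f) ≫ f = η := by
          refine (Category.assoc _ _ _).trans ((congrArg ((p ≫ (Q a).ι) ≫ ·) pullback.condition.symm).trans ?_)
          exact (Category.assoc _ _ _).symm.trans ((congrArg (· ≫ W.hom) e1).trans (CategoryTheory.Over.w w))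
        have e2 : p ≫ (Q a).ι = ((liftPt f hζ w).left : Spec (CommRingCat.of Ω) ⟶ P.left) :=
          pullback.hom_ext (e1.trans (liftPt_fst f hζ w).symm) (pullback.lift_snd _ _ _).symm
        have ha : (⟨_, hζ⟩ : {ξ : Spec (CommRingCat.of Ω) ⟶ X // ξ ≫ f = η}) = a := by
          by_contra hne
          refine Set.disjoint_left.1 (TopologicalSpace.Opens.coe_disjoint.2 (hd hne)) (hm ⟨_, hζ⟩) ?_
          rw [← e2]
          exact Set.mem_of_eq_of_mem (s := (Q a).carrier) (Scheme.Hom.comp_apply _ _ _) (Subtype.coe_prop _)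
        have hz' : ∀ (ζ : Spec (CommRingCat.of Ω) ⟶ X) (hζ : ζ ≫ f = η), ζ = a.1 →
            ((liftPt f hζ w).left : Spec (CommRingCat.of Ω) ⟶ P.left) = (liftPt f a.2 w).left := by
          rintro _ _ rfl
          rfl
        exact e2.trans (hz' _ hζ (congrArg Subtype.val ha))
      have h12 : l ≫ pullback.fst (h a) (h a) = l ≫ pullback.snd (h a) (h a) :=
        (cancel_mono (Q a).ι).1 ((key _ ((Category.assoc _ _ _).trans hl)).trans
          (key _ ((Category.assoc _ _ _).trans
            ((congrArg (l ≫ ·) pullback.condition.symm).trans hl))).symm)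
      refine hz ⟨(l ≫ pullback.fst (h a) (h a)).base (default : Spec (CommRingCat.of Ω)), ?_⟩
      rw [← hlz]
      have el : l = (l ≫ pullback.fst (h a) (h a)) ≫ pullback.diagonal (h a) := by
        refine pullback.hom_ext ?_ ?_
        · simp
        · simp [h12]
      conv_rhs => rw [el]
      exact (Scheme.Hom.comp_apply _ _ _).symm
    · refine ⟨⟨_, hm a⟩, ?_, ?_⟩
      · show (kk a).base ⟨_, hm a⟩ ∈ stalkSet F (fun B => Nat.card B = cc a)
        have e : (kk a).base ⟨_, hm a⟩ = a.1.base (default : Spec (CommRingCat.of Ω)) :=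
          (Scheme.Hom.comp_apply _ _ _).trans ((Scheme.Hom.comp_apply _ _ _).symm.trans (congrArg
            (fun r : Spec (CommRingCat.of Ω) ⟶ X => r.base (default : Spec (CommRingCat.of Ω))) (pullback.lift_snd _ _ _)))
        rw [e, mem_stalkSet_iff (fun B B' ⟨e⟩ hB => (Nat.card_congr e).symm.trans hB)]
      · exact (Scheme.Hom.comp_apply _ _ _).trans ((Scheme.Hom.comp_apply _ _ _).symm.trans (congrArg
          (fun r : Spec (CommRingCat.of Ω) ⟶ W.left => r.base (default : Spec (CommRingCat.of Ω))) (liftPt_fst f a.2 w)))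
  -- orders over it
  rintro k _ _ η' ⟨_, ⟨b, ⟨hbB, hbC⟩, rfl⟩, hbη⟩
  obtain ⟨w', hw'⟩ := Scheme.pointSmallEtaleFiberObjToPreimage_surjective η' rfl W
    ⟨val b, (hφ b).symm.trans hbη⟩
  let wl : Spec (CommRingCat.of k) ⟶ W.left := w'.left
  have hpt : wl.base (default : Spec (CommRingCat.of k)) = val b := congrArg Subtype.val hw'
  have huniq : ∀ a (l₁ l₂ : Spec (CommRingCat.of k) ⟶ (Q a).toScheme), l₁ ≫ h a = wl → l₂ ≫ h a = wl → l₁ = l₂ := by
    intro a l₁ l₂ e₁ e₂
    have := hfin a
    let L : Spec (CommRingCat.of k) ⟶ pullback (h a) (h a) := pullback.lift l₁ l₂ (e₁.trans e₂.symm)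
    have hr : L.base (default : Spec (CommRingCat.of k)) ∈ Set.range (pullback.diagonal (h a)).base := by
      by_contra hn
      refine Set.mem_iInter.1 hbB a ⟨_, hn, ?_⟩
      refine (Scheme.Hom.comp_apply _ _ _).symm.trans (Eq.trans ?_ hpt)
      refine congrArg (fun r : Spec (CommRingCat.of k) ⟶ W.left => r.base (default : Spec (CommRingCat.of k))) ?_
      rw [← Category.assoc, pullback.lift_fst, e₁]
    obtain ⟨q, hq⟩ := hr
    obtain ⟨l', hl', -⟩ := exists_fac_of_integral (pullback.diagonal (h a)) L q hq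
    have h1 := congrArg (· ≫ pullback.fst (h a) (h a)) hl'
    have h2 := congrArg (· ≫ pullback.snd (h a) (h a)) hl'
    simp only [Category.assoc, pullback.diagonal_fst, pullback.diagonal_snd, Category.comp_id, L,
      pullback.lift_fst, pullback.lift_snd] at h1 h2
    exact h1.symm.trans h2
  have hex : ∀ a, ∃ l : Spec (CommRingCat.of k) ⟶ (Q a).toScheme, l ≫ h a = wl ∧
      l.base (default : Spec (CommRingCat.of k)) ∈ C a := fun a => by
    obtain ⟨q, hq, hqb⟩ := Set.mem_iInter.1 hbC a
    have := hfin a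
    obtain ⟨l, hl, hlq⟩ := exists_fac_of_integral (h a) wl q (hqb.trans hpt.symm)
    exact ⟨l, hl, Set.mem_of_eq_of_mem hlq hq⟩
  choose l hl hlC using hex
  have hξ : ∀ a, (l a ≫ kk a) ≫ f = η' := fun a => by
    refine (Category.assoc _ _ _).trans ?_
    refine (congrArg (l a ≫ ·) ((Category.assoc _ _ _).trans ((congrArg ((Q a).ι ≫ ·) pullback.condition.symm).trans
      (Category.assoc _ _ _).symm))).trans ?_
    exact (Category.assoc _ _ _).symm.trans ((congrArg (· ≫ W.hom) (hl a)).trans (CategoryTheory.Over.w w'))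
  let E' : {ξ : Spec (CommRingCat.of Ω) ⟶ X // ξ ≫ f = η} → {ξ : Spec (CommRingCat.of k) ⟶ X // ξ ≫ f = η'} :=
    fun a => ⟨_, hξ a⟩
  have hlift : ∀ a, ((liftPt f (E' a).2 w').left : Spec (CommRingCat.of k) ⟶ P.left) = l a ≫ (Q a).ι := fun a =>
    pullback.hom_ext ((liftPt_fst f (E' a).2 w').trans ((Category.assoc _ _ _).trans (hl a)).symm)
      ((pullback.lift_snd _ _ _).trans (Category.assoc _ _ _).symm)
  have hmem : ∀ a, ((liftPt f (E' a).2 w').left : Spec (CommRingCat.of k) ⟶ P.left).base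
      (default : Spec (CommRingCat.of k)) ∈ Q a := fun a => by
    rw [hlift a]
    exact Set.mem_of_eq_of_mem (s := (Q a).carrier) (Scheme.Hom.comp_apply _ _ _) (Subtype.coe_prop _)
  have hE : Function.Bijective E' := by
    refine ⟨fun a a' ha => ?_, fun ξ => ?_⟩
    · by_contra hne
      have h1 := hmem a
      rw [ha] at h1
      exact Set.disjoint_left.1 (TopologicalSpace.Opens.coe_disjoint.2 (hd hne)) h1 (hmem a')
    · obtain ⟨a, ha⟩ := TopologicalSpace.Opens.mem_iSup.1 (hc.ge (TopologicalSpace.Opens.mem_top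
        (((liftPt f ξ.2 w').left : Spec (CommRingCat.of k) ⟶ P.left).base (default : Spec (CommRingCat.of k)))))
      obtain ⟨l', hl'⟩ := exists_lift_open ((liftPt f ξ.2 w').left : Spec (CommRingCat.of k) ⟶ P.left) (Q a)
        fun (s : Spec (CommRingCat.of k)) => by
          rw [Subsingleton.elim (α := Spec (CommRingCat.of k)) s default]
          exact ha
      have e : l' = l a := huniq a _ _ ((Category.assoc _ _ _).symm.trans
        ((congrArg (· ≫ pullback.fst W.hom f) hl').trans (liftPt_fst f ξ.2 w'))) (hl a)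
      refine ⟨a, Subtype.ext ?_⟩
      show l a ≫ kk a = ξ.1
      rw [← e]
      exact (Category.assoc _ _ _).symm.trans ((congrArg (· ≫ pullback.snd W.hom f) hl').trans (pullback.lift_snd _ _ _))
  haveI := finite_points f η'
  haveI := Fintype.ofFinite {ξ : Spec (CommRingCat.of k) ⟶ X // ξ ≫ f = η'}
  refine (Nat.card_eq_of_bijective _ (pushStalkAt_bijective (A := AddCommGrpCat.{u + 1}) (η := η') f F)).trans ?_
  rw [Nat.card_pi, ← (Equiv.ofBijective E' hE).prod_comp]
  refine Finset.prod_congr rfl fun a _ => ?_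
  show Nat.card ((EtCoh.stalk (l a ≫ kk a)).obj F) = cc a
  refine (mem_stalkSet_iff (F := F) (P := fun B => Nat.card B = cc a)
    (fun B B' ⟨e⟩ hB => (Nat.card_congr e).symm.trans hB) (l a ≫ kk a)).1 ?_
  exact Set.mem_of_eq_of_mem (Scheme.Hom.comp_apply _ _ _) (hlC a)

/-- direct images of constructible sheaves along finite morphisms of finite presentation are constructible -/
theorem isConstructible_push [LocallyOfFinitePresentation f] (hF : EtPBC.IsConstructible F) :
    EtPBC.IsConstructible ((EtCoh.push f).obj F) := by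
  refine IsWeaklyConstructible.isConstructible ⟨fun k _ _ η => finite_stalk_push f
    (fun Ω _ _ ξ => finite_stalk_of_isConstructible hF ξ) η, fun m => ?_, fun U s V hV A hA hAV => ?_⟩
  · intro y
    obtain ⟨V, hV, hyV, -⟩ := exists_isAffineOpen_mem_and_subset (U := (⊤ : Y.Opens)) (x := y) trivial
    refine ⟨V, V.2.mem_nhds hyV, V.2, ?_⟩
    have : CompactSpace ↥(V : Set Y) := isCompact_iff_compactSpace.1 hV.isCompact
    have : QuasiSeparatedSpace ↥(V : Set Y) := (isQuasiSeparated_iff_quasiSeparatedSpace _ V.2).1 hV.isQuasiSeparated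
    have : PrespectralSpace ↥(V : Set Y) := V.2.isOpenEmbedding_subtypeVal.prespectralSpace
    have : QuasiSober ↥(V : Set Y) := V.2.isOpenEmbedding_subtypeVal.quasiSober
    have hP : ∀ A B : Type (u + 1), Nonempty (A ≃ B) → Nat.card A = m → Nat.card B = m :=
      fun A B ⟨e⟩ hA => (Nat.card_congr e).symm.trans hA
    choose E hE hyE n hn using fun v : ↥(V : Set Y) => exists_card_push_const f hF hV v.1 v.2
    obtain ⟨t, ht⟩ := exists_finite_cover E hE fun v => ⟨v, hyE v⟩
    have key : ∀ v b, b ∈ E v → (b.1 ∈ stalkSet ((EtCoh.push f).obj F) (fun A => Nat.card A = m) ↔ n v = m) :=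
      fun v b hb => by
      obtain ⟨k, _, _, η, hη⟩ := exists_geomPoint b.1
      rw [← hη, mem_stalkSet_iff hP, hn v k η ⟨b, hb, hη.symm⟩]
    refine Eq.mp (congrArg IsConstructible ?_)
      (IsConstructible.iUnion fun v : {v : t // n v.1 = m} => hE v.1.1)
    ext b
    refine ⟨fun hb => ?_, fun hb => ?_⟩
    · obtain ⟨⟨v, hv⟩, hbv⟩ := Set.mem_iUnion.1 hb
      exact (key v.1 b hbv).2 hv
    · obtain ⟨v, hvt, hbv⟩ := ht b
      exact Set.mem_iUnion.2 ⟨⟨⟨v, hvt⟩, (key v b hbv).1 hb⟩, hbv⟩
  · rw [germSupp_push f U s]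
    have : LocallyOfFinitePresentation (pullback.fst U.hom f) := MorphismProperty.pullback_fst _ _ ‹_›
    have : IsFinite (pullback.fst U.hom f) := MorphismProperty.pullback_fst _ _ ‹_›
    let p : ((EtCoh.bc f).obj U).left ⟶ U.left := pullback.fst U.hom f
    haveI : IsFinite p := ‹IsFinite (pullback.fst U.hom f)›
    haveI : LocallyOfFinitePresentation p := ‹LocallyOfFinitePresentation (pullback.fst U.hom f)›
    refine isConstructible_image_over p hA ?_
    refine isConstructible_germSupp hF ((EtCoh.bc f).obj U) s (hV.preimage f) (hA.preimage p) fun q hq => ?_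
    show f.base ((pullback.snd U.hom f).base q) ∈ V
    have h2 : U.hom.base ((pullback.fst U.hom f).base q) ∈ V := hAV hq
    rw [← Scheme.Hom.comp_apply] at h2 ⊢
    rwa [← pullback.condition]

end Groth.Agent.EtFound
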