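import Mathlib.Topology.Sheaves.Skyscraper
import Mathlib.Topology.Sheaves.Functors
import Mathlib.Topology.Sheaves.SheafCondition.UniqueGluing
import Mathlib.Topology.Spectral.ConstructibleTopology
import Mathlib.Topology.LocallyConstant.Basic
import Mathlib.CategoryTheory.Adjunction.FullyFaithful

/-!
Sections of a sheaf of sets on a spectral space are determined by their restriction to a closed
subset meeting the closure of every point in a connected set.
-/

set_option autoImplicit false
set_option linter.style.haveILetI false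

universe u

open CategoryTheory CategoryTheory.Limits TopologicalSpace Opposite TopCat Topology

noncomputable section

namespace Groth.Agent.SpectralSections

variable {Z X : TopCat.{u}}

lemma map_eq (P : (Opens Z)ᵒᵖ ⥤ Type u) {a b c d : (Opens Z)ᵒᵖ}
    (p : a ⟶ b) (q : b ⟶ d) (r : a ⟶ c) (s : c ⟶ d) : P.map p ≫ P.map q = P.map r ≫ P.map s := by
  rw [← P.map_comp, ← P.map_comp]
  rfl

lemma map_id' (P : (Opens Z)ᵒᵖ ⥤ Type u) {a : (Opens Z)ᵒᵖ} (p : a ⟶ a) : P.map p = 𝟙 _ := by
  rw [show p = 𝟙 a from rfl, P.map_id]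

theorem push_faithful {f : Z ⟶ X} (hf : IsInducing f) :
    (TopCat.Sheaf.pushforward (Type u) f).Faithful := by
  have h := hf.map_functorObj
  refine ⟨fun {F G} a b hab => ?_⟩
  apply CategoryTheory.Sheaf.hom_ext
  refine NatTrans.ext (funext fun U => ?_)
  obtain ⟨U⟩ := U
  have := congrArg (fun q : (TopCat.Sheaf.pushforward (Type u) f).obj F ⟶ (TopCat.Sheaf.pushforward (Type u) f).obj G =>
    q.1.app (op (hf.functorObj U))) hab
  have key : ∀ (W : Opens Z), W = U → a.1.app (op W) = b.1.app (op W) → a.1.app (op U) = b.1.app (op U) := by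
    rintro W rfl e
    exact e
  exact key _ (h U) this

theorem push_full {f : Z ⟶ X} (hf : IsInducing f) :
    (TopCat.Sheaf.pushforward (Type u) f).Full := by
  have h := hf.map_functorObj
  refine ⟨fun {F G} η => ?_⟩
  let α : F.1 ⟶ G.1 :=
    { app := fun U => F.1.map (eqToHom (h U.unop)).op ≫ η.1.app (op (hf.functorObj U.unop)) ≫
        G.1.map (eqToHom (h U.unop).symm).op
      naturality := fun U V g => by
        let k := (hf.functor.map g.unop).op
        have nat : F.1.map ((Opens.map f).map k.unop).op ≫ η.1.app (op (hf.functorObj V.unop)) =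
            η.1.app (op (hf.functorObj U.unop)) ≫ G.1.map ((Opens.map f).map k.unop).op :=
          η.1.naturality k
        have e1 := map_eq F.1 g (eqToHom (h V.unop)).op (eqToHom (h U.unop)).op ((Opens.map f).map k.unop).op
        have e2 := map_eq G.1 ((Opens.map f).map k.unop).op (eqToHom (h V.unop).symm).op
          (eqToHom (h U.unop).symm).op g
        exact (reassoc_of% e1) _ |>.trans <| (congrArg (F.1.map (eqToHom (h U.unop)).op ≫ ·)
          ((reassoc_of% nat) _)) |>.trans <| (congrArg (fun z => F.1.map (eqToHom (h U.unop)).op ≫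
            η.1.app (op (hf.functorObj U.unop)) ≫ z) e2).trans (by simp only [Category.assoc]; rfl) }
  refine ⟨⟨α⟩, ?_⟩
  apply CategoryTheory.Sheaf.hom_ext
  refine NatTrans.ext (funext fun V => ?_)
  let k := homOfLE (show V.unop ≤ hf.functorObj ((Opens.map f).obj V.unop) from
    hf.le_functorObj_iff.2 le_rfl)
  have nat : F.1.map ((Opens.map f).map k).op ≫ η.1.app V =
      η.1.app (op (hf.functorObj ((Opens.map f).obj V.unop))) ≫ G.1.map ((Opens.map f).map k).op :=
    η.1.naturality k.op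
  refine Eq.trans (b := F.1.map (eqToHom (h ((Opens.map f).obj V.unop))).op ≫
      (F.1.map ((Opens.map f).map k).op ≫ η.1.app V)) ?_ ?_
  · exact congrArg (fun z => F.1.map (eqToHom (h ((Opens.map f).obj V.unop))).op ≫ z)
      ((congrArg (fun z => η.1.app (op (hf.functorObj ((Opens.map f).obj V.unop))) ≫ z)
        (congrArg G.1.map (Subsingleton.elim _ _))).trans nat.symm)
  · exact (Category.assoc _ _ _).symm.trans ((congrArg (fun z => z ≫ η.1.app V)
      ((F.1.map_comp _ _).symm.trans (map_id' F.1 _))).trans (Category.id_comp _))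

open scoped Classical in
def skyPushIso (f : Z ⟶ X) (z : Z) :
    skyscraperSheafFunctor (C := Type u) z ⋙ TopCat.Sheaf.pushforward (Type u) f ≅
      skyscraperSheafFunctor (C := Type u) (f z) :=
  NatIso.ofComponents (fun A => (fullyFaithfulSheafToPresheaf _ _).preimageIso
    (NatIso.ofComponents (fun V => Iso.refl _)))
    fun u => by
      apply CategoryTheory.Sheaf.hom_ext
      exact (Category.comp_id _).trans (Category.id_comp _).symm

abbrev stalkT (x : X) : X.Sheaf (Type u) ⥤ Type u :=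
  TopCat.Sheaf.forget (Type u) X ⋙ TopCat.Presheaf.stalkFunctor (Type u) x

open scoped Classical in
def pullStalkIso (f : Z ⟶ X) (z : Z) : TopCat.Sheaf.pullback (Type u) f ⋙ stalkT z ≅ stalkT (f z) :=
  Adjunction.leftAdjointUniq
    ((TopCat.Sheaf.pullbackPushforwardAdjunction (Type u) f).comp
      (stalkSkyscraperSheafAdjunction z))
    ((stalkSkyscraperSheafAdjunction (f z)).ofNatIsoRight (skyPushIso f z).symm)

/-- The map from a stalk to the stalk of the inverse image. -/
def α {i : Z ⟶ X} (F : X.Sheaf (Type u)) (z : Z) :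
    F.presheaf.stalk (i z) ⟶ ((TopCat.Sheaf.pullback (Type u) i).obj F).presheaf.stalk z :=
  (stalkT (i z)).map ((TopCat.Sheaf.pullbackPushforwardAdjunction (Type u) i).unit.app F) ≫
    TopCat.Presheaf.stalkPushforward (Type u) i
      ((TopCat.Sheaf.pullback (Type u) i).obj F).presheaf z

lemma isIso_α {i : Z ⟶ X} (hi : IsInducing i) (F : X.Sheaf (Type u)) (z : Z) : IsIso (α (i := i) F z) := by
  let adj := TopCat.Sheaf.pullbackPushforwardAdjunction (Type u) i
  have := push_full hi
  have := push_faithful hi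
  have hc : IsIso adj.counit := @Adjunction.counit_isIso_of_R_fully_faithful _ _ _ _ _ _ adj (push_full hi) (push_faithful hi)
  have h1 : IsIso ((TopCat.Sheaf.pullback (Type u) i).map (adj.unit.app F) ≫
      adj.counit.app ((TopCat.Sheaf.pullback (Type u) i).obj F)) := by
    rw [adj.left_triangle_components F]; exact IsIso.id _
  have h2 : IsIso ((TopCat.Sheaf.pullback (Type u) i).map (adj.unit.app F)) :=
    IsIso.of_isIso_comp_right _ (adj.counit.app ((TopCat.Sheaf.pullback (Type u) i).obj F))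
  have h3 : IsIso ((stalkT (i z)).map (adj.unit.app F)) :=
    (NatIso.isIso_map_iff (pullStalkIso i z) (adj.unit.app F)).1
      (@Functor.map_isIso _ _ _ _ _ _ (stalkT z) _ h2)
  have h4 := TopCat.Presheaf.stalkPushforward.stalkPushforward_iso_of_isInducing (C := Type u) hi
    ((TopCat.Sheaf.pullback (Type u) i).obj F).presheaf z
  exact @IsIso.comp_isIso _ _ _ _ _ _ _ h3 h4

lemma α_bijective {i : Z ⟶ X} (hi : IsInducing i) (F : X.Sheaf (Type u)) (z : Z) :
    Function.Bijective (α (i := i) F z) :=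
  (isIso_iff_bijective _).1 (isIso_α hi F z)

lemma α_germ {i : Z ⟶ X} (F : X.Sheaf (Type u)) (z : Z) (U : Opens X) (hz : i z ∈ U)
    (a : F.presheaf.obj (op U)) :
    α (i := i) F z (F.presheaf.germ U (i z) hz a) =
      ((TopCat.Sheaf.pullback (Type u) i).obj F).presheaf.germ ((Opens.map i).obj U) z hz
        (((TopCat.Sheaf.pullbackPushforwardAdjunction (Type u) i).unit.app F).hom.app (op U) a) := by
  have h : F.presheaf.germ U (i z) hz ≫ α (i := i) F z =
      ((TopCat.Sheaf.pullbackPushforwardAdjunction (Type u) i).unit.app F).hom.app (op U) ≫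
      ((TopCat.Sheaf.pullback (Type u) i).obj F).presheaf.germ ((Opens.map i).obj U) z hz := by
    simp only [α, stalkT, Functor.comp_map]
    erw [← Category.assoc, TopCat.Presheaf.stalkFunctor_map_germ, Category.assoc,
      TopCat.Presheaf.stalkPushforward_germ]
    rfl
  exact congrArg (fun φ => φ a) h

/-- A set closed in the constructible topology meeting all quasi-compact open neighbourhoods
of a point contains a generalisation of that point. -/
lemma exists_specializes {Y : Type u} [TopologicalSpace Y] [SpectralSpace Y] (B : Set Y)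
    (hB : IsClosed[constructibleTopology Y] B) (z : Y) (hz : z ∈ closure B) :
    ∃ y ∈ B, y ⤳ z := by
  let e : WithConstructibleTopology Y → Y := WithTopology.ofTopology
  let ι := {N : Set Y // IsOpen N ∧ IsCompact N ∧ z ∈ N}
  have hcl : IsClosed (e ⁻¹' B) := WithConstructibleTopology.isClosed_iff.2 (by simpa [e] using! hB)
  have hNcl : ∀ N : ι, IsClosed (e ⁻¹' N.1) := fun N => by
    refine WithConstructibleTopology.isClosed_iff.2 ?_
    have : IsOpen[constructibleTopology Y] (N.1)ᶜ :=
      IsCompact.isOpen_constructibleTopology_of_isClosed (by simpa using N.2.2.1) N.2.1.isClosed_compl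
    simpa [e] using! (@IsOpen.isClosed_compl Y (constructibleTopology Y) _ this)
  obtain ⟨y, hyB, hyN⟩ := hcl.isCompact.inter_iInter_nonempty (fun N : ι => e ⁻¹' N.1) hNcl fun s => by
    obtain ⟨N, ⟨hNo, hNc⟩, hzN, hNsub⟩ := PrespectralSpace.isTopologicalBasis.exists_subset_of_mem_open
      (show z ∈ ⋂ i ∈ s, (i : ι).1 from Set.mem_iInter₂.2 fun i _ => i.2.2.2)
      (isOpen_biInter_finset fun i _ => i.2.1)
    obtain ⟨y, hyN, hyB⟩ := mem_closure_iff.1 hz N hNo hzN
    exact ⟨WithTopology.toTopology _ y, hyB, Set.mem_iInter₂.2 fun i hi => (Set.mem_iInter₂.1 (hNsub hyN)) i hi⟩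
  refine ⟨e y, hyB, specializes_iff_forall_open.2 fun O hO hzO => ?_⟩
  obtain ⟨N, ⟨hNo, hNc⟩, hzN, hNsub⟩ := PrespectralSpace.isTopologicalBasis.exists_subset_of_mem_open hzO hO
  exact hNsub (Set.mem_iInter.1 hyN ⟨N, hNo, hNc, hzN⟩)

lemma isOpen_constructible_of_isOpen {Y : Type u} [TopologicalSpace Y] [SpectralSpace Y] {O : Set Y}
    (hO : IsOpen O) : IsOpen[constructibleTopology Y] O := by
  obtain ⟨S, hS, rfl⟩ := PrespectralSpace.isTopologicalBasis.open_eq_sUnion hO
  exact @isOpen_sUnion Y (constructibleTopology Y) _ fun N hN =>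
    (hS hN).2.isOpen_constructibleTopology_of_isOpen (hS hN).1

lemma isClosed_constructible_of_compact_open {Y : Type u} [TopologicalSpace Y] [SpectralSpace Y] {N : Set Y}
    (ho : IsOpen N) (hc : IsCompact N) : IsClosed[constructibleTopology Y] N := by
  have : IsOpen[constructibleTopology Y] Nᶜ :=
    IsCompact.isOpen_constructibleTopology_of_isClosed (by simpa using hc) ho.isClosed_compl
  simpa using! (@IsOpen.isClosed_compl Y (constructibleTopology Y) _ this)

/-- The generalisations of a quasi-compact set are closed in the constructible topology. -/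
lemma isClosed_constructible_generalization {Y : Type u} [TopologicalSpace Y] [SpectralSpace Y] {K : Set Y}
    (hK : IsCompact K) : IsClosed[constructibleTopology Y] {y | ∃ k ∈ K, y ⤳ k} := by
  have h : {y | ∃ k ∈ K, y ⤳ k} = ⋂ N : {N : Set Y // IsOpen N ∧ IsCompact N ∧ K ⊆ N}, N.1 := by
    ext y
    simp only [Set.mem_ofPred_eq, Set.mem_iInter]
    refine ⟨fun ⟨k, hk, hyk⟩ N => hyk.mem_open N.2.1 (N.2.2.2 hk), fun h => ?_⟩
    by_contra hne
    push Not at hne
    have hsub : K ⊆ (closure {y})ᶜ := fun k hk hky => hne k hk (specializes_iff_mem_closure.2 hky)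
    have hex : ∀ k : K, ∃ N : Set Y, IsOpen N ∧ IsCompact N ∧ k.1 ∈ N ∧ N ⊆ (closure {y})ᶜ := fun k => by
      obtain ⟨N, ⟨ho, hc⟩, hk, hs⟩ := PrespectralSpace.isTopologicalBasis.exists_subset_of_mem_open
        (hsub k.2) isClosed_closure.isOpen_compl
      exact ⟨N, ho, hc, hk, hs⟩
    choose N ho hc hk hs using hex
    obtain ⟨t, ht⟩ := hK.elim_finite_subcover N ho fun k hk' => Set.mem_iUnion.2 ⟨⟨k, hk'⟩, hk _⟩
    have := h ⟨⋃ k ∈ t, N k, isOpen_biUnion fun k _ => ho k,
      t.finite_toSet.isCompact_biUnion fun k _ => hc k, ht⟩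
    obtain ⟨k, -, hyk⟩ := Set.mem_iUnion₂.1 this
    exact hs k hyk (subset_closure rfl)
  rw [h]
  exact @isClosed_iInter Y _ (constructibleTopology Y) _ fun N =>
    isClosed_constructible_of_compact_open N.2.1 N.2.2.1

theorem bijective_unit_top (X : TopCat.{u}) [SpectralSpace X]
    (Z : Set X) (hZ : IsClosed Z) (hconn : ∀ x : X, IsConnected (Z ∩ closure {x}))
    (F : TopCat.Sheaf (Type u) X) :
    Function.Bijective
      (((TopCat.Sheaf.pullbackPushforwardAdjunction (Type u)
        (TopCat.ofHom ⟨(Subtype.val : Z → X), continuous_subtype_val⟩)).unit.app F).hom.app (op ⊤)) := by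
  let i : TopCat.of Z ⟶ X := TopCat.ofHom ⟨(Subtype.val : Z → X), continuous_subtype_val⟩
  let G := (TopCat.Sheaf.pullback (Type u) i).obj F
  have hi : IsInducing i := IsInducing.subtypeVal
  have hα := fun z => α_bijective hi F z
  refine ⟨fun a b hab => ?_, fun g => ?_⟩
  · refine TopCat.Presheaf.section_ext F ⊤ a b fun y _ => ?_
    obtain ⟨z, hzZ, hzy⟩ := (hconn y).nonempty
    have h1 : F.presheaf.germ ⊤ z (Set.mem_univ _) a = F.presheaf.germ ⊤ z (Set.mem_univ _) b := by
      apply (hα ⟨z, hzZ⟩).1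
      exact (α_germ (i := i) F ⟨z, hzZ⟩ ⊤ (Set.mem_univ _) a).trans ((congrArg _ hab).trans
        (α_germ (i := i) F ⟨z, hzZ⟩ ⊤ (Set.mem_univ _) b).symm)
    have h2 := congrArg (F.presheaf.stalkSpecializes (specializes_iff_mem_closure.2 hzy)) h1
    erw [TopCat.Presheaf.germ_stalkSpecializes_apply, TopCat.Presheaf.germ_stalkSpecializes_apply] at h2
    exact h2
  classical
  -- the stalks prescribed along `Z`
  let gT : G.presheaf.obj (op ⊤) := g
  have hc : ∀ z : Z, ∃ c : F.presheaf.stalk (i z), α (i := i) F z c = G.presheaf.germ ⊤ z (Set.mem_univ _) gT :=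
    fun z => (hα z).2 _
  choose c hc using hc
  -- local sections with these germs
  have hW : ∀ z : Z, ∃ (W : Opens X) (σ : F.presheaf.obj (op W)), IsCompact (W : Set X) ∧ i z ∈ W ∧
      ∀ (z' : Z) (hz' : i z' ∈ W), F.presheaf.germ W (i z') hz' σ = c z' := by
    intro z
    obtain ⟨U, hzU, s, hs⟩ := F.presheaf.exists_germ_eq (c z)
    have hg : G.presheaf.germ ((Opens.map i).obj U) z hzU
        (((TopCat.Sheaf.pullbackPushforwardAdjunction (Type u) i).unit.app F).hom.app (op U) s) =
        G.presheaf.germ ⊤ z (Set.mem_univ _) gT := by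
      rw [← hc z, ← hs]
      exact (α_germ (i := i) F z U hzU s).symm
    obtain ⟨O, hzO, iOU, iOT, heq⟩ := G.presheaf.germ_eq z hzU (Set.mem_univ _) _ _ hg
    obtain ⟨O', hO', hOO'⟩ := isOpen_induced_iff.1 O.2
    have hzO' : i z ∈ O' := by
      have : z ∈ (Subtype.val ⁻¹' O' : Set Z) := by rw [hOO']; exact hzO
      exact this
    obtain ⟨N, ⟨hNo, hNc⟩, hzN, hNsub⟩ := PrespectralSpace.isTopologicalBasis.exists_subset_of_mem_open
      (show i z ∈ (U : Set X) ∩ O' from ⟨hzU, hzO'⟩) (U.2.inter hO')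
    refine ⟨⟨N, hNo⟩, F.presheaf.map (homOfLE fun y hy => (hNsub hy).1 : (⟨N, hNo⟩ : Opens X) ⟶ U).op s,
      hNc, hzN, fun z' hz' => ?_⟩
    have hz'O : z' ∈ O := by
      have h : z' ∈ (Subtype.val ⁻¹' O' : Set Z) := (hNsub hz').2
      rw [hOO'] at h
      exact h
    rw [TopCat.Presheaf.germ_res_apply]
    apply (hα z').1
    rw [α_germ, hc z']
    have h := congrArg (G.presheaf.germ O z' hz'O) heq
    rw [TopCat.Presheaf.germ_res_apply, TopCat.Presheaf.germ_res_apply] at h
    exact h
  choose W σ hWc hzW hσ using hW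
  -- the prescribed germs at all points
  have hex : ∀ y : X, ∃ z : Z, y ⤳ i z := fun y => by
    obtain ⟨z, hzZ, hzy⟩ := (hconn y).nonempty
    exact ⟨⟨z, hzZ⟩, specializes_iff_mem_closure.2 hzy⟩
  let t : ∀ y : X, F.presheaf.stalk y := fun y => F.presheaf.stalkSpecializes (hex y).choose_spec (c (hex y).choose)
  have hkey : ∀ (z z' : Z) (y : X) (hy : y ⤳ i z') (hz' : i z' ∈ W z),
      F.presheaf.stalkSpecializes hy (c z') = F.presheaf.germ (W z) y (hy.mem_open (W z).2 hz') (σ z) := by
    intro z z' y hy hz'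
    rw [← hσ z z' hz', TopCat.Presheaf.germ_stalkSpecializes_apply]
  have ht : ∀ (y : X) (z : Z) (hy : y ⤳ i z), F.presheaf.stalkSpecializes hy (c z) = t y := by
    intro y z hy
    haveI : PreconnectedSpace ↥(Z ∩ closure {y}) := isPreconnected_iff_preconnectedSpace.1 (hconn y).isPreconnected
    let φ : ↥(Z ∩ closure {y}) → F.presheaf.stalk y := fun w =>
      F.presheaf.stalkSpecializes (show y ⤳ i ⟨w.1, w.2.1⟩ from specializes_iff_mem_closure.2 w.2.2) (c ⟨w.1, w.2.1⟩)
    have hφ : IsLocallyConstant φ := by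
      refine (IsLocallyConstant.iff_exists_open φ).2 fun w => ?_
      refine ⟨Subtype.val ⁻¹' (W ⟨w.1, w.2.1⟩ : Set X), (W ⟨w.1, w.2.1⟩).2.preimage continuous_subtype_val,
        hzW ⟨w.1, w.2.1⟩, fun w' hw' => ?_⟩
      exact (hkey _ ⟨w'.1, w'.2.1⟩ y _ hw').trans (hkey ⟨w.1, w.2.1⟩ ⟨w.1, w.2.1⟩ y _ (hzW _)).symm
    exact hφ.apply_eq_of_preconnectedSpace ⟨z.1, z.2, specializes_iff_mem_closure.1 hy⟩
      ⟨(hex y).choose.1, (hex y).choose.2, specializes_iff_mem_closure.1 (hex y).choose_spec⟩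
  obtain ⟨J, hJ⟩ := hZ.isCompact.elim_finite_subcover (fun z => (W z : Set X)) (fun z => (W z).2)
    fun z hz => Set.mem_iUnion.2 ⟨⟨z, hz⟩, hzW ⟨z, hz⟩⟩
  -- the disagreement loci
  let E : Z → Z → Set X := fun z j =>
    {y | ∃ h : y ∈ W z ⊓ W j, F.presheaf.germ (W z) y h.1 (σ z) = F.presheaf.germ (W j) y h.2 (σ j)}
  have hE : ∀ z j, IsOpen (E z j) := fun z j => isOpen_iff_forall_mem_open.2 fun y ⟨h, he⟩ => by
    obtain ⟨O, hyO, iz, ij, heq⟩ := F.presheaf.germ_eq y h.1 h.2 _ _ he
    refine ⟨O, fun y' hy' => ⟨⟨iz.le hy', ij.le hy'⟩, ?_⟩, O.2, hyO⟩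
    have := congrArg (F.presheaf.germ O y' hy') heq
    rwa [TopCat.Presheaf.germ_res_apply, TopCat.Presheaf.germ_res_apply] at this
  let B : Z → Z → Set X := fun z j =>
    (((W z : Set X) ∩ W j) ∩ (E z j)ᶜ) ∩ {y | ∃ k ∈ Z ∩ (W j : Set X), y ⤳ k}
  have hB : ∀ z j, IsClosed[constructibleTopology X] (B z j) := fun z j => by
    have h1 : IsClosed[constructibleTopology X] ((W z : Set X) ∩ W j) :=
      isClosed_constructible_of_compact_open ((W z).2.inter (W j).2)
        (QuasiSeparatedSpace.inter_isCompact _ _ (W z).2 (hWc z) (W j).2 (hWc j))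
    have h2 : IsClosed[constructibleTopology X] (E z j)ᶜ :=
      @IsOpen.isClosed_compl X (constructibleTopology X) _ (isOpen_constructible_of_isOpen (hE z j))
    have h3 := isClosed_constructible_generalization ((hWc j).inter_left hZ)
    exact @IsClosed.inter X _ _ (constructibleTopology X) (@IsClosed.inter X _ _ (constructibleTopology X) h1 h2) h3
  have hzB : ∀ z j, i z ∉ closure (B z j) := fun z j hmem => by
    obtain ⟨y, ⟨⟨⟨hyz, hyj⟩, hyE⟩, k, ⟨hkZ, hkW⟩, hyk⟩, hys⟩ := exists_specializes _ (hB z j) _ hmem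
    refine hyE ⟨⟨hyz, hyj⟩, ?_⟩
    exact ((hkey z z y hys (hzW z)).symm.trans (ht y z hys)).trans
      ((ht y ⟨k, hkZ⟩ hyk).symm.trans (hkey j ⟨k, hkZ⟩ y hyk hkW))
  let V : Z → Opens X := fun z => ⟨(W z : Set X) ∩ ⋂ j ∈ J, (closure (B z j))ᶜ,
    (W z).2.inter (isOpen_biInter_finset fun j _ => isClosed_closure.isOpen_compl)⟩
  have hV : ∀ z, i z ∈ V z := fun z => ⟨hzW z, Set.mem_iInter₂.2 fun j _ => hzB z j⟩
  let sf : ∀ z : Z, F.presheaf.obj (op (V z)) := fun z =>
    F.presheaf.map (homOfLE fun y hy => hy.1 : V z ⟶ W z).op (σ z)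
  have hsf : ∀ (z : Z) (y : X) (hy : y ∈ V z), F.presheaf.germ (V z) y hy (sf z) = t y := by
    intro z y hy
    simp only [sf]
    rw [TopCat.Presheaf.germ_res_apply]
    obtain ⟨k, hyk⟩ := hex y
    obtain ⟨j, hjJ, hkj⟩ := Set.mem_iUnion₂.1 (hJ k.2)
    have hyj : y ∈ W j := hyk.mem_open (W j).2 hkj
    by_contra hne
    refine Set.mem_iInter₂.1 hy.2 j hjJ (subset_closure ⟨⟨⟨hy.1, hyj⟩, ?_⟩, i k, ⟨k.2, hkj⟩, hyk⟩)
    rintro ⟨h, he⟩
    exact hne (he.trans (((hkey j k y hyk hkj).symm).trans (ht y k hyk)))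
  obtain ⟨s, hs, -⟩ := F.existsUnique_gluing' V ⊤ (fun z => homOfLE le_top)
    (fun y _ => by
      obtain ⟨z, hz⟩ := hex y
      exact Opens.mem_iSup.2 ⟨z, hz.mem_open (V z).2 (hV z)⟩) sf
    (fun z z' => TopCat.Presheaf.section_ext F _ _ _ fun y hy => by
      exact (TopCat.Presheaf.germ_res_apply F.presheaf (Opens.infLELeft (V z) (V z')) y hy (sf z)).trans
        (((hsf z y hy.1).trans (hsf z' y hy.2).symm).trans
          (TopCat.Presheaf.germ_res_apply F.presheaf (Opens.infLERight (V z) (V z')) y hy (sf z')).symm))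
  refine ⟨s, TopCat.Presheaf.section_ext G _ _ _ fun z _ => ?_⟩
  refine (α_germ (i := i) F z ⊤ (Set.mem_univ _) s).symm.trans ((congrArg (α (i := i) F z) ?_).trans (hc z))
  have h := congrArg (F.presheaf.germ (V z) (i z) (hV z)) (hs z)
  erw [TopCat.Presheaf.germ_res_apply] at h
  refine h.trans ((hsf z _ (hV z)).trans ((ht (i z) z specializes_rfl).symm.trans ?_))
  simp

end Groth.Agent.SpectralSections
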