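import Groth.Agent.EtFound.GabberMonodromy
import Groth.Agent.EtFound.SpectralSections
import Mathlib.AlgebraicGeometry.Morphisms.UniversallyOpen

/-!
Global sections of etale sheaves along a closed subscheme whose finite covers have lifting clopens.
-/

set_option autoImplicit false
set_option linter.style.haveILetI false

universe u

open CategoryTheory CategoryTheory.Limits AlgebraicGeometry Opposite TopologicalSpace Topology

namespace Groth.Agent.GabberH0

set_option backward.isDefEq.respectTransparency.types false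

open AbLocEq IntegralConn SpectralSections

/-- A set closed in the constructible topology whose image accumulates at a point contains a point
mapping to a generalisation of it. -/
theorem exists_specializes_map {P Y : Type u} [TopologicalSpace P] [TopologicalSpace Y] [SpectralSpace P]
    [SpectralSpace Y] (f : P → Y) (hf : IsSpectralMap f) (B : Set P)
    (hB : IsClosed[constructibleTopology P] B) (z : Y) (hz : z ∈ closure (f '' B)) :
    ∃ p ∈ B, f p ⤳ z := by
  let e : WithConstructibleTopology P → P := WithTopology.ofTopology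
  let ι := {N : Set Y // IsOpen N ∧ IsCompact N ∧ z ∈ N}
  have hcl : IsClosed (e ⁻¹' B) := WithConstructibleTopology.isClosed_iff.2 (by simpa [e] using! hB)
  have hNcl : ∀ N : ι, IsClosed (e ⁻¹' (f ⁻¹' N.1)) := fun N => by
    refine WithConstructibleTopology.isClosed_iff.2 ?_
    simpa [e] using! isClosed_constructible_of_compact_open (hf.continuous.isOpen_preimage _ N.2.1)
      (hf.isCompact_preimage_of_isOpen N.2.1 N.2.2.1)
  obtain ⟨y, hyB, hyN⟩ := hcl.isCompact.inter_iInter_nonempty (fun N : ι => e ⁻¹' (f ⁻¹' N.1)) hNcl fun s => by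
    obtain ⟨N, ⟨hNo, hNc⟩, hzN, hNsub⟩ := PrespectralSpace.isTopologicalBasis.exists_subset_of_mem_open
      (show z ∈ ⋂ i ∈ s, (i : ι).1 from Set.mem_iInter₂.2 fun i _ => i.2.2.2)
      (isOpen_biInter_finset fun i _ => i.2.1)
    obtain ⟨y, hyN, p, hpB, rfl⟩ := mem_closure_iff.1 hz N hNo hzN
    exact ⟨WithTopology.toTopology _ p, hpB, Set.mem_iInter₂.2 fun i hi => (Set.mem_iInter₂.1 (hNsub hyN)) i hi⟩
  refine ⟨e y, hyB, specializes_iff_forall_open.2 fun O hO hzO => ?_⟩
  obtain ⟨N, ⟨hNo, hNc⟩, hzN, hNsub⟩ := PrespectralSpace.isTopologicalBasis.exists_subset_of_mem_open hzO hO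
  exact hNsub (Set.mem_iInter.1 hyN ⟨N, hNo, hNc, hzN⟩)

/-- Preimages of generalisations of quasi-compact sets are closed in the constructible topology. -/
theorem isClosed_constructible_preimage_gen {P Y : Type u} [TopologicalSpace P] [TopologicalSpace Y]
    [SpectralSpace P] [SpectralSpace Y] (f : P → Y) (hf : IsSpectralMap f) {K : Set Y} (hK : IsCompact K) :
    IsClosed[constructibleTopology P] (f ⁻¹' {y | ∃ k ∈ K, y ⤳ k}) := by
  have hc : @Continuous P Y (constructibleTopology P) (constructibleTopology Y) f := by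
    refine continuous_generateFrom_iff.2 fun s hs => ?_
    rcases hs with ⟨ho, hc⟩ | ⟨hcl, hc⟩
    · exact (hf.isCompact_preimage_of_isOpen ho hc).isOpen_constructibleTopology_of_isOpen
        (hf.continuous.isOpen_preimage _ ho)
    · refine IsCompact.isOpen_constructibleTopology_of_isClosed ?_ (hcl.preimage hf.continuous)
      rw [← Set.preimage_compl]
      exact hf.isCompact_preimage_of_isOpen hcl.isOpen_compl hc
  exact @IsClosed.preimage P Y (constructibleTopology P) (constructibleTopology Y) f hc _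
    (isClosed_constructible_generalization hK)

theorem isClosed_constructible_of_isClosed {P : Type u} [TopologicalSpace P] [SpectralSpace P] {C : Set P}
    (hC : IsClosed C) : IsClosed[constructibleTopology P] C := by
  have := @IsOpen.isClosed_compl P (constructibleTopology P) _ (isOpen_constructible_of_isOpen hC.isOpen_compl)
  rwa [compl_compl] at this

variable {Z X : Scheme.{u}} (i : Z ⟶ X) [IsClosedImmersion i] [EtCoh.BCCont i] (F : EtCoh.Ab X)

/-- Base change of the map to the final object. -/
noncomputable abbrev toT (V : X.Etale) : (EtCoh.bc i).obj V ⟶ (EtCoh.bc i).obj (EtCoh.top X) :=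
  (EtCoh.bc i).map ((EtCore.topIsTerminal X).from V)

theorem eq_toT {V : X.Etale} (m : (EtCoh.bc i).obj V ⟶ (EtCoh.bc i).obj (EtCoh.top X)) : m = toT i V :=
  (cancel_mono (EtCore.bcTopIso i).hom).1 ((EtCore.topIsTerminal Z).hom_ext _ _)

theorem range_pr (V : X.Etale) : Set.range (pr i V) = V.hom ⁻¹' Set.range i :=
  Scheme.Pullback.range_fst _ _

variable (s : ((EtCoh.pull i).obj F).obj.obj (op ((EtCoh.bc i).obj (EtCoh.top X))))

/-- A local section restricting to the given section near a point of the closed part. -/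
def Good (V : X.Etale) (a : F.obj.obj (op V)) (v : V.left) : Prop :=
  ∃ z : ((EtCoh.bc i).obj V).left, pr i V z = v ∧
    AEq ((EtCoh.pull i).obj F).obj (up i F V a) (((EtCoh.pull i).obj F).obj.map (toT i V).op s) z

theorem pr_injective (V : X.Etale) : Function.Injective (pr i V) := by
  haveI : IsClosedImmersion (pullback.fst V.hom i) := MorphismProperty.pullback_fst _ _ inferInstance
  exact (pullback.fst V.hom i).isEmbedding.injective

theorem good_aEq {V : X.Etale} {a : F.obj.obj (op V)} {z : ((EtCoh.bc i).obj V).left}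
    (h : Good i F s V a (pr i V z)) :
    AEq ((EtCoh.pull i).obj F).obj (up i F V a) (((EtCoh.pull i).obj F).obj.map (toT i V).op s) z := by
  obtain ⟨z', hz', h'⟩ := h
  rwa [← pr_injective i V hz']

theorem map_toT {V V' : X.Etale} (m : V' ⟶ V) :
    ((EtCoh.pull i).obj F).obj.map ((EtCoh.bc i).map m).op (((EtCoh.pull i).obj F).obj.map (toT i V).op s) =
      ((EtCoh.pull i).obj F).obj.map (toT i V').op s := by
  rw [mapP, eq_toT i ((EtCoh.bc i).map m ≫ toT i V)]

theorem exists_good_affine (z : Z) :
    ∃ (V : X.Etale) (a : F.obj.obj (op V)) (v : V.left), IsAffine V.left ∧ V.hom v = i z ∧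
      ∀ v' : V.left, V.hom v' ∈ Set.range i → Good i F s V a v' := by
  let G := (EtCoh.pull i).obj F
  obtain ⟨V, a, z₀, m, hz₀, h⟩ := exists_aEq_up i F (G.obj.map (EtCore.bcTopIso i).inv.op s) z
  rw [mapP, eq_toT i (m ≫ (EtCore.bcTopIso i).inv)] at h
  haveI : IsClosedImmersion (pullback.fst V.hom i) := MorphismProperty.pullback_fst _ _ inferInstance
  obtain ⟨O, hO, hOM⟩ := (pullback.fst V.hom i).isEmbedding.isInducing.isOpen_iff.1
    (isOpen_aEq (P := G.obj) (up i F V a) (G.obj.map (toT i V).op s))
  have hv : pr i V z₀ ∈ O := (Set.ext_iff.1 hOM z₀).2 h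
  obtain ⟨A, hA, hvA, hAO⟩ := exists_isAffineOpen_mem_and_subset (X := V.left) (x := pr i V z₀)
    (U := ⟨O, hO⟩) hv
  let V' : X.Etale := MorphismProperty.Over.mk ⊤ (A.ι ≫ V.hom) (by
    haveI : Etale V.hom := V.prop
    exact inferInstanceAs (Etale (A.ι ≫ V.hom)))
  let m' : V' ⟶ V := MorphismProperty.Over.homMk A.ι rfl
  refine ⟨V', F.obj.map m'.op a, ⟨pr i V z₀, hvA⟩, hA, ?_, fun v' hv' => ?_⟩
  · show V.hom (pr i V z₀) = i z
    have e : ((EtCoh.bc i).obj V).hom z₀ = z := hz₀
    rw [← e, ← Scheme.Hom.comp_apply, ← Scheme.Hom.comp_apply]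
    exact congrArg (fun φ : pullback V.hom i ⟶ X => φ z₀) pullback.condition
  · obtain ⟨w, rfl⟩ : v' ∈ Set.range (pr i V') := by rw [range_pr]; exact hv'
    refine ⟨w, rfl, ?_⟩
    have hmap : pr i V (((EtCoh.bc i).map m').left w) = m'.left (pr i V' w) :=
      ((Scheme.Hom.comp_apply _ _ _).symm.trans
        (congrArg (fun k : ((EtCoh.bc i).obj V').left ⟶ V.left => k w) (EtCoh.isPullback_bc_map i m').w)).trans
          (Scheme.Hom.comp_apply _ _ _)
    have h1 : AEq G.obj (up i F V a) (G.obj.map (toT i V).op s) (((EtCoh.bc i).map m').left w) := by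
      refine (Set.ext_iff.1 hOM _).1 ?_
      show pr i V (((EtCoh.bc i).map m').left w) ∈ O
      rw [hmap]
      exact hAO (pr i V' w).2
    have h2 := h1.map ((EtCoh.bc i).map m')
    rwa [← up_map, map_toT] at h2

theorem agreeOn_of_good {ι : Type*} (U : ι → X.Etale) (a : ∀ j, F.obj.obj (op (U j)))
    (hgood : ∀ j (v : (U j).left), (U j).hom v ∈ Set.range i → Good i F s (U j) (a j) v) :
    AgreeOn (Set.range i) U a := by
  intro j k p hp
  obtain ⟨z, rfl⟩ : p ∈ Set.range (pr i (prodEt (U j) (U k))) := by rw [range_pr]; exact hp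
  have hmap : ∀ {V : X.Etale} (m : prodEt (U j) (U k) ⟶ V),
      pr i V (((EtCoh.bc i).map m).left z) = m.left (pr i _ z) := fun {V} m =>
    ((Scheme.Hom.comp_apply _ _ _).symm.trans
      (congrArg (fun k : ((EtCoh.bc i).obj _).left ⟶ V.left => k z) (EtCoh.isPullback_bc_map i m).w)).trans
        (Scheme.Hom.comp_apply _ _ _)
  have hover : ∀ {V : X.Etale} (m : prodEt (U j) (U k) ⟶ V),
      V.hom (m.left (pr i _ z)) ∈ Set.range i := fun {V} m => by
    have := congrArg (fun φ : (prodEt (U j) (U k)).left ⟶ X => φ (pr i _ z)) (MorphismProperty.Over.w m)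
    exact this.symm ▸ hp
  have h : ∀ (l : ι) (m : prodEt (U j) (U k) ⟶ U l),
      AEq ((EtCoh.pull i).obj F).obj (up i F _ (F.obj.map m.op (a l)))
        (((EtCoh.pull i).obj F).obj.map (toT i _).op s) z := fun l m => by
    have h1 := good_aEq i F s (z := ((EtCoh.bc i).map m).left z) (by
      rw [hmap]; exact hgood l _ (hover m))
    have h2 := h1.map ((EtCoh.bc i).map m)
    rwa [← up_map, map_toT] at h2
  exact aEq_of_up i F ((h j (p₁ (U j) (U k))).trans (h k (p₂ (U j) (U k))).symm)

omit s

theorem bijective_unit [CompactSpace X] [QuasiSeparatedSpace X] (hK : FiniteLifts (Set.range i)) :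
    Function.Bijective (((EtCoh.pullPushAdj i).unit.app F).hom.app (op (EtCoh.top X))) := by
  classical
  have hKc : IsClosed (Set.range i) := i.isClosedEmbedding.isClosed_range
  constructor
  · intro a b hab
    refine eq_of_aEq F fun x => ?_
    obtain ⟨v, hv, hxv⟩ := nonempty_inter_closure hK ((EtCoh.top X).hom x)
    have hxv' : x ⤳ (show (EtCoh.top X).left from v) := specializes_iff_mem_closure.2 hxv
    refine hxv'.mem_open (isOpen_aEq a b) ?_
    obtain ⟨z, hz⟩ : (show (EtCoh.top X).left from v) ∈ Set.range (pr i (EtCoh.top X)) := by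
      rw [range_pr]; exact hv
    refine hz ▸ aEq_of_up i F ?_
    rw [show up i F (EtCoh.top X) a = up i F (EtCoh.top X) b from hab]
    exact ⟨_, 𝟙 _, ⟨z, rfl⟩, rfl⟩
  · intro s
    have hex := exists_good_affine i F s
    choose V a v hVaff hv hgood using hex
    have hVet : ∀ z, Etale (V z).hom := fun z => (V z).prop
    obtain ⟨J, hJ⟩ := hKc.isCompact.elim_finite_subcover (fun z : Z => Set.range (V z).hom)
      (fun z => by haveI := hVet z; exact (V z).hom.isOpenMap.isOpen_range)
      (by rintro _ ⟨z, rfl⟩; exact Set.mem_iUnion.2 ⟨z, v z, hv z⟩)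
    let U : J → X.Etale := fun j => V j.1
    let b : ∀ j : J, F.obj.obj (op (U j)) := fun j => a j.1
    have hA : AgreeOn (Set.range i) U b := agreeOn_of_good i F s U b fun j => hgood j.1
    have hcov : ∀ x ∈ Set.range i, ∃ (j : J) (w : (U j).left), (U j).hom w = x := fun x hx => by
      obtain ⟨z, hzJ, w, hw⟩ := Set.mem_iUnion₂.1 (hJ hx)
      exact ⟨⟨z, hzJ⟩, w, hw⟩
    haveI hUc : ∀ j, CompactSpace ↥(U j).left := fun j => by
      haveI := hVaff j.1; exact inferInstanceAs (CompactSpace ↥(V j.1).left)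
    haveI hUq : ∀ j, QuasiSeparatedSpace ↥(U j).left := fun j => by
      haveI := hVaff j.1; exact inferInstanceAs (QuasiSeparatedSpace ↥(V j.1).left)
    let u : ∀ j : J, (U j).left ⟶ X := fun j => (U j).hom
    haveI hUe : ∀ j, Etale (u j) := fun j => (U j).prop
    haveI hUqc : ∀ j, QuasiCompact (u j) := fun j => quasiCompact_of_compactSpace (u j)
    haveI hUqs : ∀ j, QuasiSeparated (u j) := fun j => by haveI := hUq j; infer_instance
    have hPc : ∀ j k, CompactSpace ↥(pullback (u j) (u k)) := fun j k =>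
      QuasiCompact.compactSpace_of_compactSpace (pullback.fst (u j) (u k))
    have hPq : ∀ j k, QuasiSeparatedSpace ↥(pullback (u j) (u k)) := fun j k =>
      quasiSeparatedSpace_of_quasiSeparated (pullback.fst (u j) (u k))
    haveI hUsp : ∀ j, SpectralSpace ↥(U j).left := fun j => {}
    haveI hPsp : ∀ j k, SpectralSpace ↥(pullback (u j) (u k)) := fun j k => by
      haveI := hPc j k; haveI := hPq j k; exact {}
    let AG : ∀ j k : J, Set ↥(pullback (u j) (u k)) := fun j k =>
      {p : (prodEt (U j) (U k)).left | AEq F.obj (F.obj.map (p₁ (U j) (U k)).op (b j))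
        (F.obj.map (p₂ (U j) (U k)).op (b k)) p}
    let Gn : ∀ k : J, Set ↥(U k).left := fun k => {y | ∃ w ∈ (u k) ⁻¹' Set.range i, y ⤳ w}
    let B : ∀ j k : J, Set ↥(pullback (u j) (u k)) := fun j k =>
      (AG j k)ᶜ ∩ pullback.snd (u j) (u k) ⁻¹' Gn k
    have hB : ∀ j k, IsClosed[constructibleTopology _] (B j k) := fun j k =>
      @IsClosed.inter _ _ _ (constructibleTopology _)
        (isClosed_constructible_of_isClosed (isOpen_aEq _ _).isClosed_compl)
        (isClosed_constructible_preimage_gen _ (pullback.snd (u j) (u k)).isSpectralMap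
          (hKc.preimage (u k).continuous).isCompact)
    have hclaim : ∀ (j k : J) (w : (U j).left), (u j) w ∈ Set.range i →
        w ∉ closure (pullback.fst (u j) (u k) '' B j k) := fun j k w hw hcl => by
      obtain ⟨p, ⟨hpA, hpG⟩, hpw⟩ := exists_specializes_map _ (pullback.fst (u j) (u k)).isSpectralMap
        _ (hB j k) w hcl
      obtain ⟨w', hw', hpw'⟩ := hpG
      exact hpA (aEq_of_adj hKc hK hA hcov p ⟨w, hpw, hw⟩ ⟨w', hpw', hw'⟩)
    let O : ∀ j, (U j).left.Opens := fun j =>
      ⟨(⋃ k, closure (pullback.fst (u j) (u k) '' B j k))ᶜ,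
        (isClosed_iUnion_of_finite fun k => isClosed_closure).isOpen_compl⟩
    have hO : ∀ j (w : (U j).left), (u j) w ∈ Set.range i → w ∈ O j := fun j w hw hm => by
      obtain ⟨k, hk⟩ := Set.mem_iUnion.1 hm
      exact hclaim j k w hw hk
    -- agreement on the shrunken family
    have hagree : ∀ (j k : J) (p : (prodEt (U j) (U k)).left), (p₁ (U j) (U k)).left p ∈ O j →
        (p₂ (U j) (U k)).left p ∈ O k →
        AEq F.obj (F.obj.map (p₁ (U j) (U k)).op (b j)) (F.obj.map (p₂ (U j) (U k)).op (b k)) p := by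
      intro j k p hpj hpk
      obtain ⟨Ω, _, _, ξ, T, hT⟩ := EtFound.exists_point_through (prodEt (U j) (U k)) p
      let d : Spec (CommRingCat.of Ω) := default
      have hx : ξ d = (prodEt (U j) (U k)).hom p := by
        rw [← hT d]
        refine Eq.trans ?_ (Scheme.Hom.comp_apply (T.left : Spec (CommRingCat.of Ω) ⟶ (prodEt (U j) (U k)).left) (prodEt (U j) (U k)).hom d)
        exact congrArg (fun φ : Spec (CommRingCat.of Ω) ⟶ X => φ d) (CategoryTheory.Over.w T).symm
      obtain ⟨w₀, hw₀, hxw₀⟩ := nonempty_inter_closure hK (ξ d)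
      obtain ⟨l, w, hw⟩ := hcov w₀ hw₀
      obtain ⟨y, hyw, hyx⟩ := (Flat.generalizingMap (u l))
        (show ξ d ⤳ u l w from hw.symm ▸ specializes_iff_mem_closure.2 hxw₀)
      obtain ⟨t₀, ht₀, ht₀y⟩ := Scheme.exists_fac_of_etale_of_isSepClosed (u l) ξ y hyx
      let t'' : (Scheme.pointSmallEtale ξ).fiber.obj (U l) := CategoryTheory.Over.homMk t₀ ht₀
      have hy : y ∈ Gn l := ⟨w, show (u l) w ∈ Set.range i from hw ▸ hw₀, hyw⟩
      have key : ∀ (j : J) (t : (Scheme.pointSmallEtale ξ).fiber.obj (U j)),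
          (t.left : Spec (CommRingCat.of Ω) ⟶ (U j).left) d ∈ O j →
          (Scheme.pointSmallEtale ξ).toPresheafFiber (U j) t F.obj (b j) =
            (Scheme.pointSmallEtale ξ).toPresheafFiber (U l) t'' F.obj (b l) := by
        intro j t htO
        let t1 : Spec (CommRingCat.of Ω) ⟶ (U j).left := t.left
        have ht1 : t1 ≫ (u j) = ξ := CategoryTheory.Over.w t
        let r : Spec (CommRingCat.of Ω) ⟶ pullback (u j) (u l) :=
          pullback.lift t1 t₀ (ht1.trans ht₀.symm)
        let R : (Scheme.pointSmallEtale ξ).fiber.obj (prodEt (U j) (U l)) := CategoryTheory.Over.homMk r (by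
          show r ≫ pullback.fst (u j) (u l) ≫ (u j) = ξ
          rw [pullback.lift_fst_assoc, ht1])
        have e1 : pullback.fst (u j) (u l) (r d) = t1 d := by
          rw [← Scheme.Hom.comp_apply, pullback.lift_fst]
        have e2 : pullback.snd (u j) (u l) (r d) = y := by
          rw [← Scheme.Hom.comp_apply, pullback.lift_snd]; exact ht₀y
        have hr : r d ∈ AG j l := by
          by_contra hne
          refine htO (Set.mem_iUnion.2 ⟨l, subset_closure ⟨r d, ⟨hne, ?_⟩, e1⟩⟩)
          show pullback.snd (u j) (u l) (r d) ∈ Gn l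
          rw [e2]; exact hy
        have hg := germ_eq (show AEq F.obj _ _ _ from hr) R rfl
        rw [(Scheme.pointSmallEtale ξ).toPresheafFiber_w_apply, (Scheme.pointSmallEtale ξ).toPresheafFiber_w_apply] at hg
        refine Eq.trans ?_ (hg.trans ?_)
        · exact congrArg (fun u => (Scheme.pointSmallEtale ξ).toPresheafFiber (U j) u F.obj (b j))
            (show t = (Scheme.pointSmallEtale ξ).fiber.map (p₁ (U j) (U l)) R from
              CategoryTheory.Over.OverMorphism.ext (pullback.lift_fst _ _ _).symm)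
        · exact congrArg (fun u => (Scheme.pointSmallEtale ξ).toPresheafFiber (U l) u F.obj (b l))
            (show (Scheme.pointSmallEtale ξ).fiber.map (p₂ (U j) (U l)) R = t'' from
              CategoryTheory.Over.OverMorphism.ext (pullback.lift_snd _ _ _))
      refine aEq_of_germ ξ T ?_ p (hT d)
      rw [(Scheme.pointSmallEtale ξ).toPresheafFiber_w_apply, (Scheme.pointSmallEtale ξ).toPresheafFiber_w_apply]
      refine (key j _ ?_).trans (key k _ ?_).symm
      · show ((T.left : Spec (CommRingCat.of Ω) ⟶ _) ≫ (p₁ (U j) (U k)).left) d ∈ O j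
        rw [Scheme.Hom.comp_apply, hT d]; exact hpj
      · show ((T.left : Spec (CommRingCat.of Ω) ⟶ _) ≫ (p₂ (U j) (U k)).left) d ∈ O k
        rw [Scheme.Hom.comp_apply, hT d]; exact hpk
    -- glue
    let U' : J → X.Etale := fun j => MorphismProperty.Over.mk ⊤ ((O j).ι ≫ (U j).hom) (by
      haveI := hUe j
      exact inferInstanceAs (Etale ((O j).ι ≫ (U j).hom)))
    let ιO : ∀ j, U' j ⟶ U j := fun j => MorphismProperty.Over.homMk (O j).ι rfl
    let b' : ∀ j, F.obj.obj (op (U' j)) := fun j => F.obj.map (ιO j).op (b j)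
    have hcomp : ∀ (j k : J) (Y : X.Etale) (f : Y ⟶ U' j) (g : Y ⟶ U' k),
        F.obj.map f.op (b' j) = F.obj.map g.op (b' k) := fun j k Y f g => by
      refine eq_of_aEq F fun y => ?_
      let h : Y ⟶ prodEt (U j) (U k) := MorphismProperty.Over.homMk
        (pullback.lift (f ≫ ιO j).left (g ≫ ιO k).left
          ((MorphismProperty.Over.w (f ≫ ιO j)).trans (MorphismProperty.Over.w (g ≫ ιO k)).symm))
        (by
          show pullback.lift _ _ _ ≫ pullback.fst (U j).hom (U k).hom ≫ (U j).hom = Y.hom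
          rw [pullback.lift_fst_assoc]
          exact MorphismProperty.Over.w (f ≫ ιO j))
      have e1 : h ≫ p₁ (U j) (U k) = f ≫ ιO j := MorphismProperty.Over.Hom.ext (pullback.lift_fst _ _ _)
      have e2 : h ≫ p₂ (U j) (U k) = g ≫ ιO k := MorphismProperty.Over.Hom.ext (pullback.lift_snd _ _ _)
      have h1 : (p₁ (U j) (U k)).left (h.left y) ∈ O j := by
        have e := congrArg (fun φ : Y ⟶ U j => φ.left y) e1
        exact e.symm ▸ (f.left y).2
      have h2 : (p₂ (U j) (U k)).left (h.left y) ∈ O k := by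
        have e := congrArg (fun φ : Y ⟶ U k => φ.left y) e2
        exact e.symm ▸ (g.left y).2
      have := (hagree j k _ h1 h2).map h
      rw [mapP, mapP, e1, e2, ← mapP, ← mapP] at this
      exact this
    have hsurjU : ∀ x : X, ∃ (j : J) (w : (U' j).left), (U' j).hom w = x := fun x => by
      obtain ⟨w₀, hw₀, hxw₀⟩ := nonempty_inter_closure hK x
      obtain ⟨j, w, hw⟩ := hcov w₀ hw₀
      haveI : Etale (U' j).hom := (U' j).prop
      have hopen : IsOpen (Set.range (U' j).hom) := (U' j).hom.isOpenMap.isOpen_range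
      refine ⟨j, (specializes_iff_mem_closure.2 hxw₀).mem_open hopen ?_⟩
      exact ⟨⟨w, hO j w (hw ▸ hw₀)⟩, hw⟩
    have hsieve : Sieve.generate (Presieve.ofArrows U' (fun j => (EtCore.topIsTerminal X).from (U' j))) ∈
        X.smallEtaleTopology (EtCoh.top X) := by
      rw [EtFound.mem_topology_iff]
      intro x
      obtain ⟨j, w, hw⟩ := hsurjU x
      refine ⟨U' j, (EtCore.topIsTerminal X).from (U' j), w,
        ⟨U' j, 𝟙 _, (EtCore.topIsTerminal X).from (U' j), ⟨j⟩, Category.id_comp _⟩, ?_⟩
      have hm : (U' j).hom = ((EtCore.topIsTerminal X).from (U' j)).left :=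
        (MorphismProperty.Over.w ((EtCore.topIsTerminal X).from (U' j))).symm.trans (Category.comp_id _)
      rw [← hm]
      exact hw
    have hsh := (isSheaf_iff_isSheaf_of_type _ _).1
      (GrothendieckTopology.HasSheafCompose.isSheaf (F := CategoryTheory.forget AddCommGrpCat.{u + 1}) F.obj F.property)
    obtain ⟨a₀, ha₀, -⟩ := (Presieve.isSheafFor_arrows_iff _ _).1 ((Presieve.isSheafFor_iff_generate _).2
      (hsh _ hsieve)) b' (fun j k Y f g _ => hcomp j k Y f g)
    refine ⟨a₀, eq_of_aEq ((EtCoh.pull i).obj F) fun z => ?_⟩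
    have hz0 : (EtCoh.top X).hom (pr i (EtCoh.top X) z) ∈ Set.range i := by
      have := Set.mem_range_self (f := pr i (EtCoh.top X)) z
      rwa [range_pr] at this
    obtain ⟨j, w, hw⟩ := hcov _ hz0
    let w' : (U' j).left := ⟨w, hO j w (hw ▸ hz0)⟩
    let m := (EtCore.topIsTerminal X).from (U' j)
    obtain ⟨t, ht, ht'⟩ := Scheme.exists_preimage_of_isPullback (EtCoh.isPullback_bc_map i m) z w' (by
      have hm : (U' j).hom = m.left := (MorphismProperty.Over.w m).symm.trans (Category.comp_id _)
      rw [← hm]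
      exact (hw.trans (by rfl)).symm)
    rw [← ht]
    refine AEq.of_map ((EtCoh.bc i).map m) ?_
    rw [← up_map]
    have hgd := good_aEq i F s (z := ((EtCoh.bc i).map (ιO j)).left t) (V := U j) (a := b j) (by
      refine hgood j.1 _ ?_
      have := Set.mem_range_self (f := pr i (U j)) (((EtCoh.bc i).map (ιO j)).left t)
      rwa [range_pr] at this)
    have hgd' := hgd.map ((EtCoh.bc i).map (ιO j))
    rw [← up_map, map_toT] at hgd'
    have ea : F.obj.map m.op a₀ = b' j := ha₀ j
    rw [ea]
    exact hgd'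

end Groth.Agent.GabberH0
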