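import Groth.Agent.EtFound.Presentation
import Mathlib.CategoryTheory.Limits.Preserves.Filtered

/-! torsion sheaves on qcqs schemes are filtered colimits of constructible sheaves -/

universe u

open CategoryTheory CategoryTheory.Limits AlgebraicGeometry Opposite

namespace Groth.Agent.EtFound

set_option backward.isDefEq.respectTransparency.types false

variable {X : Scheme.{u}}

/-- a torsion section over an affine étale `X`-scheme -/
structure TorsGen (F : EtCoh.Ab X) : Type (u + 1) where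
  U : X.Etale
  aff : IsAffine U.left
  n : ℕ
  pos : 0 < n
  hom : EtPBC.extZeroConst U (ZMod n) ⟶ F

/-- stalks of torsion sheaves come from torsion sections over affines -/
theorem exists_torsGen {F : EtCoh.Ab X} (hF : EtCoh.IsTorsion F) {Ω : Type u} [Field Ω] [IsSepClosed Ω]
    (ξ : Spec (CommRingCat.of Ω) ⟶ X) (c : (EtCoh.stalk ξ).obj F) :
    ∃ (g : TorsGen F) (d : (EtCoh.stalk ξ).obj (EtPBC.extZeroConst g.U (ZMod g.n))), (EtCoh.stalk ξ).map g.hom d = c := by
  obtain ⟨W, w, t, rfl⟩ := (Scheme.pointSmallEtale ξ).toPresheafFiber_jointly_surjective c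
  obtain ⟨V, f, ⟨y, hy⟩, hfin⟩ := hF W t (ptOf w)
  let q : V.left ⟶ W.left := f.left
  haveI : AlgebraicGeometry.Etale q := etale_left f
  obtain ⟨v, -⟩ := Scheme.pointSmallEtaleFiberObjToPreimage_surjective (w.left : Spec (CommRingCat.of Ω) ⟶ W.left) rfl
    (@Scheme.Etale.mk _ _ q (etale_left f)) ⟨y, hy⟩
  let v₀ : (Scheme.pointSmallEtale ξ).fiber.obj V := CategoryTheory.Over.homMk (v.left : Spec (CommRingCat.of Ω) ⟶ V.left) (by
    refine (congrArg (fun r => (v.left : Spec (CommRingCat.of Ω) ⟶ V.left) ≫ r) (MorphismProperty.Over.w f).symm).trans ?_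
    refine (Category.assoc _ _ _).symm.trans ?_
    exact (congrArg (· ≫ W.hom) (CategoryTheory.Over.w v)).trans (CategoryTheory.Over.w w))
  have hv₀ : (Scheme.pointSmallEtale ξ).fiber.map f v₀ = w := CategoryTheory.Over.OverMorphism.ext (CategoryTheory.Over.w v)
  obtain ⟨A, hA, hvA, -⟩ := exists_isAffineOpen_mem_and_subset (U := (⊤ : V.left.Opens)) (x := ptOf v₀) trivial
  haveI : AlgebraicGeometry.Etale V.hom := V.prop
  let U : X.Etale := Scheme.Etale.mk (A.ι ≫ V.hom)
  let r : U ⟶ V := MorphismProperty.Over.homMk A.ι rfl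
  obtain ⟨l, hl⟩ := exists_lift_open (v₀.left : Spec (CommRingCat.of Ω) ⟶ V.left) A fun s => by
    rw [Subsingleton.elim (α := Spec (CommRingCat.of Ω)) s default]
    exact hvA
  let u₀ : (Scheme.pointSmallEtale ξ).fiber.obj U := CategoryTheory.Over.homMk (l : Spec (CommRingCat.of Ω) ⟶ A.toScheme)
    ((Category.assoc _ _ _).symm.trans ((congrArg (· ≫ V.hom) hl).trans (CategoryTheory.Over.w v₀)))
  have hu₀ : (Scheme.pointSmallEtale ξ).fiber.map r u₀ = v₀ := CategoryTheory.Over.OverMorphism.ext hl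
  let s := F.obj.map r.op (F.obj.map f.op t)
  let n := addOrderOf (F.obj.map f.op t)
  have hs : n • s = 0 := (map_nsmul (F.obj.map r.op).hom n _).symm.trans
    ((congrArg (F.obj.map r.op).hom (addOrderOf_nsmul_eq_zero _)).trans (map_zero _))
  let L : ZMod n →+ F.obj.obj (op U) := ZMod.lift n ⟨zmultiplesHom _ s, by simpa [natCast_zsmul] using hs⟩
  obtain ⟨h, hh⟩ := exists_hom_taut (M := ZMod n) (U := U) (F := F) (AddCommGrpCat.ofHom
    (L.comp (AddEquiv.ulift : ULift.{u + 1} (ZMod n) ≃+ ZMod n).toAddMonoidHom))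
  refine ⟨⟨U, hA, n, hfin.addOrderOf_pos, h⟩,
    (Scheme.pointSmallEtale ξ).toPresheafFiber U u₀ (EtPBC.extZeroConst U (ZMod n)).obj (taut U (ZMod n) ⟨1⟩), ?_⟩
  refine ((Scheme.pointSmallEtale ξ).toPresheafFiber_naturality_apply h.hom U u₀ _).trans ?_
  refine (congrArg _ (ConcreteCategory.congr_hom hh (⟨1⟩ : ULift.{u + 1} (ZMod n)))).trans ?_
  have hL : L 1 = (1 : ℤ) • s := (congrArg L (Int.cast_one (R := ZMod n)).symm).trans (ZMod.lift_coe n _ 1)
  change (Scheme.pointSmallEtale ξ).toPresheafFiber U u₀ F.obj (L 1) = _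
  rw [hL, one_zsmul, (Scheme.pointSmallEtale ξ).toPresheafFiber_w_apply, hu₀,
    (Scheme.pointSmallEtale ξ).toPresheafFiber_w_apply, hv₀]
  rfl

variable (F : EtCoh.Ab X)

/-- the sum over finitely many generators -/
noncomputable abbrev genSum (G : Finset (TorsGen F)) : EtCoh.Ab X :=
  ⨁ fun g : G => EtPBC.extZeroConst g.1.U (ZMod g.1.n)

noncomputable def genSumπ (G : Finset (TorsGen F)) : genSum F G ⟶ F :=
  biproduct.desc fun g : G => g.1.hom

noncomputable def genIncl {G G' : Finset (TorsGen F)} (h : G ⊆ G') : genSum F G ⟶ genSum F G' :=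
  biproduct.desc fun g : G => biproduct.ι (fun g : G' => EtPBC.extZeroConst g.1.U (ZMod g.1.n)) ⟨g.1, h g.2⟩

theorem genIncl_π {G G' : Finset (TorsGen F)} (h : G ⊆ G') : genIncl F h ≫ genSumπ F G' = genSumπ F G := by
  refine biproduct.hom_ext' _ _ fun g => ?_
  simp [genIncl, genSumπ]

theorem genIncl_comp {G G' G'' : Finset (TorsGen F)} (h : G ⊆ G') (h' : G' ⊆ G'') :
    genIncl F h ≫ genIncl F h' = genIncl F (h.trans h') := by
  refine biproduct.hom_ext' _ _ fun g => ?_
  simp [genIncl]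

theorem genIncl_id (G : Finset (TorsGen F)) : genIncl F (Finset.Subset.refl G) = 𝟙 _ := by
  refine biproduct.hom_ext' _ _ fun g => ?_
  simp [genIncl]

/-- a relation among generators -/
structure TorsRel : Type (u + 1) where
  G : Finset (TorsGen F)
  V : X.Etale
  aff : IsAffine V.left
  m : ℕ
  pos : 0 < m
  rel : EtPBC.extZeroConst V (ZMod m) ⟶ genSum F G
  zero : rel ≫ genSumπ F G = 0

/-- finitely many generators and relations -/
structure TorsStage : Type (u + 1) where
  gens : Finset (TorsGen F)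
  rels : Finset (TorsRel F)
  sub : ∀ r ∈ rels, r.G ⊆ gens

instance : Preorder (TorsStage F) where
  le a b := a.gens ⊆ b.gens ∧ a.rels ⊆ b.rels
  le_refl a := ⟨Finset.Subset.refl _, Finset.Subset.refl _⟩
  le_trans _ _ _ h h' := ⟨h.1.trans h'.1, h.2.trans h'.2⟩

instance : Nonempty (TorsStage F) := ⟨⟨∅, ∅, fun r hr => absurd hr (Finset.notMem_empty r)⟩⟩

instance : IsDirectedOrder (TorsStage F) := ⟨fun a b => by
  classical
  refine ⟨⟨a.gens ∪ b.gens, a.rels ∪ b.rels, fun r hr => ?_⟩, ⟨Finset.subset_union_left, Finset.subset_union_left⟩,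
    ⟨Finset.subset_union_right, Finset.subset_union_right⟩⟩
  rcases Finset.mem_union.1 hr with h | h
  · exact (a.sub r h).trans Finset.subset_union_left
  · exact (b.sub r h).trans Finset.subset_union_right⟩

variable {F}

noncomputable def TorsStage.relMap (j : TorsStage F) :
    (⨁ fun r : j.rels => EtPBC.extZeroConst r.1.V (ZMod r.1.m)) ⟶ genSum F j.gens :=
  biproduct.desc fun r : j.rels => r.1.rel ≫ genIncl F (j.sub r.1 r.2)

theorem TorsStage.rel_zero (j : TorsStage F) (r : TorsRel F) (hr : r ∈ j.rels) :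
    r.rel ≫ genIncl F (j.sub r hr) ≫ cokernel.π j.relMap = 0 := by
  refine (Category.assoc _ _ _).symm.trans ?_
  refine (congrArg (· ≫ cokernel.π j.relMap)
    (biproduct.ι_desc (fun r : j.rels => r.1.rel ≫ genIncl F (j.sub r.1 r.2)) ⟨r, hr⟩).symm).trans ?_
  exact (Category.assoc _ _ _).trans ((congrArg (_ ≫ ·) (cokernel.condition j.relMap)).trans comp_zero)

theorem TorsStage.relMap_trans {a b : TorsStage F} (h : a ≤ b) :
    a.relMap ≫ genIncl F h.1 ≫ cokernel.π b.relMap = 0 := by
  refine biproduct.hom_ext' _ _ fun r => ?_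
  rw [comp_zero]
  refine (biproduct.ι_desc_assoc (fun r : a.rels => r.1.rel ≫ genIncl F (a.sub r.1 r.2)) r _).trans ?_
  refine (Category.assoc _ _ _).trans ((congrArg (r.1.rel ≫ ·) ?_).trans (b.rel_zero r.1 (h.2 r.2)))
  exact (Category.assoc _ _ _).symm.trans (congrArg (· ≫ cokernel.π b.relMap) (genIncl_comp F _ _))

/-- the diagram of finitely presented stages -/
noncomputable def stageFunctor (F : EtCoh.Ab X) : TorsStage F ⥤ EtCoh.Ab X where
  obj j := cokernel j.relMap
  map {a b} f := cokernel.desc _ (genIncl F (leOfHom f).1 ≫ cokernel.π b.relMap) (TorsStage.relMap_trans (leOfHom f))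
  map_id a := by
    rw [← cancel_epi (cokernel.π a.relMap), cokernel.π_desc, Category.comp_id, genIncl_id, Category.id_comp]
  map_comp {a b c} f g := by
    rw [← cancel_epi (cokernel.π a.relMap), cokernel.π_desc, cokernel.π_desc_assoc, Category.assoc, cokernel.π_desc,
      ← Category.assoc, genIncl_comp]

/-- the stages map to the sheaf -/
noncomputable def stageCocone (F : EtCoh.Ab X) : Cocone (stageFunctor F) where
  pt := F
  ι :=
    { app := fun j => cokernel.desc _ (genSumπ F j.gens) (by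
        refine biproduct.hom_ext' _ _ fun r => ?_
        rw [comp_zero]
        refine (biproduct.ι_desc_assoc (fun r : j.rels => r.1.rel ≫ genIncl F (j.sub r.1 r.2)) r _).trans ?_
        exact (Category.assoc _ _ _).trans ((congrArg (r.1.rel ≫ ·) (genIncl_π F _)).trans r.1.zero))
      naturality := fun a b f => by
        refine (cancel_epi (cokernel.π a.relMap)).1 ?_
        change cokernel.π a.relMap ≫ cokernel.desc _ _ _ ≫ cokernel.desc _ _ _ = cokernel.π a.relMap ≫ cokernel.desc _ _ _ ≫ 𝟙 F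
        rw [Category.comp_id, cokernel.π_desc, cokernel.π_desc_assoc, Category.assoc, cokernel.π_desc, genIncl_π] }

/-- finitely many generators have a bounded exponent -/
theorem exists_nsmul_genSum (G : Finset (TorsGen F)) : ∃ n : ℕ, 0 < n ∧ n • 𝟙 (genSum F G) = 0 := by
  refine ⟨∏ g : G, g.1.n, Finset.prod_pos fun g _ => g.1.pos, biproduct.hom_ext' _ _ fun g => ?_⟩
  obtain ⟨d, hd⟩ := Finset.dvd_prod_of_mem (fun g : G => g.1.n) (Finset.mem_univ g)
  rw [comp_zero, Preadditive.comp_nsmul, Category.comp_id,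
    ← Category.id_comp (biproduct.ι (fun g : G => EtPBC.extZeroConst g.1.U (ZMod g.1.n)) g), ← Preadditive.nsmul_comp,
    hd, mul_nsmul, extZeroConst_nsmul g.1.U (fun m => by simp), smul_zero, zero_comp]

/-- kernels of finitely many generators are torsion -/
theorem isTorsion_kernel_genSumπ (G : Finset (TorsGen F)) : EtCoh.IsTorsion (kernel (genSumπ F G)) := by
  obtain ⟨n, hn, h⟩ := exists_nsmul_genSum G
  intro W s x
  exact ⟨W, 𝟙 W, ⟨x, rfl⟩, isOfFinAddOrder_iff_nsmul_eq_zero.2 ⟨n, hn, by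
    rw [op_id, CategoryTheory.Functor.map_id]
    exact (killedBy_iff_nsmul n _).2 (nsmul_of_mono (kernel.ι (genSumπ F G)) h) W s⟩⟩

theorem isConstructible_stage [CompactSpace X] [QuasiSeparatedSpace X] (j : TorsStage F) :
    EtPBC.IsConstructible ((stageFunctor F).obj j) := by
  have hsum : ∀ {ι : Type (u + 1)} [Fintype ι] (U : ι → X.Etale) (n : ι → ℕ),
      (∀ i, IsAffine (U i).left ∧ 0 < n i) → EtPBC.IsConstructible (⨁ fun i => EtPBC.extZeroConst (U i) (ZMod (n i))) := by
    intro ι _ U n h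
    let e := Fintype.equivFin ι
    refine isConstructible_of_iso (biproduct.whiskerEquiv e.symm fun i => Iso.refl _) (isConstructible_biproduct _ fun i => ?_)
    haveI := (h (e.symm i)).1
    haveI : NeZero (n (e.symm i)) := ⟨(h (e.symm i)).2.ne'⟩
    exact S0133.result X (U (e.symm i)) (ZMod (n (e.symm i)))
  exact isConstructible_cokernel _ (hsum _ _ fun r : j.rels => ⟨r.1.aff, r.1.pos⟩)
    (hsum _ _ fun g : j.gens => ⟨g.1.aff, g.1.pos⟩)

/-- adding a relation kills a prescribed stalk element -/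
theorem exists_stage_kill (j : TorsStage F) {Ω : Type u} [Field Ω] [IsSepClosed Ω]
    (ξ : Spec (CommRingCat.of Ω) ⟶ X) (b : (EtCoh.stalk ξ).obj ((stageFunctor F).obj j))
    (hb : (EtCoh.stalk ξ).map ((stageCocone F).ι.app j) b = 0) :
    ∃ (k : TorsStage F) (f : j ⟶ k), k.gens = j.gens ∧ (EtCoh.stalk ξ).map ((stageFunctor F).map f) b = 0 := by
  classical
  obtain ⟨e, rfl⟩ := (epi_iff_stalks (cokernel.π j.relMap)).1 inferInstance Ω ξ b
  have he : (EtCoh.stalk ξ).map (genSumπ F j.gens) e = 0 := by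
    refine Eq.trans ?_ hb
    refine Eq.trans ?_ (ConcreteCategory.comp_apply ((EtCoh.stalk ξ).map (cokernel.π j.relMap))
      ((EtCoh.stalk ξ).map ((stageCocone F).ι.app j)) e)
    rw [← Functor.map_comp]
    exact ConcreteCategory.congr_hom (congrArg (EtCoh.stalk ξ).map (cokernel.π_desc _ _ _).symm) e
  obtain ⟨e', he'⟩ := (ShortComplex.ab_exact_iff _).1
    ((ShortComplex.exact_of_f_is_kernel (ShortComplex.mk (kernel.ι (genSumπ F j.gens)) (genSumπ F j.gens) (kernel.condition _))
      (kernelIsKernel _)).map (EtCoh.stalk ξ)) e he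
  obtain ⟨g, d, hd⟩ := exists_torsGen (isTorsion_kernel_genSumπ j.gens) ξ e'
  let r : TorsRel F := ⟨j.gens, g.U, g.aff, g.n, g.pos, g.hom ≫ kernel.ι (genSumπ F j.gens), by
    rw [Category.assoc, kernel.condition, comp_zero]⟩
  let k : TorsStage F := ⟨j.gens, insert r j.rels, fun r' hr' => (Finset.mem_insert.1 hr').elim
    (fun h => h ▸ Finset.Subset.refl _) (j.sub r')⟩
  have hjk : j ≤ k := ⟨Finset.Subset.refl _, Finset.subset_insert _ _⟩
  refine ⟨k, homOfLE hjk, rfl, ?_⟩
  have h0 := k.rel_zero r (Finset.mem_insert_self _ _)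
  change (EtCoh.stalk ξ).map (cokernel.desc _ _ _) ((EtCoh.stalk ξ).map (cokernel.π j.relMap) e) = 0
  rw [← ConcreteCategory.comp_apply, ← Functor.map_comp, cokernel.π_desc, ← he']
  change (EtCoh.stalk ξ).map _ ((EtCoh.stalk ξ).map (kernel.ι (genSumπ F j.gens)) e') = 0
  rw [← hd, ← ConcreteCategory.comp_apply, ← ConcreteCategory.comp_apply, ← Functor.map_comp, ← Functor.map_comp,
    ← Category.assoc]
  refine (ConcreteCategory.congr_hom (congrArg (EtCoh.stalk ξ).map h0) d).trans ?_
  rw [Functor.map_zero]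
  rfl

/-- torsion sheaves are the colimit of their stages -/
theorem nonempty_isColimit_stageCocone (hF : EtCoh.IsTorsion F) : Nonempty (IsColimit (stageCocone F)) := by
  classical
  let c := colimit.cocone (stageFunctor F)
  let φ : c.pt ⟶ F := colimit.desc _ (stageCocone F)
  have hφ : ∀ j, c.ι.app j ≫ φ = (stageCocone F).ι.app j := fun j => colimit.ι_desc _ _
  haveI : IsIso φ := (isIso_iff_stalks φ).2 fun Ω _ _ ξ => by
    haveI : (EtCoh.stalk ξ).IsLeftAdjoint := (Scheme.pointSmallEtale ξ).skyscraperSheafAdjunction.isLeftAdjoint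
    have hc := isColimitOfPreserves (EtCoh.stalk ξ ⋙ forget AddCommGrpCat.{u + 1}) (colimit.isColimit (stageFunctor F))
    rw [ConcreteCategory.isIso_iff_bijective]
    refine ⟨(injective_iff_map_eq_zero _).2 fun a ha => ?_, fun y => ?_⟩
    · obtain ⟨j, b, rfl⟩ := Types.jointly_surjective _ hc a
      change (EtCoh.stalk ξ).map φ ((EtCoh.stalk ξ).map (c.ι.app j) b) = 0 at ha
      rw [← ConcreteCategory.comp_apply, ← Functor.map_comp, hφ] at ha
      obtain ⟨k, f, -, hk⟩ := exists_stage_kill j ξ b ha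
      show (EtCoh.stalk ξ).map (c.ι.app j) b = 0
      rw [← c.w f, Functor.map_comp, ConcreteCategory.comp_apply, hk]
      exact map_zero _
    · obtain ⟨g, d, rfl⟩ := exists_torsGen hF ξ y
      let j : TorsStage F := ⟨{g}, ∅, fun r hr => absurd hr (Finset.notMem_empty r)⟩
      refine ⟨(EtCoh.stalk ξ).map (biproduct.ι (fun g : j.gens => EtPBC.extZeroConst g.1.U (ZMod g.1.n))
        ⟨g, Finset.mem_singleton_self g⟩ ≫ cokernel.π j.relMap ≫ c.ι.app j) d, ?_⟩
      rw [← ConcreteCategory.comp_apply, ← Functor.map_comp, Category.assoc]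
      exact ConcreteCategory.congr_hom (congrArg (EtCoh.stalk ξ).map
        ((congrArg (biproduct.ι (fun g : j.gens => EtPBC.extZeroConst g.1.U (ZMod g.1.n)) ⟨g, Finset.mem_singleton_self g⟩ ≫ ·)
          ((Category.assoc _ _ _).trans ((congrArg (cokernel.π j.relMap ≫ ·) (hφ j)).trans (cokernel.π_desc _ _ _)))).trans
          (biproduct.ι_desc _ _))) d
  exact ⟨(colimit.isColimit _).ofIsoColimit (Cocone.ext (@asIso _ _ _ _ φ this) fun j => hφ j)⟩

end Groth.Agent.EtFound
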