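import Groth.Agent.EtFound.TorsionCoh
import Groth.Agent.EtFound.ExtZeroExact
import Groth.Agent.EtFound.ConstStalk
import Groth.Agent.EtFound.JContGen
import Groth.Prelude.Def_EtCore

/-! multiplication by positive integers on free sheaves is injective -/

universe u

open CategoryTheory CategoryTheory.Limits AlgebraicGeometry Opposite

namespace Groth.Agent.EtFound

set_option backward.isDefEq.respectTransparency.types false

variable {X : Scheme.{u}}

/-- multiplication by `n > 0` on the constant sheaf `ℤ` is injective -/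
theorem mono_nsmul_constZ (X : Scheme.{u}) {n : ℕ} (hn : 0 < n) :
    Mono (n • 𝟙 ((constantSheaf X.smallEtaleTopology AddCommGrpCat.{u + 1}).obj (AddCommGrpCat.of (ULift.{u + 1} ℤ)))) := by
  refine (mono_iff_stalks _).2 fun Ω _ _ ξ => (injective_iff_map_eq_zero _).2 fun c hc => ?_
  let P := (constantSheaf X.smallEtaleTopology AddCommGrpCat.{u + 1}).obj (AddCommGrpCat.of (ULift.{u + 1} ℤ))
  obtain ⟨v, -⟩ := Scheme.pointSmallEtaleFiberObjToPreimage_surjective ξ rfl (EtCoh.top X)
    ⟨ξ.base (default : Spec (CommRingCat.of Ω)), rfl⟩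
  have hb := toSheafify_const_germ_bijective ξ AddCommGrpCat.{u + 1}
    (AddCommGrpCat.of (ULift.{u + 1} ℤ)) (EtCoh.top X) v
  obtain ⟨m, rfl⟩ := hb.2 c
  let Γ := (((toSheafify X.smallEtaleTopology ((Functor.const X.Etaleᵒᵖ).obj (AddCommGrpCat.of (ULift.{u + 1} ℤ)))).app
    (op (EtCoh.top X))) ≫ (Scheme.pointSmallEtale ξ).toPresheafFiber (EtCoh.top X) v P.obj).hom
  have h1 : (EtCoh.stalk ξ).map (n • 𝟙 P) (Γ m) = n • Γ m := by
    refine ((Scheme.pointSmallEtale ξ).toPresheafFiber_naturality_apply (n • 𝟙 P).hom _ v _).trans ?_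
    refine (congrArg _ (nsmul_hom_app (𝟙 P) n _ _)).trans ?_
    exact map_nsmul ((Scheme.pointSmallEtale ξ).toPresheafFiber (EtCoh.top X) v P.obj).hom n _
  have h2 : Γ (n • m) = Γ 0 := by
    rw [map_nsmul, map_zero, ← h1]
    exact hc
  have h3 : n • m = 0 := hb.1 h2
  have h4 : m.down = 0 := by
    have := congrArg ULift.down h3
    change n • m.down = 0 at this
    rw [nsmul_eq_mul] at this
    simpa [hn.ne'] using this
  rw [show m = 0 from ULift.ext _ _ h4]
  exact map_zero Γ

/-- multiplication by `n > 0` on free sheaves is injective -/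
theorem mono_nsmul_freeOn (U : X.Etale) {n : ℕ} (hn : 0 < n) : Mono (n • 𝟙 (freeOn U)) := by
  haveI : AlgebraicGeometry.Etale U.hom := U.prop
  haveI : EtShriek.JCont U.hom := jCont U.hom
  let J := U.left.smallEtaleTopology
  let C : EtCoh.Ab U.left := (constantSheaf J AddCommGrpCat.{u + 1}).obj (AddCommGrpCat.of (ULift.{u + 1} ℤ))
  let i : (EtShriek.compEtale U.hom).obj (EtCoh.top U.left) ≅ U :=
    MorphismProperty.Over.isoMk (Iso.refl _) rfl
  let e := (Adjunction.leftAdjointUniq (constShriekAdj U)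
    (((constantSheafAdj J AddCommGrpCat.{u + 1} (EtCore.topIsTerminal U.left)).comp
      (EtShriek.extZeroAdj U.hom)).ofNatIsoRight (NatIso.ofComponents
        (fun G => (G.obj.mapIso i.op).symm) fun {G G'} a => by
          exact (a.hom.naturality i.inv.op).symm))).app (AddCommGrpCat.of (ULift.{u + 1} ℤ))
  haveI := extZero_preservesFiniteLimits U.hom
  haveI : (EtShriek.extZero U.hom).IsLeftAdjoint := (EtShriek.extZeroAdj U.hom).isLeftAdjoint
  haveI := preservesBinaryBiproducts_of_preservesBinaryCoproducts (EtShriek.extZero U.hom)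
  haveI : (EtShriek.extZero U.hom).Additive := Functor.additive_of_preservesBinaryBiproducts _
  haveI : Mono (n • 𝟙 C) := mono_nsmul_constZ U.left hn
  have h : n • 𝟙 (freeOn U) = e.hom ≫ (EtShriek.extZero U.hom).map (n • 𝟙 C) ≫ e.inv := by
    refine Eq.trans ?_ (congrArg (fun t => e.hom ≫ t ≫ e.inv)
      ((Functor.map_nsmul (EtShriek.extZero U.hom)).trans (congrArg (n • ·) ((EtShriek.extZero U.hom).map_id C))).symm)
    refine Eq.trans ?_ ((congrArg (e.hom ≫ ·) ((Preadditive.nsmul_comp (𝟙 _) e.inv n).trans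
      (congrArg (n • ·) (Category.id_comp e.inv)))).trans (Preadditive.comp_nsmul e.hom e.inv n)).symm
    exact congrArg (n • ·) e.hom_inv_id.symm
  rw [h]
  infer_instance

end Groth.Agent.EtFound
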