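import Groth.Prelude.Def_EtShriek2
import Groth.Prelude.Def_EtBase
import Mathlib.CategoryTheory.Adjunction.Mates
import Mathlib.CategoryTheory.Adjunction.Basic

/-! extension by zero commutes with inverse images -/

universe u

open CategoryTheory CategoryTheory.Limits AlgebraicGeometry Opposite

namespace Groth.Agent.EtFound

set_option backward.isDefEq.respectTransparency.types false

variable {V' V Y X : Scheme.{u}} (j : V ⟶ X) [AlgebraicGeometry.Etale j]
  (f : Y ⟶ X) (j' : V' ⟶ Y) [AlgebraicGeometry.Etale j'] (f' : V' ⟶ V) (h : IsPullback j' f' f j)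

include h in
theorem isPullback_bc_compEtale (W : V.Etale) :
    IsPullback (pullback.fst W.hom f') (pullback.snd W.hom f' ≫ j') (W.hom ≫ j) f :=
  (IsPullback.of_hasPullback W.hom f').paste_vert h.flip

noncomputable def bcCompEtaleIso : EtCoh.bc f' ⋙ EtShriek.compEtale j' ≅ EtShriek.compEtale j ⋙ EtCoh.bc f :=
  NatIso.ofComponents (fun W => MorphismProperty.Over.isoMk (isPullback_bc_compEtale j f j' f' h W).isoPullback
    ((isPullback_bc_compEtale j f j' f' h W).isoPullback_hom_snd)) fun {W W'} g => by
      apply MorphismProperty.Over.Hom.ext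
      change ((EtCoh.bc f').map g).left ≫ _ = _ ≫ ((EtCoh.bc f).map ((EtShriek.compEtale j).map g)).left
      have hW := isPullback_bc_compEtale j f j' f' h W
      have hW' := isPullback_bc_compEtale j f j' f' h W'
      apply pullback.hom_ext
      · refine (Category.assoc _ _ _).trans ((congrArg (_ ≫ ·) hW'.isoPullback_hom_fst).trans ?_)
        refine Eq.trans ?_ (Category.assoc _ _ _).symm
        refine (EtCoh.isPullback_bc_map f' g).w.trans ?_
        refine Eq.trans ?_ (congrArg (hW.isoPullback.hom ≫ ·) (EtCoh.isPullback_bc_map f ((EtShriek.compEtale j).map g)).w).symm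
        exact (congrArg (· ≫ g.left) hW.isoPullback_hom_fst.symm).trans (Category.assoc _ _ _)
      · refine (Category.assoc _ _ _).trans ((congrArg (_ ≫ ·) hW'.isoPullback_hom_snd).trans ?_)
        refine Eq.trans ?_ (Category.assoc _ _ _).symm
        refine Eq.trans ?_ (congrArg (hW.isoPullback.hom ≫ ·) (MorphismProperty.Over.w ((EtCoh.bc f).map ((EtShriek.compEtale j).map g)))).symm
        refine Eq.trans ?_ hW.isoPullback_hom_snd.symm
        exact (Category.assoc _ _ _).symm.trans (congrArg (· ≫ j') (MorphismProperty.Over.w ((EtCoh.bc f').map g)))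

variable [EtShriek.JCont j] [EtShriek.JCont j']

include h in
/-- `f^{-1} j_! ≅ j'_! f'^{-1}` -/
theorem nonempty_pull_extZero_iso [EtCoh.BCCont f] [EtCoh.BCCont f'] :
    Nonempty (EtCoh.pull f' ⋙ EtShriek.extZero j' ≅ EtShriek.extZero j ⋙ EtCoh.pull f) := by
  let e : EtShriek.restrAlong j' ⋙ EtCoh.push f' ≅ EtCoh.push f ⋙ EtShriek.restrAlong j :=
    NatIso.ofComponents (fun G => (fullyFaithfulSheafToPresheaf _ _).preimageIso
      (Functor.isoWhiskerRight (NatIso.op (bcCompEtaleIso j f j' f' h).symm) G.obj)) fun {G G'} a =>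
        Sheaf.hom_ext (NatTrans.ext (funext fun W => (a.hom.naturality _).symm))
  exact ⟨(conjugateIsoEquiv ((EtShriek.extZeroAdj j).comp (EtCoh.pullPushAdj f))
    ((EtCoh.pullPushAdj f').comp (EtShriek.extZeroAdj j'))).symm e.symm⟩

end Groth.Agent.EtFound
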