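import Groth.Agent.EtFound.AbRecollement
import Groth.Agent.EtFound.PullExt
import Groth.Agent.EtFound.EdgeVanish
import Groth.Prelude.Def_EtDual
import Mathlib.Algebra.Homology.ShortComplex.SnakeLemma
import Mathlib.Algebra.Homology.ShortComplex.ExactFunctor

/-! sections with support and local cohomology sheaves -/

universe u

open CategoryTheory CategoryTheory.Limits AlgebraicGeometry Opposite

namespace Groth.Agent.EtFound

open Groth.Agent.EtMVLib

set_option backward.isDefEq.respectTransparency.types false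

variable {X U : Scheme.{u}} (j : U ⟶ X)

/-- `j_* j⁻¹` -/
noncomputable abbrev pushPull : EtCoh.Ab X ⥤ EtCoh.Ab X := EtCoh.pull j ⋙ EtCoh.push j

variable {S : ShortComplex (EtCoh.Ab X)}

theorem pushPull_left_exact (hS : S.ShortExact) :
    (S.map (pushPull j)).Exact ∧ Mono (S.map (pushPull j)).f := by
  haveI := pull_preservesFiniteLimits j
  haveI : PreservesLimitsOfSize.{0, 0} (EtCoh.push j) := (EtCoh.pullPushAdj j).rightAdjoint_preservesLimits
  haveI : PreservesFiniteLimits (EtCoh.push j) := PreservesLimitsOfSize.preservesFiniteLimits _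
  have h := hS.map_of_exact (EtCoh.pull j)
  haveI := h.mono_f
  exact ⟨h.exact.map_of_mono_of_preservesKernel (EtCoh.push j) inferInstance inferInstance,
    inferInstanceAs (Mono ((EtCoh.push j).map (S.map (EtCoh.pull j)).f))⟩

/-- the snake diagram of the unit on a short exact sequence -/
noncomputable def suppSnake (hS : S.ShortExact) : ShortComplex.SnakeInput (EtCoh.Ab X) where
  L₀ := S.map (EtDual.secSupp j)
  L₁ := S
  L₂ := S.map (pushPull j)
  L₃ := ShortComplex.mk
    (cokernel.map (EtDual.unitApp j S.X₁) (EtDual.unitApp j S.X₂) S.f ((pushPull j).map S.f)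
      ((EtCoh.pullPushAdj j).unit.naturality S.f).symm)
    (cokernel.map (EtDual.unitApp j S.X₂) (EtDual.unitApp j S.X₃) S.g ((pushPull j).map S.g)
      ((EtCoh.pullPushAdj j).unit.naturality S.g).symm)
    (by rw [← cancel_epi (cokernel.π _), cokernel.π_desc_assoc, Category.assoc, cokernel.π_desc, ← Category.assoc,
      ← Functor.map_comp, S.zero, Functor.map_zero, zero_comp, comp_zero])
  v₀₁ :=
    { τ₁ := kernel.ι _
      τ₂ := kernel.ι _
      τ₃ := kernel.ι _
      comm₁₂ := (kernel.lift_ι _ _ _).symm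
      comm₂₃ := (kernel.lift_ι _ _ _).symm }
  v₁₂ :=
    { τ₁ := EtDual.unitApp j S.X₁
      τ₂ := EtDual.unitApp j S.X₂
      τ₃ := EtDual.unitApp j S.X₃
      comm₁₂ := ((EtCoh.pullPushAdj j).unit.naturality S.f).symm
      comm₂₃ := ((EtCoh.pullPushAdj j).unit.naturality S.g).symm }
  v₂₃ :=
    { τ₁ := cokernel.π _
      τ₂ := cokernel.π _
      τ₃ := cokernel.π _
      comm₁₂ := cokernel.π_desc _ _ _
      comm₂₃ := cokernel.π_desc _ _ _ }
  w₀₂ := by
    apply ShortComplex.hom_ext <;> exact kernel.condition _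
  w₁₃ := by
    apply ShortComplex.hom_ext <;> exact cokernel.condition _
  h₀ := ShortComplex.isLimitOfIsLimitπ _
    ((KernelFork.isLimitMapConeEquiv _ ShortComplex.π₁).symm (kernelIsKernel _))
    ((KernelFork.isLimitMapConeEquiv _ ShortComplex.π₂).symm (kernelIsKernel _))
    ((KernelFork.isLimitMapConeEquiv _ ShortComplex.π₃).symm (kernelIsKernel _))
  h₃ := ShortComplex.isColimitOfIsColimitπ _
    ((CokernelCofork.isColimitMapCoconeEquiv _ ShortComplex.π₁).symm (cokernelIsCokernel _))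
    ((CokernelCofork.isColimitMapCoconeEquiv _ ShortComplex.π₂).symm (cokernelIsCokernel _))
    ((CokernelCofork.isColimitMapCoconeEquiv _ ShortComplex.π₃).symm (cokernelIsCokernel _))
  L₁_exact := hS.exact
  epi_L₁_g := hS.epi_g
  L₂_exact := (pushPull_left_exact j hS).1
  mono_L₂_f := (pushPull_left_exact j hS).2

theorem secSupp_preservesFiniteLimits : PreservesFiniteLimits (EtDual.secSupp j) := by
  refine ((EtDual.secSupp j).preservesFiniteLimits_tfae.out 0 3).1 fun S hS => ?_
  haveI := hS.mono_f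
  haveI : Mono (suppSnake j hS).L₁.f := hS.mono_f
  exact ⟨(suppSnake j hS).L₀_exact, (suppSnake j hS).mono_L₀_f⟩

variable [IsOpenImmersion j]

/-- `j_!` is left adjoint to `j⁻¹` -/
noncomputable def shriekPullAdj :
    haveI := jCont j
    EtShriek.extZero j ⊣ EtCoh.pull j :=
  haveI := jCont j
  (EtShriek.extZeroAdj j).ofNatIsoRight (restrPullIso j)

theorem injective_pull_open (I : EtCoh.Ab X) [Injective I] : Injective ((EtCoh.pull j).obj I) := by
  haveI := jCont j
  haveI := preservesMono_extZero_etale j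
  exact Injective.injective_of_adjoint (shriekPullAdj j) I

theorem mono_shriek_counit (A : EtCoh.Ab X) :
    haveI := jCont j
    Mono ((shriekPullAdj j).counit.app A) := by
  haveI := jCont j
  haveI : Mono ((EtShriek.extZeroAdj j).counit.app A) := by
    refine (mono_iff_stalks _).2 fun Ω _ _ ξ => ?_
    by_cases h : ξ.base (default : Spec (CommRingCat.of Ω)) ∈ Set.range j.base
    · exact ((ConcreteCategory.isIso_iff_bijective _).1
        (isIso_stalk_of_lift j _ ξ h fun k _ _ z => isIso_counit_stalk j z A)).1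
    · exact fun a b _ => @Subsingleton.elim _ (AddCommGrpCat.subsingleton_of_isZero (isZero_stalk_extZero j ξ h _)) a b
  have : (shriekPullAdj j).counit.app A =
      (EtShriek.extZero j).map ((restrPullIso j).inv.app A) ≫ (EtShriek.extZeroAdj j).counit.app A := by
    simp [shriekPullAdj]
  rw [this]
  infer_instance

/-- injective sheaves are flabby: the unit is an epimorphism -/
theorem epi_unit_injective (I : EtCoh.Ab X) [Injective I] : Epi ((EtCoh.pullPushAdj j).unit.app I) := by
  haveI := jCont j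
  let A := (EtCoh.push j).obj ((EtCoh.pull j).obj I)
  haveI := mono_shriek_counit j A
  let adj := EtCoh.pullPushAdj j
  let adj' := shriekPullAdj j
  let h' := adj.counit.app ((EtCoh.pull j).obj I)
  let a := Injective.factorThru ((adj'.homEquiv _ _).symm h') (adj'.counit.app A)
  have ha : adj'.counit.app A ≫ a = (adj'.homEquiv _ _).symm h' := Injective.comp_factorThru _ _
  have h1 : (EtCoh.pull j).map a = h' := by
    apply (adj'.homEquiv _ _).symm.injective
    refine Eq.trans ?_ ha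
    exact (adj'.homEquiv_counit _ _ _).trans (adj'.counit.naturality a)
  have h2 : a ≫ adj.unit.app I = 𝟙 A := by
    refine (adj.unit.naturality a).trans ?_
    simp only [Functor.comp_map]
    rw [h1]
    exact adj.right_triangle_components _
  exact (SplitEpi.mk a h2).epi

variable (S)

theorem nonempty_cokernel_iso_locCoh_one (hS : S.ShortExact) [Injective S.X₂] :
    Nonempty (cokernel (EtDual.unitApp j S.X₁) ≅ (EtDual.locCoh j 1).obj S.X₁) := by
  haveI := secSupp_preservesFiniteLimits j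
  let Sn := suppSnake j hS
  haveI := epi_unit_injective j S.X₂
  have hzero : IsZero Sn.L₃.X₂ := isZero_cokernel_of_epi (EtDual.unitApp j S.X₂)
  haveI : Epi Sn.δ := Sn.epi_δ hzero
  haveI : Epi Sn.L₁'.g := ‹Epi Sn.δ›
  let e₁ : cokernel ((EtDual.secSupp j).map S.g) ≅ cokernel (EtDual.unitApp j S.X₁) :=
    (cokernelIsCokernel _).coconePointUniqueUpToIso Sn.L₁'_exact.gIsCokernel
  let Δ := SESResLib.derivedLES (EtDual.secSupp j)
  let T := ShortComplex.mk _ _ (Δ.comp_δ S hS 0 1 rfl)
  haveI : Epi T.g := (Δ.exact₁ S hS 0 1 rfl).epi_f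
    (((EtDual.secSupp j).isZero_rightDerived_obj_injective_succ 0 S.X₂).eq_of_tgt _ _)
  let e₂ : cokernel (((EtDual.secSupp j).rightDerived 0).map S.g) ≅ (EtDual.locCoh j 1).obj S.X₁ :=
    (cokernelIsCokernel _).coconePointUniqueUpToIso (Δ.exact₃ S hS 0 1 rfl).gIsCokernel
  let e₃ : cokernel (((EtDual.secSupp j).rightDerived 0).map S.g) ≅ cokernel ((EtDual.secSupp j).map S.g) :=
    cokernel.mapIso _ _ ((EtDual.secSupp j).rightDerivedZeroIsoSelf.app _)
      ((EtDual.secSupp j).rightDerivedZeroIsoSelf.app _) ((EtDual.secSupp j).rightDerivedZeroIsoSelf.hom.naturality S.g)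
  exact ⟨e₁.symm ≪≫ e₃.symm ≪≫ e₂⟩

theorem nonempty_locCoh_iso_succ (hS : S.ShortExact) [Injective S.X₂] (q : ℕ) :
    Nonempty ((EtDual.locCoh j (q + 1)).obj S.X₃ ≅ (EtDual.locCoh j (q + 2)).obj S.X₁) := by
  let F := EtDual.secSupp j
  let Δ := SESResLib.derivedLES F
  have he : Epi (Δ.δ S hS (q + 1) (q + 2) rfl) := (Δ.exact₁ S hS (q + 1) (q + 2) rfl).epi_f
    ((F.isZero_rightDerived_obj_injective_succ (q + 1) S.X₂).eq_of_tgt _ _)
  have hm : Mono (Δ.δ S hS (q + 1) (q + 2) rfl) := (Δ.exact₃ S hS (q + 1) (q + 2) rfl).mono_g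
    ((F.isZero_rightDerived_obj_injective_succ q S.X₂).eq_of_src _ _)
  exact ⟨@asIso _ _ _ _ (Δ.δ S hS (q + 1) (q + 2) rfl) (@isIso_of_mono_of_epi _ _ _ _ _ _ hm he)⟩

theorem nonempty_cokernel_iso_Rpush_one (hS : S.ShortExact) [Injective S.X₂] :
    Nonempty (cokernel (EtDual.unitApp j S.X₃) ≅ (EtCoh.Rpush j 1).obj ((EtCoh.pull j).obj S.X₁)) := by
  haveI := pull_preservesFiniteLimits j
  haveI : PreservesLimitsOfSize.{0, 0} (EtCoh.push j) := (EtCoh.pullPushAdj j).rightAdjoint_preservesLimits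
  haveI : PreservesFiniteLimits (EtCoh.push j) := PreservesLimitsOfSize.preservesFiniteLimits _
  have hP := hS.map_of_exact (EtCoh.pull j)
  haveI : Injective (S.map (EtCoh.pull j)).X₂ := injective_pull_open j S.X₂
  let Δ := SESResLib.derivedLES (EtCoh.push j)
  let g := (EtCoh.pull j).map S.g
  let T := ShortComplex.mk _ _ (Δ.comp_δ _ hP 0 1 rfl)
  haveI : Epi T.g := (Δ.exact₁ _ hP 0 1 rfl).epi_f
    (((EtCoh.push j).isZero_rightDerived_obj_injective_succ 0 (S.map (EtCoh.pull j)).X₂).eq_of_tgt _ _)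
  let e₂ : cokernel (((EtCoh.push j).rightDerived 0).map g) ≅
      (EtCoh.Rpush j 1).obj ((EtCoh.pull j).obj S.X₁) :=
    (cokernelIsCokernel _).coconePointUniqueUpToIso (Δ.exact₃ _ hP 0 1 rfl).gIsCokernel
  let e₃ : cokernel (((EtCoh.push j).rightDerived 0).map g) ≅ cokernel ((EtCoh.push j).map g) :=
    cokernel.mapIso _ _ ((EtCoh.push j).rightDerivedZeroIsoSelf.app _)
      ((EtCoh.push j).rightDerivedZeroIsoSelf.app _) ((EtCoh.push j).rightDerivedZeroIsoSelf.hom.naturality g)
  haveI := hS.epi_g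
  haveI := epi_unit_injective j S.X₂
  have hn : S.g ≫ EtDual.unitApp j S.X₃ = EtDual.unitApp j S.X₂ ≫ (EtCoh.push j).map g :=
    (EtCoh.pullPushAdj j).unit.naturality S.g
  let e₄ : cokernel (EtDual.unitApp j S.X₃) ≅ cokernel ((EtCoh.push j).map g) :=
    (cokernelEpiComp S.g (EtDual.unitApp j S.X₃)).symm ≪≫ cokernelIsoOfEq hn ≪≫
      cokernelEpiComp (EtDual.unitApp j S.X₂) ((EtCoh.push j).map g)
  exact ⟨e₄ ≪≫ e₃.symm ≪≫ e₂⟩

theorem nonempty_Rpush_iso_succ (hS : S.ShortExact) [Injective S.X₂] (q : ℕ) :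
    Nonempty ((EtCoh.Rpush j (q + 1)).obj ((EtCoh.pull j).obj S.X₃) ≅
      (EtCoh.Rpush j (q + 2)).obj ((EtCoh.pull j).obj S.X₁)) := by
  haveI := pull_preservesFiniteLimits j
  have hP := hS.map_of_exact (EtCoh.pull j)
  haveI : Injective (S.map (EtCoh.pull j)).X₂ := injective_pull_open j S.X₂
  let F := EtCoh.push j
  let Δ := SESResLib.derivedLES F
  have he : Epi (Δ.δ _ hP (q + 1) (q + 2) rfl) := (Δ.exact₁ _ hP (q + 1) (q + 2) rfl).epi_f
    ((F.isZero_rightDerived_obj_injective_succ (q + 1) (S.map (EtCoh.pull j)).X₂).eq_of_tgt _ _)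
  have hm : Mono (Δ.δ _ hP (q + 1) (q + 2) rfl) := (Δ.exact₃ _ hP (q + 1) (q + 2) rfl).mono_g
    ((F.isZero_rightDerived_obj_injective_succ q (S.map (EtCoh.pull j)).X₂).eq_of_src _ _)
  exact ⟨@asIso _ _ _ _ (Δ.δ _ hP (q + 1) (q + 2) rfl) (@isIso_of_mono_of_epi _ _ _ _ _ _ hm he)⟩

end Groth.Agent.EtFound
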