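import Groth.Agent.EtFound.AcyclicComp
import Groth.Agent.EtFound.StrictMap
import Groth.Agent.Hensel.Henselization

/-! composition of morphisms acyclic on strict localizations -/

universe u

open CategoryTheory CategoryTheory.Limits AlgebraicGeometry Opposite IsLocalRing

namespace Groth.Agent.EtFound

set_option maxHeartbeats 800000

variable {X Y Z : Scheme.{u}} (g : X ⟶ Y) (h : Y ⟶ Z)

theorem stalkMap_comp_hom (x : X) :
    ((g ≫ h).stalkMap x).hom = ((g.stalkMap x).hom.comp (h.stalkMap (g.base x)).hom) := by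
  rw [Scheme.Hom.stalkMap_comp]
  rfl

theorem onStrictLocalizations_comp_iff (hg : Function.Surjective g.base)
    (P : ∀ ⦃X' Y' : Scheme.{u}⦄, (X' ⟶ Y') → Prop)
    (hP : ∀ {A B C : Scheme.{u}} (a : A ⟶ B) (b : B ⟶ C), P a → (P b ↔ P (a ≫ b)))
    (H : EtAcyc.OnStrictLocalizations g P) :
    EtAcyc.OnStrictLocalizations h P ↔ EtAcyc.OnStrictLocalizations (g ≫ h) P := by
  have hcomp : ∀ {R S T : Type u} [CommRing R] [CommRing S] [CommRing T] (χ : R →+* S) (ψ : S →+* T),
      Spec.map (CommRingCat.ofHom ψ) ≫ Spec.map (CommRingCat.ofHom χ) = Spec.map (CommRingCat.ofHom (ψ.comp χ)) := by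
    intro R S T _ _ _ χ ψ
    rw [← Spec.map_comp]
    rfl
  constructor
  · intro Hh x RZ RX _ _ _ _ iZ iZl iZs iX iXl iXs iA iAl hc
    let R₁ := Z.presheaf.stalk (h.base (g.base x))
    let R₂ := Y.presheaf.stalk (g.base x)
    letI algZ : Algebra R₁ RZ := iZ
    haveI locZ : IsLocalHom (algebraMap R₁ RZ) := iZl
    haveI strZ : Hensel.IsStrictHenselization R₁ RZ := iZs
    let f : R₁ →+* R₂ := (h.stalkMap (g.base x)).hom
    let f' : R₂ →+* X.presheaf.stalk x := (g.stalkMap x).hom
    haveI : IsLocalHom f := inferInstanceAs (IsLocalHom (h.stalkMap (g.base x)).hom)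
    haveI : IsLocalHom f' := inferInstanceAs (IsLocalHom (g.stalkMap x).hom)
    haveI : HenselianLocalRing RX := Hensel.IsStrictHenselization.henselian (X.presheaf.stalk x)
    let RY := Hensel.StrictHenz R₂
    obtain ⟨ψ, hψl, hψ⟩ := exists_strictMap RY RX f'
    have hφ : (algebraMap RZ RX).comp (algebraMap R₁ RZ) =
        (algebraMap (X.presheaf.stalk x) RX).comp (f'.comp f) :=
      hc.trans (congrArg _ (stalkMap_comp_hom g h x))
    obtain ⟨χ, hχl, hχ, hψχ⟩ := exists_strictFactor RZ RY RX f f' (algebraMap RZ RX) hφ ψ hψ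
    have hbX : P (Spec.map (CommRingCat.ofHom ψ)) := by
      letI := ψ.toAlgebra
      haveI : IsLocalHom (algebraMap RY RX) := hψl
      exact H x RY RX hψ
    have hbZ : P (Spec.map (CommRingCat.ofHom χ)) := by
      letI := χ.toAlgebra
      haveI : IsLocalHom (algebraMap RZ RY) := hχl
      exact Hh (g.base x) RZ RY hχ
    have := (hP _ _ hbX).1 hbZ
    rw [hcomp, hψχ] at this
    exact this
  · intro Hgh y RZ RY _ _ _ _ iZ iZl iZs iY iYl iYs iA iAl hc
    obtain ⟨x, rfl⟩ := hg y
    let f' : Y.presheaf.stalk (g.base x) →+* X.presheaf.stalk x := (g.stalkMap x).hom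
    haveI : IsLocalHom f' := inferInstanceAs (IsLocalHom (g.stalkMap x).hom)
    let RX := Hensel.StrictHenz (X.presheaf.stalk x)
    obtain ⟨ψ, hψl, hψ⟩ := exists_strictMap RY RX f'
    have hbX : P (Spec.map (CommRingCat.ofHom ψ)) := by
      letI := ψ.toAlgebra
      haveI : IsLocalHom (algebraMap RY RX) := hψl
      exact H x RY RX hψ
    refine (hP _ _ hbX).2 ?_
    rw [hcomp]
    letI : Algebra (Z.presheaf.stalk ((g ≫ h).base x)) RZ := iZ
    haveI : IsLocalHom (algebraMap (Z.presheaf.stalk ((g ≫ h).base x)) RZ) := iZl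
    haveI : Hensel.IsStrictHenselization (Z.presheaf.stalk ((g ≫ h).base x)) RZ := iZs
    letI : Algebra RZ RX := (ψ.comp (algebraMap RZ RY)).toAlgebra
    haveI : IsLocalHom (algebraMap RZ RX) := RingHom.isLocalHom_comp ψ (algebraMap RZ RY)
    refine Hgh x RZ RX ?_
    show (ψ.comp (algebraMap RZ RY)).comp _ = _
    refine (RingHom.comp_assoc _ _ _).trans ((congrArg ψ.comp hc).trans ?_)
    rw [← RingHom.comp_assoc, hψ, RingHom.comp_assoc, stalkMap_comp_hom]
    rfl

end Groth.Agent.EtFound
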