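import Groth.Agent.EtFound.PullStalk

/-! stalks are invariant under extensions of separably closed fields; morphisms detected on stalks -/

universe u

open CategoryTheory CategoryTheory.Limits AlgebraicGeometry Opposite

namespace Groth.Agent.EtFound

set_option backward.isDefEq.respectTransparency.types false

section fields

variable {k Ω : Type u} [Field k] [Field Ω] [IsSepClosed k]

/-- points of an etale `k`-scheme, `k` separably closed, are rational and unique -/
theorem existsUnique_of_etale_of_isSepClosed {P : Scheme.{u}} (s : P ⟶ Spec (CommRingCat.of k)) [Etale s]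
    (l : Spec (CommRingCat.of Ω) ⟶ Spec (CommRingCat.of k)) (t : Spec (CommRingCat.of Ω) ⟶ P) (ht : t ≫ s = l) :
    ∃! a : Spec (CommRingCat.of k) ⟶ P, a ≫ s = 𝟙 _ ∧ l ≫ a = t := by
  let p : P := t.base (default : Spec (CommRingCat.of Ω))
  obtain ⟨a, ha, hap⟩ := Scheme.exists_fac_of_etale_of_isSepClosed s (𝟙 _) p (Subsingleton.elim _ _)
  have key : ∀ (F : Type u) [Field F] (t' : Spec (CommRingCat.of F) ⟶ P),
      t'.base (default : Spec (CommRingCat.of F)) = p → t' = (t' ≫ s) ≫ a := by
    intro F _ t' htp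
    have e1 := Scheme.descResidueField_stalkClosedPointTo_fromSpecResidueField k P a
    have e2 := Scheme.descResidueField_stalkClosedPointTo_fromSpecResidueField F P t'
    generalize Scheme.descResidueField (Scheme.stalkClosedPointTo a) = α at e1
    generalize Scheme.descResidueField (Scheme.stalkClosedPointTo t') = β at e2
    have hp1 : a.base (IsLocalRing.closedPoint k) = p := (congrArg a.base (Subsingleton.elim _ _)).trans hap
    have hp2 : t'.base (IsLocalRing.closedPoint F) = p := (congrArg t'.base (Subsingleton.elim _ _)).trans htp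
    revert α β
    rw [hp1, hp2]
    intro α e1 β e2
    -- `Spec α` is an isomorphism
    obtain ⟨σ, hσ⟩ := Spec.map_surjective (P.fromSpecResidueField p ≫ s)
    have hsα : σ ≫ α = 𝟙 _ := by
      apply Spec.map_injective
      rw [Spec.map_comp, hσ, ← Category.assoc, e1, ha, Spec.map_id]
    have hsurj : Function.Surjective α.hom := fun r => ⟨σ.hom r, congr(($hsα).hom r)⟩
    have hiso : IsIso α :=
      (ConcreteCategory.isIso_iff_bijective α).2 ⟨RingHom.injective α.hom, hsurj⟩
    have hfs : P.fromSpecResidueField p = (P.fromSpecResidueField p ≫ s) ≫ a := by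
      rw [← cancel_epi (Spec.map α), ← Category.assoc, ← Category.assoc, e1, ha, Category.id_comp]
    rw [← e2, Category.assoc, Category.assoc, ← Category.assoc (P.fromSpecResidueField p) s a, ← hfs]
  refine ⟨a, ⟨ha, ?_⟩, ?_⟩
  · rw [key Ω t rfl, ht]
  · rintro a' ⟨h1, h2⟩
    have : a'.base (default : Spec (CommRingCat.of k)) = p := by
      change _ = t.base (default : Spec (CommRingCat.of Ω))
      rw [← h2, Scheme.Hom.comp_apply]
      exact congrArg _ (Subsingleton.elim _ _)
    rw [key k a' this, h1, Category.id_comp]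

variable {X : Scheme.{u}}

/-- geometric points of an etale scheme do not change under extension of the separably closed field -/
theorem existsUnique_fac {U : Scheme.{u}} (f : U ⟶ X) [Etale f] (ξ : Spec (CommRingCat.of k) ⟶ X)
    (l : Spec (CommRingCat.of Ω) ⟶ Spec (CommRingCat.of k)) (t : Spec (CommRingCat.of Ω) ⟶ U)
    (ht : t ≫ f = l ≫ ξ) : ∃! a : Spec (CommRingCat.of k) ⟶ U, a ≫ f = ξ ∧ l ≫ a = t := by
  obtain ⟨a, ⟨h1, h2⟩, huniq⟩ := existsUnique_of_etale_of_isSepClosed (pullback.snd f ξ) l
    (pullback.lift t l ht) (pullback.lift_snd _ _ _)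
  refine ⟨a ≫ pullback.fst f ξ, ⟨?_, ?_⟩, fun b ⟨hb1, hb2⟩ => ?_⟩
  · rw [Category.assoc, pullback.condition, ← Category.assoc, h1, Category.id_comp]
  · rw [← Category.assoc, h2, pullback.lift_fst]
  · have := huniq (pullback.lift b (𝟙 _) (by rw [hb1, Category.id_comp])) ⟨pullback.lift_snd _ _ _,
      pullback.hom_ext (by rw [Category.assoc, pullback.lift_fst, pullback.lift_fst, hb2])
        (by rw [Category.assoc, pullback.lift_snd, pullback.lift_snd, Category.comp_id])⟩
    rw [← this, pullback.lift_fst]

variable [IsSepClosed Ω]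

/-- the natural map of fibre functors along an extension of fields -/
noncomputable def fiberExt (ξ : Spec (CommRingCat.of k) ⟶ X)
    (l : Spec (CommRingCat.of Ω) ⟶ Spec (CommRingCat.of k)) :
    (Scheme.pointSmallEtale ξ).fiber ⟶ (Scheme.pointSmallEtale (l ≫ ξ)).fiber where
  app U := TypeCat.ofHom fun t => CategoryTheory.Over.homMk
    (l ≫ (t.left : Spec (CommRingCat.of k) ⟶ U.left))
    ((Category.assoc _ _ _).trans (congrArg _ (CategoryTheory.Over.w t)))
  naturality U V g := by
    ext t
    apply CategoryTheory.Over.OverMorphism.ext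
    exact (Category.assoc _ _ _).symm

theorem fiberExt_bijective (ξ : Spec (CommRingCat.of k) ⟶ X)
    (l : Spec (CommRingCat.of Ω) ⟶ Spec (CommRingCat.of k)) (U : X.Etale) :
    Function.Bijective ((fiberExt ξ l).app U) := by
  have := U.prop
  refine ⟨fun a b h => ?_, fun t => ?_⟩
  · obtain ⟨c, -, hc⟩ := existsUnique_fac U.hom ξ l (l ≫ (a.left : Spec (CommRingCat.of k) ⟶ U.left))
      ((Category.assoc _ _ _).trans (congrArg _ (CategoryTheory.Over.w a)))
    have e : l ≫ (b.left : Spec (CommRingCat.of k) ⟶ U.left) = l ≫ (a.left : Spec (CommRingCat.of k) ⟶ U.left) :=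
      congr(($h).left).symm
    exact CategoryTheory.Over.OverMorphism.ext
      ((hc _ ⟨CategoryTheory.Over.w a, rfl⟩).trans (hc _ ⟨CategoryTheory.Over.w b, e⟩).symm)
  · obtain ⟨c, ⟨h1, h2⟩, -⟩ := existsUnique_fac U.hom ξ l
      (t.left : Spec (CommRingCat.of Ω) ⟶ U.left) (CategoryTheory.Over.w t)
    exact ⟨CategoryTheory.Over.homMk c h1, CategoryTheory.Over.OverMorphism.ext h2⟩

/-- points differing by an extension of separably closed fields are isomorphic -/
noncomputable def pointExtIso (ξ : Spec (CommRingCat.of k) ⟶ X)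
    (l : Spec (CommRingCat.of Ω) ⟶ Spec (CommRingCat.of k)) :
    Scheme.pointSmallEtale (l ≫ ξ) ≅ Scheme.pointSmallEtale ξ :=
  have : IsIso (fiberExt ξ l) := by
    have : ∀ U, IsIso ((fiberExt ξ l).app U) := fun U => (isIso_iff_bijective _).2 (fiberExt_bijective ξ l U)
    exact NatIso.isIso_of_isIso_app _
  { hom := ⟨fiberExt ξ l⟩
    inv := ⟨inv (fiberExt ξ l)⟩
    hom_inv_id := GrothendieckTopology.Point.hom_ext (IsIso.inv_hom_id _)
    inv_hom_id := GrothendieckTopology.Point.hom_ext (IsIso.hom_inv_id _) }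

/-- stalks do not change under an extension of separably closed fields -/
noncomputable def stalkExtIso (A : Type*) [Category.{u + 1} A] [HasColimitsOfSize.{u, u} A]
    (ξ : Spec (CommRingCat.of k) ⟶ X) (l : Spec (CommRingCat.of Ω) ⟶ Spec (CommRingCat.of k)) :
    (Scheme.pointSmallEtale ξ).sheafFiber (A := A) ≅ (Scheme.pointSmallEtale (l ≫ ξ)).sheafFiber where
  hom := (pointExtIso ξ l).hom.sheafFiber
  inv := (pointExtIso ξ l).inv.sheafFiber
  hom_inv_id := by rw [← GrothendieckTopology.Point.Hom.sheafFiber_comp, (pointExtIso ξ l).inv_hom_id,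
    GrothendieckTopology.Point.Hom.sheafFiber_id]
  inv_hom_id := by rw [← GrothendieckTopology.Point.Hom.sheafFiber_comp, (pointExtIso ξ l).hom_inv_id,
    GrothendieckTopology.Point.Hom.sheafFiber_id]

end fields

/-- a geometric point through every fibre dominates every geometric point -/
theorem exists_common_extension {X X' : Scheme.{u}} (f : X' ⟶ X) [Surjective f] {k : Type u} [Field k]
    [IsSepClosed k] (ξ : Spec (CommRingCat.of k) ⟶ X) :
    ∃ (Ω : Type u) (_ : Field Ω) (_ : IsSepClosed Ω) (ζ : Spec (CommRingCat.of Ω) ⟶ X')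
      (l : Spec (CommRingCat.of Ω) ⟶ Spec (CommRingCat.of k)), ζ ≫ f = l ≫ ξ := by
  have : Nonempty ↥(pullback f ξ) := by
    obtain ⟨x', hx'⟩ := f.surjective (ξ.base default)
    obtain ⟨z, -, -⟩ := Scheme.Pullback.exists_preimage_pullback (f := f) (g := ξ) x' default hx'
    exact ⟨z⟩
  obtain ⟨z⟩ := this
  let Ω := SeparableClosure ((pullback f ξ).residueField z)
  let m : Spec (CommRingCat.of Ω) ⟶ pullback f ξ :=
    Spec.map (CommRingCat.ofHom (algebraMap ((pullback f ξ).residueField z) Ω)) ≫ (pullback f ξ).fromSpecResidueField z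
  refine ⟨Ω, inferInstance, inferInstance, m ≫ pullback.fst f ξ, m ≫ pullback.snd f ξ, ?_⟩
  simp only [Category.assoc, pullback.condition]

end Groth.Agent.EtFound
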