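import Groth.Agent.EtFound.Basic
import Mathlib.RingTheory.Unramified.LocalStructure
import Mathlib.AlgebraicGeometry.Morphisms.ClosedImmersion

/-! etale schemes over a closed subscheme lift, Zariski locally -/

universe u

open CategoryTheory CategoryTheory.Limits AlgebraicGeometry Opposite Polynomial
open scoped TensorProduct

namespace Groth.Agent.EtFound

set_option backward.isDefEq.respectTransparency.types false

/-- standard etale algebras lift along surjections -/
theorem exists_standardEtale_lift {A T C : Type u} [CommRing A] [CommRing T] [CommRing C] [Algebra A T]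
    (hT : Function.Surjective (algebraMap A T)) [Algebra T C] [Algebra.IsStandardEtale T C] :
    ∃ (P : StandardEtalePair A), Nonempty (T ⊗[A] P.Ring ≃ₐ[T] C) := by
  obtain ⟨Q⟩ : Nonempty (StandardEtalePresentation T C) := inferInstance
  obtain ⟨f, hf, -, hfm⟩ := Polynomial.lifts_and_natDegree_eq_and_monic
    (f := algebraMap A T) (Polynomial.map_surjective _ hT Q.f) Q.monic_f
  obtain ⟨g, hg⟩ := Polynomial.map_surjective _ hT Q.g
  let P : StandardEtalePair A :=
    ⟨f, hfm, g * derivative f, g, 0, 1, by rw [mul_zero, add_zero, pow_one]; ring⟩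
  let R' : StandardEtalePair T := P.map (algebraMap A T)
  have hfR : R'.f = Q.f := hf
  have hgR : R'.g = Q.g * derivative Q.f := by
    change (g * derivative f).map _ = _
    rw [Polynomial.map_mul, hg, ← derivative_map, hf]
  have hQ : R'.HasMap Q.x := ⟨by rw [hfR]; exact Q.hasMap.1, by
    rw [hgR, map_mul]; exact Q.hasMap.2.mul Q.hasMap.isUnit_derivative_f⟩
  have hR : Q.P.HasMap R'.X := by
    have h := R'.hasMap_X
    rw [StandardEtalePair.HasMap, hfR, hgR, map_mul, IsUnit.mul_iff] at h
    exact ⟨h.1, h.2.1⟩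
  let e : R'.Ring ≃ₐ[T] C := AlgEquiv.ofAlgHom (R'.lift Q.x hQ)
    ((Q.P.lift R'.X hR).comp Q.equivRing.toAlgHom)
    (Q.hom_ext (by simp)) (R'.hom_ext (by simp))
  let Pp : StandardEtalePresentation A P.Ring :=
    ⟨P, P.X, P.hasMap_X, by simpa [StandardEtalePair.lift_X_left] using Function.bijective_id⟩
  exact ⟨P, ⟨(Pp.baseChange (T := T)).equivRing.trans e⟩⟩

/-- etale schemes over a closed subscheme lift Zariski locally -/
theorem exists_etale_lift {Z X : Scheme.{u}} (i : Z ⟶ X) [IsClosedImmersion i] {U : Scheme.{u}}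
    (f : U ⟶ Z) [AlgebraicGeometry.Etale f] (u : U) :
    ∃ (V : X.Etale) (h : pullback V.hom i ⟶ U), h ≫ f = pullback.snd V.hom i ∧ IsOpenImmersion h ∧
      u ∈ Set.range h.base := by
  obtain ⟨A, j, hj, hxA, -⟩ := Scheme.exists_affine_mem_range_and_range_subset
    (x := i.base (f.base u)) (U := (⊤ : X.Opens)) (by simp)
  obtain ⟨I, e, he⟩ := (IsClosedImmersion.Spec_iff (f := pullback.snd i j)).1 inferInstance
  let T : CommRingCat.{u} := CommRingCat.of (A ⧸ I)
  let q : Spec T ⟶ Spec A := Spec.map (CommRingCat.ofHom (algebraMap A (A ⧸ I)))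
  let k : Spec T ⟶ Z := e.inv ≫ pullback.fst i j
  have sq : IsPullback k q i j := by
    refine (IsPullback.of_hasPullback i j).of_iso e (Iso.refl _) (Iso.refl _) (Iso.refl _) ?_ ?_ (by simp) (by simp)
    · simp [k]
    · rw [he]; simp [q]
  have hk : IsOpenImmersion k := MorphismProperty.of_isPullback sq.flip hj
  obtain ⟨t, ht⟩ : ∃ t, k.base t = f.base u := by
    obtain ⟨a, ha⟩ := hxA
    obtain ⟨z, hz, -⟩ := Scheme.Pullback.exists_preimage_pullback (f := i) (g := j) (f.base u) a ha.symm
    refine ⟨e.hom.base z, ?_⟩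
    rw [← hz]
    rw [← Scheme.Hom.comp_apply]
    simp [k]
  obtain ⟨u', hu', hu''⟩ := Scheme.Pullback.exists_preimage_pullback (f := f) (g := k) u t ht.symm
  obtain ⟨C0, w, hw, hu0, -⟩ := Scheme.exists_affine_mem_range_and_range_subset
    (x := u') (U := (⊤ : (pullback f k).Opens)) (by simp)
  obtain ⟨c, hc⟩ := hu0
  obtain ⟨φ, hφ⟩ := Spec.map_surjective (w ≫ pullback.snd f k)
  algebraize [φ.hom]
  have : Algebra.Etale T C0 := by
    have h : AlgebraicGeometry.Etale (Spec.map φ) := by
      have hs : AlgebraicGeometry.Etale (pullback.snd f k) :=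
        MorphismProperty.of_isPullback (P := @AlgebraicGeometry.Etale) (IsPullback.of_hasPullback f k) ‹_›
      rw [hφ]; infer_instance
    exact RingHom.etale_algebraMap.1 ((HasRingHomProperty.Spec_iff (P := @AlgebraicGeometry.Etale)).mp h)
  obtain ⟨g, hgc, hC⟩ := Algebra.IsEtaleAt.exists_isStandardEtale (R := T) c.asIdeal
  obtain ⟨P, ⟨eC⟩⟩ := exists_standardEtale_lift (A := A) (T := A ⧸ I) (C := Localization.Away g)
    Ideal.Quotient.mk_surjective
  let B : CommRingCat.{u} := CommRingCat.of P.Ring
  let b : Spec B ⟶ Spec A := Spec.map (CommRingCat.ofHom (algebraMap A P.Ring))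
  have hb : AlgebraicGeometry.Etale b := by
    rw [HasRingHomProperty.Spec_iff (P := @AlgebraicGeometry.Etale)]
    exact RingHom.etale_algebraMap.2 inferInstance
  have hVet : AlgebraicGeometry.Etale (b ≫ j) := inferInstance
  let V : X.Etale := Scheme.Etale.mk (b ≫ j)
  -- the fibre of `V` over `Z`
  let L : CommRingCat.{u} := CommRingCat.of (Localization.Away g)
  let π : Spec L ⟶ Spec T := Spec.map (CommRingCat.ofHom (algebraMap T (Localization.Away g)))
  let m : Spec L ⟶ Spec B := Spec.map (CommRingCat.ofHom ((eC.toRingEquiv.toRingHom).comp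
    (Algebra.TensorProduct.includeRight (R := A) (A := A ⧸ I) (B := P.Ring)).toRingHom))
  let ε : Spec L ≅ Spec (CommRingCat.of ((A ⧸ I) ⊗[A] P.Ring)) :=
    Scheme.Spec.mapIso (eC.toRingEquiv.toCommRingCatIso).op
  have sq2 : IsPullback π m q b := by
    refine (IsPullback.of_hasPullback q b).of_iso ((pullbackSpecIso A (A ⧸ I) P.Ring) ≪≫ ε.symm)
      (Iso.refl _) (Iso.refl _) (Iso.refl _) ?_ ?_ (by simp) (by simp)
    · have e1 : ε.hom ≫ Spec.map (CommRingCat.ofHom (algebraMap (A ⧸ I) ((A ⧸ I) ⊗[A] P.Ring))) = π := by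
        change Spec.map _ ≫ Spec.map _ = _
        rw [← Spec.map_comp]
        refine congrArg Spec.map ?_
        ext r
        exact eC.commutes r
      rw [← e1]
      change _ ≫ 𝟙 _ = ((pullbackSpecIso A (A ⧸ I) P.Ring).hom ≫ ε.inv) ≫ ε.hom ≫ _
      rw [Category.comp_id, Category.assoc, Iso.inv_hom_id_assoc]
      exact (pullbackSpecIso_hom_fst' _ _ _).symm
    · have e2 : ε.hom ≫ Spec.map (CommRingCat.ofHom
          (Algebra.TensorProduct.includeRight (R := A) (A := A ⧸ I) (B := P.Ring)).toRingHom) = m := by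
        change Spec.map _ ≫ Spec.map _ = _
        rw [← Spec.map_comp]
        rfl
      rw [← e2]
      change _ ≫ 𝟙 _ = ((pullbackSpecIso A (A ⧸ I) P.Ring).hom ≫ ε.inv) ≫ ε.hom ≫ _
      rw [Category.comp_id, Category.assoc, Iso.inv_hom_id_assoc]
      exact (pullbackSpecIso_hom_snd _ _ _).symm
  have sq3 : IsPullback m (π ≫ k) (b ≫ j) i := sq2.flip.paste_vert sq.flip
  let o : Spec L ⟶ U := Spec.map (CommRingCat.ofHom (algebraMap C0 (Localization.Away g))) ≫ w ≫ pullback.fst f k
  have ho : IsOpenImmersion o := by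
    have h1 : IsOpenImmersion (Spec.map (CommRingCat.ofHom (algebraMap C0 (Localization.Away g)))) :=
      IsOpenImmersion.of_isLocalization g
    have h2 : IsOpenImmersion (pullback.fst f k) :=
      MorphismProperty.of_isPullback (P := @IsOpenImmersion) (IsPullback.of_hasPullback f k).flip hk
    infer_instance
  have hof : o ≫ f = π ≫ k := by
    simp only [o, Category.assoc, pullback.condition]
    rw [← Category.assoc w, ← hφ, ← Category.assoc, ← Spec.map_comp]
    refine congrArg (· ≫ k) (congrArg Spec.map ?_)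
    ext r
    exact (IsScalarTower.algebraMap_apply T C0 (Localization.Away g) r).symm
  refine ⟨V, sq3.isoPullback.inv ≫ o, ?_, inferInstance, ?_⟩
  · rw [Category.assoc, hof]
    exact sq3.isoPullback_inv_snd
  · have hcg : c ∈ Set.range (Spec.map (CommRingCat.ofHom (algebraMap C0 (Localization.Away g)))).base :=
      (PrimeSpectrum.localization_away_comap_range (Localization.Away g) g).ge hgc
    obtain ⟨l, hl⟩ := hcg
    obtain ⟨p', hp'⟩ := sq3.isoPullback.inv.surjective l
    refine ⟨p', (Scheme.Hom.comp_apply _ _ p').trans ((congrArg o.base hp').trans ?_)⟩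
    rw [← hu']
    simp only [o, Scheme.Hom.comp_apply, hl, hc]

end Groth.Agent.EtFound
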