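import Groth.Agent.EtFound.TopInv
import Groth.Agent.EtFound.Basic
import Mathlib.AlgebraicGeometry.Gluing
import Mathlib.CategoryTheory.LocallyDirected

/-! topological invariance of the small etale site: gluing local lifts -/

universe u

open CategoryTheory CategoryTheory.Limits AlgebraicGeometry Opposite

namespace Groth.Agent.EtFound

set_option backward.isDefEq.respectTransparency.types false

variable {Z S : Scheme.{u}} (f : Z ⟶ S) [IsIntegralHom f] [UniversallyInjective f] [Surjective f]

theorem bc_map_left {V W : S.Etale} (φ : V ⟶ W) :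
    ((EtCoh.bc f).map φ).left = ((CategoryTheory.Over.pullback f).map
      (CategoryTheory.Over.homMk φ.left (MorphismProperty.Over.w φ) :
        CategoryTheory.Over.mk V.hom ⟶ CategoryTheory.Over.mk W.hom)).left := by
  refine pullback.hom_ext ?_ ?_
  · refine (pullback.lift_fst _ _ _).trans (pullback.lift_fst _ _ _).symm
  · refine (pullback.lift_snd _ _ _).trans (pullback.lift_snd _ _ _).symm

theorem bc_full : (EtCoh.bc f).Full where
  map_surjective {V W} h := by
    have hW : Etale W.hom := W.prop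
    have : Etale (CategoryTheory.Over.mk W.hom).hom := hW
    obtain ⟨φ, hφ⟩ := surjective_pullback_map f (CategoryTheory.Over.mk W.hom) (CategoryTheory.Over.mk V.hom)
      (CategoryTheory.Over.homMk h.left (MorphismProperty.Over.w h))
    refine ⟨MorphismProperty.Over.homMk φ.left (CategoryTheory.Over.w φ), MorphismProperty.Over.Hom.ext ?_⟩
    exact (bc_map_left f _).trans (congrArg (fun k => k.left) hφ)

theorem bc_faithful : (EtCoh.bc f).Faithful where
  map_injective {V W} φ ψ h := by
    have hW : Etale W.hom := W.prop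
    have : Etale (CategoryTheory.Over.mk W.hom).hom := hW
    refine MorphismProperty.Over.Hom.ext ?_
    have := injective_pullback_map f (CategoryTheory.Over.mk W.hom) (CategoryTheory.Over.mk V.hom)
      (a₁ := CategoryTheory.Over.homMk φ.left (MorphismProperty.Over.w φ))
      (a₂ := CategoryTheory.Over.homMk ψ.left (MorphismProperty.Over.w ψ))
      (CategoryTheory.Over.OverMorphism.ext
        ((bc_map_left f φ).symm.trans ((congrArg (fun k => k.left) h).trans (bc_map_left f ψ))))
    exact congrArg (fun k => k.left) this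

theorem surjective_fst (V : S.Etale) : Surjective (pullback.fst V.hom f) :=
  MorphismProperty.pullback_fst (P := @Surjective) V.hom f ‹Surjective f›

theorem bijective_fst (V : S.Etale) : Function.Bijective (pullback.fst V.hom f).base := by
  have : UniversallyInjective (pullback.fst V.hom f) :=
    MorphismProperty.pullback_fst (P := @UniversallyInjective) V.hom f ‹UniversallyInjective f›
  have := surjective_fst f V
  exact ⟨(pullback.fst V.hom f).injective, (pullback.fst V.hom f).surjective⟩

theorem bc_map_comm {V W : S.Etale} (φ : V ⟶ W) (w : ((EtCoh.bc f).obj V).left) :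
    φ.left.base ((pullback.fst V.hom f).base w) =
      (pullback.fst W.hom f).base (((EtCoh.bc f).map φ).left.base w) := by
  refine (Scheme.Hom.comp_apply (pullback.fst V.hom f) φ.left w).symm.trans ?_
  refine (congrArg (fun k : _ ⟶ W.left => k.base w) (EtCoh.isPullback_bc_map f φ).w.symm).trans ?_
  exact Scheme.Hom.comp_apply ((EtCoh.bc f).map φ).left (pullback.fst W.hom f) w

/-- a map whose base change is an open immersion is one -/
theorem isOpenImmersion_left_of_bc {V W : S.Etale} (φ : V ⟶ W)
    [IsOpenImmersion ((EtCoh.bc f).map φ).left] : IsOpenImmersion φ.left := by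
  have := etale_left φ
  have := surjective_fst f V
  have h2 : UniversallyInjective (pullback.fst W.hom f) :=
    MorphismProperty.pullback_fst (P := @UniversallyInjective) W.hom f ‹UniversallyInjective f›
  have h3 : UniversallyInjective ((pullback.fst V.hom f : ((EtCoh.bc f).obj V).left ⟶ V.left) ≫ φ.left) :=
    (EtCoh.isPullback_bc_map f φ).w ▸
      MorphismProperty.comp_mem @UniversallyInjective _ _
        (((tfae_universallyInjective ((EtCoh.bc f).map φ).left).out 0 1 rfl rfl).mpr fun K _ a b e =>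
          (IsOpenImmersion.mono ((EtCoh.bc f).map φ).left).right_cancellation _ _ e) h2
  have : UniversallyInjective φ.left :=
    MorLib.universallyInjective_of_comp_surjective
      (pullback.fst V.hom f : ((EtCoh.bc f).obj V).left ⟶ V.left) φ.left h3
  exact isOpenImmersion_of_etale_univInj φ.left

theorem trr_comp {C : Type*} [Category C] {A B D A' B' D' : C} (a : A ≅ A') (b : B ≅ B') (d : D ≅ D')
    (p : A' ⟶ B') (q : B' ⟶ D') (r : A' ⟶ D') (h : r = p ≫ q) :
    a.hom ≫ r ≫ d.inv = (a.hom ≫ p ≫ b.inv) ≫ b.hom ≫ q ≫ d.inv := by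
  simp [h]

variable (U : Z.Etale)

/-- the open subscheme `O` of `U` as an etale `Z`-scheme -/
noncomputable abbrev opn (O : U.left.Opens) : Z.Etale :=
  haveI : Etale U.hom := U.prop
  Scheme.Etale.mk (O.ι ≫ U.hom)

noncomputable abbrev opnLE {O O' : U.left.Opens} (h : O ≤ O') : opn U O ⟶ opn U O' :=
  MorphismProperty.Over.homMk (U.left.homOfLE h)
    ((Category.assoc _ _ _).symm.trans (congrArg (· ≫ U.hom) (U.left.homOfLE_ι h)))

/-- opens which come from `S` -/
def Lifts (O : U.left.Opens) : Prop := ∃ V : S.Etale, Nonempty ((EtCoh.bc f).obj V ≅ opn U O)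

theorem lifts_opensRange {V : S.Etale} (m : (EtCoh.bc f).obj V ⟶ U) [IsOpenImmersion m.left] :
    Lifts f U m.left.opensRange :=
  ⟨V, ⟨MorphismProperty.Over.isoMk m.left.isoOpensRange (by
    refine (Category.assoc _ _ _).symm.trans ?_
    refine (congrArg (· ≫ U.hom) m.left.isoOpensRange_hom_ι).trans ?_
    exact MorphismProperty.Over.w m)⟩⟩

theorem lifts_mono {O O' : U.left.Opens} (h : O' ≤ O) (hO : Lifts f U O) : Lifts f U O' := by
  obtain ⟨V, ⟨e⟩⟩ := hO
  have hV : Etale V.hom := V.prop
  have heI : IsIso e.hom.left := ⟨e.inv.left, congrArg (fun k => k.left) e.hom_inv_id, congrArg (fun k => k.left) e.inv_hom_id⟩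
  have hι : IsOpenImmersion O.ι := inferInstance
  let m : ((EtCoh.bc f).obj V).left ⟶ U.left := e.hom.left ≫ O.ι
  have : IsOpenImmersion m := @IsOpenImmersion.comp _ _ _ e.hom.left O.ι (@IsOpenImmersion.of_isIso _ _ _ heI) hι
  let P : Set V.left := (pullback.fst V.hom f).base '' (m.base ⁻¹' (O' : Set U.left))
  have hP : IsOpen P := by
    rw [← isClosed_compl_iff, ← Set.image_compl_eq (bijective_fst f V)]
    exact (pullback.fst V.hom f).isClosedMap _ ((O'.2.preimage m.continuous).isClosed_compl)
  let Q : V.left.Opens := ⟨P, hP⟩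
  let V' : S.Etale := Scheme.Etale.mk (Q.ι ≫ V.hom)
  let k : V' ⟶ V := MorphismProperty.Over.homMk Q.ι rfl
  have hk : IsOpenImmersion ((EtCoh.bc f).map k).left :=
    MorphismProperty.of_isPullback (EtCoh.isPullback_bc_map f k).flip (inferInstanceAs (IsOpenImmersion Q.ι))
  have hr : Set.range ((EtCoh.bc f).map k).left.base = m.base ⁻¹' (O' : Set U.left) := by
    ext w
    constructor
    · rintro ⟨a, rfl⟩
      obtain ⟨b, hb, hb'⟩ := ((pullback.fst V'.hom f).base a).2
      have := (bijective_fst f V).1 (hb'.trans (bc_map_comm f k a))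
      rwa [← this]
    · intro hw
      obtain ⟨a, ha⟩ := (surjective_fst f V').surj (⟨(pullback.fst V.hom f).base w, w, hw, rfl⟩ : ↥Q)
      refine ⟨a, (bijective_fst f V).1 ?_⟩
      rw [← bc_map_comm f k a, ha]
      rfl
  let m' : (EtCoh.bc f).obj V' ⟶ U := MorphismProperty.Over.homMk (((EtCoh.bc f).map k).left ≫ m) (by
    refine (Category.assoc _ _ _).trans ?_
    refine (congrArg (((EtCoh.bc f).map k).left ≫ ·) ((Category.assoc _ _ _).trans (MorphismProperty.Over.w e.hom))).trans ?_
    exact MorphismProperty.Over.w _)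
  have : IsOpenImmersion m'.left := inferInstanceAs (IsOpenImmersion (((EtCoh.bc f).map k).left ≫ m))
  have h1 := lifts_opensRange f U m'
  convert h1 using 1
  ext x
  constructor
  · intro hx
    obtain ⟨y, hy⟩ : x ∈ Set.range m.base :=
      ⟨e.inv.left.base ⟨x, h hx⟩, by
        have hh : e.inv.left ≫ m = O.ι := by
          show e.inv.left ≫ e.hom.left ≫ O.ι = O.ι
          rw [← Category.assoc]
          exact (congrArg (· ≫ O.ι) (congrArg (fun k => k.left) e.inv_hom_id)).trans (Category.id_comp _)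
        exact (Scheme.Hom.comp_apply _ _ _).symm.trans (congrArg (fun k : _ ⟶ U.left => k.base (⟨x, h hx⟩ : ↥O)) hh)⟩
    obtain ⟨a, rfl⟩ : y ∈ Set.range ((EtCoh.bc f).map k).left.base := by
      rw [hr]
      show m.base y ∈ O'
      rw [hy]; exact hx
    exact ⟨a, (Scheme.Hom.comp_apply _ _ _).trans hy⟩
  · rintro ⟨a, rfl⟩
    have : ((EtCoh.bc f).map k).left.base a ∈ m.base ⁻¹' (O' : Set U.left) := hr.le ⟨a, rfl⟩
    exact Set.mem_of_eq_of_mem (Scheme.Hom.comp_apply _ _ a) this

/-- etale schemes with local lifts come from `S` -/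
theorem essImage_of_local
    (hloc : ∀ x : U.left, ∃ (V : S.Etale) (m : (EtCoh.bc f).obj V ⟶ U), IsOpenImmersion m.left ∧ x ∈ Set.range m.left.base) :
    (EtCoh.bc f).essImage U := by
  have := bc_full f
  have := bc_faithful f
  have hU : Etale U.hom := U.prop
  let J := {O : U.left.Opens // Lifts f U O}
  choose V he using fun O : J => O.2
  let e := fun O : J => (he O).some
  have he' : ∀ O : J, IsIso (e O).hom.left ∧ IsIso (e O).inv.left := fun O =>
    ⟨⟨(e O).inv.left, congrArg (fun k => k.left) (e O).hom_inv_id, congrArg (fun k => k.left) (e O).inv_hom_id⟩,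
      ⟨(e O).hom.left, congrArg (fun k => k.left) (e O).inv_hom_id, congrArg (fun k => k.left) (e O).hom_inv_id⟩⟩
  let trr : ∀ {O O' : J} (_ : O.1 ≤ O'.1), (EtCoh.bc f).obj (V O) ⟶ (EtCoh.bc f).obj (V O') :=
    fun {O O'} h => (e O).hom ≫ opnLE U h ≫ (e O').inv
  let G : J ⥤ S.Etale :=
    { obj := V
      map := fun {O O'} h => (EtCoh.bc f).preimage (trr (leOfHom h))
      map_id := fun O => (EtCoh.bc f).map_injective (((EtCoh.bc f).map_preimage _).trans (Eq.trans
        ((congrArg (fun q => (e O).hom ≫ q ≫ (e O).inv)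
          (MorphismProperty.Over.Hom.ext (U.left.homOfLE_rfl _) : opnLE U (le_refl O.1) = 𝟙 _)).trans
          ((congrArg ((e O).hom ≫ ·) (Category.id_comp _)).trans (e O).hom_inv_id))
        ((EtCoh.bc f).map_id _).symm))
      map_comp := fun {O O' O''} h h' => (EtCoh.bc f).map_injective (((EtCoh.bc f).map_preimage _).trans (Eq.trans
        (trr_comp (e O) (e O') (e O'') (opnLE U (leOfHom h)) (opnLE U (leOfHom h')) (opnLE U ((leOfHom h).trans (leOfHom h'))) (MorphismProperty.Over.Hom.ext (U.left.homOfLE_homOfLE (leOfHom h) (leOfHom h')).symm))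
        (((EtCoh.bc f).map_comp _ _).trans (congrArg₂ (· ≫ ·) ((EtCoh.bc f).map_preimage _)
          ((EtCoh.bc f).map_preimage _))).symm)) }
  let F : J ⥤ Scheme.{u} := G ⋙ Scheme.Etale.forget S ⋙ CategoryTheory.Over.forget S
  have hbc : ∀ {O O' : J} (h : O ⟶ O'), ((EtCoh.bc f).map (G.map h)).left =
      (e O).hom.left ≫ U.left.homOfLE (leOfHom h) ≫ (e O').inv.left := fun {O O'} h => by
    show ((EtCoh.bc f).map ((EtCoh.bc f).preimage _)).left = _
    rw [Functor.map_preimage]
    rfl
  have hGo : ∀ {O O' : J} (h : O ⟶ O'), IsOpenImmersion (G.map h).left := fun {O O'} h => by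
    have := (he' O).1
    have := (he' O').2
    have : IsOpenImmersion ((EtCoh.bc f).map (G.map h)).left := by
      rw [hbc]
      exact @IsOpenImmersion.comp _ _ _ _ _ (@IsOpenImmersion.of_isIso _ _ _ (he' O).1)
        (@IsOpenImmersion.comp _ _ _ (U.left.homOfLE (leOfHom h)) _ inferInstance (@IsOpenImmersion.of_isIso _ _ _ (he' O').2))
    exact isOpenImmersion_left_of_bc f _
  have : ∀ {O O' : J} (h : O ⟶ O'), IsOpenImmersion (F.map h) := hGo
  -- the point of `U` under a point of a piece
  have hpt : ∀ (O : J) (v : F.obj O), ∃ w, (pullback.fst (V O).hom f).base w = v := fun O v =>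
    (surjective_fst f (V O)).surj v
  let pt : ∀ (O : J), ((EtCoh.bc f).obj (V O)).left → U.left := fun O w => O.1.ι.base ((e O).hom.left.base w)
  have hpm : ∀ {O O' : J} (h : O ⟶ O') w, pt O' (((EtCoh.bc f).map (G.map h)).left.base w) = pt O w :=
    fun {O O'} h w => by
      have hh : ((EtCoh.bc f).map (G.map h)).left ≫ (e O').hom.left ≫ O'.1.ι = (e O).hom.left ≫ O.1.ι := by
        rw [hbc]
        simp only [Category.assoc]
        congr 1
        refine (congrArg (U.left.homOfLE (leOfHom h) ≫ ·) (Category.assoc _ _ _).symm).trans ?_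
        refine (congrArg (fun k => U.left.homOfLE (leOfHom h) ≫ k ≫ O'.1.ι)
          (congrArg (fun k => k.left) (e O').inv_hom_id)).trans ?_
        exact (congrArg (U.left.homOfLE (leOfHom h) ≫ ·) (Category.id_comp _)).trans (U.left.homOfLE_ι _)
      refine (congrArg O'.1.ι.base (Scheme.Hom.comp_apply _ _ w).symm).trans ?_
      refine (Scheme.Hom.comp_apply _ _ w).symm.trans ?_
      refine (congrArg (fun k : _ ⟶ U.left => k.base w) ((Category.assoc _ _ _).trans hh)).trans ?_
      exact Scheme.Hom.comp_apply _ _ w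
  have hinjpt : ∀ (O : J) w w', pt O w = pt O w' → w = w' := fun O w w' h => by
    have := (he' O).1
    exact (e O).hom.left.isOpenEmbedding.injective (O.1.ι.isOpenEmbedding.injective h)
  have hsurjpt : ∀ (O : J) (x : U.left), x ∈ O.1 → ∃ w, pt O w = x := fun O x hx => by
    have := (he' O).1
    obtain ⟨w, hw⟩ := (e O).hom.left.homeomorph.surjective ⟨x, hx⟩
    exact ⟨w, (congrArg O.1.ι.base hw).trans rfl⟩
  have : (F ⋙ Scheme.forget).IsLocallyDirected := by
    constructor
    intro O O' O'' g g' v v' hvv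
    obtain ⟨w, rfl⟩ := hpt O v
    obtain ⟨w', rfl⟩ := hpt O' v'
    have h' : (G.map g).left.base ((pullback.fst (V O).hom f).base w) =
        (G.map g').left.base ((pullback.fst (V O').hom f).base w') := hvv
    rw [bc_map_comm, bc_map_comm] at h'
    have hx : pt O w = pt O' w' := by
      rw [← hpm g, ← hpm g', (bijective_fst f _).1 h']
    have h1 : pt O w ∈ O.1 := ((e O).hom.left.base w).2
    have h2 : pt O w ∈ O'.1 := hx ▸ ((e O').hom.left.base w').2
    let l : J := ⟨O.1 ⊓ O'.1, lifts_mono f U inf_le_left O.2⟩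
    obtain ⟨z, hz⟩ := hsurjpt l (pt O w) ⟨h1, h2⟩
    let gl : l ⟶ O := homOfLE (show l.1 ≤ O.1 from inf_le_left)
    let gl' : l ⟶ O' := homOfLE (show l.1 ≤ O'.1 from inf_le_right)
    refine ⟨l, gl, gl', (pullback.fst (V l).hom f).base z, ?_, ?_⟩
    · show (G.map gl).left.base _ = _
      rw [bc_map_comm, hinjpt O _ w ((hpm gl z).trans hz)]
    · show (G.map gl').left.base _ = _
      rw [bc_map_comm, hinjpt O' _ w' ((hpm gl' z).trans (hz.trans hx))]
  let c : colimit F ⟶ S := colimit.desc F
    { pt := S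
      ι := { app := fun O => (V O).hom, naturality := fun O O' g => by
              exact (MorphismProperty.Over.w (G.map g)).trans (Category.comp_id _).symm } }
  have : Etale c := IsZariskiLocalAtSource.of_openCover (P := @Etale) (Scheme.IsLocallyDirected.openCover F)
    fun O => by
      have h : Etale (V O).hom := (V O).prop
      show Etale (colimit.ι F O ≫ c)
      rw [colimit.ι_desc]
      exact h
  let W : S.Etale := Scheme.Etale.mk c
  let ιW : ∀ O : J, V O ⟶ W := fun O => MorphismProperty.Over.homMk (colimit.ι F O) (colimit.ι_desc _ _)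
  have hιW : ∀ {O O' : J} (g : O ⟶ O'), G.map g ≫ ιW O' = ιW O := fun g =>
    MorphismProperty.Over.Hom.ext (colimit.w F g)
  let m : ∀ O : J, opn U O.1 ⟶ (EtCoh.bc f).obj W := fun O => (e O).inv ≫ (EtCoh.bc f).map (ιW O)
  have hm : ∀ {O O' : J} (g : O ⟶ O'), opnLE U (leOfHom g) ≫ m O' = m O := fun {O O'} g => by
    rw [Iso.eq_inv_comp, ← hιW g, Functor.map_comp]
    show _ = (EtCoh.bc f).map ((EtCoh.bc f).preimage _) ≫ _
    rw [Functor.map_preimage]
    simp [trr, m]
  have hcov : TopologicalSpace.IsOpenCover (fun O : J => O.1) := by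
    refine eq_top_iff.2 fun x _ => ?_
    obtain ⟨Vx, mx, _, hx⟩ := hloc x
    exact TopologicalSpace.Opens.mem_iSup.2 ⟨⟨_, lifts_opensRange f U mx⟩, hx⟩
  let 𝒰 := U.left.openCoverOfIsOpenCover (fun O : J => O.1) hcov
  let a : U.left ⟶ ((EtCoh.bc f).obj W).left := 𝒰.glueMorphisms (fun O => (m O).left) fun O O' => by
    let l : J := ⟨O.1 ⊓ O'.1, lifts_mono f U inf_le_left O.2⟩
    let k : pullback O.1.ι O'.1.ι ⟶ (l.1 : Scheme.{u}) :=
      IsOpenImmersion.lift l.1.ι (pullback.fst O.1.ι O'.1.ι ≫ O.1.ι) (by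
        rintro _ ⟨w, rfl⟩
        rw [Scheme.Opens.range_ι]
        refine ⟨?_, ?_⟩
        · rw [Scheme.Hom.comp_apply]; exact Subtype.coe_prop _
        · rw [pullback.condition, Scheme.Hom.comp_apply]; exact Subtype.coe_prop _)
    have hk : k ≫ l.1.ι = pullback.fst O.1.ι O'.1.ι ≫ O.1.ι := IsOpenImmersion.lift_fac _ _ _
    have h1 : k ≫ U.left.homOfLE (inf_le_left : l.1 ≤ O.1) = pullback.fst O.1.ι O'.1.ι := by
      rw [← cancel_mono O.1.ι, Category.assoc, Scheme.homOfLE_ι, hk]
    have h2 : k ≫ U.left.homOfLE (inf_le_right : l.1 ≤ O'.1) = pullback.snd O.1.ι O'.1.ι := by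
      rw [← cancel_mono O'.1.ι, Category.assoc, Scheme.homOfLE_ι, hk, pullback.condition]
    show pullback.fst O.1.ι O'.1.ι ≫ (m O).left = pullback.snd O.1.ι O'.1.ι ≫ (m O').left
    rw [← h1, ← h2, Category.assoc, Category.assoc]
    refine congrArg (k ≫ ·) ?_
    exact ((congrArg (fun q => q.left) (hm (homOfLE (show l.1 ≤ O.1 from inf_le_left) : l ⟶ O)))).trans
      (congrArg (fun q => q.left) (hm (homOfLE (show l.1 ≤ O'.1 from inf_le_right) : l ⟶ O'))).symm
  have ha : ∀ O : J, O.1.ι ≫ a = (m O).left := fun O => 𝒰.ι_glueMorphisms _ _ O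
  have haw : a ≫ ((EtCoh.bc f).obj W).hom = U.hom := 𝒰.hom_ext _ _ fun O => by
    show O.1.ι ≫ a ≫ _ = O.1.ι ≫ U.hom
    rw [← Category.assoc, ha]
    exact MorphismProperty.Over.w (m O)
  have hmo : ∀ O : J, IsOpenImmersion (m O).left := fun O => by
    have := (he' O).2
    have : IsOpenImmersion ((EtCoh.bc f).map (ιW O)).left :=
      MorphismProperty.of_isPullback (EtCoh.isPullback_bc_map f (ιW O)).flip
        ((Scheme.IsLocallyDirected.openCover F).map_prop O)
    exact @IsOpenImmersion.comp _ _ _ (e O).inv.left _ (@IsOpenImmersion.of_isIso _ _ _ (he' O).2) this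
  -- `a` on points
  have hap : ∀ (O : J) w, (pullback.fst W.hom f).base (a.base (pt O w)) =
      (colimit.ι F O).base ((pullback.fst (V O).hom f).base w) := fun O w => by
    refine Eq.trans (congrArg _ ?_) (bc_map_comm f (ιW O) w).symm
    refine (Scheme.Hom.comp_apply O.1.ι a _).symm.trans ?_
    refine (congrArg (fun k : _ ⟶ ((EtCoh.bc f).obj W).left => k.base ((e O).hom.left.base w)) (ha O)).trans ?_
    refine (Scheme.Hom.comp_apply (e O).hom.left (m O).left w).symm.trans ?_
    exact congrArg (fun k : _ ⟶ ((EtCoh.bc f).obj W).left => k.base w)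
      (congrArg (fun q => q.left) ((e O).hom_inv_id_assoc ((EtCoh.bc f).map (ιW O))))
  have hinj : Function.Injective a.base := by
    intro x x' hxx
    obtain ⟨O, hO⟩ := TopologicalSpace.Opens.mem_iSup.1 (hcov.ge (TopologicalSpace.Opens.mem_top x))
    obtain ⟨O', hO'⟩ := TopologicalSpace.Opens.mem_iSup.1 (hcov.ge (TopologicalSpace.Opens.mem_top x'))
    obtain ⟨w, rfl⟩ := hsurjpt O x hO
    obtain ⟨w', rfl⟩ := hsurjpt O' x' hO'
    have h' := congrArg (pullback.fst W.hom f).base hxx
    rw [hap, hap] at h'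
    obtain ⟨l, g, g', z, hz, hz'⟩ := (Scheme.IsLocallyDirected.ι_eq_ι_iff F).1 h'
    obtain ⟨u, rfl⟩ := hpt l z
    have e1 := (bijective_fst f _).1 ((bc_map_comm f (G.map g) u).symm.trans hz)
    have e2 := (bijective_fst f _).1 ((bc_map_comm f (G.map g') u).symm.trans hz')
    rw [← e1, ← e2, hpm, hpm]
  have : IsOpenImmersion a := IsOpenImmersion.of_openCover_source a 𝒰 hinj fun O => by
    show IsOpenImmersion (O.1.ι ≫ a)
    rw [ha]; exact hmo O
  have : Surjective a := ⟨fun z => by
    obtain ⟨O, v, hv⟩ := Scheme.IsLocallyDirected.ι_jointly_surjective F ((pullback.fst W.hom f).base z)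
    obtain ⟨w, rfl⟩ := hpt O v
    exact ⟨pt O w, (bijective_fst f W).1 ((hap O w).trans hv)⟩⟩
  have : IsIso a := (isIso_iff_isOpenImmersion_and_surjective _).2 ⟨inferInstance, inferInstance⟩
  exact ⟨W, ⟨(MorphismProperty.Over.isoMk (asIso a) haw : U ≅ (EtCoh.bc f).obj W).symm⟩⟩

end Groth.Agent.EtFound
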