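import Groth.Agent.EtFound.Basic
import Mathlib.RingTheory.Etale.StandardEtale
import Mathlib.FieldTheory.IsAlgClosed.AlgebraicClosure

/-! etale locally, separable monic polynomials over global functions have roots -/

universe u

open CategoryTheory CategoryTheory.Limits AlgebraicGeometry Opposite Polynomial

namespace Groth.Agent.EtFound

set_option backward.isDefEq.respectTransparency.types false

theorem exists_etale_root_ring (R : CommRingCat.{u}) (f : R[X]) (hf : f.Monic) (hdeg : 0 < f.natDegree)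
    (hsep : ∃ p₁ p₂ : R[X], derivative f * p₁ + f * p₂ = 1) (x : Spec R) :
    ∃ (B : CommRingCat.{u}) (φ : R ⟶ B) (v : Spec B) (t : B),
      AlgebraicGeometry.Etale (Spec.map φ) ∧ (Spec.map φ).base v = x ∧ f.eval₂ φ.hom t = 0 := by
  obtain ⟨p₁, p₂, hp⟩ := hsep
  let P : StandardEtalePair R := ⟨f, hf, 1, p₁, p₂, 0, by rw [hp, pow_zero]⟩
  let L := AlgebraicClosure (x.asIdeal.ResidueField)
  have hne : (f.map (algebraMap R L)).degree ≠ 0 := by
    rw [degree_eq_natDegree (hf.map _).ne_zero, hf.natDegree_map]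
    exact_mod_cast hdeg.ne'
  obtain ⟨t, ht⟩ := IsAlgClosed.exists_root _ hne
  have hmap : P.HasMap t := ⟨by
    change aeval t f = 0
    rw [IsRoot, eval_map] at ht
    exact ht, by change IsUnit (aeval t (1 : R[X])); simp⟩
  let χ : P.Ring →ₐ[R] L := P.lift t hmap
  let B : CommRingCat.{u} := CommRingCat.of P.Ring
  let φ : R ⟶ B := CommRingCat.ofHom (algebraMap R P.Ring)
  refine ⟨B, φ, ⟨RingHom.ker χ.toRingHom, RingHom.ker_isPrime _⟩, P.X, ?_, ?_, StandardEtalePair.hasMap_X.1⟩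
  · rw [HasRingHomProperty.Spec_iff (P := @AlgebraicGeometry.Etale)]
    exact RingHom.etale_algebraMap.2 inferInstance
  · refine PrimeSpectrum.ext ?_
    change (RingHom.ker χ.toRingHom).comap (algebraMap R P.Ring) = x.asIdeal
    rw [RingHom.comap_ker, show χ.toRingHom.comp (algebraMap R P.Ring) = algebraMap R L from χ.comp_algebraMap,
      IsScalarTower.algebraMap_eq R x.asIdeal.ResidueField L, ← RingHom.comap_ker,
      (RingHom.injective_iff_ker_eq_bot _).1 (algebraMap x.asIdeal.ResidueField L).injective]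
    exact Ideal.ker_algebraMap_residueField x.asIdeal

/-- etale-local roots -/
theorem exists_etale_root {X : Scheme.{u}} (U : X.Etale) (f : (Γ(U.left, ⊤) : Type u)[X]) (hf : f.Monic)
    (hdeg : ∀ (R : Type u) [CommRing R] [Nontrivial R] (φ : Γ(U.left, ⊤) →+* R), 0 < (f.map φ).natDegree)
    (hsep : ∃ p₁ p₂ : (Γ(U.left, ⊤) : Type u)[X], derivative f * p₁ + f * p₂ = 1) (x : U.left) :
    ∃ (V : X.Etale) (g : V ⟶ U) (v : V.left) (t : Γ(V.left, ⊤)),
      g.left.base v = x ∧ f.eval₂ g.left.appTop.hom t = 0 := by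
  obtain ⟨R, j, hj, hx, -⟩ := Scheme.exists_affine_mem_range_and_range_subset
    (x := x) (U := (⊤ : U.left.Opens)) (by simp)
  obtain ⟨x', rfl⟩ := hx
  let ψ : Γ(U.left, ⊤) →+* R := (j.appTop ≫ (Scheme.ΓSpecIso R).hom).hom
  have : Nontrivial R := by
    by_contra h
    rw [not_nontrivial_iff_subsingleton] at h
    exact x'.2.ne_top (Subsingleton.elim _ _)
  obtain ⟨p₁, p₂, hp⟩ := hsep
  obtain ⟨B, φ, v, t, hφ, hv, ht⟩ := exists_etale_root_ring R (f.map ψ) (hf.map ψ) (hdeg R ψ)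
    ⟨p₁.map ψ, p₂.map ψ, by rw [derivative_map, ← Polynomial.map_mul, ← Polynomial.map_mul,
      ← Polynomial.map_add, hp, Polynomial.map_one]⟩ x'
  have : AlgebraicGeometry.Etale U.hom := U.prop
  have : AlgebraicGeometry.Etale (Spec.map φ ≫ j ≫ U.hom) := inferInstance
  let V : X.Etale := Scheme.Etale.mk (Spec.map φ ≫ j ≫ U.hom)
  refine ⟨V, MorphismProperty.Over.homMk (Spec.map φ ≫ j) (Category.assoc _ _ _), v,
    (Scheme.ΓSpecIso B).inv t, (Scheme.Hom.comp_apply _ _ v).trans (congrArg j.base hv), ?_⟩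
  change f.eval₂ (Spec.map φ ≫ j).appTop.hom ((Scheme.ΓSpecIso B).inv.hom t) = 0
  have e : (Spec.map φ ≫ j).appTop.hom = (Scheme.ΓSpecIso B).inv.hom.comp (φ.hom.comp ψ) := by
    rw [Scheme.Hom.comp_appTop]
    have := Scheme.ΓSpecIso_inv_naturality φ
    change _ = (((j.appTop ≫ (Scheme.ΓSpecIso R).hom) ≫ φ) ≫ (Scheme.ΓSpecIso B).inv).hom
    rw [Category.assoc, this, Category.assoc, Iso.hom_inv_id_assoc]
  rw [e, ← Polynomial.hom_eval₂, ← eval₂_map, ht, map_zero]

end Groth.Agent.EtFound
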