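import Groth.Agent.EtFound.ConstrColim
import Mathlib.CategoryTheory.Filtered.Final

/-! torsion sheaves as colimits of constructible sheaves avoiding a compact set of the constructible topology -/

universe u

open CategoryTheory CategoryTheory.Limits AlgebraicGeometry Opposite Topology

namespace Groth.Agent.EtFound

set_option backward.isDefEq.respectTransparency.types false

variable {X : Scheme.{u}}

/-- supports in terms of stalk sets -/
theorem supp_eq_stalkSet (F : EtCoh.Ab X) : EtPBC.supp F = stalkSet F (fun A => ¬ Subsingleton A) := by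
  ext x
  exact exists_congr fun Ω => exists_congr fun _ => exists_congr fun _ => exists_congr fun ξ =>
    and_congr_right fun _ => not_congr AddCommGrpCat.isZero_iff_subsingleton

theorem mem_supp_iff {F : EtCoh.Ab X} {Ω : Type u} [Field Ω] [IsSepClosed Ω] (ξ : Spec (CommRingCat.of Ω) ⟶ X) :
    ξ.base (default : Spec (CommRingCat.of Ω)) ∈ EtPBC.supp F ↔ ¬ Subsingleton ((EtCoh.stalk ξ).obj F) := by
  rw [supp_eq_stalkSet, mem_stalkSet_iff fun A B ⟨e⟩ h hB => h (@Function.Injective.subsingleton _ _ _ e.injective hB)]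

theorem isConstructible_supp [CompactSpace X] [QuasiSeparatedSpace X] {F : EtCoh.Ab X}
    (hF : EtPBC.IsConstructible F) : IsConstructible (EtPBC.supp F) := by
  rw [supp_eq_stalkSet]
  exact (isLocallyConstructible_stalkSet hF fun A B ⟨e⟩ h hB => h (@Function.Injective.subsingleton _ _ _ e.injective hB)).isConstructible

variable {F : EtCoh.Ab X}

/-- two stages with the same generators -/
theorem epi_stage_map {j k : TorsStage F} (f : j ⟶ k) (h : k.gens = j.gens) : Epi ((stageFunctor F).map f) := by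
  have key : ∀ {G G' : Finset (TorsGen F)} (hle : G ⊆ G'), G' = G → Epi (genIncl F hle) := by
    rintro G _ hle rfl
    rw [genIncl_id]
    infer_instance
  have := key (leOfHom f).1 h
  have h' : Epi (cokernel.π j.relMap ≫ (stageFunctor F).map f) := by
    change Epi (cokernel.π j.relMap ≫ cokernel.desc _ _ _)
    rw [cokernel.π_desc]
    exact epi_comp (genIncl F (leOfHom f).1) (cokernel.π k.relMap)
  exact @epi_of_epi _ _ _ _ _ (cokernel.π j.relMap) _ h'

/-- stages whose supports avoid a compact set where the sheaf vanishes are cofinal -/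
theorem exists_stage_avoiding [CompactSpace X] [QuasiSeparatedSpace X] {A : Set X}
    (hA : @IsCompact X (constructibleTopology X) A) (hFA : Disjoint (EtPBC.supp F) A) (j : TorsStage F) :
    ∃ k, j ≤ k ∧ Disjoint (EtPBC.supp ((stageFunctor F).obj k)) A := by
  classical
  let D := stageFunctor F
  -- killing the stalk at one point
  have point : ∀ x ∈ A, ∃ k, j ≤ k ∧ k.gens = j.gens ∧ x ∉ EtPBC.supp (D.obj k) := fun x hx => by
    obtain ⟨Ω, _, _, ξ, rfl⟩ := exists_geomPoint x
    have hz : Subsingleton ((EtCoh.stalk ξ).obj F) := by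
      by_contra h
      exact Set.disjoint_left.1 hFA ((mem_supp_iff ξ).2 h) hx
    have hfin := finite_stalk_of_isConstructible (isConstructible_stage j) ξ
    haveI := Fintype.ofFinite ((EtCoh.stalk ξ).obj (D.obj j))
    suffices key : ∀ s : Finset ((EtCoh.stalk ξ).obj (D.obj j)), ∃ (k : TorsStage F) (f : j ⟶ k), k.gens = j.gens ∧
        ∀ b ∈ s, (EtCoh.stalk ξ).map (D.map f) b = 0 by
      obtain ⟨k, f, hg, hk⟩ := key Finset.univ
      refine ⟨k, leOfHom f, hg, fun h => (mem_supp_iff ξ).1 h ⟨fun a b => ?_⟩⟩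
      have := epi_stage_map f hg
      obtain ⟨a', rfl⟩ := (epi_iff_stalks (D.map f)).1 inferInstance Ω ξ a
      obtain ⟨b', rfl⟩ := (epi_iff_stalks (D.map f)).1 inferInstance Ω ξ b
      rw [hk a' (Finset.mem_univ _), hk b' (Finset.mem_univ _)]
    intro s
    induction s using Finset.induction with
    | empty => exact ⟨j, 𝟙 j, rfl, fun b hb => absurd hb (Finset.notMem_empty b)⟩
    | @insert b s _ ih =>
      obtain ⟨k, f, hg, hk⟩ := ih
      obtain ⟨k', f', hg', hk'⟩ := exists_stage_kill k ξ ((EtCoh.stalk ξ).map (D.map f) b) (hz.elim _ _)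
      refine ⟨k', f ≫ f', hg'.trans hg, fun a ha => ?_⟩
      rw [D.map_comp, Functor.map_comp, ConcreteCategory.comp_apply]
      rcases Finset.mem_insert.1 ha with rfl | ha
      · exact hk'
      · rw [hk a ha, map_zero]
  choose! k hjk hg hk using point
  obtain ⟨t, ht⟩ := @IsCompact.elim_finite_subcover X (constructibleTopology X) A _ hA
    (fun x : A => (EtPBC.supp (D.obj (k x.1)))ᶜ)
    (fun x => (SpecLib.cons_clopen (isConstructible_supp (isConstructible_stage _)).compl).2)
    fun x hx => Set.mem_iUnion.2 ⟨⟨x, hx⟩, hk x hx⟩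
  let K : TorsStage F := ⟨j.gens, j.rels ∪ t.biUnion fun x => (k x.1).rels, fun r hr => by
    rcases Finset.mem_union.1 hr with h | h
    · exact j.sub r h
    · obtain ⟨x, _, hx⟩ := Finset.mem_biUnion.1 h
      exact hg x.1 x.2 ▸ (k x.1).sub r hx⟩
  refine ⟨K, ⟨Finset.Subset.refl _, Finset.subset_union_left⟩, Set.disjoint_left.2 fun x hx hxA => ?_⟩
  obtain ⟨Ω, _, _, ξ, rfl⟩ := exists_geomPoint x
  obtain ⟨a, hat, ha⟩ := Set.mem_iUnion₂.1 (ht hxA)
  have hle : k a.1 ≤ K := ⟨(hg a.1 a.2).le, fun r hr => Finset.mem_union.2 (Or.inr (Finset.mem_biUnion.2 ⟨a, hat, hr⟩))⟩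
  have := epi_stage_map (homOfLE hle) (hg a.1 a.2).symm
  have h0 : Subsingleton ((EtCoh.stalk ξ).obj (D.obj (k a.1))) := by
    by_contra h
    exact ha ((mem_supp_iff ξ).2 h)
  exact (mem_supp_iff ξ).1 hx
    ((epi_iff_stalks (D.map (homOfLE hle))).1 inferInstance Ω ξ).subsingleton

/-- torsion sheaves vanishing on a compact set of the constructible topology are colimits of
constructible sheaves vanishing there -/
theorem exists_colim_avoiding [CompactSpace X] [QuasiSeparatedSpace X] {A : Set X}
    (hA : @IsCompact X (constructibleTopology X) A) (hF : EtCoh.IsTorsion F) (hFA : Disjoint (EtPBC.supp F) A) :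
    ∃ (J : Type (u + 1)) (_ : SmallCategory J) (_ : IsFiltered J) (D : J ⥤ EtCoh.Ab X) (c : Cocone D)
      (_ : IsColimit c), c.pt = F ∧ ∀ j, EtPBC.IsConstructible (D.obj j) ∧ Disjoint (EtPBC.supp (D.obj j)) A := by
  let P := {j : TorsStage F // Disjoint (EtPBC.supp ((stageFunctor F).obj j)) A}
  have hcof : ∀ j, ∃ k : P, j ≤ k.1 := fun j => by
    obtain ⟨k, h, hk⟩ := exists_stage_avoiding hA hFA j
    exact ⟨⟨k, hk⟩, h⟩
  haveI : Nonempty P := ⟨(hcof (Classical.arbitrary _)).choose⟩
  haveI : IsDirectedOrder P := ⟨fun a b => by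
    obtain ⟨c, hac, hbc⟩ := exists_ge_ge a.1 b.1
    obtain ⟨d, hd⟩ := hcof c
    exact ⟨d, hac.trans hd, hbc.trans hd⟩⟩
  let i : P ⥤ TorsStage F := Monotone.functor (f := fun j : P => j.1) fun a b h => h
  haveI : i.Final := Functor.final_of_exists_of_isFiltered _
    (fun d => ⟨(hcof d).choose, ⟨homOfLE (hcof d).choose_spec⟩⟩) (fun {_ c} _ _ => ⟨c, 𝟙 c, Subsingleton.elim _ _⟩)
  obtain ⟨hc⟩ := nonempty_isColimit_stageCocone hF
  exact ⟨P, inferInstance, inferInstance, i ⋙ stageFunctor F, (stageCocone F).whisker i,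
    (Functor.Final.isColimitWhiskerEquiv i (stageCocone F)).symm hc, rfl, fun j => ⟨isConstructible_stage j.1, j.2⟩⟩

end Groth.Agent.EtFound
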