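import Groth.Agent.EtFound.PushImm
import Mathlib.AlgebraicGeometry.Morphisms.Immersion

/-! etale neighbourhoods lift along immersions -/

universe u

open CategoryTheory CategoryTheory.Limits AlgebraicGeometry Opposite

namespace Groth.Agent.EtFound

set_option backward.isDefEq.respectTransparency.types false

theorem liftable_comp {X W Y : Scheme.{u}} (g : X ⟶ W) (h : W ⟶ Y) (hg : Liftable g) (hh : Liftable h) :
    Liftable (g ≫ h) := by
  intro U x
  obtain ⟨V, a, x', rfl⟩ := hg U x
  obtain ⟨V', b, y, hy⟩ := hh V ((pullback.fst V.hom g).base x')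
  -- the map `V' ×_Y X ⟶ V' ×_Y W ⟶ V`, paired with the projection to `X`
  let m : pullback V'.hom (g ≫ h) ⟶ pullback V'.hom h :=
    pullback.lift (pullback.fst _ _) (pullback.snd _ _ ≫ g) (pullback.condition.trans (Category.assoc _ _ _).symm)
  have hb : b.left ≫ V.hom = pullback.snd V'.hom h := MorphismProperty.Over.w b
  let n : pullback V'.hom (g ≫ h) ⟶ pullback V.hom g :=
    pullback.lift (m ≫ b.left) (pullback.snd _ _)
      ((Category.assoc _ _ _).trans ((congrArg (m ≫ ·) hb).trans (pullback.lift_snd _ _ _)))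
  refine ⟨V', (MorphismProperty.Over.homMk n (pullback.lift_snd _ _ _) : (EtCoh.bc (g ≫ h)).obj V' ⟶ (EtCoh.bc g).obj V) ≫ a, ?_⟩
  obtain ⟨z, hz1, hz2⟩ := Scheme.Pullback.exists_preimage_pullback (f := b.left) (g := pullback.fst V.hom g) y x' hy
  let P := pullback b.left (pullback.fst V.hom g)
  let q1 : P ⟶ pullback V'.hom h := pullback.fst _ _
  let q2 : P ⟶ pullback V.hom g := pullback.snd _ _
  have hq : q1 ≫ pullback.snd V'.hom h = q2 ≫ pullback.snd V.hom g ≫ g :=
    (congrArg (q1 ≫ ·) hb.symm).trans ((Category.assoc _ _ _).symm.trans ((congrArg (· ≫ V.hom) pullback.condition).trans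
      ((Category.assoc _ _ _).trans (congrArg (q2 ≫ ·) pullback.condition))))
  let p : P ⟶ pullback V'.hom (g ≫ h) :=
    pullback.lift (q1 ≫ pullback.fst _ _) (q2 ≫ pullback.snd _ _)
      ((Category.assoc _ _ _).trans ((congrArg (q1 ≫ ·) pullback.condition).trans
        ((Category.assoc _ _ _).symm.trans ((congrArg (· ≫ h) hq).trans (by simp)))))
  have pm : p ≫ m = q1 := by
    apply pullback.hom_ext
    · refine (Category.assoc _ _ _).trans ((congrArg (p ≫ ·) (pullback.lift_fst _ _ _)).trans ?_)
      exact pullback.lift_fst _ _ _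
    · refine (Category.assoc _ _ _).trans ((congrArg (p ≫ ·) (pullback.lift_snd _ _ _)).trans ?_)
      refine (Category.assoc _ _ _).symm.trans ((congrArg (· ≫ g) (pullback.lift_snd _ _ _)).trans ?_)
      exact (Category.assoc _ _ _).trans hq.symm
  have pn : p ≫ n = q2 := by
    apply pullback.hom_ext
    · refine (Category.assoc _ _ _).trans ((congrArg (p ≫ ·) (pullback.lift_fst _ _ _)).trans ?_)
      exact (Category.assoc _ _ _).symm.trans ((congrArg (· ≫ b.left) pm).trans pullback.condition)
    · refine (Category.assoc _ _ _).trans ((congrArg (p ≫ ·) (pullback.lift_snd _ _ _)).trans ?_)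
      exact pullback.lift_snd _ _ _
  refine ⟨p.base z, ?_⟩
  change (n ≫ a.left).base (p.base z) = a.left.base x'
  rw [Scheme.Hom.comp_apply, ← Scheme.Hom.comp_apply p n, pn]
  exact congrArg a.left.base hz2

theorem liftable_of_isImmersion {X Y : Scheme.{u}} (f : X ⟶ Y) [IsImmersion f] : Liftable f := by
  rw [← f.liftCoborder_ι]
  exact liftable_comp _ _ (liftable_of_isClosedImmersion _) (liftable_of_isOpenImmersion _)

end Groth.Agent.EtFound
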