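import Groth.Agent.EtFound.FiniteBaseChange
import Groth.Agent.EtFound.IntegralSplit

/-! stalks of direct images along integral morphisms: locally constant families over the profinite fibre -/

universe u

open CategoryTheory CategoryTheory.Limits AlgebraicGeometry Opposite

namespace Groth.Agent.EtFound

set_option backward.isDefEq.respectTransparency.types false

variable {X Y : Scheme.{u}} (f : X ⟶ Y) {Ω : Type u} [Field Ω] [IsAlgClosed Ω]
  {η : Spec (CommRingCat.of Ω) ⟶ Y}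

theorem mem_opens_congr {T : Type*} [TopologicalSpace T] {O : TopologicalSpace.Opens T} {x y : T}
    (e : x = y) (h : y ∈ O) : x ∈ O := e ▸ h

/-- the point of the geometric fibre attached to a geometric point above -/
noncomputable def fibrePt {ξ : Spec (CommRingCat.of Ω) ⟶ X} (hξ : ξ ≫ f = η) : ↥(pullback f η) :=
  (pullback.lift ξ (𝟙 _) (hξ.trans (Category.id_comp η).symm)).base (default : Spec (CommRingCat.of Ω))

/-- the geometric fibre maps to every stage -/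
noncomputable def fibreTo {V : Y.Etale} (v : (Scheme.pointSmallEtale η).fiber.obj V) :
    pullback f η ⟶ ((EtCoh.bc f).obj V).left :=
  pullback.lift (pullback.snd f η ≫ (v.left : Spec (CommRingCat.of Ω) ⟶ V.left)) (pullback.fst f η) (by
    refine (Category.assoc _ _ _).trans ?_
    exact (congrArg (pullback.snd f η ≫ ·) (CategoryTheory.Over.w v)).trans pullback.condition.symm)

theorem fibreTo_pt {ξ : Spec (CommRingCat.of Ω) ⟶ X} (hξ : ξ ≫ f = η) {V : Y.Etale}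
    (v : (Scheme.pointSmallEtale η).fiber.obj V) :
    (fibreTo f v).base (fibrePt f hξ) = ((liftPt f hξ v).left : Spec (CommRingCat.of Ω) ⟶
      ((EtCoh.bc f).obj V).left).base (default : Spec (CommRingCat.of Ω)) := by
  refine (Scheme.Hom.comp_apply _ _ _).symm.trans (congrArg (fun k : Spec (CommRingCat.of Ω) ⟶
    ((EtCoh.bc f).obj V).left => k.base (default : Spec (CommRingCat.of Ω))) ?_)
  refine pullback.hom_ext ?_ ?_
  · refine Eq.trans ?_ (liftPt_fst f hξ v).symm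
    refine (Category.assoc _ _ _).trans ((congrArg (_ ≫ ·) (pullback.lift_fst _ _ _)).trans ?_)
    exact (Category.assoc _ _ _).symm.trans ((congrArg (· ≫ _) (pullback.lift_snd _ _ _)).trans (Category.id_comp _))
  · refine Eq.trans ?_ (pullback.lift_snd _ _ _).symm
    exact (Category.assoc _ _ _).trans ((congrArg (_ ≫ ·) (pullback.lift_snd _ _ _)).trans (pullback.lift_fst _ _ _))

theorem exists_fibrePt_eq [IsIntegralHom f] (z : ↥(pullback f η)) :
    ∃ (ξ : Spec (CommRingCat.of Ω) ⟶ X) (hξ : ξ ≫ f = η), fibrePt f hξ = z := by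
  obtain ⟨l, hl, hlz⟩ := exists_section_of_integral (pullback.snd f η) z
  have hξ : (l ≫ pullback.fst f η) ≫ f = η := by
    rw [Category.assoc, pullback.condition, ← Category.assoc, hl, Category.id_comp]
  refine ⟨_, hξ, ?_⟩
  have e : pullback.lift (l ≫ pullback.fst f η) (𝟙 _) (hξ.trans (Category.id_comp η).symm) = l :=
    pullback.hom_ext (pullback.lift_fst _ _ _) ((pullback.lift_snd _ _ _).trans hl.symm)
  exact (congrArg (fun k : Spec (CommRingCat.of Ω) ⟶ pullback f η =>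
    k.base (default : Spec (CommRingCat.of Ω))) e).trans hlz

theorem compactSpace_fibre [IsIntegralHom f] (η : Spec (CommRingCat.of Ω) ⟶ Y) : CompactSpace ↥(pullback f η) := by
  have : IsAffine (pullback f η) := isAffine_of_isAffineHom (pullback.snd f η)
  infer_instance

/-- opens of the geometric fibre come from finite stages -/
theorem exists_stage_open [IsIntegralHom f] {ξ₀ : Spec (CommRingCat.of Ω) ⟶ X} (hξ₀ : ξ₀ ≫ f = η)
    (E : Set ↥(pullback f η)) (hE : IsOpen E) (h₀ : fibrePt f hξ₀ ∈ E) :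
    ∃ (V : Y.Etale) (v : (Scheme.pointSmallEtale η).fiber.obj V) (O : ((EtCoh.bc f).obj V).left.Opens),
      ((liftPt f hξ₀ v).left : Spec (CommRingCat.of Ω) ⟶ ((EtCoh.bc f).obj V).left).base
          (default : Spec (CommRingCat.of Ω)) ∈ O ∧
      ∀ (ξ : Spec (CommRingCat.of Ω) ⟶ X) (hξ : ξ ≫ f = η),
        ((liftPt f hξ v).left : Spec (CommRingCat.of Ω) ⟶ ((EtCoh.bc f).obj V).left).base
          (default : Spec (CommRingCat.of Ω)) ∈ O → fibrePt f hξ ∈ E := by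
  haveI := compactSpace_fibre f η
  classical
  have hsep : ∀ z : {z : ↥(pullback f η) // z ∉ E},
      ∃ (V : Y.Etale) (v : (Scheme.pointSmallEtale η).fiber.obj V) (O O' : ((EtCoh.bc f).obj V).left.Opens),
        Disjoint O O' ∧ ((liftPt f hξ₀ v).left : Spec (CommRingCat.of Ω) ⟶ ((EtCoh.bc f).obj V).left).base
          (default : Spec (CommRingCat.of Ω)) ∈ O ∧ (fibreTo f v).base z.1 ∈ O' := by
    intro z
    obtain ⟨ξ, hξ, e⟩ := exists_fibrePt_eq f z.1
    obtain ⟨V, v, O, O', hd, h1, h2⟩ := exists_separation f hξ₀ hξ (by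
      rintro rfl
      exact z.2 (e ▸ h₀))
    refine ⟨V, v, O, O', hd, h1, ?_⟩
    rw [← e, fibreTo_pt]
    exact h2
  choose V v O O' hd h1 h2 using hsep
  obtain ⟨t, ht⟩ := hE.isClosed_compl.isCompact.elim_finite_subcover
    (fun z : {z : ↥(pullback f η) // z ∉ E} => (fibreTo f (v z)).base ⁻¹' (O' z : Set _))
    (fun z => (O' z).2.preimage (fibreTo f (v z)).continuous)
    (fun z hz => Set.mem_iUnion.2 ⟨⟨z, hz⟩, Set.mem_preimage.2 (h2 ⟨z, hz⟩)⟩)
  obtain ⟨⟨W, w⟩, hS⟩ := IsCofiltered.inf_objs_exists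
    (t.image fun z => ((Scheme.pointSmallEtale η).fiber).elementsMk (V z) (v z))
  have hb : ∀ z : {z // z ∈ t}, ∃ b : W ⟶ V z.1, (Scheme.pointSmallEtale η).fiber.map b w = v z.1 := fun z =>
    ⟨_, (hS (Finset.mem_image_of_mem _ z.2)).some.2⟩
  choose b hb using hb
  let O₀ : ((EtCoh.bc f).obj W).left.Opens :=
    ⟨⋂ z : {z // z ∈ t}, ((EtCoh.bc f).map (b z)).left.base ⁻¹' (O z.1 : Set _),
      isOpen_iInter_of_finite fun z => (O z.1).2.preimage ((EtCoh.bc f).map (b z)).left.continuous⟩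
  have hmap : ∀ (ξ : Spec (CommRingCat.of Ω) ⟶ X) (hξ : ξ ≫ f = η) (z : {z // z ∈ t}),
      ((EtCoh.bc f).map (b z)).left.base (((liftPt f hξ w).left : Spec (CommRingCat.of Ω) ⟶
        ((EtCoh.bc f).obj W).left).base (default : Spec (CommRingCat.of Ω))) =
      ((liftPt f hξ (v z.1)).left : Spec (CommRingCat.of Ω) ⟶ ((EtCoh.bc f).obj (V z.1)).left).base
        (default : Spec (CommRingCat.of Ω)) := fun ξ hξ z => by
    rw [← hb z, ← liftPt_map f hξ (b z) w]
    exact (Scheme.Hom.comp_apply _ _ _).symm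
  refine ⟨W, w, O₀, Set.mem_iInter.2 fun z => ?_, fun ξ hξ hO => ?_⟩
  · exact Set.mem_preimage.2 (mem_opens_congr (hmap ξ₀ hξ₀ z) (h1 z.1))
  · by_contra hE'
    obtain ⟨z, hz⟩ := Set.mem_iUnion.1 (ht hE')
    obtain ⟨hzt, hz⟩ := Set.mem_iUnion.1 hz
    refine Set.disjoint_left.1 (TopologicalSpace.Opens.coe_disjoint.2 (hd z)) ?_
      (mem_opens_congr (fibreTo_pt f hξ (v z)).symm hz)
    exact mem_opens_congr (hmap ξ hξ ⟨z, hzt⟩).symm (Set.mem_iInter.1 hO ⟨z, hzt⟩)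

variable {A : Type (u + 2)} [Category.{u + 1} A] [HasColimitsOfSize.{u, u} A] [HasProducts.{u} A]
  [((EtCoh.bc f).sheafPushforwardContinuous A Y.smallEtaleTopology X.smallEtaleTopology).IsRightAdjoint]
  {FA : A → A → Type*} {CA : A → Type (u + 1)}
  [∀ M N, FunLike (FA M N) (CA M) (CA N)] [ConcreteCategory.{u + 1} A FA]
  [PreservesFilteredColimitsOfSize.{u, u} (forget A)] [X.smallEtaleTopology.HasSheafCompose (forget A)]

/-- locally constant families on the geometric fibre come from the stalk of the direct image -/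
theorem exists_preimage_of_local [IsIntegralHom f] (G : Sheaf X.smallEtaleTopology A)
    (c : ∀ ξ : {ξ : Spec (CommRingCat.of Ω) ⟶ X // ξ ≫ f = η},
      ToType ((Scheme.pointSmallEtale ξ.1).sheafFiber.obj G))
    (hc : ∀ ξ₀ : {ξ : Spec (CommRingCat.of Ω) ⟶ X // ξ ≫ f = η},
      ∃ (V : Y.Etale) (v : (Scheme.pointSmallEtale η).fiber.obj V) (O : ((EtCoh.bc f).obj V).left.Opens)
        (σ : ToType (G.obj.obj (op (restrictEtale ((EtCoh.bc f).obj V) O)))) (E : Set ↥(pullback f η)),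
        IsOpen E ∧ fibrePt f ξ₀.2 ∈ E ∧
        ((liftPt f ξ₀.2 v).left : Spec (CommRingCat.of Ω) ⟶ ((EtCoh.bc f).obj V).left).base
          (default : Spec (CommRingCat.of Ω)) ∈ O ∧
        ∀ (ξ : {ξ : Spec (CommRingCat.of Ω) ⟶ X // ξ ≫ f = η})
          (r : (Scheme.pointSmallEtale ξ.1).fiber.obj (restrictEtale ((EtCoh.bc f).obj V) O)),
          (Scheme.pointSmallEtale ξ.1).fiber.map (restrictEtaleHom ((EtCoh.bc f).obj V) O) r = liftPt f ξ.2 v →
          fibrePt f ξ.2 ∈ E →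
          (Scheme.pointSmallEtale ξ.1).toPresheafFiber _ r G.obj σ = c ξ) :
    ∃ p, ∀ ξ : {ξ : Spec (CommRingCat.of Ω) ⟶ X // ξ ≫ f = η}, (pushStalkAt f ξ.2).app G p = c ξ := by
  haveI := compactSpace_fibre f η
  choose V v O σ E hEo hE₀ hO hσ using hc
  choose V₂ v₂ O₂ hO₂ hE₂ using fun ξ : {ξ : Spec (CommRingCat.of Ω) ⟶ X // ξ ≫ f = η} =>
    exists_stage_open f ξ.2 (E ξ) (hEo ξ) (hE₀ ξ)
  classical
  obtain ⟨t, ht⟩ := (isCompact_univ (X := ↥(pullback f η))).elim_finite_subcover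
    (fun ξ : {ξ : Spec (CommRingCat.of Ω) ⟶ X // ξ ≫ f = η} =>
      (fibreTo f (v ξ)).base ⁻¹' (O ξ : Set _) ∩ (fibreTo f (v₂ ξ)).base ⁻¹' (O₂ ξ : Set _))
    (fun ξ => ((O ξ).2.preimage (fibreTo f (v ξ)).continuous).inter
      ((O₂ ξ).2.preimage (fibreTo f (v₂ ξ)).continuous))
    (fun z _ => by
      obtain ⟨ξ, hξ, rfl⟩ := exists_fibrePt_eq f z
      exact Set.mem_iUnion.2 ⟨⟨ξ, hξ⟩, Set.mem_preimage.2 (mem_opens_congr (fibreTo_pt f hξ _) (hO ⟨ξ, hξ⟩)),
        Set.mem_preimage.2 (mem_opens_congr (fibreTo_pt f hξ _) (hO₂ ⟨ξ, hξ⟩))⟩)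
  obtain ⟨⟨W, w⟩, hS⟩ := IsCofiltered.inf_objs_exists
    ((t.image fun ξ => ((Scheme.pointSmallEtale η).fiber).elementsMk (V ξ) (v ξ)) ∪
      (t.image fun ξ => ((Scheme.pointSmallEtale η).fiber).elementsMk (V₂ ξ) (v₂ ξ)))
  have hb : ∀ a : {ξ // ξ ∈ t}, ∃ b : W ⟶ V a.1, (Scheme.pointSmallEtale η).fiber.map b w = v a.1 := fun a =>
    ⟨_, (hS (Finset.mem_union_left _ (Finset.mem_image_of_mem _ a.2))).some.2⟩
  choose b hb using hb
  have hb₂ : ∀ a : {ξ // ξ ∈ t}, ∃ b : W ⟶ V₂ a.1, (Scheme.pointSmallEtale η).fiber.map b w = v₂ a.1 := fun a =>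
    ⟨_, (hS (Finset.mem_union_right _ (Finset.mem_image_of_mem _ a.2))).some.2⟩
  choose b₂ hb₂ using hb₂
  let Q : {ξ // ξ ∈ t} → ((EtCoh.bc f).obj W).left.Opens := fun a =>
    ((EtCoh.bc f).map (b a)).left ⁻¹ᵁ O a.1 ⊓ ((EtCoh.bc f).map (b₂ a)).left ⁻¹ᵁ O₂ a.1
  have hmap : ∀ (ξ : {ξ : Spec (CommRingCat.of Ω) ⟶ X // ξ ≫ f = η}) {V₀ : Y.Etale} (d : W ⟶ V₀)
      (v₀ : (Scheme.pointSmallEtale η).fiber.obj V₀), (Scheme.pointSmallEtale η).fiber.map d w = v₀ →
      ((EtCoh.bc f).map d).left.base (((liftPt f ξ.2 w).left : Spec (CommRingCat.of Ω) ⟶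
        ((EtCoh.bc f).obj W).left).base (default : Spec (CommRingCat.of Ω))) =
      ((liftPt f ξ.2 v₀).left : Spec (CommRingCat.of Ω) ⟶ ((EtCoh.bc f).obj V₀).left).base
        (default : Spec (CommRingCat.of Ω)) := fun ξ V₀ d v₀ hd => by
    subst hd
    rw [← liftPt_map f ξ.2 d w]
    exact (Scheme.Hom.comp_apply _ _ _).symm
  -- split the cover of the fibre
  let Z : {ξ // ξ ∈ t} → Scheme.{u} := fun a => (restrictEtale ((EtCoh.bc f).obj W) (Q a)).left
  let q : ∀ a, Z a ⟶ ((EtCoh.bc f).obj W).left := fun a => (restrictEtaleHom ((EtCoh.bc f).obj W) (Q a)).left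
  haveI hq : ∀ a, Etale (q a) := fun a => etale_left _
  have hd : Etale (Limits.Sigma.desc q) := IsZariskiLocalAtSource.sigmaDesc hq
  have hi : IsIntegralHom (pullback.fst W.hom f : ((EtCoh.bc f).obj W).left ⟶ W.left) :=
    inferInstanceAs (IsIntegralHom (pullback.fst W.hom f))
  obtain ⟨V₀, v₀, hv₀, ⟨z₀, hz₀⟩, h, hh⟩ := @exists_split' _ _ _
    (pullback.fst W.hom f : ((EtCoh.bc f).obj W).left ⟶ W.left) hi (Sigma.desc q) hd
    ((w.left : Spec (CommRingCat.of Ω) ⟶ W.left).base (default : Spec (CommRingCat.of Ω))) (fun x hx => by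
      obtain ⟨ξ, hξ, rfl⟩ := exists_liftPt_eq f w x hx
      obtain ⟨ξ₁, h1⟩ := Set.mem_iUnion.1 (ht (Set.mem_univ (fibrePt f hξ)))
      obtain ⟨ht₁, h1, h2⟩ := Set.mem_iUnion.1 h1
      refine ⟨(Sigma.ι Z ⟨ξ₁, ht₁⟩).base ⟨((liftPt f hξ w).left : Spec (CommRingCat.of Ω) ⟶
        ((EtCoh.bc f).obj W).left).base (default : Spec (CommRingCat.of Ω)), ?_, ?_⟩, ?_⟩
      · show ((EtCoh.bc f).map (b ⟨ξ₁, ht₁⟩)).left.base _ ∈ O ξ₁; exact (mem_opens_congr ((hmap ⟨ξ, hξ⟩ (b ⟨ξ₁, ht₁⟩) _ (hb _)).trans (fibreTo_pt f hξ _).symm) h1)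
      · show ((EtCoh.bc f).map (b₂ ⟨ξ₁, ht₁⟩)).left.base _ ∈ O₂ ξ₁; exact (mem_opens_congr ((hmap ⟨ξ, hξ⟩ (b₂ ⟨ξ₁, ht₁⟩) _ (hb₂ _)).trans (fibreTo_pt f hξ _).symm) h2)
      · rw [← Scheme.Hom.comp_apply, Sigma.ι_desc]
        rfl)
  have hWe : Etale W.hom := W.prop
  have : Etale (v₀ ≫ W.hom) := inferInstance
  let W' : Y.Etale := Scheme.Etale.mk (v₀ ≫ W.hom)
  let d : W' ⟶ W := MorphismProperty.Over.homMk v₀ rfl trivial
  obtain ⟨w', hw', -⟩ := exists_lift_point d w z₀ hz₀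
  have sq := (EtCoh.isPullback_bc_map f d).flip.isoPullback
  let e : ((EtCoh.bc f).obj W').left ⟶ pullback (pullback.fst W.hom f) v₀ :=
    pullback.lift ((EtCoh.bc f).map d).left (pullback.fst W'.hom f) (EtCoh.isPullback_bc_map f d).w
  let k : ((EtCoh.bc f).obj W').left ⟶ ∐ Z := e ≫ h
  have hk : k ≫ Sigma.desc q = ((EtCoh.bc f).map d).left := by
    exact (Category.assoc _ _ _).trans ((congrArg (e ≫ ·) hh).trans (pullback.lift_fst _ _ _))
  let P : {ξ // ξ ∈ t} → ((EtCoh.bc f).obj W').left.Opens := fun a => k ⁻¹ᵁ (Sigma.ι Z a).opensRange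
  let m : ∀ a, restrictEtale ((EtCoh.bc f).obj W') (P a) ⟶ restrictEtale ((EtCoh.bc f).obj W) (Q a) := fun a =>
    MorphismProperty.Over.homMk (IsOpenImmersion.lift (Sigma.ι Z a) ((P a).ι ≫ k)
      (by rintro _ ⟨x, rfl⟩; exact x.2)) (by
      have e1 : IsOpenImmersion.lift (Sigma.ι Z a) ((P a).ι ≫ k) (by rintro _ ⟨x, rfl⟩; exact x.2) ≫ q a =
          (P a).ι ≫ ((EtCoh.bc f).map d).left := by
        rw [← Sigma.ι_desc q a, IsOpenImmersion.lift_fac_assoc, Category.assoc, hk]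
      refine (congrArg (_ ≫ ·) (MorphismProperty.Over.w (restrictEtaleHom ((EtCoh.bc f).obj W) (Q a))).symm).trans ?_
      refine (Category.assoc _ _ _).symm.trans ((congrArg (· ≫ _) e1).trans ?_)
      exact (Category.assoc _ _ _).trans (congrArg (_ ≫ ·) (MorphismProperty.Over.w ((EtCoh.bc f).map d)))) trivial
  have hm : ∀ a, m a ≫ restrictEtaleHom ((EtCoh.bc f).obj W) (Q a) =
      restrictEtaleHom ((EtCoh.bc f).obj W') (P a) ≫ (EtCoh.bc f).map d := fun a =>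
    MorphismProperty.Over.Hom.ext (by
      refine (congrArg (_ ≫ ·) (Sigma.ι_desc q a).symm).trans ?_
      refine (Category.assoc _ _ _).symm.trans ((congrArg (· ≫ _) (IsOpenImmersion.lift_fac _ _ _)).trans ?_)
      exact (Category.assoc _ _ _).trans (congrArg (_ ≫ ·) hk))
  let n : ∀ a, restrictEtale ((EtCoh.bc f).obj W) (Q a) ⟶ restrictEtale ((EtCoh.bc f).obj (V a.1)) (O a.1) :=
    fun a => restrictEtaleMap ((EtCoh.bc f).map (b a)) (O a.1) (Q a) (fun x hx => hx.1)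
  obtain ⟨S, hS'⟩ := exists_glue_disjoint G ((EtCoh.bc f).obj W') P
    (fun a a' hne => by
      rw [disjoint_iff]
      refine TopologicalSpace.Opens.ext (Set.eq_empty_iff_forall_notMem.2 fun x hx => ?_)
      exact Set.disjoint_left.1 (TopologicalSpace.Opens.coe_disjoint.2
        (disjoint_opensRange_sigmaι Z a a' hne)) hx.1 hx.2)
    (eq_top_iff.2 fun x _ => by
      obtain ⟨a, y, hy⟩ := (sigmaOpenCover Z).exists_eq (k.base x)
      exact TopologicalSpace.Opens.mem_iSup.2 ⟨a, y, hy⟩)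
    (fun a => G.obj.map (m a ≫ n a).op (σ a.1))
  refine ⟨(Scheme.pointSmallEtale η).toPresheafFiber W' w'
    (((EtCoh.bc f).sheafPushforwardContinuous A Y.smallEtaleTopology X.smallEtaleTopology).obj G).obj S,
    fun ξ => (pushStalkAt_germ_apply f ξ.2 G w' S).trans ?_⟩
  let x := ((liftPt f ξ.2 w').left : Spec (CommRingCat.of Ω) ⟶ ((EtCoh.bc f).obj W').left).base
    (default : Spec (CommRingCat.of Ω))
  obtain ⟨a, y, hy⟩ := (sigmaOpenCover Z).exists_eq (k.base x)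
  obtain ⟨r, hr, -⟩ := exists_lift_point (restrictEtaleHom ((EtCoh.bc f).obj W') (P a))
    (liftPt f ξ.2 w') ⟨x, ⟨y, hy⟩⟩ rfl
  let r₁ := (Scheme.pointSmallEtale ξ.1).fiber.map (m a) r
  have hr₁ : (Scheme.pointSmallEtale ξ.1).fiber.map (restrictEtaleHom ((EtCoh.bc f).obj W) (Q a)) r₁ =
      liftPt f ξ.2 w := by
    refine (FunctorToTypes.map_comp_apply _ _ _ _).symm.trans ?_
    rw [hm a]
    refine (FunctorToTypes.map_comp_apply _ _ _ _).trans ?_
    rw [hr, liftPt_map, hw']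
  rw [← hr]
  refine ((Scheme.pointSmallEtale ξ.1).toPresheafFiber_w_apply _ r G.obj S).symm.trans ?_
  rw [hS']
  refine ((Scheme.pointSmallEtale ξ.1).toPresheafFiber_w_apply (m a ≫ n a) r G.obj (σ a.1)).trans ?_
  have hxQ : ((liftPt f ξ.2 w).left : Spec (CommRingCat.of Ω) ⟶ ((EtCoh.bc f).obj W).left).base
      (default : Spec (CommRingCat.of Ω)) ∈ Q a := by
    rw [← hr₁]
    exact Set.mem_of_eq_of_mem (s := (Q a).carrier) (Scheme.Hom.comp_apply _ _ _) (Subtype.coe_prop _)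
  refine hσ a.1 ξ _ ?_ (hE₂ a.1 ξ.1 ξ.2 (mem_opens_congr (hmap ξ (b₂ a) _ (hb₂ a)).symm hxQ.2))
  refine (FunctorToTypes.map_comp_apply _ _ _ _).symm.trans ?_
  rw [Category.assoc, restrictEtaleMap_comp, ← Category.assoc]
  refine (FunctorToTypes.map_comp_apply _ _ _ _).trans ?_
  refine (congrArg _ ((FunctorToTypes.map_comp_apply _ _ _ _).trans hr₁)).trans ?_
  rw [liftPt_map, hb]

end Groth.Agent.EtFound
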