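import Groth.Agent.EtFound.FiniteStalk
import Mathlib.FieldTheory.IsAlgClosed.AlgebraicClosure

/-! the base change map on stalks of direct images along finite morphisms -/

universe u

open CategoryTheory CategoryTheory.Limits AlgebraicGeometry Opposite

namespace Groth.Agent.EtFound

set_option backward.isDefEq.respectTransparency.types false

/-- direct image of sheaves with values in `A` -/
noncomputable abbrev pushA (A : Type (u + 2)) [Category.{u + 1} A] {P Q : Scheme.{u}} (h : P ⟶ Q) :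
    Sheaf P.smallEtaleTopology A ⥤ Sheaf Q.smallEtaleTopology A :=
  (EtCoh.bc h).sheafPushforwardContinuous A Q.smallEtaleTopology P.smallEtaleTopology

/-- inverse image of sheaves with values in `A` -/
noncomputable abbrev pullA (A : Type (u + 2)) [Category.{u + 1} A] {P Q : Scheme.{u}} (h : P ⟶ Q)
    [((EtCoh.bc h).sheafPushforwardContinuous A Q.smallEtaleTopology P.smallEtaleTopology).IsRightAdjoint] :
    Sheaf Q.smallEtaleTopology A ⥤ Sheaf P.smallEtaleTopology A :=
  (EtCoh.bc h).sheafPullback A Q.smallEtaleTopology P.smallEtaleTopology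

section bcSquare

variable {X Y X' Y' : Scheme.{u}} {f : X ⟶ Y} {g : Y' ⟶ Y} {f' : X' ⟶ Y'} {g' : X' ⟶ X}

/-- the canonical map `(V ×_Y Y') ×_{Y'} X' ⟶ (V ×_Y X) ×_X X'` -/
noncomputable def bcSquare (w : g' ≫ f = f' ≫ g) (V : Y.Etale) :
    (EtCoh.bc f').obj ((EtCoh.bc g).obj V) ⟶ (EtCoh.bc g').obj ((EtCoh.bc f).obj V) :=
  (MorphismProperty.Over.pullbackComp (P := EtCoh.etaleMP) (Q := ⊤) f' g).inv.app V ≫
    (MorphismProperty.Over.pullbackCongr (P := EtCoh.etaleMP) (Q := ⊤) w).inv.app V ≫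
      (MorphismProperty.Over.pullbackComp (P := EtCoh.etaleMP) (Q := ⊤) g' f).hom.app V

theorem bcSquare_fst (w : g' ≫ f = f' ≫ g) (V : Y.Etale) :
    (bcSquare w V).left ≫ pullback.fst (pullback.snd V.hom f) g' ≫ pullback.fst V.hom f =
      pullback.fst (pullback.snd V.hom g) f' ≫ pullback.fst V.hom g := by
  let e := (MorphismProperty.Over.pullbackComp (P := EtCoh.etaleMP) (Q := ⊤) f' g).app V
  have h1 := MorphismProperty.Over.pullbackComp_left_fst_fst (P := EtCoh.etaleMP) (Q := ⊤) g' f V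
  have h2 := MorphismProperty.Over.pullbackComp_left_fst_fst (P := EtCoh.etaleMP) (Q := ⊤) f' g V
  have h3 : ((MorphismProperty.Over.pullbackCongr (P := EtCoh.etaleMP) (Q := ⊤) w).inv.app V).left ≫
      pullback.fst V.hom (g' ≫ f) = pullback.fst V.hom (f' ≫ g) := by
    rw [← MorphismProperty.Over.pullbackCongr_hom_app_left_fst w V, ← Category.assoc]
    exact (congrArg (· ≫ _) (congr(($((MorphismProperty.Over.pullbackCongr (P := EtCoh.etaleMP) (Q := ⊤)
      w).inv_hom_id_app V)).left))).trans (Category.id_comp _)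
  refine (Category.assoc _ _ _).trans ?_
  refine (congrArg (((MorphismProperty.Over.pullbackComp (P := EtCoh.etaleMP) (Q := ⊤) f' g).inv.app V).left ≫ ·)
    ((Category.assoc _ _ _).trans ((congrArg (_ ≫ ·) h1).trans h3))).trans ?_
  refine (congrArg (((MorphismProperty.Over.pullbackComp (P := EtCoh.etaleMP) (Q := ⊤) f' g).inv.app V).left ≫ ·)
    h2.symm).trans ?_
  exact (Category.assoc _ _ _).symm.trans ((congrArg (· ≫ _) (congr(($(e.inv_hom_id)).left))).trans (Category.id_comp _))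

variable {Ω : Type u} [Field Ω] [IsSepClosed Ω] {η' : Spec (CommRingCat.of Ω) ⟶ Y'}
  {ξ' : Spec (CommRingCat.of Ω) ⟶ X'}

theorem bcSquare_fiber (w : g' ≫ f = f' ≫ g) (hξ' : ξ' ≫ f' = η') (hξ : (ξ' ≫ g') ≫ f = η' ≫ g)
    {V : Y.Etale} (v : (Scheme.pointSmallEtale (η' ≫ g)).fiber.obj V) :
    (Scheme.pointSmallEtale ξ').fiber.map (bcSquare w V) (liftPt f' hξ' ((bcFiberEquiv g η' V).symm v)) =
      (bcFiberEquiv g' ξ' _).symm (liftPt f hξ v) := by
  apply (bcFiberEquiv g' ξ' _).injective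
  rw [Equiv.apply_symm_apply]
  apply CategoryTheory.Over.OverMorphism.ext
  let t := liftPt f' hξ' ((bcFiberEquiv g η' V).symm v)
  change (((t.left : Spec (CommRingCat.of Ω) ⟶ ((EtCoh.bc f').obj ((EtCoh.bc g).obj V)).left) ≫ (bcSquare w V).left) ≫
    pullback.fst (pullback.snd V.hom f) g') = pullback.lift (v.left : Spec (CommRingCat.of Ω) ⟶ V.left) (ξ' ≫ g') _
  refine pullback.hom_ext ?_ ?_
  · refine (Category.assoc _ _ _).trans ((Category.assoc _ _ _).trans ?_)
    refine (congrArg (_ ≫ ·) (bcSquare_fst w V)).trans ?_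
    refine (Category.assoc _ _ _).symm.trans ?_
    refine (congrArg (· ≫ _) (liftPt_fst f' hξ' ((bcFiberEquiv g η' V).symm v))).trans ?_
    exact (pullback.lift_fst _ _ _).trans (pullback.lift_fst _ _ _).symm
  · refine (Category.assoc _ _ _).trans ?_
    refine (congrArg (_ ≫ ·) pullback.condition).trans ?_
    refine Eq.trans ?_ (pullback.lift_snd _ _ _).symm
    refine (Category.assoc _ _ _).symm.trans (congrArg (· ≫ g') ?_)
    refine (Category.assoc _ _ _).trans ((congrArg (_ ≫ ·) (MorphismProperty.Over.w (bcSquare w V))).trans ?_)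
    exact CategoryTheory.Over.w t

end bcSquare

section stalks

variable {A : Type (u + 2)} [Category.{u + 1} A] [HasColimitsOfSize.{u, u} A] [HasProducts.{u} A]
  [∀ {P Q : Scheme.{u}} (h : P ⟶ Q),
    ((EtCoh.bc h).sheafPushforwardContinuous A Q.smallEtaleTopology P.smallEtaleTopology).IsRightAdjoint]
  {X Y X' Y' : Scheme.{u}} (f : X ⟶ Y) (g : Y' ⟶ Y) (f' : X' ⟶ Y') (g' : X' ⟶ X)

variable {Ω : Type u} [Field Ω] [IsSepClosed Ω] {η' : Spec (CommRingCat.of Ω) ⟶ Y'}
  {ξ' : Spec (CommRingCat.of Ω) ⟶ X'}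

/-- a transpose of the composition isomorphisms, on stalks of direct images -/
theorem baseChange_stalk (w : g' ≫ f = f' ≫ g) (F : Sheaf X.smallEtaleTopology A)
    (β : (pullA A g).obj ((pushA A f).obj F) ⟶ (pushA A f').obj ((pullA A g').obj F))
    (hβ : ∀ V : Y.Etale,
      (((EtCoh.bc g).sheafAdjunctionContinuous A Y.smallEtaleTopology Y'.smallEtaleTopology).unit.app
          ((pushA A f).obj F)).hom.app (op V) ≫ β.hom.app (op ((EtCoh.bc g).obj V)) =
        (((EtCoh.bc g').sheafAdjunctionContinuous A X.smallEtaleTopology X'.smallEtaleTopology).unit.app F).hom.app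
          (op ((EtCoh.bc f).obj V)) ≫ ((pullA A g').obj F).obj.map (bcSquare w V).op)
    (hξ' : ξ' ≫ f' = η') (hξ : (ξ' ≫ g') ≫ f = η' ≫ g) :
    (sheafFiberPullIso g η').inv.app ((pushA A f).obj F) ≫ (Scheme.pointSmallEtale η').sheafFiber.map β ≫
        (pushStalkAt f' hξ').app ((pullA A g').obj F) =
      (pushStalkAt f hξ).app F ≫ (sheafFiberPullIso g' ξ').inv.app F := by
  refine (Scheme.pointSmallEtale (η' ≫ g)).presheafFiber_hom_ext fun V v => ?_
  let t := (bcFiberEquiv g η' V).symm v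
  let t2 := (bcFiberEquiv g' ξ' ((EtCoh.bc f).obj V)).symm (liftPt f hξ v)
  have h1 := sheafFiberPullIso_germ g η' ((pushA A f).obj F) V t
  rw [Equiv.apply_symm_apply] at h1
  have h2 := (Scheme.pointSmallEtale η').toPresheafFiber_naturality β.hom ((EtCoh.bc g).obj V) t
  have h3 := pushStalkAt_germ f' hξ' ((pullA A g').obj F) t
  have h4 := pushStalkAt_germ f hξ F v
  have h5 := sheafFiberPullIso_germ g' ξ' F ((EtCoh.bc f).obj V) t2
  rw [Equiv.apply_symm_apply] at h5
  have h6 := (Scheme.pointSmallEtale ξ').toPresheafFiber_w (bcSquare w V) (liftPt f' hξ' t) ((pullA A g').obj F).obj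
  rw [bcSquare_fiber w hξ' hξ v] at h6
  refine ((Category.assoc _ _ _).symm.trans ((congrArg (· ≫ _) h1).trans ?_)).trans
    (((Category.assoc _ _ _).symm.trans ((congrArg (· ≫ _) h4).trans h5)).symm)
  refine (Category.assoc _ _ _).trans ?_
  refine (congrArg (_ ≫ ·) ((Category.assoc _ _ _).symm.trans
    ((congrArg (· ≫ _) h2).trans ((Category.assoc _ _ _).trans (congrArg (_ ≫ ·) h3))))).trans ?_
  refine (Category.assoc _ _ _).symm.trans ((congrArg (· ≫ _) (hβ V)).trans ?_)
  exact (Category.assoc _ _ _).trans (congrArg (_ ≫ ·) h6)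

variable {FA : A → A → Type*} {CA : A → Type (u + 1)}
  [∀ M N, FunLike (FA M N) (CA M) (CA N)] [ConcreteCategory.{u + 1} A FA]

/-- geometric points of the base changed source over a geometric point of the new base -/
noncomputable def pointsEquiv {X Y X' Y' : Scheme.{u}} {f : X ⟶ Y} {g : Y' ⟶ Y} {f' : X' ⟶ Y'} {g' : X' ⟶ X}
    (h : IsPullback g' f' f g) {S : Scheme.{u}} (η : S ⟶ Y') :
    {ξ : S ⟶ X' // ξ ≫ f' = η} ≃ {ξ : S ⟶ X // ξ ≫ f = η ≫ g} where
  toFun ξ := ⟨ξ.1 ≫ g', by rw [Category.assoc, h.w, ← Category.assoc, ξ.2]⟩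
  invFun ξ := ⟨h.lift ξ.1 η ξ.2, h.lift_snd _ _ _⟩
  left_inv ξ := Subtype.ext (h.hom_ext (h.lift_fst _ _ _) ((h.lift_snd _ _ _).trans ξ.2.symm))
  right_inv ξ := Subtype.ext (h.lift_fst _ _ _)

variable [PreservesFilteredColimitsOfSize.{u, u} (forget A)]
  [∀ Z : Scheme.{u}, Z.smallEtaleTopology.HasSheafCompose (forget A)] [(forget A).ReflectsIsomorphisms]

/-- base change holds once stalks of both direct images are products over the points above -/
theorem isIso_baseChange_of_pushStalk (h : IsPullback g' f' f g) (F : Sheaf X.smallEtaleTopology A)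
    (β : (pullA A g).obj ((pushA A f).obj F) ⟶ (pushA A f').obj ((pullA A g').obj F))
    (hβ : ∀ V : Y.Etale,
      (((EtCoh.bc g).sheafAdjunctionContinuous A Y.smallEtaleTopology Y'.smallEtaleTopology).unit.app
          ((pushA A f).obj F)).hom.app (op V) ≫ β.hom.app (op ((EtCoh.bc g).obj V)) =
        (((EtCoh.bc g').sheafAdjunctionContinuous A X.smallEtaleTopology X'.smallEtaleTopology).unit.app F).hom.app
          (op ((EtCoh.bc f).obj V)) ≫ ((pullA A g').obj F).obj.map (bcSquare h.w V).op)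
    (H : ∀ (Ω : Type u) [Field Ω] [IsAlgClosed Ω] (η : Spec (CommRingCat.of Ω) ⟶ Y),
      Function.Bijective (fun p (ξ : {ξ : Spec (CommRingCat.of Ω) ⟶ X // ξ ≫ f = η}) =>
        (pushStalkAt f ξ.2).app F p))
    (H' : ∀ (Ω : Type u) [Field Ω] [IsAlgClosed Ω] (η : Spec (CommRingCat.of Ω) ⟶ Y'),
      Function.Bijective (fun p (ξ : {ξ : Spec (CommRingCat.of Ω) ⟶ X' // ξ ≫ f' = η}) =>
        (pushStalkAt f' ξ.2).app ((pullA A g').obj F) p)) : IsIso β := by
  refine isIso_of_stalks β fun Ω₀ _ _ η₀ => ?_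
  let Ω := AlgebraicClosure Ω₀
  let l : Spec (CommRingCat.of Ω) ⟶ Spec (CommRingCat.of Ω₀) :=
    Spec.map (CommRingCat.ofHom (algebraMap Ω₀ Ω))
  let η := l ≫ η₀
  let E := pointsEquiv h η
  let i := (sheafFiberPullIso g η).app ((pushA A f).obj F)
  let j := fun ξ : {ξ : Spec (CommRingCat.of Ω) ⟶ X' // ξ ≫ f' = η} => (sheafFiberPullIso g' ξ.1).app F
  have hb : ∀ {M N : A} (e : M ≅ N), Function.Bijective e.hom := fun e =>
    (isIso_iff_bijective ((forget A).map e.hom)).1 inferInstance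
  have hR : Function.Bijective (fun p (ξ : {ξ : Spec (CommRingCat.of Ω) ⟶ X' // ξ ≫ f' = η}) =>
      (j ξ).inv ((pushStalkAt f (E ξ).2).app F p)) :=
    ((Equiv.piCongrLeft' (fun ξ => ToType ((Scheme.pointSmallEtale ξ.1).sheafFiber.obj F)) E.symm).trans
      (Equiv.piCongrRight fun ξ => Equiv.ofBijective _ (hb (j ξ).symm))).bijective.comp (H Ω (η ≫ g))
  have hL : Function.Bijective ((fun p (ξ : {ξ : Spec (CommRingCat.of Ω) ⟶ X' // ξ ≫ f' = η}) =>
      (pushStalkAt f' ξ.2).app ((pullA A g').obj F) p) ∘ ((Scheme.pointSmallEtale η).sheafFiber.map β) ∘ i.inv) := by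
    refine Eq.mpr (congrArg Function.Bijective (funext fun p => funext fun ξ => ?_)) hR
    refine Eq.trans ?_ ((ConcreteCategory.congr_hom
      (baseChange_stalk f g f' g' h.w F β hβ ξ.2 (E ξ).2) p).trans (ConcreteCategory.comp_apply _ _ _))
    exact ((ConcreteCategory.comp_apply _ _ _).trans (ConcreteCategory.comp_apply _ _ _)).symm
  have hm : Function.Bijective ((Scheme.pointSmallEtale η).sheafFiber.map β) :=
    (Function.Bijective.of_comp_iff _ (hb i.symm)).1 ((Function.Bijective.of_comp_iff' (H' Ω η) _).1 hL)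
  have : IsIso ((Scheme.pointSmallEtale η).sheafFiber.map β) := (ConcreteCategory.isIso_iff_bijective _).2 hm
  have := (NatIso.isIso_map_iff (stalkExtIso A η₀ l) β).2 this
  exact (ConcreteCategory.isIso_iff_bijective ((Scheme.pointSmallEtale η₀).sheafFiber.map β)).1 this

end stalks

/-- the base change map of abelian sheaves, on sections coming from the base -/
theorem baseChange0_unit {X Y X' Y' : Scheme.{u}} (f : X ⟶ Y) (g : Y' ⟶ Y) (f' : X' ⟶ Y') (g' : X' ⟶ X)
    (w : g' ≫ f = f' ≫ g) (F : EtCoh.Ab X) (V : Y.Etale) :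
    ((EtCoh.pullPushAdj g).unit.app ((EtCoh.push f).obj F)).hom.app (op V) ≫
        (EtCoh.baseChange0 f g f' g' w F).hom.app (op ((EtCoh.bc g).obj V)) =
      ((EtCoh.pullPushAdj g').unit.app F).hom.app (op ((EtCoh.bc f).obj V)) ≫
        ((EtCoh.pull g').obj F).obj.map (bcSquare w V).op := by
  have h := ((EtCoh.pullPushAdj g).homEquiv _ _).apply_symm_apply
    ((EtCoh.push f).map ((EtCoh.pullPushAdj g').unit.app F) ≫ (EtCoh.pushComp f g').hom.app _ ≫
      (EtCoh.pushCongr w).hom.app _ ≫ (EtCoh.pushComp g f').inv.app _)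
  rw [Adjunction.homEquiv_unit] at h
  refine (congr(($h).hom.app (op V))).trans ?_
  simp [bcSquare, EtCoh.pushComp, EtCoh.pushCongr]
  rfl

end Groth.Agent.EtFound
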