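import Groth.Agent.EtFound.FiniteSep
import Groth.Agent.EtFound.IntegralSplit
import Groth.Agent.EtFound.PullStalk
import Groth.Agent.EtFound.Germ
import Mathlib.AlgebraicGeometry.Morphisms.Finite
import Mathlib.LinearAlgebra.FreeModule.Finite.Matrix

/-! geometric points over a geometric point along an integral morphism -/

universe u

open CategoryTheory CategoryTheory.Limits AlgebraicGeometry Opposite
open scoped TensorProduct

namespace Groth.Agent.EtFound

set_option backward.isDefEq.respectTransparency.types false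

variable {X Y : Scheme.{u}} (f : X ⟶ Y) {Ω : Type u} [Field Ω] [IsSepClosed Ω]
  {η : Spec (CommRingCat.of Ω) ⟶ Y}

/-- an integral scheme over an algebraically closed field has a rational point through each point -/
theorem exists_section_of_integral {P : Scheme.{u}} {Ω : Type u} [Field Ω] [IsAlgClosed Ω]
    (g : P ⟶ Spec (CommRingCat.of Ω)) [IsIntegralHom g] (w : P) :
    ∃ l : Spec (CommRingCat.of Ω) ⟶ P, l ≫ g = 𝟙 _ ∧ l.base (default : Spec (CommRingCat.of Ω)) = w := by
  have : IsAffine P := isAffine_of_isAffineHom g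
  let B := Γ(P, ⊤)
  obtain ⟨φ, hφ⟩ := Spec.map_surjective (P.isoSpec.inv ≫ g)
  have : IsIntegralHom (Spec.map φ) := hφ ▸ inferInstanceAs (IsIntegralHom (P.isoSpec.inv ≫ g))
  algebraize [φ.hom]
  have : Algebra.IsIntegral Ω B :=
    ⟨IsIntegralHom.SpecMap_iff.mp ‹IsIntegralHom (Spec.map φ)›⟩
  let w' : PrimeSpectrum B := P.isoSpec.hom.base w
  have : Algebra.IsIntegral Ω (B ⧸ w'.asIdeal) := ⟨fun x => by
    obtain ⟨b, rfl⟩ := Ideal.Quotient.mk_surjective x
    exact (Algebra.IsIntegral.isIntegral (R := Ω) b).map (Ideal.Quotient.mkₐ Ω _)⟩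
  let e : Ω ≃+* B ⧸ w'.asIdeal :=
    RingEquiv.ofBijective (algebraMap Ω (B ⧸ w'.asIdeal)) IsAlgClosed.algebraMap_bijective_of_isIntegral
  let χ : B →+* Ω := e.symm.toRingHom.comp (Ideal.Quotient.mk w'.asIdeal)
  refine ⟨Spec.map (CommRingCat.ofHom χ) ≫ P.isoSpec.inv, ?_, ?_⟩
  · rw [Category.assoc, ← hφ, ← Spec.map_comp, ← Spec.map_id]
    congr 1
    exact CommRingCat.hom_ext (RingHom.ext fun a => e.symm_apply_apply a)
  · rw [Scheme.Hom.comp_apply]
    have h1 : (Spec.map (CommRingCat.ofHom χ)).base (default : Spec (CommRingCat.of Ω)) = w' := by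
      refine PrimeSpectrum.ext (Ideal.ext fun b => ?_)
      change χ b ∈ (default : Spec (CommRingCat.of Ω)).asIdeal ↔ _
      rw [show (default : Spec (CommRingCat.of Ω)).asIdeal = ⊥ from
        ((Ideal.eq_bot_or_top _).resolve_right ((default : Spec (CommRingCat.of Ω)).2.ne_top))]
      show e.symm (Ideal.Quotient.mk w'.asIdeal b) = 0 ↔ _
      rw [e.symm.map_eq_zero_iff, Ideal.Quotient.eq_zero_iff_mem]
    rw [h1]
    show P.isoSpec.inv.base (P.isoSpec.hom.base w) = w
    rw [← Scheme.Hom.comp_apply, Iso.hom_inv_id]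
    rfl

/-- geometric points lift along integral morphisms through any point above -/
theorem exists_fac_of_integral {P Q : Scheme.{u}} {Ω : Type u} [Field Ω] [IsAlgClosed Ω]
    (g : P ⟶ Q) [IsIntegralHom g] (q : Spec (CommRingCat.of Ω) ⟶ Q) (w : P)
    (hw : g.base w = q.base (default : Spec (CommRingCat.of Ω))) :
    ∃ l : Spec (CommRingCat.of Ω) ⟶ P, l ≫ g = q ∧ l.base (default : Spec (CommRingCat.of Ω)) = w := by
  obtain ⟨z, hz, -⟩ := Scheme.Pullback.exists_preimage_pullback (f := g) (g := q) w default hw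
  obtain ⟨l, hl, hlz⟩ := exists_section_of_integral (pullback.snd g q) z
  refine ⟨l ≫ pullback.fst g q, ?_, by rw [Scheme.Hom.comp_apply, hlz, hz]⟩
  rw [Category.assoc, pullback.condition, ← Category.assoc, hl, Category.id_comp]

/-- the geometric point of `V ×_Y X` over `ξ` and a point of `V` -/
noncomputable def liftPt {ξ : Spec (CommRingCat.of Ω) ⟶ X} (hξ : ξ ≫ f = η) {V : Y.Etale}
    (v : (Scheme.pointSmallEtale η).fiber.obj V) : (Scheme.pointSmallEtale ξ).fiber.obj ((EtCoh.bc f).obj V) :=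
  CategoryTheory.Over.homMk
    (pullback.lift (v.left : Spec (CommRingCat.of Ω) ⟶ V.left) ξ ((CategoryTheory.Over.w v).trans hξ.symm))
    (pullback.lift_snd _ _ _)

theorem liftPt_fst {ξ : Spec (CommRingCat.of Ω) ⟶ X} (hξ : ξ ≫ f = η) {V : Y.Etale}
    (v : (Scheme.pointSmallEtale η).fiber.obj V) :
    ((liftPt f hξ v).left : Spec (CommRingCat.of Ω) ⟶ pullback V.hom f) ≫ pullback.fst V.hom f = v.left :=
  pullback.lift_fst _ _ _

theorem liftPt_map {ξ : Spec (CommRingCat.of Ω) ⟶ X} (hξ : ξ ≫ f = η) {V W : Y.Etale} (b : W ⟶ V)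
    (w : (Scheme.pointSmallEtale η).fiber.obj W) :
    (Scheme.pointSmallEtale ξ).fiber.map ((EtCoh.bc f).map b) (liftPt f hξ w) =
      liftPt f hξ ((Scheme.pointSmallEtale η).fiber.map b w) := by
  apply CategoryTheory.Over.OverMorphism.ext
  change ((liftPt f hξ w).left : Spec (CommRingCat.of Ω) ⟶ ((EtCoh.bc f).obj W).left) ≫
    ((EtCoh.bc f).map b).left = _
  refine pullback.hom_ext ?_ ?_
  · refine Eq.trans ?_ (liftPt_fst f hξ ((Scheme.pointSmallEtale η).fiber.map b w)).symm
    refine (Category.assoc _ _ _).trans ((congrArg (_ ≫ ·) (EtCoh.isPullback_bc_map f b).w).trans ?_)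
    refine (Category.assoc _ _ _).symm.trans ?_
    exact congrArg (· ≫ b.left) (liftPt_fst f hξ w)
  · refine (Category.assoc _ _ _).trans ?_
    refine (congrArg (_ ≫ ·) (MorphismProperty.Over.w ((EtCoh.bc f).map b))).trans ?_
    exact (pullback.lift_snd _ _ _).trans (pullback.lift_snd _ _ _).symm

/-- every point of `V ×_Y X` over the marked point of `V` underlies one of the distinguished geometric points -/
theorem exists_liftPt_eq {Ω : Type u} [Field Ω] [IsAlgClosed Ω] {η : Spec (CommRingCat.of Ω) ⟶ Y}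
    [IsIntegralHom f] {V : Y.Etale} (v : (Scheme.pointSmallEtale η).fiber.obj V) (w : ((EtCoh.bc f).obj V).left)
    (hw : (pullback.fst V.hom f).base w =
      (v.left : Spec (CommRingCat.of Ω) ⟶ V.left).base (default : Spec (CommRingCat.of Ω))) :
    ∃ (ξ : Spec (CommRingCat.of Ω) ⟶ X) (hξ : ξ ≫ f = η),
      ((liftPt f hξ v).left : Spec (CommRingCat.of Ω) ⟶ ((EtCoh.bc f).obj V).left).base
        (default : Spec (CommRingCat.of Ω)) = w := by
  obtain ⟨l, hl, hlw⟩ := exists_fac_of_integral (pullback.fst V.hom f)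
    (v.left : Spec (CommRingCat.of Ω) ⟶ V.left) w hw
  refine ⟨l ≫ pullback.snd V.hom f, ?_, ?_⟩
  · rw [Category.assoc, ← pullback.condition, ← Category.assoc, hl]
    exact CategoryTheory.Over.w v
  · have e : (pullback.lift (v.left : Spec (CommRingCat.of Ω) ⟶ V.left) (l ≫ pullback.snd V.hom f)
        (by
          rw [Category.assoc, ← pullback.condition, ← Category.assoc]
          exact congrArg (· ≫ V.hom) hl.symm)) = l :=
      pullback.hom_ext ((pullback.lift_fst _ _ _).trans hl.symm) (pullback.lift_snd _ _ _)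
    exact (congrArg (fun k : _ ⟶ pullback V.hom f => k.base (default : Spec (CommRingCat.of Ω))) e).trans hlw

/-- finitely many geometric points lie over a geometric point along a finite morphism -/
theorem finite_points [IsFinite f] {Ω : Type u} [Field Ω] (η : Spec (CommRingCat.of Ω) ⟶ Y) :
    Finite {ξ : Spec (CommRingCat.of Ω) ⟶ X // ξ ≫ f = η} := by
  let P := pullback f η
  have : IsAffine P := isAffine_of_isAffineHom (pullback.snd f η)
  obtain ⟨φ, hφ⟩ := Spec.map_surjective (P.isoSpec.inv ≫ pullback.snd f η)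
  have : IsFinite (Spec.map φ) := hφ ▸ inferInstanceAs (IsFinite (P.isoSpec.inv ≫ pullback.snd f η))
  algebraize [φ.hom]
  have : Module.Finite Ω Γ(P, ⊤) := (IsFinite.SpecMap_iff φ).mp ‹IsFinite (Spec.map φ)›
  have hfst : ∀ ξ : {ξ : Spec (CommRingCat.of Ω) ⟶ X // ξ ≫ f = η}, ξ.1 ≫ f = 𝟙 _ ≫ η := fun ξ => by
    rw [Category.id_comp]; exact ξ.2
  choose χ hχ using fun ξ : {ξ : Spec (CommRingCat.of Ω) ⟶ X // ξ ≫ f = η} =>
    Spec.map_surjective (pullback.lift ξ.1 (𝟙 _) (hfst ξ) ≫ P.isoSpec.hom)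
  have hcomm : ∀ ξ a, (χ ξ).hom (algebraMap Ω Γ(P, ⊤) a) = a := fun ξ a => by
    have e : φ ≫ χ ξ = 𝟙 _ := Spec.map_injective (by
      rw [Spec.map_comp, hχ, hφ, Spec.map_id, Category.assoc, Iso.hom_inv_id_assoc, pullback.lift_snd])
    exact congrArg (fun m : CommRingCat.of Ω ⟶ CommRingCat.of Ω => m.hom a) e
  let Φ : {ξ : Spec (CommRingCat.of Ω) ⟶ X // ξ ≫ f = η} → (Γ(P, ⊤) →ₐ[Ω] Ω) := fun ξ =>
    { (χ ξ).hom with
      commutes' := hcomm ξ }
  refine Finite.of_injective Φ fun ξ ξ' h => Subtype.ext ?_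
  have e : χ ξ = χ ξ' := CommRingCat.hom_ext (RingHom.ext fun b => DFunLike.congr_fun h b)
  have h2 := congrArg Spec.map e
  rw [hχ, hχ, cancel_mono] at h2
  exact (pullback.lift_fst _ _ _).symm.trans ((congrArg (· ≫ pullback.fst f η) h2).trans (pullback.lift_fst _ _ _))

/-- two geometric points over a geometric point are separated by disjoint opens, etale locally on the base -/
theorem exists_separation [IsIntegralHom f] {ξ ξ' : Spec (CommRingCat.of Ω) ⟶ X} (hξ : ξ ≫ f = η)
    (hξ' : ξ' ≫ f = η) (hne : ξ ≠ ξ') :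
    ∃ (V : Y.Etale) (v : (Scheme.pointSmallEtale η).fiber.obj V) (O O' : ((EtCoh.bc f).obj V).left.Opens),
      Disjoint O O' ∧
      ((liftPt f hξ v).left : Spec (CommRingCat.of Ω) ⟶ ((EtCoh.bc f).obj V).left).base
        (default : Spec (CommRingCat.of Ω)) ∈ O ∧
      ((liftPt f hξ' v).left : Spec (CommRingCat.of Ω) ⟶ ((EtCoh.bc f).obj V).left).base
        (default : Spec (CommRingCat.of Ω)) ∈ O' := by
  obtain ⟨A, j, hj, hy, -⟩ := Scheme.exists_affine_mem_range_and_range_subset
    (x := η.base (default : Spec (CommRingCat.of Ω))) (U := (⊤ : Y.Opens)) trivial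
  have hrange : Set.range η.base ⊆ Set.range j.base := by
    rintro _ ⟨w, rfl⟩
    rwa [Subsingleton.elim w default]
  obtain ⟨α, hα⟩ := Spec.map_surjective (IsOpenImmersion.lift j η hrange)
  have hαη : Spec.map α ≫ j = η := by rw [hα, IsOpenImmersion.lift_fac]
  have : IsAffine (pullback f j) := isAffine_of_isAffineHom (pullback.snd f j)
  let B := Γ(pullback f j, ⊤)
  let e : pullback f j ≅ Spec B := (pullback f j).isoSpec
  obtain ⟨φ, hφ⟩ := Spec.map_surjective (e.inv ≫ pullback.snd f j)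
  have : IsIntegralHom (Spec.map φ) := hφ ▸ inferInstanceAs (IsIntegralHom (e.inv ≫ pullback.snd f j))
  algebraize [φ.hom, α.hom]
  have : Algebra.IsIntegral A B :=
    ⟨IsIntegralHom.SpecMap_iff.mp ‹IsIntegralHom (Spec.map φ)›⟩
  obtain ⟨χ, hχ⟩ := Spec.map_surjective (pullback.lift ξ (Spec.map α) (hξ.trans hαη.symm) ≫ e.hom)
  obtain ⟨χ', hχ'⟩ := Spec.map_surjective (pullback.lift ξ' (Spec.map α) (hξ'.trans hαη.symm) ≫ e.hom)
  have hφχ : φ ≫ χ = α := Spec.map_injective (by
    rw [Spec.map_comp, hχ, hφ, Category.assoc, Iso.hom_inv_id_assoc, pullback.lift_snd])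
  have hφχ' : φ ≫ χ' = α := Spec.map_injective (by
    rw [Spec.map_comp, hχ', hφ, Category.assoc, Iso.hom_inv_id_assoc, pullback.lift_snd])
  let ψ : B →ₐ[A] Ω :=
    { χ.hom with
      commutes' := fun a => congrArg (fun m : A ⟶ CommRingCat.of Ω => m.hom a) hφχ }
  let ψ' : B →ₐ[A] Ω :=
    { χ'.hom with
      commutes' := fun a => congrArg (fun m : A ⟶ CommRingCat.of Ω => m.hom a) hφχ' }
  have hψne : ψ ≠ ψ' := fun h => hne (by
    have e' : χ = χ' := CommRingCat.hom_ext (RingHom.ext fun b => DFunLike.congr_fun h b)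
    have h2 := congrArg Spec.map e'
    rw [hχ, hχ', cancel_mono] at h2
    exact (pullback.lift_fst _ _ _).symm.trans
      ((congrArg (· ≫ pullback.fst f j) h2).trans (pullback.lift_fst _ _ _)))
  obtain ⟨A', _, _, hA', τ, ε, hε, hε1, hε0⟩ := exists_idempotent_etale (A := A) (B := B) ψ ψ' hψne
  let a : Spec (CommRingCat.of A') ⟶ Spec A := Spec.map (CommRingCat.ofHom (algebraMap A A'))
  have : Etale a := (HasRingHomProperty.Spec_iff (P := @Etale)).mpr (RingHom.etale_algebraMap.mpr hA')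
  let V : Y.Etale := Scheme.Etale.mk (a ≫ j)
  let vl : Spec (CommRingCat.of Ω) ⟶ Spec (CommRingCat.of A') := Spec.map (CommRingCat.ofHom τ.toRingHom)
  have hvl : vl ≫ a ≫ j = η := by
    rw [← Category.assoc, ← Spec.map_comp,
      show CommRingCat.ofHom (algebraMap A A') ≫ CommRingCat.ofHom τ.toRingHom = α from
        CommRingCat.hom_ext τ.comp_algebraMap]
    exact hαη
  let v : (Scheme.pointSmallEtale η).fiber.obj V := CategoryTheory.Over.homMk vl hvl
  let k : Spec B ⟶ X := e.inv ≫ pullback.fst f j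
  have P : IsPullback (Spec.map (CommRingCat.ofHom
      (Algebra.TensorProduct.includeRight (R := A) (A := B) (B := A')).toRingHom))
      (Spec.map (CommRingCat.ofHom (Algebra.TensorProduct.includeLeftRingHom : B →+* B ⊗[A] A')) ≫ k)
      (a ≫ j) f := by
    have P0 : IsPullback (pullback.fst (Spec.map φ) a ≫ k) (pullback.snd (Spec.map φ) a) f (a ≫ j) := by
      refine ((IsPullback.of_hasPullback (Spec.map φ) a).flip.paste_vert ?_).flip
      exact (IsPullback.of_iso (IsPullback.of_hasPullback f j) e (Iso.refl _) (Iso.refl _) (Iso.refl _)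
        (by simp [k]) (by simp [hφ]) (by simp) (by simp)).flip
    refine P0.flip.of_iso (pullbackSpecIso A B A') (Iso.refl _) (Iso.refl _) (Iso.refl _) ?_ ?_ ?_ ?_
    · rw [Iso.refl_hom, Category.comp_id]
      exact (pullbackSpecIso_hom_snd A B A').symm
    · rw [Iso.refl_hom, Category.comp_id, ← Category.assoc]
      exact congrArg (· ≫ k) (pullbackSpecIso_hom_fst' A B A').symm
    · simp
    · simp
  let σ : ((EtCoh.bc f).obj V).left ⟶ Spec (CommRingCat.of (B ⊗[A] A')) := P.isoPullback.inv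
  let O : ((EtCoh.bc f).obj V).left.Opens :=
    σ ⁻¹ᵁ (PrimeSpectrum.basicOpen ε : TopologicalSpace.Opens (PrimeSpectrum (B ⊗[A] A')))
  let O' : ((EtCoh.bc f).obj V).left.Opens :=
    σ ⁻¹ᵁ (PrimeSpectrum.basicOpen (1 - ε) : TopologicalSpace.Opens (PrimeSpectrum (B ⊗[A] A')))
  have hpt : ∀ {ζ : Spec (CommRingCat.of Ω) ⟶ X} (hζ : ζ ≫ f = η) (c : B ⟶ CommRingCat.of Ω)
      (hc : Spec.map c = pullback.lift ζ (Spec.map α) (hζ.trans hαη.symm) ≫ e.hom)
      (ω : B →ₐ[A] Ω) (hω : ω.toRingHom = c.hom),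
      ((liftPt f hζ v).left : Spec (CommRingCat.of Ω) ⟶ ((EtCoh.bc f).obj V).left) ≫ σ =
        Spec.map (CommRingCat.ofHom (Algebra.TensorProduct.lift ω τ fun _ _ => .all _ _).toRingHom) := by
    intro ζ hζ c hc ω hω
    have h2 : Spec.map (CommRingCat.ofHom (Algebra.TensorProduct.lift ω τ fun _ _ => .all _ _).toRingHom) ≫
        P.isoPullback.hom = pullback.lift vl ζ (hvl.trans hζ.symm) := by
      refine pullback.hom_ext ?_ ?_
      · rw [Category.assoc, P.isoPullback_hom_fst, ← Spec.map_comp, pullback.lift_fst]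
        refine congrArg Spec.map (CommRingCat.hom_ext (RingHom.ext fun b => ?_))
        show Algebra.TensorProduct.lift ω τ (fun _ _ => .all _ _) ((1 : B) ⊗ₜ[A] b) = τ b
        exact (Algebra.TensorProduct.lift_tmul ω τ _ 1 b).trans (by rw [map_one, one_mul])
      · rw [Category.assoc, P.isoPullback_hom_snd, ← Category.assoc, ← Spec.map_comp, pullback.lift_snd]
        have h3 : CommRingCat.ofHom (Algebra.TensorProduct.includeLeftRingHom : B →+* B ⊗[A] A') ≫
            CommRingCat.ofHom (Algebra.TensorProduct.lift ω τ fun _ _ => .all _ _).toRingHom = c := by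
          refine CommRingCat.hom_ext (RingHom.ext fun b => ?_)
          rw [← hω]
          show Algebra.TensorProduct.lift ω τ (fun _ _ => .all _ _) (b ⊗ₜ[A] (1 : A')) = ω b
          exact (Algebra.TensorProduct.lift_tmul ω τ _ b 1).trans (by rw [map_one, mul_one])
        rw [h3, hc]
        simp [k]
        exact pullback.lift_fst _ _ _
    exact (Iso.comp_inv_eq P.isoPullback).2 h2.symm
  have hmem : ∀ (m : B ⊗[A] A' →+* Ω) (x : B ⊗[A] A'), m x = 1 →
      (Spec.map (CommRingCat.ofHom m)).base (default : Spec (CommRingCat.of Ω)) ∈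
        (PrimeSpectrum.basicOpen x : TopologicalSpace.Opens (PrimeSpectrum (B ⊗[A] A'))) := fun m x hx hmem => by
    have : m x ∈ (default : Spec (CommRingCat.of Ω)).asIdeal := hmem
    rw [hx] at this
    exact (default : Spec (CommRingCat.of Ω)).2.ne_top ((Ideal.eq_top_iff_one _).2 this)
  refine ⟨V, v, O, O', ?_, ?_, ?_⟩
  · rw [disjoint_iff]
    have h0 : (PrimeSpectrum.basicOpen ε : TopologicalSpace.Opens (PrimeSpectrum (B ⊗[A] A'))) ⊓
        PrimeSpectrum.basicOpen (1 - ε) = ⊥ := by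
      rw [← PrimeSpectrum.basicOpen_mul, mul_sub, mul_one, hε.eq, sub_self, PrimeSpectrum.basicOpen_zero]
    exact congrArg (σ ⁻¹ᵁ ·) h0
  · exact Set.mem_of_eq_of_mem (s := ((PrimeSpectrum.basicOpen ε :
      TopologicalSpace.Opens (PrimeSpectrum (B ⊗[A] A'))) : Set (PrimeSpectrum (B ⊗[A] A'))))
      ((Scheme.Hom.comp_apply _ σ _).symm.trans
        (congrArg (fun k : Spec (CommRingCat.of Ω) ⟶ Spec (CommRingCat.of (B ⊗[A] A')) =>
          k.base (default : Spec (CommRingCat.of Ω))) (hpt hξ χ hχ ψ rfl)))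
      (hmem _ _ hε1)
  · exact Set.mem_of_eq_of_mem (s := ((PrimeSpectrum.basicOpen (1 - ε) :
      TopologicalSpace.Opens (PrimeSpectrum (B ⊗[A] A'))) : Set (PrimeSpectrum (B ⊗[A] A'))))
      ((Scheme.Hom.comp_apply _ σ _).symm.trans
        (congrArg (fun k : Spec (CommRingCat.of Ω) ⟶ Spec (CommRingCat.of (B ⊗[A] A')) =>
          k.base (default : Spec (CommRingCat.of Ω))) (hpt hξ' χ' hχ' ψ' rfl)))
      (hmem _ _ (by
        show Algebra.TensorProduct.lift ψ' τ _ (1 - ε) = 1
        rw [map_sub, map_one, hε0, sub_zero]))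

end Groth.Agent.EtFound
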