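import Groth.Agent.EtFound.ClopenDescend
import Groth.Agent.HensCouple7.ProperPair
import Groth.Agent.ConsPropLib.CoreProper
import Groth.Agent.ConsPropLib.NoethApprox
import Groth.Agent.Hensel.NoethPair
import Groth.Agent.Hensel.Henselization
import Groth.Agent.S2079

/-!
Proper schemes over arbitrary henselian pairs are henselian couples.
-/

set_option autoImplicit false
set_option linter.style.haveILetI false

universe u

open CategoryTheory CategoryTheory.Limits AlgebraicGeometry Topology Opposite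

namespace Groth.Agent.ProperHenselLifts

open Groth.Agent HensCouple7

theorem eq_empty_of_disjoint {A : Type u} [CommRing A] (I : Ideal A) [HenselianRing A I]
    {Y : Scheme.{u}} (h : Y ⟶ Spec (CommRingCat.of A)) [IsProper h] {D : Set Y} (hD : IsClosed D)
    (hDZ : D ∩ h ⁻¹' PrimeSpectrum.zeroLocus (I : Set A) = ∅) : D = ∅ := by
  by_contra hne
  obtain ⟨y, hy⟩ := Set.nonempty_iff_ne_empty.mpr hne
  obtain ⟨m, hm, hle⟩ := Ideal.exists_le_maximal (h y).asIdeal (h y).isPrime.ne_top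
  let p : PrimeSpectrum A := ⟨m, hm.isPrime⟩
  obtain ⟨z, hz, hzp⟩ : p ∈ h '' D :=
    (h.isClosedMap D hD).stableUnderSpecialization
      ((PrimeSpectrum.le_iff_specializes _ _).mp hle) ⟨y, hy, rfl⟩
  refine Set.eq_empty_iff_forall_notMem.mp hDZ z ⟨hz, ?_⟩
  show h z ∈ PrimeSpectrum.zeroLocus (I : Set A)
  rw [hzp]
  exact (HenselianRing.jac (I := I)).trans (sInf_le ⟨bot_le, hm⟩)

/-- A clopen subset of the closed part of a proper finitely presented scheme over a limit comes from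
a proper scheme over a stage. -/
theorem exists_stage {J : Type u} [SmallCategory J] [IsCofiltered J] (D : J ⥤ Scheme.{u}) (c : Cone D)
    (hc : IsLimit c) [∀ i, IsAffine (D.obj i)]
    (K : ∀ i, Set (D.obj i)) (hKc : ∀ i, IsClosed (K i))
    (hmap : ∀ {i j : J} (f : i ⟶ j), Set.MapsTo (D.map f) (K i) (K j))
    {Y : Scheme.{u}} (f : Y ⟶ c.pt) [IsProper f] [LocallyOfFinitePresentation f]
    (S : Set Y) (hS : ∀ y, y ∈ S ↔ ∀ i, c.π.app i (f y) ∈ K i) (V : Set S) (hV : IsClopen V) :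
    ∃ (i : J) (T : Scheme.{u}) (ξ : T ⟶ D.obj i) (_ : IsProper ξ) (q : Y ⟶ T)
      (_ : q ≫ ξ = f ≫ c.π.app i) (W : Set (ξ ⁻¹' K i)) (_ : IsClopen W)
      (hq : ∀ s : S, ξ (q s.1) ∈ K i),
      ∀ s : S, (⟨q s.1, hq s⟩ : ξ ⁻¹' K i) ∈ W ↔ s ∈ V := by
  haveI : ∀ {i j : J} (f : i ⟶ j), IsAffineHom (D.map f) := fun f => isAffineHom_of_isAffine _
  obtain ⟨i, Xi, fi, g, hm⟩ := ConsPropLib.hasModel hc f
  haveI := hm.lfp; haveI := hm.qc; haveI := hm.qs
  obtain ⟨j, φ, hj⟩ := MorLib.Desc.descend D c hc i (P := @IsProper)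
    (Q := @LocallyOfFinitePresentation) ConsPropLib.core_isProper fi hm.lfp
    (MorLib.Desc.of_two @IsProper hm.sq (IsPullback.of_hasPullback _ _) ‹IsProper f›)
  let xi : pullback fi (D.map φ) ⟶ D.obj j := pullback.snd fi (D.map φ)
  haveI : IsProper xi := hj
  let g' : Y ⟶ pullback fi (D.map φ) := pullback.lift g (f ≫ c.π.app j)
    (by rw [Category.assoc, c.w]; exact hm.sq.w)
  have hX : IsPullback g' f xi (c.π.app j) := by
    refine IsPullback.of_right ?_ (pullback.lift_snd _ _ _) (IsPullback.of_hasPullback fi (D.map φ))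
    rw [pullback.lift_fst, c.w]
    exact hm.sq
  haveI : CompactSpace ↥(pullback fi (D.map φ)) := QuasiCompact.compactSpace_of_compactSpace xi
  haveI : QuasiSeparatedSpace ↥(pullback fi (D.map φ)) := quasiSeparatedSpace_of_quasiSeparated xi
  let Z : ∀ k : Over j, Set ((MorLib.BC.diag D xi).obj k) := fun k =>
    pullback.snd xi (D.map k.hom) ⁻¹' K k.left
  have hproj : ∀ (k : Over j) (y : Y),
      pullback.snd xi (D.map k.hom) (MorLib.BC.proj D xi hX k y) = c.π.app k.left (f y) := fun k y =>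
    congrArg (fun q : Y ⟶ D.obj k.left => q y) (MorLib.BC.proj_snd D xi hX k)
  obtain ⟨k, W, hW, hWV⟩ := ClopenDescend.exists_clopen_descend (MorLib.BC.diag D xi)
    (MorLib.BC.cone D xi hX) (MorLib.BC.isLimitCone D xi hX hc) Z
    (fun k => (hKc k.left).preimage (pullback.snd xi (D.map k.hom)).continuous)
    (fun {k l} e x hx => by
      have e' := congrArg (fun q : (MorLib.BC.diag D xi).obj k ⟶ D.obj l.left => q x) (MorLib.BC.map_snd D xi e)
      show pullback.snd xi (D.map l.hom) ((MorLib.BC.diag D xi).map e x) ∈ K l.left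
      exact e' ▸ hmap e.left hx)
    S (fun y => ⟨fun hy k => by
      show pullback.snd xi (D.map k.hom) (MorLib.BC.proj D xi hX k y) ∈ K k.left
      exact (hproj k y).symm ▸ (hS y).1 hy k.left, fun hy => (hS y).2 fun l => by
      obtain ⟨m, a, b, -⟩ := IsCofilteredOrEmpty.cone_objs (C := J) j l
      have h1 : pullback.snd xi (D.map a) (MorLib.BC.proj D xi hX (Over.mk a) y) ∈ K m := hy (Over.mk a)
      have h2 : c.π.app m (f y) ∈ K m := (hproj (Over.mk a) y) ▸ h1
      have h3 := hmap b h2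
      rwa [← Scheme.Hom.comp_apply, c.w] at h3⟩) V hV
  exact ⟨k.left, pullback xi (D.map k.hom), pullback.snd xi (D.map k.hom),
    (haveI : IsProper xi := hj; inferInstance), MorLib.BC.proj D xi hX k,
    MorLib.BC.proj_snd D xi hX k, W, hW, fun s => (hproj k s.1).symm ▸ (hS s.1).1 s.2 k.left, hWV⟩

/-- Change of the pair along a ring map. -/
theorem mapsTo_zeroLocus {S T : Type u} [CommRing S] [CommRing T] (φ : S →+* T) (I : Ideal S)
    (J : Ideal T) (h : I ≤ J.comap φ) :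
    Set.MapsTo (Spec.map (CommRingCat.ofHom φ)) (PrimeSpectrum.zeroLocus (J : Set T) : Set _)
      (PrimeSpectrum.zeroLocus (I : Set S) : Set _) :=
  fun _ hp _ hs => hp (h hs)

/-- One finitely generated stage: henselise it and lift. -/
theorem exists_clopen_of_stage {A S : Type u} [CommRing A] [CommRing S] [IsNoetherianRing S] (I : Ideal A)
    [HenselianRing A I] (ι : S →+* A) {Y T : Scheme.{u}} (h : Y ⟶ Spec (CommRingCat.of A))
    (ξ : T ⟶ Spec (CommRingCat.of S)) [IsProper ξ] (q : Y ⟶ T)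
    (hq : q ≫ ξ = h ≫ Spec.map (CommRingCat.ofHom ι))
    (W : Set (ξ ⁻¹' (PrimeSpectrum.zeroLocus ((I.comap ι : Ideal S) : Set S) : Set _) : Set T))
    (hW : IsClopen W) :
    ∃ U : Set Y, IsClopen U ∧ ∀ (y : Y) (hy : ξ (q y) ∈
      (PrimeSpectrum.zeroLocus ((I.comap ι : Ideal S) : Set S) : Set _)), y ∈ U ↔ ⟨q y, hy⟩ ∈ W := by
  obtain ⟨B, _, _, hB⟩ := Hensel.exists_isPairHenselization S (I.comap ι)
  haveI : IsNoetherianRing B := Hensel.isNoetherianRing_of_isPairHenselization (I.comap ι) hB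
  obtain ⟨ψ, hψ, -⟩ := hB.2 A I ι inferInstance Ideal.map_comap_le
  let J := (I.comap ι).map (algebraMap S B)
  haveI : HenselianRing B J := hB.1
  let b := Spec.map (CommRingCat.ofHom (algebraMap S B))
  let hB' : pullback ξ b ⟶ Spec (CommRingCat.of B) := pullback.snd ξ b
  let p : Y ⟶ pullback ξ b := pullback.lift q (h ≫ Spec.map (CommRingCat.ofHom ψ)) (by
    rw [Category.assoc, ← Spec.map_comp, ← CommRingCat.ofHom_comp, hψ]
    exact hq)
  let K : Set (Spec (CommRingCat.of S)) := PrimeSpectrum.zeroLocus ((I.comap ι : Ideal S) : Set S)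
  have hZ' : hB' ⁻¹' PrimeSpectrum.zeroLocus (J : Set B) = pullback.fst ξ b ⁻¹' (ξ ⁻¹' K) := by
    ext w
    have hw : ξ (pullback.fst ξ b w) = b (hB' w) := by
      rw [← Scheme.Hom.comp_apply, pullback.condition]; rfl
    show (show PrimeSpectrum B from hB' w) ∈ PrimeSpectrum.zeroLocus (J : Set B) ↔
      ξ (pullback.fst ξ b w) ∈ K
    rw [hw]
    exact Ideal.map_le_iff_le_comap
  have hL := lifts_proper J hB'
  rw [hZ'] at hL
  let r : (pullback.fst ξ b ⁻¹' (ξ ⁻¹' K) : Set ↥(pullback ξ b)) → (ξ ⁻¹' K : Set T) :=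
    fun w => ⟨pullback.fst ξ b w.1, w.2⟩
  obtain ⟨U, ⟨hU, hUW⟩, -⟩ := hL (r ⁻¹' W)
    (hW.preimage (((pullback.fst ξ b).continuous.comp continuous_subtype_val).subtype_mk _))
  refine ⟨p ⁻¹' U, hU.preimage p.continuous, fun y hy => ?_⟩
  have hps : pullback.fst ξ b (p y) = q y :=
    congrArg (fun a : Y ⟶ T => a y) (pullback.lift_fst _ _ _)
  have hmem : p y ∈ pullback.fst ξ b ⁻¹' (ξ ⁻¹' K) := by
    show ξ (pullback.fst ξ b (p y)) ∈ K
    rw [hps]; exact hy
  refine (Set.ext_iff.mp hUW ⟨p y, hmem⟩).trans ?_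
  show (⟨pullback.fst ξ b (p y), hmem⟩ : (ξ ⁻¹' K : Set T)) ∈ W ↔ _
  simp only [hps]

theorem lifts_lfp {A : Type u} [CommRing A] (I : Ideal A) [HenselianRing A I]
    {Y : Scheme.{u}} (h : Y ⟶ Spec (CommRingCat.of A)) [IsProper h] [LocallyOfFinitePresentation h] :
    Lifts (h ⁻¹' PrimeSpectrum.zeroLocus (I : Set A)) := by
  classical
  refine lifts_of_exists (fun D hD hDZ => eq_empty_of_disjoint I h hD.isClosed hDZ) fun V hV => ?_
  let R := CommRingCat.of A
  let ι : ∀ s : Finset R, Algebra.adjoin ℤ ((s : Finset R) : Set R) →+* A := fun s =>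
    (Algebra.adjoin ℤ (s : Set R)).val.toRingHom
  let K : ∀ i : (Finset R)ᵒᵖ, Set ((ConsPropLib.NoethApprox.diagram R).obj i) := fun i =>
    PrimeSpectrum.zeroLocus (R := Algebra.adjoin ℤ ((i.unop : Finset R) : Set R)) (I.comap (ι i.unop) : Set (Algebra.adjoin ℤ ((i.unop : Finset R) : Set R)))
  haveI : ∀ i, IsAffine ((ConsPropLib.NoethApprox.diagram R).obj i) := fun i =>
    ConsPropLib.NoethApprox.isAffine_obj R i
  have hS : ∀ y : Y, y ∈ h ⁻¹' (PrimeSpectrum.zeroLocus (I : Set A) : Set _) ↔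
      ∀ i, (ConsPropLib.NoethApprox.cone R).π.app i (h y) ∈ K i := fun y => by
    refine ⟨fun hy i => mapsTo_zeroLocus (ι i.unop) (I.comap (ι i.unop)) I le_rfl hy, fun hy a ha => ?_⟩
    exact hy (op {show R from a}) (show (⟨a, Algebra.subset_adjoin (Finset.mem_singleton_self _)⟩ :
      Algebra.adjoin ℤ ((({show R from a} : Finset R)) : Set R)) ∈ I.comap (ι {show R from a}) from ha)
  haveI : IsProper (Y := (ConsPropLib.NoethApprox.cone R).pt) h := ‹IsProper h›
  haveI : LocallyOfFinitePresentation (Y := (ConsPropLib.NoethApprox.cone R).pt) h :=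
    ‹LocallyOfFinitePresentation h›
  obtain ⟨i, T, ξ, hξ, q, hq, W, hW, hqm, hWV⟩ := exists_stage (ConsPropLib.NoethApprox.diagram R)
    (ConsPropLib.NoethApprox.cone R) (ConsPropLib.NoethApprox.isLimit R) K
    (fun i => PrimeSpectrum.isClosed_zeroLocus _)
    (fun {i j} f => mapsTo_zeroLocus _ (I.comap (ι j.unop)) (I.comap (ι i.unop)) (fun a ha => ha))
    h _ hS V hV
  haveI : Algebra.FiniteType ℤ (Algebra.adjoin ℤ ((i.unop : Finset R) : Set R)) :=
    Algebra.FiniteType.adjoin_of_finite (Finset.finite_toSet _)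
  haveI : IsNoetherianRing (Algebra.adjoin ℤ ((i.unop : Finset R) : Set R)) :=
    Algebra.FiniteType.isNoetherianRing ℤ _
  haveI : IsProper (Y := Spec (CommRingCat.of (Algebra.adjoin ℤ ((i.unop : Finset R) : Set R)))) ξ := hξ
  obtain ⟨U, hU, hUW⟩ := exists_clopen_of_stage I (ι i.unop) h ξ q hq W hW
  exact ⟨U, hU, Set.ext fun s => (hUW s.1 (hqm s)).trans (hWV s)⟩

set_option backward.isDefEq.respectTransparency false in
/-- Proper schemes over arbitrary henselian pairs. -/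
theorem lifts_proper' {A : Type u} [CommRing A] (I : Ideal A) [HenselianRing A I]
    {Y : Scheme.{u}} (h : Y ⟶ Spec (CommRingCat.of A)) [IsProper h] :
    Lifts (h ⁻¹' PrimeSpectrum.zeroLocus (I : Set A)) := by
  refine lifts_of_exists (fun D hD hDZ => eq_empty_of_disjoint I h hD.isClosed hDZ) fun V hV => ?_
  obtain ⟨J, _, _, DO, c, hc, e, hci, hp⟩ := Groth.Agent.S2079.result h
  let D := DO ⋙ Over.forget (Spec (CommRingCat.of A))
  let cc := (Over.forget (Spec (CommRingCat.of A))).mapCone c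
  haveI : IsConnected J := IsCofiltered.isConnected J
  have hcc : IsLimit cc := isLimitOfPreserves _ hc
  haveI : ∀ {i j : J} (f : i ⟶ j), IsAffineHom (D.map f) := fun {i j} f => by
    haveI := hci i j f; exact inferInstanceAs (IsAffineHom (DO.map f).left)
  haveI : ∀ i, CompactSpace (D.obj i) := fun i => by
    haveI := (hp i).2.1; exact QuasiCompact.compactSpace_of_compactSpace (DO.obj i).hom
  haveI : ∀ i, QuasiSeparatedSpace (D.obj i) := fun i => by
    haveI := (hp i).2.1; exact quasiSeparatedSpace_of_quasiSeparated (DO.obj i).hom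
  let K : Set (Spec (CommRingCat.of A)) := PrimeSpectrum.zeroLocus (I : Set A)
  let Z : ∀ i, Set (D.obj i) := fun i => (DO.obj i).hom ⁻¹' K
  have hπ : ∀ (i : J) (s : cc.pt), (DO.obj i).hom (cc.π.app i s) = c.pt.hom s := fun i s =>
    congrArg (fun q : c.pt.left ⟶ Spec (CommRingCat.of A) => q s) (Over.w (c.π.app i))
  have hmap : ∀ {i j : J} (f : i ⟶ j), Set.MapsTo (D.map f) (Z i) (Z j) := fun {i j} f x hx => by
    have e' := congrArg (fun q : (DO.obj i).left ⟶ Spec (CommRingCat.of A) => q x) (Over.w (DO.map f))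
    show (DO.obj j).hom ((DO.map f).left x) ∈ K
    exact e' ▸ hx
  have hS : ∀ s : cc.pt, s ∈ c.pt.hom ⁻¹' K ↔ ∀ i, cc.π.app i s ∈ Z i := fun s => by
    refine ⟨fun hs i => ?_, fun hs => ?_⟩
    · show (DO.obj i).hom (cc.π.app i s) ∈ K; rw [hπ]; exact hs
    · obtain ⟨i⟩ := IsCofiltered.nonempty (C := J)
      have := hs i
      show c.pt.hom s ∈ K
      rw [← hπ i]; exact this
  let ε : c.pt.left ⟶ Y := e.hom.left
  have hε : ∀ s, h (ε s) = c.pt.hom s := fun s =>
    congrArg (fun q : c.pt.left ⟶ Spec (CommRingCat.of A) => q s) (Over.w e.hom)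
  let r : (c.pt.hom ⁻¹' K : Set cc.pt) → (h ⁻¹' K : Set Y) := fun s => ⟨ε s.1, by
    show h (ε s.1) ∈ K; rw [hε]; exact s.2⟩
  obtain ⟨i, W, hW, hWV⟩ := ClopenDescend.exists_clopen_descend D cc hcc Z
    (fun i => (PrimeSpectrum.isClosed_zeroLocus _).preimage (DO.obj i).hom.continuous) hmap
    (c.pt.hom ⁻¹' K) hS (r ⁻¹' V) (hV.preimage ((ε.continuous.comp continuous_subtype_val).subtype_mk _))
  haveI := (hp i).2.1
  haveI := (hp i).2.2
  obtain ⟨U, ⟨hU, hUW⟩, -⟩ := lifts_lfp I (DO.obj i).hom W hW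
  let δ : Y ⟶ c.pt.left := e.inv.left
  refine ⟨(δ ≫ (c.π.app i).left) ⁻¹' U, hU.preimage (δ ≫ (c.π.app i).left).continuous, Set.ext fun y => ?_⟩
  have hy : δ y.1 ∈ c.pt.hom ⁻¹' K := by
    have e' := congrArg (fun q : Y ⟶ Spec (CommRingCat.of A) => q y.1) (Over.w e.inv)
    show c.pt.hom (δ y.1) ∈ K
    exact e' ▸ y.2
  have hry : r ⟨δ y.1, hy⟩ = y := Subtype.ext
    (congrArg (fun q : (Over.mk h) ⟶ Over.mk h => q.left y.1) e.inv_hom_id)
  show (c.π.app i).left (δ y.1) ∈ U ↔ y ∈ V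
  refine (Set.ext_iff.mp hUW ⟨_, (hS _).1 hy i⟩).trans ((hWV ⟨δ y.1, hy⟩).trans ?_)
  rw [Set.mem_preimage, hry]

end Groth.Agent.ProperHenselLifts
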