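import Mathlib

/-!
Clopen subsets of closed subsets of a cofiltered limit of schemes come from finite stages.
-/

set_option autoImplicit false
set_option linter.style.haveILetI false

universe u

open CategoryTheory CategoryTheory.Limits AlgebraicGeometry TopologicalSpace Opposite Topology

namespace Groth.Agent.ClopenDescend

/-- A quasi-compact open neighbourhood of a compact relatively open subset. -/
theorem exists_compact_open {T : Scheme.{u}} {S : Set T} {V : Set S} (hV : IsOpen V)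
    (hVc : IsCompact V) :
    ∃ O : T.Opens, IsCompact (O : Set T) ∧ ∀ s : S, s.1 ∈ O ↔ s ∈ V := by
  obtain ⟨O', hO', rfl⟩ := isOpen_induced_iff.1 hV
  have hex : ∀ s : (Subtype.val ⁻¹' O' : Set S), ∃ U : T.Opens, IsCompact (U : Set T) ∧ s.1.1 ∈ U ∧
      (U : Set T) ⊆ O' := fun s => by
    obtain ⟨U, hU, hs, hUO⟩ := exists_isAffineOpen_mem_and_subset (X := T) (x := s.1.1) (U := ⟨O', hO'⟩) s.2
    exact ⟨U, hU.isCompact, hs, hUO⟩
  choose U hUc hsU hUO using hex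
  obtain ⟨F, hF⟩ := hVc.elim_finite_subcover (fun s => Subtype.val ⁻¹' (U s : Set T))
    (fun s => (U s).2.preimage continuous_subtype_val) fun s hs => Set.mem_iUnion.2 ⟨⟨s, hs⟩, hsU ⟨s, hs⟩⟩
  refine ⟨⟨⋃ s ∈ F, (U s : Set T), isOpen_biUnion fun s _ => (U s).2⟩,
    F.finite_toSet.isCompact_biUnion fun s _ => hUc s, fun s => ⟨fun hs => ?_, fun hs => ?_⟩⟩
  · obtain ⟨t, -, ht⟩ := Set.mem_iUnion₂.1 hs
    exact hUO t ht
  · obtain ⟨t, htF, ht⟩ := Set.mem_iUnion₂.1 (hF hs)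
    exact Set.mem_iUnion₂.2 ⟨t, htF, ht⟩

variable {J : Type u} [SmallCategory J] [IsCofiltered J] (D : J ⥤ Scheme.{u}) (c : Cone D)
  (hc : IsLimit c) [∀ {i j : J} (f : i ⟶ j), IsAffineHom (D.map f)]

include hc in
/-- Closed subsets of the stages, closed under the transition maps, whose common preimage avoids a
quasi-compact open of a stage, avoid it at a finite stage. -/
theorem exists_disjoint_open (Z : ∀ i, Set (D.obj i)) (hZc : ∀ i, IsClosed (Z i))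
    (hmap : ∀ {i j : J} (f : i ⟶ j), Set.MapsTo (D.map f) (Z i) (Z j))
    {i : J} (W : (D.obj i).Opens) (hW : IsCompact (W : Set (D.obj i)))
    (h : ∀ s : c.pt, (∀ k, c.π.app k s ∈ Z k) → c.π.app i s ∉ W) :
    ∃ (j : J) (f : j ⟶ i), ∀ x ∈ Z j, D.map f x ∉ W := by
  by_contra hne
  push Not at hne
  haveI : ∀ {j k : Over i} (f : j ⟶ k), IsAffineHom ((opensDiagram D i W).map f) := fun f => inferInstance
  have hcs : ∀ j : Over i, CompactSpace ↥((opensDiagram D i W).obj j) := fun j =>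
    isCompact_iff_compactSpace.mp (QuasiCompact.isCompact_preimage (f := D.map j.hom) _ W.2 hW)
  obtain ⟨s, hs⟩ := exists_mem_of_isClosed_of_nonempty (opensDiagram D i W) (opensCone D c i W)
    (isLimitOpensCone D c hc i W)
    (fun j => (D.map j.hom ⁻¹ᵁ W).ι ⁻¹' Z j.left)
    (fun j => (hZc j.left).preimage (D.map j.hom ⁻¹ᵁ W).ι.continuous)
    (fun j => by
      obtain ⟨x, hxZ, hxW⟩ := hne j.left j.hom
      exact ⟨⟨x, hxW⟩, hxZ⟩)
    (fun j => @IsClosed.isCompact ↥((opensDiagram D i W).obj j) _ _ (hcs j) ((hZc j.left).preimage (D.map j.hom ⁻¹ᵁ W).ι.continuous))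
    (fun {j k} f x hx => by
      show (D.map k.hom ⁻¹ᵁ W).ι ((opensDiagram D i W).map f x) ∈ Z k.left
      have e : (opensDiagram D i W).map f ≫ (D.map k.hom ⁻¹ᵁ W).ι =
          (D.map j.hom ⁻¹ᵁ W).ι ≫ D.map f.left := Scheme.Hom.resLE_comp_ι _ _
      have e' := congrArg (fun φ : (opensDiagram D i W).obj j ⟶ D.obj k.left => φ x) e
      exact e' ▸ hmap f.left hx)
  let s' : c.pt := (c.π.app i ⁻¹ᵁ W).ι s
  refine h s' (fun k => ?_) ?_
  · obtain ⟨m, a, b, -⟩ := IsCofilteredOrEmpty.cone_objs (C := J) i k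
    have hm := hs (Over.mk a)
    have e : (opensCone D c i W).π.app (Over.mk a) ≫ (D.map a ⁻¹ᵁ W).ι =
        (c.π.app i ⁻¹ᵁ W).ι ≫ c.π.app m := Scheme.Hom.resLE_comp_ι _ _
    have hm' : c.π.app m s' ∈ Z m := by
      show (c.π.app m) ((c.π.app i ⁻¹ᵁ W).ι s) ∈ Z m
      exact (Scheme.Hom.comp_apply _ (c.π.app m) s).symm.trans ((congrArg (fun φ : _ ⟶ D.obj m => φ s) e).symm) ▸ hm
    have := hmap b hm'
    rwa [← Scheme.Hom.comp_apply, c.w] at this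
  · exact (show ↥(c.π.app i ⁻¹ᵁ W : Scheme.{u}) from s).2

include hc in
theorem exists_clopen_descend [∀ i, CompactSpace (D.obj i)] [∀ i, QuasiSeparatedSpace (D.obj i)]
    (Z : ∀ i, Set (D.obj i)) (hZc : ∀ i, IsClosed (Z i))
    (hmap : ∀ {i j : J} (f : i ⟶ j), Set.MapsTo (D.map f) (Z i) (Z j))
    (S : Set c.pt) (hS : ∀ s, s ∈ S ↔ ∀ i, c.π.app i s ∈ Z i) (V : Set S) (hV : IsClopen V) :
    ∃ (i : J) (W : Set (Z i)), IsClopen W ∧
      ∀ s : S, (⟨c.π.app i s.1, (hS s.1).1 s.2 i⟩ : Z i) ∈ W ↔ s ∈ V := by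
  haveI := Scheme.compactSpace_of_isLimit D c hc
  have hSc : IsClosed S := by
    have : S = ⋂ i, c.π.app i ⁻¹' Z i := Set.ext fun s => by simp [hS]
    rw [this]
    exact isClosed_iInter fun i => (hZc i).preimage (c.π.app i).continuous
  haveI : CompactSpace S := isCompact_iff_compactSpace.mp hSc.isCompact
  obtain ⟨O, hOc, hO⟩ := exists_compact_open hV.isOpen hV.isClosed.isCompact
  obtain ⟨P, hPc, hP⟩ := exists_compact_open hV.compl.isOpen hV.compl.isClosed.isCompact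
  obtain ⟨i₁, O₁, hO₁c, hO₁⟩ := exists_preimage_eq D c hc O hOc
  obtain ⟨i₂, P₂, hP₂c, hP₂⟩ := exists_preimage_eq D c hc P hPc
  obtain ⟨i, a₁, a₂, -⟩ := IsCofilteredOrEmpty.cone_objs (C := J) i₁ i₂
  let Oi := D.map a₁ ⁻¹ᵁ O₁
  let Pi := D.map a₂ ⁻¹ᵁ P₂
  have hOi : ∀ s, c.π.app i s ∈ Oi ↔ s ∈ O := fun s => by
    rw [← hO₁]
    show D.map a₁ (c.π.app i s) ∈ O₁ ↔ c.π.app i₁ s ∈ O₁
    rw [← Scheme.Hom.comp_apply, c.w]
  have hPi : ∀ s, c.π.app i s ∈ Pi ↔ s ∈ P := fun s => by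
    rw [← hP₂]
    show D.map a₂ (c.π.app i s) ∈ P₂ ↔ c.π.app i₂ s ∈ P₂
    rw [← Scheme.Hom.comp_apply, c.w]
  have hOPc : IsCompact ((Oi ⊓ Pi : (D.obj i).Opens) : Set (D.obj i)) :=
    QuasiSeparatedSpace.inter_isCompact _ _ Oi.2 (QuasiCompact.isCompact_preimage _ O₁.2 hO₁c)
      Pi.2 (QuasiCompact.isCompact_preimage _ P₂.2 hP₂c)
  obtain ⟨j₁, f₁, h₁⟩ := exists_disjoint_open D c hc Z hZc hmap (Oi ⊓ Pi) hOPc fun s hs hm => by
    have h1 := (hO ⟨s, (hS s).2 hs⟩).1 ((hOi s).1 hm.1)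
    exact (hP ⟨s, (hS s).2 hs⟩).1 ((hPi s).1 hm.2) h1
  have h2 : ∃ (j : J) (f : j ⟶ i), ∀ x ∈ Z j, D.map f x ∈ Oi ⊔ Pi := by
    by_contra hne
    push Not at hne
    obtain ⟨s, hs⟩ := exists_mem_of_isClosed_of_nonempty' D c hc (j := i)
      (fun j f => Z j ∩ ((D.map f ⁻¹ᵁ (Oi ⊔ Pi) : (D.obj j).Opens) : Set (D.obj j))ᶜ)
      (fun j f => (hZc j).inter (D.map f ⁻¹ᵁ (Oi ⊔ Pi)).2.isClosed_compl)
      (fun j f => by obtain ⟨x, hx, hx'⟩ := hne j f; exact ⟨x, hx, hx'⟩)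
      (fun j f => ((hZc j).inter (D.map f ⁻¹ᵁ (Oi ⊔ Pi)).2.isClosed_compl).isCompact)
      (fun j j' f g x hx => ⟨hmap f hx.1, fun hm => hx.2 (by
        show D.map (f ≫ g) x ∈ (Oi ⊔ Pi : (D.obj i).Opens)
        rw [D.map_comp, Scheme.Hom.comp_apply]
        exact hm)⟩)
    have hsS : s ∈ S := (hS s).2 fun k => by
      obtain ⟨m, a, b, -⟩ := IsCofilteredOrEmpty.cone_objs (C := J) i k
      have := hmap b (hs m a).1
      rwa [← Scheme.Hom.comp_apply, c.w] at this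
    refine (hs i (𝟙 i)).2 ?_
    show D.map (𝟙 i) (c.π.app i s) ∈ (Oi ⊔ Pi : (D.obj i).Opens)
    rw [D.map_id]
    show c.π.app i s ∈ (Oi ⊔ Pi : (D.obj i).Opens)
    by_cases hv : (⟨s, hsS⟩ : S) ∈ V
    · exact Or.inl ((hOi s).2 ((hO _).2 hv))
    · exact Or.inr ((hPi s).2 ((hP _).2 hv))
  obtain ⟨j₂, f₂, h₂⟩ := h2
  obtain ⟨j, b₁, b₂, hb⟩ := IsCofiltered.cospan f₁ f₂
  let g : j ⟶ i := b₁ ≫ f₁
  have hg₂ : g = b₂ ≫ f₂ := hb
  refine ⟨j, Subtype.val ⁻¹' (D.map g ⁻¹ᵁ Oi : Set (D.obj j)), ⟨⟨?_⟩,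
    (D.map g ⁻¹ᵁ Oi).2.preimage continuous_subtype_val⟩, fun s => ?_⟩
  · have e : (Subtype.val ⁻¹' (D.map g ⁻¹ᵁ Oi : Set (D.obj j)))ᶜ =
        (Subtype.val ⁻¹' (D.map g ⁻¹ᵁ Pi : Set (D.obj j)) : Set (Z j)) := by
      ext x
      have h1 := h₁ (D.map b₁ x.1) (hmap b₁ x.2)
      have h2 := h₂ (D.map b₂ x.1) (hmap b₂ x.2)
      rw [← Scheme.Hom.comp_apply, ← D.map_comp] at h1 h2
      rw [← hg₂] at h2
      refine ⟨fun hx => (Or.resolve_left h2 hx : _), fun hx hx' => h1 ⟨hx', hx⟩⟩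
    rw [e]
    exact (D.map g ⁻¹ᵁ Pi).2.preimage continuous_subtype_val
  · show D.map g (c.π.app j s.1) ∈ Oi ↔ _
    rw [← Scheme.Hom.comp_apply, c.w, hOi, hO]

end Groth.Agent.ClopenDescend
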