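import Groth.Agent.EtFound.NoethCard
import Mathlib.CategoryTheory.CofilteredSystem
import Mathlib.AlgebraicGeometry.AlgClosed.Basic

/-! specialisation morphisms between geometric points -/

universe u

open CategoryTheory CategoryTheory.Limits AlgebraicGeometry Opposite Topology

namespace Groth.Agent.EtFound

set_option backward.isDefEq.respectTransparency.types false

variable {X : Scheme.{u}}

/-- the underlying point of a point of an etale scheme -/
noncomputable def ptOf {Ω : Type u} [Field Ω] [IsSepClosed Ω] {ξ : Spec (CommRingCat.of Ω) ⟶ X} {U : X.Etale}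
    (u : (Scheme.pointSmallEtale ξ).fiber.obj U) : U.left :=
  (u.left : Spec (CommRingCat.of Ω) ⟶ U.left).base (default : Spec (CommRingCat.of Ω))

theorem hom_ptOf {Ω : Type u} [Field Ω] [IsSepClosed Ω] {ξ : Spec (CommRingCat.of Ω) ⟶ X} {U : X.Etale}
    (u : (Scheme.pointSmallEtale ξ).fiber.obj U) : U.hom.base (ptOf u) = ξ.base (default : Spec (CommRingCat.of Ω)) :=
  base_of_point u

theorem ptOf_map {Ω : Type u} [Field Ω] [IsSepClosed Ω] {ξ : Spec (CommRingCat.of Ω) ⟶ X} {U V : X.Etale}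
    (a : U ⟶ V) (u : (Scheme.pointSmallEtale ξ).fiber.obj U) :
    ptOf ((Scheme.pointSmallEtale ξ).fiber.map a u) = a.left.base (ptOf u) :=
  Scheme.Hom.comp_apply _ _ _

/-- a morphism of points only specialises -/
theorem ptOf_specializes {Ω Ω' : Type u} [Field Ω] [IsSepClosed Ω] [Field Ω'] [IsSepClosed Ω']
    {ξ : Spec (CommRingCat.of Ω) ⟶ X} {ξ' : Spec (CommRingCat.of Ω') ⟶ X}
    (φ : Scheme.pointSmallEtale ξ' ⟶ Scheme.pointSmallEtale ξ) {U : X.Etale}
    (u : (Scheme.pointSmallEtale ξ).fiber.obj U) : ptOf (φ.hom.app U u) ⤳ ptOf u := by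
  refine specializes_iff_forall_open.2 fun O hO hu => ?_
  have : AlgebraicGeometry.Etale U.hom := U.prop
  let W : U.left.Opens := ⟨O, hO⟩
  let U' : X.Etale := Scheme.Etale.mk (W.ι ≫ U.hom)
  let r : U' ⟶ U := MorphismProperty.Over.homMk W.ι rfl
  obtain ⟨q, hq⟩ := exists_lift_open (u.left : Spec (CommRingCat.of Ω) ⟶ U.left) W fun (s : Spec (CommRingCat.of Ω)) => by
    rw [Subsingleton.elim (α := Spec (CommRingCat.of Ω)) s default]
    exact hu
  let u' : (Scheme.pointSmallEtale ξ).fiber.obj U' := CategoryTheory.Over.homMk q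
    ((Category.assoc _ _ _).symm.trans ((congrArg (· ≫ U.hom) hq).trans (CategoryTheory.Over.w u)))
  have hu' : (Scheme.pointSmallEtale ξ).fiber.map r u' = u := CategoryTheory.Over.OverMorphism.ext hq
  rw [← hu', NatTrans.naturality_apply φ.hom r u', ptOf_map]
  exact (ptOf (φ.hom.app U' u')).2

variable {Ω : Type u} [Field Ω] [IsSepClosed Ω] (ξ : Spec (CommRingCat.of Ω) ⟶ X)
  {Ω' : Type u} [Field Ω'] [IsAlgClosed Ω'] (ξ' : Spec (CommRingCat.of Ω') ⟶ X)

/-- the lifts of `ξ'` generising a point over `ξ` -/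
noncomputable def genLifts : (Scheme.pointSmallEtale ξ).fiber.Elements ⥤ Type u where
  obj e := {v : (Scheme.pointSmallEtale ξ').fiber.obj e.1 // ptOf v ⤳ ptOf e.2}
  map {e e'} a := TypeCat.ofHom fun v => ⟨(Scheme.pointSmallEtale ξ').fiber.map a.1 v.1, by
    rw [ptOf_map]
    exact ((v.2.map (a.1.left : e.1.left ⟶ e'.1.left).continuous).trans
      (specializes_of_eq ((ptOf_map a.1 e.2).symm.trans (congrArg ptOf a.2))))⟩
  map_id e := by
    ext v
    exact Functor.map_id_apply (Scheme.pointSmallEtale ξ').fiber e.1 v.1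
  map_comp a b := by
    ext v
    exact Functor.map_comp_apply (Scheme.pointSmallEtale ξ').fiber a.1 b.1 v.1

theorem genLifts_surjective {e e' : (Scheme.pointSmallEtale ξ).fiber.Elements} (a : e ⟶ e') :
    Function.Surjective ((genLifts ξ ξ').map a) := fun ⟨v, hv⟩ => by
  let g : e.1.left ⟶ e'.1.left := a.1.left
  haveI hg : AlgebraicGeometry.Etale g := etale_left a.1
  have h : ptOf v ⤳ g.base (ptOf e.2) :=
    hv.trans (specializes_of_eq ((congrArg ptOf a.2).symm.trans (ptOf_map a.1 e.2)))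
  obtain ⟨q, hq, hgq⟩ := Flat.generalizingMap g h
  obtain ⟨l, hl, hlq⟩ := Scheme.exists_fac_of_etale_of_isSepClosed g
    (v.left : Spec (CommRingCat.of Ω') ⟶ e'.1.left) q hgq
  let v' : (Scheme.pointSmallEtale ξ').fiber.obj e.1 := CategoryTheory.Over.homMk l (by
    refine (congrArg (fun k => l ≫ k) (MorphismProperty.Over.w a.1).symm).trans ?_
    exact ((Category.assoc _ _ _).symm.trans (congrArg (· ≫ e'.1.hom) hl)).trans (CategoryTheory.Over.w v))
  refine ⟨⟨v', ?_⟩, Subtype.ext (CategoryTheory.Over.OverMorphism.ext hl)⟩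
  show l.base (default : Spec (CommRingCat.of Ω')) ⤳ _
  exact (specializes_of_eq hlq).trans hq

instance finite_genLifts (e : (Scheme.pointSmallEtale ξ).fiber.Elements) : Finite ((genLifts ξ ξ').obj e) := by
  rcases isEmpty_or_nonempty ((genLifts ξ ξ').obj e) with h | ⟨⟨v₀, hv₀⟩⟩
  · infer_instance
  obtain ⟨V, hV, hxV, -⟩ := exists_isAffineOpen_mem_and_subset (U := (⊤ : X.Opens))
    (x := e.1.hom.base (ptOf e.2)) trivial
  obtain ⟨A, hA, hpA, hAV⟩ := exists_isAffineOpen_mem_and_subset
    (U := (e.1.hom ⁻¹ᵁ V : e.1.left.Opens)) (x := ptOf e.2) hxV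
  have : AlgebraicGeometry.Etale e.1.hom := e.1.prop
  have : IsAffine A.toScheme := hA
  have : IsAffine V.toScheme := hV
  let f : A.toScheme ⟶ V.toScheme := Scheme.Hom.resLE e.1.hom V A hAV
  have hf : LocallyQuasiFinite f := by
    rw [HasRingHomProperty.iff_appLE (P := @LocallyQuasiFinite)]
    intro U W e'
    have := HasRingHomProperty.appLE @AlgebraicGeometry.Etale f inferInstance U W e'
    algebraize [(f.appLE U.1 W.1 e').hom]
    exact (inferInstance : Algebra.QuasiFinite Γ(V.toScheme, U.1) Γ(A.toScheme, W.1))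
  have hξ' : ξ'.base (default : Spec (CommRingCat.of Ω')) ∈ V :=
    (hom_ptOf v₀) ▸ ((hv₀.map e.1.hom.continuous).mem_open V.2 hxV)
  obtain ⟨η, hη⟩ := exists_lift_open ξ' V fun (s : Spec (CommRingCat.of Ω')) => by
    rw [Subsingleton.elim (α := Spec (CommRingCat.of Ω')) s default]
    exact hξ'
  have : QuasiCompact f := (quasiCompact_iff_compactSpace f).2 inferInstance
  haveI : Finite ↥(pullback f η) := by
    have h := (pullback.snd f η).finite_preimage_singleton (default : Spec (CommRingCat.of Ω'))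
    rw [show (pullback.snd f η).base ⁻¹' {(default : Spec (CommRingCat.of Ω'))} = Set.univ from
      Set.eq_univ_of_forall fun x => Subsingleton.elim (α := Spec (CommRingCat.of Ω')) _ _] at h
    exact Set.finite_univ_iff.1 h
  have hsec : ∀ v : (genLifts ξ ξ').obj e, ∃ σ : Spec (CommRingCat.of Ω') ⟶ pullback f η,
      σ ≫ pullback.snd f η = 𝟙 _ ∧ σ ≫ pullback.fst f η ≫ A.ι = (v.1.left : Spec (CommRingCat.of Ω') ⟶ e.1.left) := fun v => by
    obtain ⟨q, hq⟩ := exists_lift_open (v.1.left : Spec (CommRingCat.of Ω') ⟶ e.1.left) A fun (s : Spec (CommRingCat.of Ω')) => by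
      rw [Subsingleton.elim (α := Spec (CommRingCat.of Ω')) s default]
      exact v.2.mem_open A.2 hpA
    refine ⟨pullback.lift q (𝟙 _) ?_, pullback.lift_snd _ _ _, (pullback.lift_fst_assoc _ _ _ A.ι).trans hq⟩
    rw [← cancel_mono V.ι, Category.assoc, Scheme.Hom.resLE_comp_ι, Category.id_comp, hη]
    refine (Category.assoc _ _ _).symm.trans ?_
    exact (congrArg (· ≫ e.1.hom) hq).trans (CategoryTheory.Over.w v.1)
  choose σ hσ hσ' using hsec
  refine Finite.of_injective (fun v => (σ v).base (IsLocalRing.closedPoint Ω')) fun v w h => ?_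
  refine Subtype.ext (CategoryTheory.Over.OverMorphism.ext ?_)
  show (v.1.left : Spec (CommRingCat.of Ω') ⟶ e.1.left) = w.1.left
  rw [← hσ' v, ← hσ' w, ext_of_apply_closedPoint_eq (pullback.snd f η) (hσ v) (hσ w) h]

/-- morphisms of points with a prescribed value exist along generisations -/
theorem exists_pointHom {U : X.Etale} (u : (Scheme.pointSmallEtale ξ).fiber.obj U)
    (v : (Scheme.pointSmallEtale ξ').fiber.obj U) (h : ptOf v ⤳ ptOf u) :
    ∃ φ : Scheme.pointSmallEtale ξ' ⟶ Scheme.pointSmallEtale ξ, φ.hom.app U u = v := by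
  let e₀ := (Scheme.pointSmallEtale ξ).fiber.elementsMk U u
  have : ∀ e, Nonempty ((genLifts ξ ξ').obj e) := fun e => by
    obtain ⟨c, a, b, -⟩ := IsCofilteredOrEmpty.cone_objs e₀ e
    obtain ⟨w, -⟩ := genLifts_surjective ξ ξ' a ⟨v, h⟩
    exact ⟨(genLifts ξ ξ').map b w⟩
  obtain ⟨s, hs⟩ := (genLifts ξ ξ').eval_section_surjective_of_surjective
    (fun _ _ a => genLifts_surjective ξ ξ' a) e₀ ⟨v, h⟩
  refine ⟨⟨{ app := fun W => TypeCat.ofHom fun w => (s.1 ((Scheme.pointSmallEtale ξ).fiber.elementsMk W w)).1,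
             naturality := fun W W' a => ?_ }⟩, congrArg Subtype.val hs⟩
  ext w
  exact (congrArg Subtype.val (s.2 (CategoryOfElements.homMk
    ((Scheme.pointSmallEtale ξ).fiber.elementsMk W w)
    ((Scheme.pointSmallEtale ξ).fiber.elementsMk W' ((Scheme.pointSmallEtale ξ).fiber.map a w)) a rfl))).symm

/-- germs commute with morphisms of points -/
theorem sheafFiber_germ {k k' : Type u} [Field k] [IsSepClosed k] [Field k'] [IsSepClosed k']
    {η : Spec (CommRingCat.of k) ⟶ X} {η' : Spec (CommRingCat.of k') ⟶ X}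
    (φ : Scheme.pointSmallEtale η' ⟶ Scheme.pointSmallEtale η) (F : EtCoh.Ab X) {U : X.Etale}
    (u : (Scheme.pointSmallEtale η).fiber.obj U) (s : F.obj.obj (op U)) :
    (GrothendieckTopology.Point.Hom.sheafFiber (A := AddCommGrpCat.{u + 1}) φ).app F
        ((Scheme.pointSmallEtale η).toPresheafFiber U u F.obj s) =
      (Scheme.pointSmallEtale η').toPresheafFiber U (φ.hom.app U u) F.obj s := by
  refine (ConcreteCategory.comp_apply _ _ _).symm.trans ?_
  exact ConcreteCategory.congr_hom ((Scheme.pointSmallEtale η).toPresheafFiber_presheafFiberDesc (P := F.obj)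
    (fun W w => (Scheme.pointSmallEtale η').toPresheafFiber W (φ.hom.app W w) F.obj)
    (fun W W' f x => by rw [GrothendieckTopology.Point.toPresheafFiber_w, NatTrans.naturality_apply]) U u) s

end Groth.Agent.EtFound
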