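import Groth.Agent.EtFound.LocCoh
import Groth.Agent.SiteBase.DerivedPrecomp
import Groth.Agent.SiteBase.Rpush
import Mathlib.AlgebraicGeometry.Morphisms.FormallyUnramified

/-! étale excision for sections with support -/

universe u

open CategoryTheory CategoryTheory.Limits AlgebraicGeometry Opposite

namespace Groth.Agent.EtFound

open Groth.Agent.EtMVLib

set_option backward.isDefEq.respectTransparency.types false

variable {X X' Z : Scheme.{u}}

/-- evaluation at a point and restriction -/
theorem atPt_map (h : Z ⟶ X) {W W₁ : X.Etale} (a : W₁ ⟶ W) (ρ : Z ⟶ W₁.left) (e : ρ ≫ W₁.hom = h)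
    (ρ' : Z ⟶ W.left) (hρ : ρ' = ρ ≫ a.left) (e' : ρ' ≫ W.hom = h) (F : EtCoh.Ab X) :
    F.obj.map a.op ≫ atPt h W₁ ρ e F = atPt h W ρ' e' F := by
  have n := ((EtCoh.pullPushAdj h).unit.app F).hom.naturality a.op
  refine ((Category.assoc _ _ _).symm.trans (congrArg (· ≫ _) n)).trans ?_
  refine (Category.assoc _ _ _).trans (congrArg (_ ≫ ·) ?_)
  change ((EtCoh.pull h).obj F).obj.map ((EtCoh.bc h).map a).op ≫ _ = _
  rw [← Functor.map_comp, ← op_comp]
  refine congrArg (fun m => ((EtCoh.pull h).obj F).obj.map (Quiver.Hom.op m)) ?_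
  apply MorphismProperty.Over.Hom.ext
  apply pullback.hom_ext
  · refine (Category.assoc _ _ _).trans ((congrArg (_ ≫ ·) (EtCoh.isPullback_bc_map h a).w).trans ?_)
    refine (Category.assoc _ _ _).symm.trans ?_
    refine (congrArg (· ≫ a.left) (pullback.lift_fst ρ (𝟙 Z) (e.trans (Category.id_comp h).symm))).trans ?_
    exact hρ.symm.trans (pullback.lift_fst ρ' (𝟙 Z) (e'.trans (Category.id_comp h).symm)).symm
  · refine (Category.assoc _ _ _).trans ((congrArg (_ ≫ ·) (MorphismProperty.Over.w ((EtCoh.bc h).map a))).trans ?_)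
    exact (pullback.lift_snd ρ (𝟙 Z) (e.trans (Category.id_comp h).symm)).trans (pullback.lift_snd _ _ _).symm

theorem pullSec_eq_atPt (h : Z ⟶ X) (e : h ≫ (EtCoh.top X).hom = h) (F : EtCoh.Ab X) :
    (pullSec h).app F = atPt h (EtCoh.top X) h e F := by
  refine congrArg (_ ≫ ·) (congrArg (fun m => ((EtCoh.pull h).obj F).obj.map (Quiver.Hom.op m)) ?_)
  exact (IsTerminal.isTerminalObj (EtCoh.bc h) _ (EtCore.topIsTerminal X)).hom_ext _ _

/-- sections with support are the sections killed by the restriction map -/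
theorem secSupp_injective (j : Z ⟶ X) (F : EtCoh.Ab X) :
    Function.Injective ((kernel.ι (EtDual.unitApp j F)).hom.app (op (EtCoh.top X))) :=
  (AddCommGrpCat.mono_iff_injective _).1 inferInstance

theorem mem_secSupp_iff (j : Z ⟶ X) (F : EtCoh.Ab X) (s : (EtCore.gsec X).obj F) :
    (∃ t, (kernel.ι (EtDual.unitApp j F)).hom.app (op (EtCoh.top X)) t = s) ↔ (pullSec j).app F s = 0 := by
  let ev := sheafToPresheaf X.smallEtaleTopology AddCommGrpCat.{u + 1} ⋙
    (evaluation X.Etaleᵒᵖ AddCommGrpCat.{u + 1}).obj (op (EtCoh.top X))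
  haveI : PreservesFiniteLimits ev := inferInstance
  have hex : (ShortComplex.mk _ _ (kernel.condition (EtDual.unitApp j F))).Exact :=
    ShortComplex.exact_of_f_is_kernel _ (kernelIsKernel _)
  haveI : Mono (ShortComplex.mk _ _ (kernel.condition (EtDual.unitApp j F))).f := inferInstanceAs (Mono (kernel.ι _))
  have hev := hex.map_of_mono_of_preservesKernel ev inferInstance inferInstance
  have hiso : IsIso ((EtCore.pushGsecIso j).hom.app ((EtCoh.pull j).obj F)) := inferInstance
  have hinj := ((ConcreteCategory.isIso_iff_bijective _).1 hiso).1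
  constructor
  · rintro ⟨t, rfl⟩
    have h0 := ConcreteCategory.congr_hom (congrArg (fun m : kernel (EtDual.unitApp j F) ⟶ _ =>
      m.hom.app (op (EtCoh.top X))) (kernel.condition (EtDual.unitApp j F))) t
    refine (ConcreteCategory.comp_apply _ _ _).trans ((congrArg _ h0).trans ?_)
    exact map_zero _
  · intro hs
    have h0 : (EtDual.unitApp j F).hom.app (op (EtCoh.top X)) s = 0 := hinj (hs.trans (map_zero _).symm)
    exact (ShortComplex.ab_exact_iff _).1 hev s h0

variable (f : X' ⟶ X) [AlgebraicGeometry.Etale f] {U U' : Scheme.{u}} (j : U ⟶ X) [IsOpenImmersion j]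
  (j' : U' ⟶ X') [IsOpenImmersion j']

theorem eq_of_residueField_surjective {K : Type u} [Field K] (g₁ g₂ : Spec (CommRingCat.of K) ⟶ X')
    (x : X') (h₁ : g₁.base (IsLocalRing.closedPoint K) = x) (h₂ : g₂.base (IsLocalRing.closedPoint K) = x)
    (hs : Function.Surjective (f.residueFieldMap x))
    (h : g₁ ≫ f = g₂ ≫ f) : g₁ = g₂ := by
  obtain ⟨⟨x₁, φ₁⟩, rfl⟩ := (Scheme.SpecToEquivOfField K X').symm.surjective g₁
  obtain ⟨⟨x₂, φ₂⟩, rfl⟩ := (Scheme.SpecToEquivOfField K X').symm.surjective g₂
  simp only [Scheme.SpecToEquivOfField_symm_apply, Scheme.Hom.comp_apply,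
    Scheme.fromSpecResidueField_apply] at h₁ h₂ h ⊢
  subst h₁
  subst h₂
  rw [Category.assoc, Category.assoc, ← Scheme.Hom.SpecMap_residueFieldMap_fromSpecResidueField,
    ← Category.assoc, ← Category.assoc, ← Spec.map_comp, ← Spec.map_comp, cancel_mono, Spec.map_inj] at h
  haveI : Epi (f.residueFieldMap _) := ConcreteCategory.epi_of_surjective _ hs
  rw [(cancel_epi (f.residueFieldMap _)).1 h]

variable (hU' : Set.range j'.base = f.base ⁻¹' Set.range j.base)
  (hZ : Set.BijOn f.base (Set.range j'.base)ᶜ (Set.range j.base)ᶜ)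
  (hκ : ∀ x' : ↥X', x' ∉ Set.range j'.base → Function.Surjective (f.residueFieldMap x'))

/-- the objects -/
noncomputable abbrev objA : X.Etale := Scheme.Etale.mk f

noncomputable abbrev objB : X.Etale := Scheme.Etale.mk j

noncomputable abbrev objAB : X.Etale := Scheme.Etale.mk (j' ≫ f)

/-- `U' ⟶ X'` over `X` -/
noncomputable def abToA : objAB f j' ⟶ objA f := MorphismProperty.Over.homMk j' rfl

include hU' in
theorem exists_glue (hZ' : ∀ x' : ↥X', x' ∉ Set.range j'.base → Function.Surjective (f.residueFieldMap x'))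
    (hb : Set.InjOn f.base (Set.range j'.base)ᶜ) (hs : Set.SurjOn f.base (Set.range j'.base)ᶜ (Set.range j.base)ᶜ)
    (F : EtCoh.Ab X) (a : F.obj.obj (op (objA f))) (ha : F.obj.map (abToA f j').op a = 0) :
    ∃! t : F.obj.obj (op (EtCoh.top X)),
      F.obj.map ((EtCore.topIsTerminal X).from (objA f)).op t = a ∧
      F.obj.map ((EtCore.topIsTerminal X).from (objB j)).op t = 0 := by
  let obj : Bool → X.Etale := fun b => cond b (objA f) (objB j)
  let π : ∀ b, obj b ⟶ EtCoh.top X := fun b => (EtCore.topIsTerminal X).from (obj b)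
  let P := F.obj ⋙ forget AddCommGrpCat.{u + 1}
  have hcov : Sieve.generate (Presieve.ofArrows obj π) ∈ X.smallEtaleTopology (EtCoh.top X) := by
    rw [mem_topology_iff]
    intro x
    have hπ : ∀ b v, (π b).left.base v = (obj b).hom.base v := fun b v =>
      congrArg (fun m : (obj b).left ⟶ X => m.base v)
        ((Category.comp_id _).symm.trans (MorphismProperty.Over.w (π b)))
    by_cases hx : x ∈ Set.range j.base
    · obtain ⟨u, hu⟩ := hx
      exact ⟨obj false, π false, u, ⟨_, 𝟙 _, π false, ⟨false⟩, Category.id_comp _⟩, (hπ false u).trans hu⟩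
    · obtain ⟨x', -, hx'⟩ := hs hx
      exact ⟨obj true, π true, x', ⟨_, 𝟙 _, π true, ⟨true⟩, Category.id_comp _⟩, (hπ true x').trans hx'⟩
  have hsheaf := ((isSheaf_iff_isSheaf_of_type _ _).1
    ((sheafCompose X.smallEtaleTopology (forget AddCommGrpCat.{u + 1})).obj F).property) _ hcov
  rw [← Presieve.isSheafFor_iff_generate, Presieve.isSheafFor_arrows_iff] at hsheaf
  have hAB : ∀ (W : X.Etale) (p : W ⟶ objA f) (q : W ⟶ objB j), F.obj.map p.op a = 0 := by
    intro W p q
    let p₀ : W.left ⟶ X' := p.left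
    let q₁ : W.left ⟶ U := q.left
    have hr : Set.range p₀.base ⊆ Set.range j'.base := by
      rintro _ ⟨w, rfl⟩
      rw [hU']
      refine ⟨q₁.base w, ?_⟩
      refine (Scheme.Hom.comp_apply _ _ _).symm.trans (Eq.trans ?_ (Scheme.Hom.comp_apply _ _ _))
      exact congrArg (fun m : W.left ⟶ X => m.base w)
        ((MorphismProperty.Over.w q).trans (MorphismProperty.Over.w p).symm)
    let l₀ : W.left ⟶ U' := IsOpenImmersion.lift j' p₀ hr
    have hl₀ : l₀ ≫ j' = p₀ := IsOpenImmersion.lift_fac j' p₀ hr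
    let l : W ⟶ objAB f j' := MorphismProperty.Over.homMk l₀
      ((Category.assoc _ _ _).symm.trans ((congrArg (· ≫ f) hl₀).trans (MorphismProperty.Over.w p)))
    have hl : l ≫ abToA f j' = p := by
      apply MorphismProperty.Over.Hom.ext
      exact hl₀
    rw [← hl, op_comp, Functor.map_comp, ConcreteCategory.comp_apply, ha, map_zero]
  have hAA : ∀ (W : X.Etale) (p q : W ⟶ objA f), F.obj.map p.op a = F.obj.map q.op a := by
    intro W p q
    refine eq_of_cover (A := AddCommGrpCat.{u + 1}) F _ _ ?_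
    rw [mem_topology_iff]
    intro w
    let p₀ : W.left ⟶ X' := p.left
    let q₀ : W.left ⟶ X' := q.left
    have hpq : p₀ ≫ f = q₀ ≫ f := (MorphismProperty.Over.w p).trans (MorphismProperty.Over.w q).symm
    by_cases hw : p₀.base w ∈ Set.range j'.base
    · let O : W.left.Opens := p₀ ⁻¹ᵁ j'.opensRange
      let V := restrictEtale W O
      refine ⟨V, restrictEtaleHom W O, ⟨w, hw⟩, ?_, rfl⟩
      have hz : ∀ r : V ⟶ objA f, (∀ v, (r.left : V.left ⟶ X').base v ∈ Set.range j'.base) →
          F.obj.map r.op a = 0 := by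
        intro r hr
        let r₀ : V.left ⟶ X' := r.left
        have hr₀ : Set.range r₀.base ⊆ Set.range j'.base := by rintro _ ⟨v, rfl⟩; exact hr v
        let l₀ : V.left ⟶ U' := IsOpenImmersion.lift j' r₀ hr₀
        have hl₀ : l₀ ≫ j' = r₀ := IsOpenImmersion.lift_fac j' r₀ hr₀
        let l : V ⟶ objAB f j' := MorphismProperty.Over.homMk l₀
          ((Category.assoc _ _ _).symm.trans ((congrArg (· ≫ f) hl₀).trans (MorphismProperty.Over.w r)))
        have hl : l ≫ abToA f j' = r := by
          apply MorphismProperty.Over.Hom.ext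
          exact hl₀
        rw [← hl, op_comp, Functor.map_comp, ConcreteCategory.comp_apply, ha, map_zero]
      have hp' : ∀ v : V.left, p₀.base (O.ι.base v) ∈ Set.range j'.base := fun v => v.2
      have hq' : ∀ v : V.left, q₀.base (O.ι.base v) ∈ Set.range j'.base := fun v => by
        have h1 : p₀.base (O.ι.base v) ∈ f.base ⁻¹' Set.range j.base := hU' ▸ hp' v
        rw [hU']
        have h2 : f.base (q₀.base (O.ι.base v)) = f.base (p₀.base (O.ι.base v)) :=
          ((Scheme.Hom.comp_apply _ _ _).symm.trans (congrArg (fun m : W.left ⟶ X => m.base (O.ι.base v)) hpq.symm)).trans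
            (Scheme.Hom.comp_apply _ _ _)
        exact Set.mem_preimage.2 (h2 ▸ h1)
      show F.obj.map (restrictEtaleHom W O).op (F.obj.map p.op a) = F.obj.map (restrictEtaleHom W O).op (F.obj.map q.op a)
      rw [← ConcreteCategory.comp_apply, ← Functor.map_comp, ← op_comp, ← ConcreteCategory.comp_apply,
        ← Functor.map_comp, ← op_comp, hz (restrictEtaleHom W O ≫ p), hz (restrictEtaleHom W O ≫ q)]
      · intro v; exact Set.mem_of_eq_of_mem (Scheme.Hom.comp_apply O.ι q₀ v) (hq' v)
      · intro v; exact Set.mem_of_eq_of_mem (Scheme.Hom.comp_apply O.ι p₀ v) (hp' v)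
    · let L : W.left ⟶ pullback f f := pullback.lift p₀ q₀ hpq
      let O : W.left.Opens := L ⁻¹ᵁ (pullback.diagonal f).opensRange
      have hfq : f.base (q₀.base w) = f.base (p₀.base w) :=
        ((Scheme.Hom.comp_apply _ _ _).symm.trans (congrArg (fun m : W.left ⟶ X => m.base w) hpq.symm)).trans
          (Scheme.Hom.comp_apply _ _ _)
      have hq : q₀.base w ∉ Set.range j'.base := fun h => hw (by
        rw [hU'] at h ⊢
        exact Set.mem_preimage.2 (hfq ▸ h))
      have heq : p₀.base w = q₀.base w := hb hw hq hfq.symm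
      have hwO : w ∈ O := by
        let κ := W.left.fromSpecResidueField w
        have hw' : ∀ r : W.left ⟶ X', (κ ≫ r).base (IsLocalRing.closedPoint (W.left.residueField w)) = r.base w := fun r =>
          (Scheme.Hom.comp_apply _ _ _).trans (congrArg (fun z => r.base z) (Scheme.fromSpecResidueField_apply _ _))
        have hk : κ ≫ p₀ = κ ≫ q₀ := eq_of_residueField_surjective f (K := W.left.residueField w) (κ ≫ p₀) (κ ≫ q₀)
          (p₀.base w) (hw' p₀) ((hw' q₀).trans heq.symm) (hZ' _ hw)
          (by rw [Category.assoc, Category.assoc, hpq])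
        have hd1 : ((κ ≫ p₀) ≫ pullback.diagonal f) ≫ pullback.fst f f = κ ≫ p₀ :=
          (Category.assoc _ _ _).trans ((congrArg ((κ ≫ p₀) ≫ ·) (pullback.diagonal_fst f)).trans (Category.comp_id _))
        have hd2 : ((κ ≫ p₀) ≫ pullback.diagonal f) ≫ pullback.snd f f = κ ≫ p₀ :=
          (Category.assoc _ _ _).trans ((congrArg ((κ ≫ p₀) ≫ ·) (pullback.diagonal_snd f)).trans (Category.comp_id _))
        have hL : κ ≫ L = (κ ≫ p₀) ≫ pullback.diagonal f := pullback.hom_ext
          ((Category.assoc _ _ _).trans ((congrArg (κ ≫ ·) (pullback.lift_fst _ _ _)).trans hd1.symm))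
          ((Category.assoc _ _ _).trans ((congrArg (κ ≫ ·) (pullback.lift_snd _ _ _)).trans (hk.symm.trans hd2.symm)))
        refine ⟨(κ ≫ p₀).base (IsLocalRing.closedPoint (W.left.residueField w)), ?_⟩
        refine (Scheme.Hom.comp_apply _ _ _).symm.trans ((congrArg
          (fun m : Spec (W.left.residueField w) ⟶ pullback f f => m.base (IsLocalRing.closedPoint (W.left.residueField w))) hL.symm).trans ?_)
        exact (Scheme.Hom.comp_apply _ _ _).trans (congrArg (fun z => L.base z) (Scheme.fromSpecResidueField_apply _ _))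
      let V := restrictEtale W O
      refine ⟨V, restrictEtaleHom W O, ⟨w, hwO⟩, ?_, rfl⟩
      have hpq' : restrictEtaleHom W O ≫ p = restrictEtaleHom W O ≫ q := by
        apply MorphismProperty.Over.Hom.ext
        have hr : Set.range (O.ι ≫ L).base ⊆ Set.range (pullback.diagonal f).base := by
          rintro _ ⟨v, rfl⟩
          exact Set.mem_of_eq_of_mem (Scheme.Hom.comp_apply _ _ _) v.2
        have h' := IsOpenImmersion.lift_fac (pullback.diagonal f) (O.ι ≫ L) hr
        have e1 : O.ι ≫ p₀ = IsOpenImmersion.lift (pullback.diagonal f) (O.ι ≫ L) hr := by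
          refine Eq.trans ?_ ((congrArg (IsOpenImmersion.lift (pullback.diagonal f) (O.ι ≫ L) hr ≫ ·)
            (pullback.diagonal_fst f)).trans (Category.comp_id _))
          refine Eq.trans ?_ (Category.assoc _ _ _)
          rw [h']
          exact ((Category.assoc _ _ _).trans (congrArg (O.ι ≫ ·) (pullback.lift_fst _ _ _))).symm
        have e2 : O.ι ≫ q₀ = IsOpenImmersion.lift (pullback.diagonal f) (O.ι ≫ L) hr := by
          refine Eq.trans ?_ ((congrArg (IsOpenImmersion.lift (pullback.diagonal f) (O.ι ≫ L) hr ≫ ·)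
            (pullback.diagonal_snd f)).trans (Category.comp_id _))
          refine Eq.trans ?_ (Category.assoc _ _ _)
          rw [h']
          exact ((Category.assoc _ _ _).trans (congrArg (O.ι ≫ ·) (pullback.lift_snd _ _ _))).symm
        exact e1.trans e2.symm
      show F.obj.map (restrictEtaleHom W O).op (F.obj.map p.op a) = F.obj.map (restrictEtaleHom W O).op (F.obj.map q.op a)
      rw [← ConcreteCategory.comp_apply, ← Functor.map_comp, ← op_comp, hpq', op_comp, Functor.map_comp,
        ConcreteCategory.comp_apply]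
  let x : ∀ b : Bool, P.obj (op (obj b)) := fun b =>
    match b with
    | true => a
    | false => (0 : F.obj.obj (op (objB j)))
  have hx : Presieve.Arrows.Compatible P π x := by
    intro b b' W p q _
    cases b <;> cases b'
    · exact (map_zero (F.obj.map p.op).hom).trans (map_zero (F.obj.map q.op).hom).symm
    · exact (map_zero (F.obj.map p.op).hom).trans (hAB W q p).symm
    · exact (hAB W p q).trans (map_zero (F.obj.map q.op).hom).symm
    · exact hAA W p q
  obtain ⟨t, ht, huniq⟩ := hsheaf x hx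
  exact ⟨t, ⟨ht true, ht false⟩, fun t' ht' => huniq t' fun b => by
    cases b
    exacts [ht'.2, ht'.1]⟩

include hU' hZ hκ in
theorem nonempty_gammaSupp_iso :
    Nonempty (EtDual.gammaSupp j ≅ EtCoh.pull f ⋙ EtDual.gammaSupp j') := by
  have ej : ∀ {Y : Scheme.{u}} (h : Y ⟶ X), h ≫ (EtCoh.top X).hom = h := fun h => Category.comp_id h
  haveI : AlgebraicGeometry.Etale (j' ≫ f) := inferInstance
  let toA := (EtCore.topIsTerminal X).from (objA f)
  let toB := (EtCore.topIsTerminal X).from (objB j)
  have hA : toA.left = f := (Category.comp_id _).symm.trans (MorphismProperty.Over.w toA)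
  have hB : toB.left = j := (Category.comp_id _).symm.trans (MorphismProperty.Over.w toB)
  have key1 : ∀ (F : EtCoh.Ab X) (s : (EtCore.gsec X).obj F),
      (pullSec j).app F s = 0 ↔ F.obj.map toB.op s = 0 := by
    intro F s
    rw [pullSec_eq_atPt j (ej j) F, ← atPt_map j toB (𝟙 U) (Category.id_comp _) j ((Category.id_comp _).trans hB).symm (ej j) F,
      ConcreteCategory.comp_apply]
    have hb := @atPt_bijective X U j inferInstance (objB j) (𝟙 U) (IsIso.id _) (Category.id_comp _) F
    exact ⟨fun h => hb.1 (h.trans (map_zero _).symm), fun h => (congrArg _ h).trans (map_zero _)⟩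
  have hbA : ∀ F : EtCoh.Ab X, Function.Bijective (atPt f (objA f) (𝟙 X') (Category.id_comp _) F) := fun F =>
    @atPt_bijective X X' f inferInstance (objA f) (𝟙 X') (IsIso.id _) (Category.id_comp _) F
  have key0 : ∀ (F : EtCoh.Ab X) (s : (EtCore.gsec X).obj F),
      (pullSec f).app F s = atPt f (objA f) (𝟙 X') (Category.id_comp _) F (F.obj.map toA.op s) := by
    intro F s
    rw [pullSec_eq_atPt f (ej f) F, ← atPt_map f toA (𝟙 X') (Category.id_comp _) f ((Category.id_comp _).trans hA).symm (ej f) F]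
    rfl
  have key2 : ∀ (F : EtCoh.Ab X) (a : F.obj.obj (op (objA f))),
      (pullSec j').app ((EtCoh.pull f).obj F) (atPt f (objA f) (𝟙 X') (Category.id_comp _) F a) = 0 ↔
        F.obj.map (abToA f j').op a = 0 := by
    intro F a
    let w := j' ≫ f
    have e' : j' ≫ (objA f).hom = w := rfl
    have h1 := ConcreteCategory.congr_hom
      (atPt_pullSec j' f w rfl (objA f) (𝟙 X') (Category.id_comp _) j' (Category.comp_id j').symm e' F) a
    have h2 := ConcreteCategory.congr_hom (atPt_map w (abToA f j') (𝟙 U') (Category.id_comp _) j' (Category.id_comp j').symm e' F) a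
    have hb := @atPt_bijective X U' w inferInstance (objAB f j') (𝟙 U') (IsIso.id _) (Category.id_comp _) F
    have hθ : Function.Bijective ((EtCore.gsec U').map ((θPull j' f w rfl).hom.app F)) :=
      (ConcreteCategory.isIso_iff_bijective _).1 (inferInstance : IsIso ((EtCore.gsec U').map ((θPull j' f w rfl).app F).hom))
    have h12 := h1.trans h2.symm
    simp only [ConcreteCategory.comp_apply] at h12
    constructor
    · intro h
      refine hb.1 ?_
      rw [map_zero]
      refine h12.symm.trans ?_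
      exact (congrArg _ h).trans (map_zero _)
    · intro h
      refine hθ.1 ?_
      rw [map_zero]
      refine h12.trans ?_
      exact (congrArg _ h).trans (map_zero _)
  let ι : ∀ F : EtCoh.Ab X, (EtDual.gammaSupp j).obj F ⟶ (EtCore.gsec X).obj F :=
    fun F => (kernel.ι (EtDual.unitApp j F)).hom.app (op (EtCoh.top X))
  let ι' : ∀ G : EtCoh.Ab X', (EtDual.gammaSupp j').obj G ⟶ (EtCore.gsec X').obj G :=
    fun G => (kernel.ι (EtDual.unitApp j' G)).hom.app (op (EtCoh.top X'))
  have hmem : ∀ (F : EtCoh.Ab X) (s : (EtDual.gammaSupp j).obj F),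
      ∃ t, ι' _ t = (pullSec f).app F (ι F s) := by
    intro F s
    refine (mem_secSupp_iff j' _ _).2 ?_
    rw [key0, key2]
    have hB0 := (key1 F (ι F s)).1 ((mem_secSupp_iff j F _).1 ⟨s, rfl⟩)
    have hl : ∀ u : U', (j' ≫ f).base u ∈ Set.range j.base := fun u =>
      Set.mem_of_eq_of_mem (Scheme.Hom.comp_apply _ _ _) (show j'.base u ∈ f.base ⁻¹' Set.range j.base from hU' ▸ ⟨u, rfl⟩)
    let l₀ : U' ⟶ U := IsOpenImmersion.lift j (j' ≫ f) (by rintro _ ⟨u, rfl⟩; exact hl u)
    let l : objAB f j' ⟶ objB j := MorphismProperty.Over.homMk l₀ (IsOpenImmersion.lift_fac j _ _)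
    rw [← ConcreteCategory.comp_apply, ← Functor.map_comp, ← op_comp,
      (EtCore.topIsTerminal X).hom_ext (abToA f j' ≫ toA) (l ≫ toB), op_comp, Functor.map_comp,
      ConcreteCategory.comp_apply, hB0, map_zero]
  choose ψ hψ using hmem
  let ψh : ∀ F : EtCoh.Ab X, (EtDual.gammaSupp j).obj F →+ (EtDual.gammaSupp j').obj ((EtCoh.pull f).obj F) :=
    fun F => AddMonoidHom.mk' (ψ F) fun a b => secSupp_injective j' _ (by
      refine (hψ F (a + b)).trans ?_
      rw [map_add, map_add, ← hψ F a, ← hψ F b]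
      exact (map_add _ _ _).symm)
  have hbij : ∀ F, Function.Bijective (ψh F) := by
    intro F
    refine ⟨(injective_iff_map_eq_zero _).2 fun s hs => ?_, fun t => ?_⟩
    · refine secSupp_injective j F (Eq.trans ?_ (map_zero _).symm)
      have h0 : (pullSec f).app F (ι F s) = 0 := by
        rw [← hψ F s]; exact (congrArg _ hs).trans (map_zero _)
      rw [key0] at h0
      have hA0 := (hbA F).1 (h0.trans (map_zero _).symm)
      have hB0 := (key1 F (ι F s)).1 ((mem_secSupp_iff j F _).1 ⟨s, rfl⟩)
      obtain ⟨t₀, -, hu⟩ := exists_glue f j j' hU' hκ hZ.injOn hZ.surjOn F 0 (map_zero _)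
      exact (hu _ ⟨hA0, hB0⟩).trans (hu 0 ⟨map_zero _, map_zero _⟩).symm
    · obtain ⟨a, ha⟩ := (hbA F).2 (ι' _ t)
      have ha0 := (key2 F a).1 (by rw [ha]; exact (mem_secSupp_iff j' _ _).1 ⟨t, rfl⟩)
      obtain ⟨s₀, ⟨hsA, hsB⟩, -⟩ := exists_glue f j j' hU' hκ hZ.injOn hZ.surjOn F a ha0
      obtain ⟨s, hs⟩ := (mem_secSupp_iff j F s₀).2 ((key1 F s₀).2 hsB)
      refine ⟨s, secSupp_injective j' _ ?_⟩
      refine (hψ F s).trans ?_
      change (pullSec f).app F ((kernel.ι (EtDual.unitApp j F)).hom.app (op (EtCoh.top X)) s) = _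
      rw [hs, key0, hsA, ha]
      rfl
  refine ⟨NatIso.ofComponents (fun F => @asIso _ _ _ _ (AddCommGrpCat.ofHom (ψh F))
    ((ConcreteCategory.isIso_iff_bijective _).2 (hbij F))) (fun {F G} φ => ?_)⟩
  refine AddCommGrpCat.ext fun s => secSupp_injective j' _ ?_
  have hn : ∀ {Y : Scheme.{u}} {V : Scheme.{u}} (k : V ⟶ Y) {A B : EtCoh.Ab Y} (a : A ⟶ B) (r : (EtDual.gammaSupp k).obj A),
      (kernel.ι (EtDual.unitApp k B)).hom.app (op (EtCoh.top Y)) ((EtDual.gammaSupp k).map a r) =
        (EtCore.gsec Y).map a ((kernel.ι (EtDual.unitApp k A)).hom.app (op (EtCoh.top Y)) r) := by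
    intro Y V k A B a r
    exact ConcreteCategory.congr_hom (congrArg (fun m : kernel (EtDual.unitApp k A) ⟶ B => m.hom.app (op (EtCoh.top Y)))
      (kernel.lift_ι (EtDual.unitApp k B) (kernel.ι (EtDual.unitApp k A) ≫ a) (by
        rw [Category.assoc]
        erw [(EtCoh.pullPushAdj k).unit.naturality a]
        rw [← Category.assoc]
        erw [kernel.condition]
        rw [zero_comp]))) r
  refine (hψ G _).trans ?_
  refine (congrArg ((pullSec f).app G) (hn j φ s)).trans ?_
  refine Eq.trans ?_ (hn j' ((EtCoh.pull f).map φ) (ψ F s)).symm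
  refine Eq.trans ?_ (congrArg ((EtCore.gsec X').map ((EtCoh.pull f).map φ)) (hψ F s)).symm
  exact ConcreteCategory.congr_hom ((pullSec f).naturality φ) _

end Groth.Agent.EtFound
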