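import Groth.Agent.EtFound.PullGerm
import Groth.Agent.EtFound.Germ
import Groth.Agent.EtFound.LiftEtale
import Mathlib.AlgebraicGeometry.Morphisms.Preimmersion
import Mathlib.AlgebraicGeometry.Morphisms.UniversallyOpen
import Mathlib.CategoryTheory.Adjunction.FullyFaithful

/-! direct images along closed and open immersions -/

universe u

open CategoryTheory CategoryTheory.Limits AlgebraicGeometry Opposite

namespace Groth.Agent.EtFound

set_option backward.isDefEq.respectTransparency.types false

/-- every etale neighbourhood downstairs contains a base changed one -/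
def Liftable {X Y : Scheme.{u}} (f : X ⟶ Y) : Prop :=
  ∀ (U : X.Etale) (x : U.left), ∃ (V : Y.Etale) (h : (EtCoh.bc f).obj V ⟶ U), x ∈ Set.range h.left.base

/-- topological embedding after every etale base change -/
def UnivEmb {X Y : Scheme.{u}} (f : X ⟶ Y) : Prop :=
  ∀ V : Y.Etale, Topology.IsEmbedding (pullback.fst V.hom f).base

theorem univEmb_of_isPreimmersion {X Y : Scheme.{u}} (f : X ⟶ Y) [IsPreimmersion f] : UnivEmb f :=
  fun V => (pullback.fst V.hom f).isEmbedding

theorem liftable_of_isClosedImmersion {Z X : Scheme.{u}} (i : Z ⟶ X) [IsClosedImmersion i] : Liftable i := by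
  intro U x
  have : AlgebraicGeometry.Etale U.hom := U.prop
  obtain ⟨V, h, hh, -, hx⟩ := exists_etale_lift i U.hom x
  exact ⟨V, MorphismProperty.Over.homMk h hh, hx⟩

theorem liftable_of_isOpenImmersion {W X : Scheme.{u}} (j : W ⟶ X) [IsOpenImmersion j] : Liftable j := by
  intro U x
  have : AlgebraicGeometry.Etale U.hom := U.prop
  have : AlgebraicGeometry.Etale (U.hom ≫ j) := inferInstance
  refine ⟨Scheme.Etale.mk (U.hom ≫ j), MorphismProperty.Over.homMk (pullback.fst (U.hom ≫ j) j) ?_, ?_⟩
  · refine (cancel_mono j).1 ?_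
    exact (Category.assoc _ _ _).trans pullback.condition
  · obtain ⟨z, hz, -⟩ := Scheme.Pullback.exists_preimage_pullback (f := U.hom ≫ j) (g := j) x (U.hom.base x)
      (Scheme.Hom.comp_apply _ _ x)
    exact ⟨z, hz⟩

variable {A : Type (u + 2)} [Category.{u + 1} A] [HasColimitsOfSize.{u, u} A] [HasProducts.{u} A]
  {X Y : Scheme.{u}} {Ω : Type u} [Field Ω] [IsSepClosed Ω] (f : X ⟶ Y)
  [((EtCoh.bc f).sheafPushforwardContinuous A Y.smallEtaleTopology X.smallEtaleTopology).IsRightAdjoint]

/-- the canonical map `(f_* G)_{f ξ} ⟶ G_ξ` -/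
noncomputable def pushStalkMap (ξ : Spec (CommRingCat.of Ω) ⟶ X) (G : Sheaf X.smallEtaleTopology A) :
    (Scheme.pointSmallEtale (ξ ≫ f)).sheafFiber.obj
        (((EtCoh.bc f).sheafPushforwardContinuous A Y.smallEtaleTopology X.smallEtaleTopology).obj G) ⟶
      (Scheme.pointSmallEtale ξ).sheafFiber.obj G :=
  (sheafFiberPullIso f ξ).inv.app _ ≫ (Scheme.pointSmallEtale ξ).sheafFiber.map
    (((EtCoh.bc f).sheafAdjunctionContinuous A Y.smallEtaleTopology X.smallEtaleTopology).counit.app G)

theorem pushStalkMap_germ (ξ : Spec (CommRingCat.of Ω) ⟶ X) (G : Sheaf X.smallEtaleTopology A) (V : Y.Etale)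
    (t : (Scheme.pointSmallEtale ξ).fiber.obj ((EtCoh.bc f).obj V)) :
    (Scheme.pointSmallEtale (ξ ≫ f)).toPresheafFiber V (bcFiberEquiv f ξ V t)
        (((EtCoh.bc f).sheafPushforwardContinuous A Y.smallEtaleTopology X.smallEtaleTopology).obj G).obj ≫
      pushStalkMap f ξ G = (Scheme.pointSmallEtale ξ).toPresheafFiber ((EtCoh.bc f).obj V) t G.obj := by
  let adj := (EtCoh.bc f).sheafAdjunctionContinuous A Y.smallEtaleTopology X.smallEtaleTopology
  have h1 := sheafFiberPullIso_germ f ξ
    (((EtCoh.bc f).sheafPushforwardContinuous A Y.smallEtaleTopology X.smallEtaleTopology).obj G) V t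
  have h2 := congr(($(adj.right_triangle_components G)).hom.app (op V))
  have h3 := (Scheme.pointSmallEtale ξ).toPresheafFiber_naturality (adj.counit.app G).hom ((EtCoh.bc f).obj V) t
  refine (Category.assoc _ _ _).symm.trans ((congrArg (· ≫ _) h1).trans ((Category.assoc _ _ _).trans ?_))
  refine (congrArg (_ ≫ ·) h3).trans ?_
  refine (Category.assoc _ _ _).symm.trans ?_
  exact (congrArg (· ≫ _) h2).trans (Category.id_comp _)

variable {FA : A → A → Type*} {CA : A → Type (u + 1)}
  [∀ M N, FunLike (FA M N) (CA M) (CA N)] [ConcreteCategory.{u + 1} A FA]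
  [PreservesFilteredColimitsOfSize.{u, u} (forget A)] [X.smallEtaleTopology.HasSheafCompose (forget A)]

omit [HasProducts.{u} A] [HasColimitsOfSize.{u, u} A] [PreservesFilteredColimitsOfSize.{u, u} (forget A)] in
theorem _root_.Groth.Agent.EtFound.eq_of_cover (G : Sheaf X.smallEtaleTopology A) {U : X.Etale}
    (a b : ToType (G.obj.obj (op U))) (h : Presheaf.equalizerSieve (X := op U) a b ∈ X.smallEtaleTopology U) : a = b :=
  (((isSheaf_iff_isSheaf_of_type _ _).1 ((sheafCompose X.smallEtaleTopology (forget A)).obj G).property).isSeparated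
    _ h).ext fun _ _ hg => hg

theorem pushStalkMap_bijective' (hf : Liftable f) (he : UnivEmb f)
    (ξ : Spec (CommRingCat.of Ω) ⟶ X) (G : Sheaf X.smallEtaleTopology A) :
    Function.Bijective (pushStalkMap f ξ G) := by
  have hgerm : ∀ (V : Y.Etale) (t : (Scheme.pointSmallEtale ξ).fiber.obj ((EtCoh.bc f).obj V))
      (c : ToType (G.obj.obj (op ((EtCoh.bc f).obj V)))),
      pushStalkMap f ξ G ((Scheme.pointSmallEtale (ξ ≫ f)).toPresheafFiber V (bcFiberEquiv f ξ V t)
        (((EtCoh.bc f).sheafPushforwardContinuous A Y.smallEtaleTopology X.smallEtaleTopology).obj G).obj c) =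
      (Scheme.pointSmallEtale ξ).toPresheafFiber ((EtCoh.bc f).obj V) t G.obj c := fun V t c =>
    (ConcreteCategory.comp_apply _ _ c).symm.trans (ConcreteCategory.congr_hom (pushStalkMap_germ f ξ G V t) c)
  constructor
  · intro p q hpq
    obtain ⟨V, v, a, b, rfl, rfl⟩ := (Scheme.pointSmallEtale (ξ ≫ f)).toPresheafFiber_jointly_surjective₂ p q
    obtain ⟨t, rfl⟩ := (bcFiberEquiv f ξ V).surjective v
    have e := (hgerm V t a).symm.trans (hpq.trans (hgerm V t b))
    obtain ⟨U, c, z, hz, hc⟩ := ((Scheme.pointSmallEtale ξ).toPresheafFiber_eq_iff' _ _ _ _).1 e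
    have := etale_left c
    obtain ⟨O, hO, hOW⟩ := ((he V).isInducing.isOpen_iff).1
      c.left.isOpenMap.isOpen_range
    let O' : V.left.Opens := ⟨O, hO⟩
    have : AlgebraicGeometry.Etale V.hom := V.prop
    let V' : Y.Etale := Scheme.Etale.mk (O'.ι ≫ V.hom)
    let b' : V' ⟶ V := MorphismProperty.Over.homMk O'.ι rfl
    have htO : (((bcFiberEquiv f ξ V t).left : Spec (CommRingCat.of Ω) ⟶ V.left).base (default : Spec (CommRingCat.of Ω))) ∈ O' := by
      refine Set.mem_of_eq_of_mem (Scheme.Hom.comp_apply _ _ _) ?_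
      have : (t.left : Spec (CommRingCat.of Ω) ⟶ pullback V.hom f).base (default : Spec (CommRingCat.of Ω)) ∈ Set.range c.left.base := by
        rw [← hz]
        exact ⟨_, (Scheme.Hom.comp_apply _ _ _).symm⟩
      rw [← hOW] at this
      exact this
    obtain ⟨v', hv', -⟩ := exists_lift_point b' (bcFiberEquiv f ξ V t) ⟨_, htO⟩ rfl
    refine ((Scheme.pointSmallEtale (ξ ≫ f)).toPresheafFiber_eq_iff' _ _ _ _).2 ⟨V', b', v', hv', ?_⟩
    refine eq_of_cover G _ _ (equalizerSieve_mem_of_germs G.obj _ _ _ fun k _ _ η z' => ?_)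
    let y := (Scheme.pointSmallEtale η).fiber.map ((EtCoh.bc f).map b') z'
    refine ((Scheme.pointSmallEtale η).toPresheafFiber_w_apply ((EtCoh.bc f).map b') z' G.obj a).trans
      (Eq.trans ?_ ((Scheme.pointSmallEtale η).toPresheafFiber_w_apply ((EtCoh.bc f).map b') z' G.obj b).symm)
    have hy : (y.left : Spec (CommRingCat.of k) ⟶ pullback V.hom f).base (default : Spec (CommRingCat.of k)) ∈ Set.range c.left.base := by
      rw [← hOW]
      change (pullback.fst V.hom f).base
        (((z'.left : Spec (CommRingCat.of k) ⟶ ((EtCoh.bc f).obj V').left) ≫ ((EtCoh.bc f).map b').left).base (default : Spec (CommRingCat.of k))) ∈ O'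
      refine Set.mem_of_eq_of_mem ((Scheme.Hom.comp_apply _ _ _).symm.trans
        ((congrArg (fun m : Spec (CommRingCat.of k) ⟶ V.left => m.base (default : Spec (CommRingCat.of k)))
          (((Category.assoc _ _ _).trans (congrArg ((z'.left : Spec (CommRingCat.of k) ⟶ ((EtCoh.bc f).obj V').left) ≫ ·)
            (EtCoh.isPullback_bc_map f b').w)).trans (Category.assoc _ _ _).symm)).trans (Scheme.Hom.comp_apply _ _ _))) ?_
      exact Subtype.coe_prop _
    obtain ⟨w, hw⟩ := hy
    obtain ⟨w', hw', -⟩ := exists_lift_point c y w hw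
    change (Scheme.pointSmallEtale η).toPresheafFiber _ y G.obj a = (Scheme.pointSmallEtale η).toPresheafFiber _ y G.obj b
    rw [← hw']
    refine ((Scheme.pointSmallEtale η).toPresheafFiber_w_apply c w' G.obj a).symm.trans
      (Eq.trans ?_ ((Scheme.pointSmallEtale η).toPresheafFiber_w_apply c w' G.obj b))
    exact congrArg _ hc
  · intro p
    obtain ⟨U, z, s, rfl⟩ := (Scheme.pointSmallEtale ξ).toPresheafFiber_jointly_surjective p
    obtain ⟨V, h, w, hw⟩ := hf U ((z.left : Spec (CommRingCat.of Ω) ⟶ U.left).base (default : Spec (CommRingCat.of Ω)))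
    obtain ⟨t, ht, -⟩ := exists_lift_point h z w hw
    refine ⟨_, (hgerm V t (G.obj.map h.op s)).trans ?_⟩
    rw [← ht]
    exact (Scheme.pointSmallEtale ξ).toPresheafFiber_w_apply h t G.obj s

/-- the counit is an isomorphism -/
theorem counit_isIso' (hf : Liftable f) (he : UnivEmb f) [(forget A).ReflectsIsomorphisms]
    (G : Sheaf X.smallEtaleTopology A) :
    IsIso (((EtCoh.bc f).sheafAdjunctionContinuous A Y.smallEtaleTopology X.smallEtaleTopology).counit.app G) := by
  refine isIso_of_stalks _ fun k _ _ η => ?_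
  have h := pushStalkMap_bijective' f hf he η G
  rw [← ConcreteCategory.isIso_iff_bijective] at h
  have : IsIso ((sheafFiberPullIso f η).inv.app
        (((EtCoh.bc f).sheafPushforwardContinuous A Y.smallEtaleTopology X.smallEtaleTopology).obj G) ≫
      (Scheme.pointSmallEtale η).sheafFiber.map
        (((EtCoh.bc f).sheafAdjunctionContinuous A Y.smallEtaleTopology X.smallEtaleTopology).counit.app G)) := h
  exact (ConcreteCategory.isIso_iff_bijective _).1 (IsIso.of_isIso_comp_left ((sheafFiberPullIso f η).inv.app _)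
    ((Scheme.pointSmallEtale η).sheafFiber.map _))

theorem pushStalkMap_bijective (hf : Liftable f) [IsPreimmersion f]
    (ξ : Spec (CommRingCat.of Ω) ⟶ X) (G : Sheaf X.smallEtaleTopology A) :
    Function.Bijective (pushStalkMap f ξ G) :=
  pushStalkMap_bijective' f hf (univEmb_of_isPreimmersion f) ξ G

theorem counit_isIso (hf : Liftable f) [IsPreimmersion f] [(forget A).ReflectsIsomorphisms]
    (G : Sheaf X.smallEtaleTopology A) :
    IsIso (((EtCoh.bc f).sheafAdjunctionContinuous A Y.smallEtaleTopology X.smallEtaleTopology).counit.app G) :=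
  counit_isIso' f hf (univEmb_of_isPreimmersion f) G

end Groth.Agent.EtFound
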