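import Groth.Agent.EtFound.FinitePoints
import Groth.Agent.EtFound.PushImm
import Groth.Agent.EtFound.PropPush
import Groth.Agent.EtFound.IntegralProps
import Mathlib.CategoryTheory.Filtered.Basic

/-! stalks of direct images along finite morphisms -/

universe u

open CategoryTheory CategoryTheory.Limits AlgebraicGeometry Opposite

namespace Groth.Agent.EtFound

set_option backward.isDefEq.respectTransparency.types false

/-- an etale neighbourhood of a lifted geometric point refines to an open part of a base changed one -/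
theorem exists_open_factor {X Y : Scheme.{u}} (f : X ⟶ Y) [IsIntegralHom f] {Ω : Type u} [Field Ω]
    [IsSepClosed Ω] {η : Spec (CommRingCat.of Ω) ⟶ Y} {ξ : Spec (CommRingCat.of Ω) ⟶ X} (hξ : ξ ≫ f = η)
    (U : X.Etale) (u : (Scheme.pointSmallEtale ξ).fiber.obj U) :
    ∃ (V : Y.Etale) (v : (Scheme.pointSmallEtale η).fiber.obj V) (O : ((EtCoh.bc f).obj V).left.Opens)
      (m : restrictEtale ((EtCoh.bc f).obj V) O ⟶ U)
      (t : (Scheme.pointSmallEtale ξ).fiber.obj (restrictEtale ((EtCoh.bc f).obj V) O)),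
      (Scheme.pointSmallEtale ξ).fiber.map (restrictEtaleHom ((EtCoh.bc f).obj V) O) t = liftPt f hξ v ∧
      (Scheme.pointSmallEtale ξ).fiber.map m t = u := by
  let Z : ULift.{u} Bool → Scheme.{u} := fun b => Bool.rec X U.left b.down
  let g : ∀ b, Z b ⟶ X := fun b => match b with
    | ⟨true⟩ => U.hom
    | ⟨false⟩ => 𝟙 X
  have hU : Etale U.hom := U.prop
  have hg : ∀ b, Etale (g b) := fun b => match b with
    | ⟨true⟩ => hU
    | ⟨false⟩ => inferInstanceAs (Etale (𝟙 X))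
  have : Etale (Sigma.desc g) := @etale_sigmaDesc X _ Z g hg
  let ι : U.left ⟶ ∐ Z := Sigma.ι Z ⟨true⟩
  have : IsOpenImmersion ι := inferInstanceAs (IsOpenImmersion (Sigma.ι Z ⟨true⟩))
  have hι : ι ≫ Sigma.desc g = U.hom := Sigma.ι_desc g ⟨true⟩
  let ul : Spec (CommRingCat.of Ω) ⟶ U.left := u.left
  have hul : ul ≫ U.hom = ξ := CategoryTheory.Over.w u
  obtain ⟨V₀, v₀, hv₀, z, -, h, hh, w, hw⟩ := exists_split f (Sigma.desc g)
    (η.base (default : Spec (CommRingCat.of Ω)))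
    (fun x _ => ⟨(Sigma.ι Z ⟨false⟩).base x, by rw [← Scheme.Hom.comp_apply, Sigma.ι_desc]; rfl⟩)
    ((ul ≫ ι).base (default : Spec (CommRingCat.of Ω))) (by
      rw [← Scheme.Hom.comp_apply, ← Scheme.Hom.comp_apply]
      refine congrArg (fun k : Spec (CommRingCat.of Ω) ⟶ Y => k.base (default : Spec (CommRingCat.of Ω))) ?_
      exact (congrArg (ul ≫ ·) ((Category.assoc _ _ _).symm.trans (congrArg (· ≫ f) hι))).trans
        ((Category.assoc _ _ _).symm.trans ((congrArg (· ≫ f) hul).trans hξ)))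
  have : Etale (h ≫ Sigma.desc g) := by rw [hh]; infer_instance
  have : Etale h := Etale.of_comp h (Sigma.desc g)
  obtain ⟨l, hl, -⟩ := Scheme.exists_fac_of_etale_of_isSepClosed h (ul ≫ ι) w hw
  have hl1 : l ≫ pullback.fst f v₀ = ξ := by
    rw [← hh, reassoc_of% hl]
    exact (congrArg (ul ≫ ·) hι).trans hul
  let V : Y.Etale := Scheme.Etale.mk v₀
  let σ : ((EtCoh.bc f).obj V).left ⟶ pullback f v₀ := (pullbackSymmetry v₀ f).hom
  have hη : (l ≫ pullback.snd f v₀) ≫ v₀ = η := by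
    rw [Category.assoc, ← pullback.condition, ← Category.assoc, hl1, hξ]
  let v : (Scheme.pointSmallEtale η).fiber.obj V := CategoryTheory.Over.homMk (l ≫ pullback.snd f v₀) hη
  have hσ : ((liftPt f hξ v).left : Spec (CommRingCat.of Ω) ⟶ ((EtCoh.bc f).obj V).left) ≫ σ = l := by
    change pullback.lift (l ≫ pullback.snd f v₀) ξ _ ≫ (pullbackSymmetry v₀ f).hom = l
    refine pullback.hom_ext ?_ ?_
    · rw [Category.assoc, pullbackSymmetry_hom_comp_fst, pullback.lift_snd, hl1]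
    · rw [Category.assoc, pullbackSymmetry_hom_comp_snd, pullback.lift_fst]
  let O : ((EtCoh.bc f).obj V).left.Opens := (σ ≫ h) ⁻¹ᵁ ι.opensRange
  have hle : Set.range (O.ι ≫ σ ≫ h).base ⊆ Set.range ι.base := by
    rintro _ ⟨a, rfl⟩
    exact a.2
  let m : restrictEtale ((EtCoh.bc f).obj V) O ⟶ U :=
    MorphismProperty.Over.homMk (IsOpenImmersion.lift ι (O.ι ≫ σ ≫ h) hle) (by
      rw [← hι, IsOpenImmersion.lift_fac_assoc, Category.assoc, Category.assoc, hh]
      exact congrArg (O.ι ≫ ·) (pullbackSymmetry_hom_comp_fst v₀ f)) trivial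
  have hmem : ((liftPt f hξ v).left : Spec (CommRingCat.of Ω) ⟶ ((EtCoh.bc f).obj V).left).base
      (default : Spec (CommRingCat.of Ω)) ∈ O :=
    ⟨ul.base (default : Spec (CommRingCat.of Ω)),
      (Scheme.Hom.comp_apply ul ι (default : Spec (CommRingCat.of Ω))).symm.trans
        ((congrArg (fun k : Spec (CommRingCat.of Ω) ⟶ ∐ Z => k.base (default : Spec (CommRingCat.of Ω)))
          ((hl.symm.trans (congrArg (· ≫ h) hσ.symm)).trans (Category.assoc _ _ _))).trans
            (Scheme.Hom.comp_apply _ _ _))⟩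
  obtain ⟨t, ht, -⟩ := exists_lift_point (restrictEtaleHom ((EtCoh.bc f).obj V) O) (liftPt f hξ v)
    ⟨_, hmem⟩ rfl
  refine ⟨V, v, O, m, t, ht, CategoryTheory.Over.OverMorphism.ext ?_⟩
  change (t.left : Spec (CommRingCat.of Ω) ⟶ (O : Scheme.{u})) ≫ IsOpenImmersion.lift ι (O.ι ≫ σ ≫ h) hle = ul
  rw [← cancel_mono ι, Category.assoc, IsOpenImmersion.lift_fac, ← Category.assoc]
  have ht' : (t.left : Spec (CommRingCat.of Ω) ⟶ (O : Scheme.{u})) ≫ O.ι = (liftPt f hξ v).left :=
    congr(($ht).left)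
  rw [ht', ← Category.assoc]
  exact (congrArg (· ≫ h) hσ).trans hl

/-- a morphism between restrictions -/
noncomputable def restrictEtaleMap {X : Scheme.{u}} {U W : X.Etale} (b : W ⟶ U) (O : U.left.Opens)
    (P : W.left.Opens) (hP : P ≤ b.left ⁻¹ᵁ O) : restrictEtale W P ⟶ restrictEtale U O :=
  MorphismProperty.Over.homMk (Scheme.Hom.resLE b.left O P hP)
    ((Category.assoc _ _ _).symm.trans ((congrArg (· ≫ U.hom) (Scheme.Hom.resLE_comp_ι b.left hP)).trans
      ((Category.assoc _ _ _).trans (congrArg (P.ι ≫ ·) (MorphismProperty.Over.w b))))) trivial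

theorem restrictEtaleMap_comp {X : Scheme.{u}} {U W : X.Etale} (b : W ⟶ U) (O : U.left.Opens)
    (P : W.left.Opens) (hP : P ≤ b.left ⁻¹ᵁ O) :
    restrictEtaleMap b O P hP ≫ restrictEtaleHom U O = restrictEtaleHom W P ≫ b :=
  MorphismProperty.Over.Hom.ext (Scheme.Hom.resLE_comp_ι b.left hP)

/-- near a geometric point of the base, only a neighbourhood of the fibre matters -/
theorem exists_shrink {X Y : Scheme.{u}} (f : X ⟶ Y) [IsIntegralHom f] {Ω : Type u} [Field Ω]
    [IsSepClosed Ω] {η : Spec (CommRingCat.of Ω) ⟶ Y} {V : Y.Etale}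
    (v : (Scheme.pointSmallEtale η).fiber.obj V) (O : ((EtCoh.bc f).obj V).left.Opens)
    (hO : ∀ w : ((EtCoh.bc f).obj V).left, (pullback.fst V.hom f).base w =
      (v.left : Spec (CommRingCat.of Ω) ⟶ V.left).base (default : Spec (CommRingCat.of Ω)) → w ∈ O) :
    ∃ (W : Y.Etale) (b : W ⟶ V) (w : (Scheme.pointSmallEtale η).fiber.obj W),
      (Scheme.pointSmallEtale η).fiber.map b w = v ∧ ∀ x, ((EtCoh.bc f).map b).left.base x ∈ O := by
  let G : V.left.Opens :=
    ⟨((pullback.fst V.hom f).base '' (Oᶜ : Set ((EtCoh.bc f).obj V).left))ᶜ,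
      ((pullback.fst V.hom f).isClosedMap _ O.2.isClosed_compl).isOpen_compl⟩
  have hG : (v.left : Spec (CommRingCat.of Ω) ⟶ V.left).base (default : Spec (CommRingCat.of Ω)) ∈ G := by
    rintro ⟨w, hw, e⟩
    exact hw (hO w e)
  obtain ⟨w, hw, -⟩ := exists_lift_point (restrictEtaleHom V G) v ⟨_, hG⟩ rfl
  refine ⟨_, restrictEtaleHom V G, w, hw, fun x => ?_⟩
  by_contra hx
  refine ((pullback.fst (restrictEtale V G).hom f).base x).2 ⟨_, hx, ?_⟩
  refine (Scheme.Hom.comp_apply _ (pullback.fst V.hom f) x).symm.trans ?_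
  exact (congrArg (fun k : _ ⟶ V.left => k.base x)
    (EtCoh.isPullback_bc_map f (restrictEtaleHom V G)).w).trans (Scheme.Hom.comp_apply _ _ x)

variable {A : Type (u + 2)} [Category.{u + 1} A] [HasColimitsOfSize.{u, u} A] [HasProducts.{u} A]
  {X Y : Scheme.{u}} {Ω : Type u} [Field Ω] [IsSepClosed Ω] (f : X ⟶ Y)
  [((EtCoh.bc f).sheafPushforwardContinuous A Y.smallEtaleTopology X.smallEtaleTopology).IsRightAdjoint]
  {η : Spec (CommRingCat.of Ω) ⟶ Y}

/-- the stalk map, natural in the sheaf -/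
noncomputable def pushStalkNat (ξ : Spec (CommRingCat.of Ω) ⟶ X) :
    (EtCoh.bc f).sheafPushforwardContinuous A Y.smallEtaleTopology X.smallEtaleTopology ⋙
        (Scheme.pointSmallEtale (ξ ≫ f)).sheafFiber ⟶ (Scheme.pointSmallEtale ξ).sheafFiber where
  app G := pushStalkMap f ξ G
  naturality G G' φ := by
    let adj := (EtCoh.bc f).sheafAdjunctionContinuous A Y.smallEtaleTopology X.smallEtaleTopology
    have h1 := (sheafFiberPullIso f ξ).inv.naturality
      (((EtCoh.bc f).sheafPushforwardContinuous A Y.smallEtaleTopology X.smallEtaleTopology).map φ)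
    have h2 := congrArg (Scheme.pointSmallEtale ξ).sheafFiber.map (adj.counit.naturality φ)
    rw [Functor.map_comp, Functor.map_comp] at h2
    refine (Category.assoc _ _ _).symm.trans ((congrArg (· ≫ _) h1).trans ((Category.assoc _ _ _).trans ?_))
    exact (congrArg (_ ≫ ·) h2).trans (Category.assoc _ _ _).symm

/-- the map on stalks attached to a geometric point of `X` over `η` -/
noncomputable def pushStalkAt {ξ : Spec (CommRingCat.of Ω) ⟶ X} (hξ : ξ ≫ f = η) :
    (EtCoh.bc f).sheafPushforwardContinuous A Y.smallEtaleTopology X.smallEtaleTopology ⋙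
        (Scheme.pointSmallEtale η).sheafFiber ⟶ (Scheme.pointSmallEtale ξ).sheafFiber :=
  eqToHom (by rw [hξ]) ≫ pushStalkNat f ξ

theorem pushStalkAt_germ {ξ : Spec (CommRingCat.of Ω) ⟶ X} (hξ : ξ ≫ f = η)
    (G : Sheaf X.smallEtaleTopology A) {V : Y.Etale} (v : (Scheme.pointSmallEtale η).fiber.obj V) :
    (Scheme.pointSmallEtale η).toPresheafFiber V v
        (((EtCoh.bc f).sheafPushforwardContinuous A Y.smallEtaleTopology X.smallEtaleTopology).obj G).obj ≫
      (pushStalkAt f hξ).app G =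
    (Scheme.pointSmallEtale ξ).toPresheafFiber ((EtCoh.bc f).obj V) (liftPt f hξ v) G.obj := by
  subst hξ
  have e : bcFiberEquiv f ξ V (liftPt f rfl v) = v := (bcFiberEquiv f ξ V).apply_symm_apply v
  have h := pushStalkMap_germ f ξ G V (liftPt f rfl v)
  rw [e] at h
  simp only [pushStalkAt, eqToHom_refl, Category.id_comp]
  exact h

variable {FA : A → A → Type*} {CA : A → Type (u + 1)}
  [∀ M N, FunLike (FA M N) (CA M) (CA N)] [ConcreteCategory.{u + 1} A FA]
  [PreservesFilteredColimitsOfSize.{u, u} (forget A)] [X.smallEtaleTopology.HasSheafCompose (forget A)]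

theorem pushStalkAt_germ_apply {ξ : Spec (CommRingCat.of Ω) ⟶ X} (hξ : ξ ≫ f = η)
    (G : Sheaf X.smallEtaleTopology A) {V : Y.Etale} (v : (Scheme.pointSmallEtale η).fiber.obj V)
    (c : ToType (G.obj.obj (op ((EtCoh.bc f).obj V)))) :
    (pushStalkAt f hξ).app G ((Scheme.pointSmallEtale η).toPresheafFiber V v
        (((EtCoh.bc f).sheafPushforwardContinuous A Y.smallEtaleTopology X.smallEtaleTopology).obj G).obj c) =
      (Scheme.pointSmallEtale ξ).toPresheafFiber ((EtCoh.bc f).obj V) (liftPt f hξ v) G.obj c :=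
  (ConcreteCategory.comp_apply _ _ c).symm.trans (ConcreteCategory.congr_hom (pushStalkAt_germ f hξ G v) c)

/-- the stalk of a direct image along an integral morphism embeds in the product of the stalks above -/
theorem pushStalkAt_injective {Ω : Type u} [Field Ω] [IsAlgClosed Ω] {η : Spec (CommRingCat.of Ω) ⟶ Y}
    [IsIntegralHom f] (G : Sheaf X.smallEtaleTopology A) :
    Function.Injective (fun p (ξ : {ξ : Spec (CommRingCat.of Ω) ⟶ X // ξ ≫ f = η}) =>
      (pushStalkAt f ξ.2).app G p) := by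
  intro p q hpq
  obtain ⟨V, v, a, b, rfl, rfl⟩ := (Scheme.pointSmallEtale η).toPresheafFiber_jointly_surjective₂ p q
  have hU : ∀ ξ : {ξ : Spec (CommRingCat.of Ω) ⟶ X // ξ ≫ f = η},
      ∃ (U : X.Etale) (c : U ⟶ (EtCoh.bc f).obj V) (z : (Scheme.pointSmallEtale ξ.1).fiber.obj U),
        (Scheme.pointSmallEtale ξ.1).fiber.map c z = liftPt f ξ.2 v ∧ G.obj.map c.op a = G.obj.map c.op b :=
    fun ξ => ((Scheme.pointSmallEtale ξ.1).toPresheafFiber_eq_iff' _ _ _ _).1
      ((pushStalkAt_germ_apply f ξ.2 G v a).symm.trans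
        ((congrFun hpq ξ).trans (pushStalkAt_germ_apply f ξ.2 G v b)))
  choose U c z hz hc using hU
  let R : ((EtCoh.bc f).obj V).left.Opens := ⟨⋃ ξ, Set.range (c ξ).left.base, isOpen_iUnion fun ξ => by
    have := etale_left (c ξ)
    exact (Scheme.Hom.isOpenMap (c ξ).left).isOpen_range⟩
  have hR : ∀ w : ((EtCoh.bc f).obj V).left, (pullback.fst V.hom f).base w =
      (v.left : Spec (CommRingCat.of Ω) ⟶ V.left).base (default : Spec (CommRingCat.of Ω)) → w ∈ R := by
    intro w hw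
    obtain ⟨ξ, hξ, rfl⟩ := exists_liftPt_eq f v w hw
    refine Set.mem_iUnion.2 ⟨⟨ξ, hξ⟩, ?_⟩
    rw [← hz ⟨ξ, hξ⟩]
    exact ⟨_, (Scheme.Hom.comp_apply _ _ _).symm⟩
  obtain ⟨W, d, w', hw', hd⟩ := exists_shrink f v R hR
  refine ((Scheme.pointSmallEtale η).toPresheafFiber_eq_iff' _ _ _ _).2 ⟨W, d, w', hw', ?_⟩
  refine eq_of_cover G _ _ (equalizerSieve_mem_of_germs G.obj _ _ _ fun k _ _ ζ z' => ?_)
  let y := (Scheme.pointSmallEtale ζ).fiber.map ((EtCoh.bc f).map d) z'
  refine ((Scheme.pointSmallEtale ζ).toPresheafFiber_w_apply ((EtCoh.bc f).map d) z' G.obj a).trans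
    (Eq.trans ?_ ((Scheme.pointSmallEtale ζ).toPresheafFiber_w_apply ((EtCoh.bc f).map d) z' G.obj b).symm)
  have hy : (y.left : Spec (CommRingCat.of k) ⟶ ((EtCoh.bc f).obj V).left).base
      (default : Spec (CommRingCat.of k)) ∈ R := by
    refine Set.mem_of_eq_of_mem (s := (R : Set ↥((EtCoh.bc f).obj V).left))
      (Scheme.Hom.comp_apply (z'.left : Spec (CommRingCat.of k) ⟶ ((EtCoh.bc f).obj W).left)
        ((EtCoh.bc f).map d).left (default : Spec (CommRingCat.of k))) ?_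
    exact hd _
  obtain ⟨ξ, r, hr⟩ := Set.mem_iUnion.1 hy
  obtain ⟨r', hr', -⟩ := exists_lift_point (c ξ) y r hr
  change (Scheme.pointSmallEtale ζ).toPresheafFiber _ y G.obj a =
    (Scheme.pointSmallEtale ζ).toPresheafFiber _ y G.obj b
  rw [← hr']
  refine ((Scheme.pointSmallEtale ζ).toPresheafFiber_w_apply (c ξ) r' G.obj a).symm.trans
    (Eq.trans ?_ ((Scheme.pointSmallEtale ζ).toPresheafFiber_w_apply (c ξ) r' G.obj b))
  exact congrArg _ (hc ξ)

/-- the stalk of a direct image along a finite morphism is the product of the stalks above -/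
theorem pushStalkAt_bijective {Ω : Type u} [Field Ω] [IsAlgClosed Ω] {η : Spec (CommRingCat.of Ω) ⟶ Y}
    [IsFinite f] (G : Sheaf X.smallEtaleTopology A) :
    Function.Bijective (fun p (ξ : {ξ : Spec (CommRingCat.of Ω) ⟶ X // ξ ≫ f = η}) =>
      (pushStalkAt f ξ.2).app G p) := by
  haveI := finite_points f η
  refine ⟨pushStalkAt_injective f G, ?_⟩
  · intro g
    choose U u s hs using fun ξ : {ξ : Spec (CommRingCat.of Ω) ⟶ X // ξ ≫ f = η} =>
      (Scheme.pointSmallEtale ξ.1).toPresheafFiber_jointly_surjective (g ξ)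
    choose V v O m t ht hmt using fun ξ => exists_open_factor f ξ.2 (U ξ) (u ξ)
    choose V' v' P P' hPd hP hP' using
      fun p : {p : {ξ : Spec (CommRingCat.of Ω) ⟶ X // ξ ≫ f = η} × {ξ : Spec (CommRingCat.of Ω) ⟶ X // ξ ≫ f = η} //
          p.1 ≠ p.2} =>
        exists_separation f p.1.1.2 p.1.2.2 (fun e => p.2 (Subtype.ext e))
    classical
    haveI := Fintype.ofFinite {ξ : Spec (CommRingCat.of Ω) ⟶ X // ξ ≫ f = η}
    obtain ⟨⟨W, w⟩, hS⟩ := IsCofiltered.inf_objs_exists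
      ((Finset.univ.image fun ξ => ((Scheme.pointSmallEtale η).fiber).elementsMk (V ξ) (v ξ)) ∪
        (Finset.univ.image fun p : {p : {ξ : Spec (CommRingCat.of Ω) ⟶ X // ξ ≫ f = η} ×
          {ξ : Spec (CommRingCat.of Ω) ⟶ X // ξ ≫ f = η} // p.1 ≠ p.2} =>
          ((Scheme.pointSmallEtale η).fiber).elementsMk (V' p) (v' p)))
    have hb : ∀ ξ, ∃ b : W ⟶ V ξ, (Scheme.pointSmallEtale η).fiber.map b w = v ξ := fun ξ =>
      ⟨_, (hS (Finset.mem_union_left _ (Finset.mem_image_of_mem _ (Finset.mem_univ ξ)))).some.2⟩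
    choose b hb using hb
    have hb' : ∀ p, ∃ b : W ⟶ V' p, (Scheme.pointSmallEtale η).fiber.map b w = v' p := fun p =>
      ⟨_, (hS (Finset.mem_union_right _ (Finset.mem_image_of_mem _ (Finset.mem_univ p)))).some.2⟩
    choose b' hb' using hb'
    let pt : ∀ ξ : {ξ : Spec (CommRingCat.of Ω) ⟶ X // ξ ≫ f = η}, ((EtCoh.bc f).obj W).left := fun ξ =>
      ((liftPt f ξ.2 w).left : Spec (CommRingCat.of Ω) ⟶ ((EtCoh.bc f).obj W).left).base
        (default : Spec (CommRingCat.of Ω))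
    have hpt : ∀ (ξ : {ξ : Spec (CommRingCat.of Ω) ⟶ X // ξ ≫ f = η}) {V₀ : Y.Etale} (c : W ⟶ V₀)
        (v₀ : (Scheme.pointSmallEtale η).fiber.obj V₀),
        (Scheme.pointSmallEtale η).fiber.map c w = v₀ → ((EtCoh.bc f).map c).left.base (pt ξ) =
          ((liftPt f ξ.2 v₀).left : Spec (CommRingCat.of Ω) ⟶ ((EtCoh.bc f).obj V₀).left).base
            (default : Spec (CommRingCat.of Ω)) := fun ξ V₀ c v₀ hc => by
      subst hc
      rw [← liftPt_map f ξ.2 c w]
      exact (Scheme.Hom.comp_apply _ _ _).symm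
    -- the open around each point
    let Q : ∀ ξ, ((EtCoh.bc f).obj W).left.Opens := fun ξ =>
      ((EtCoh.bc f).map (b ξ)).left ⁻¹ᵁ (O ξ) ⊓
        (Finset.univ.inf fun p : {p : {ξ : Spec (CommRingCat.of Ω) ⟶ X // ξ ≫ f = η} ×
          {ξ : Spec (CommRingCat.of Ω) ⟶ X // ξ ≫ f = η} // p.1 ≠ p.2} =>
          (if p.1.1 = ξ then ((EtCoh.bc f).map (b' p)).left ⁻¹ᵁ P p else ⊤) ⊓
            (if p.1.2 = ξ then ((EtCoh.bc f).map (b' p)).left ⁻¹ᵁ P' p else ⊤))
    have hQ : ∀ ξ, pt ξ ∈ Q ξ := by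
      intro ξ
      refine ⟨?_, ?_⟩
      · show ((EtCoh.bc f).map (b ξ)).left.base (pt ξ) ∈ O ξ
        rw [hpt ξ (b ξ) (v ξ) (hb ξ)]
        have := congr(($(ht ξ)).left)
        rw [← this]
        refine Set.mem_of_eq_of_mem (s := (O ξ).carrier) (Scheme.Hom.comp_apply _ _ _) ?_
        exact Subtype.coe_prop _
      · have hmem : ∀ S : Finset {p : {ξ : Spec (CommRingCat.of Ω) ⟶ X // ξ ≫ f = η} ×
            {ξ : Spec (CommRingCat.of Ω) ⟶ X // ξ ≫ f = η} // p.1 ≠ p.2}, pt ξ ∈ S.inf fun p =>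
            (if p.1.1 = ξ then ((EtCoh.bc f).map (b' p)).left ⁻¹ᵁ P p else ⊤) ⊓
              (if p.1.2 = ξ then ((EtCoh.bc f).map (b' p)).left ⁻¹ᵁ P' p else ⊤) := by
          intro S
          induction S using Finset.induction with
          | empty => exact TopologicalSpace.Opens.mem_top _
          | @insert p S _ ih =>
            rw [Finset.inf_insert]
            refine ⟨⟨?_, ?_⟩, ih⟩
            · split_ifs with h
              · subst h
                show ((EtCoh.bc f).map (b' p)).left.base _ ∈ P p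
                rw [hpt _ (b' p) (v' p) (hb' p)]
                exact hP p
              · trivial
            · split_ifs with h
              · subst h
                show ((EtCoh.bc f).map (b' p)).left.base _ ∈ P' p
                rw [hpt _ (b' p) (v' p) (hb' p)]
                exact hP' p
              · trivial
        exact hmem _
    have hQd : ∀ ξ ξ', ξ ≠ ξ' → Disjoint (Q ξ) (Q ξ') := by
      intro ξ ξ' hne
      have h1 : Q ξ ≤ ((EtCoh.bc f).map (b' ⟨(ξ, ξ'), hne⟩)).left ⁻¹ᵁ P ⟨(ξ, ξ'), hne⟩ :=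
        inf_le_right.trans ((Finset.inf_le (Finset.mem_univ ⟨(ξ, ξ'), hne⟩)).trans
          (inf_le_left.trans (by simp)))
      have h2 : Q ξ' ≤ ((EtCoh.bc f).map (b' ⟨(ξ, ξ'), hne⟩)).left ⁻¹ᵁ P' ⟨(ξ, ξ'), hne⟩ :=
        inf_le_right.trans ((Finset.inf_le (Finset.mem_univ ⟨(ξ, ξ'), hne⟩)).trans
          (inf_le_right.trans (by simp)))
      refine Disjoint.mono h1 h2 ?_
      rw [disjoint_iff]
      exact (Scheme.Hom.preimage_inf _).symm.trans (congrArg (_ ⁻¹ᵁ ·) (disjoint_iff.1 (hPd _)))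
    obtain ⟨W', d, w', hw', hd⟩ := exists_shrink f w (⨆ ξ, Q ξ) fun x hx => by
      obtain ⟨ξ, hξ, rfl⟩ := exists_liftPt_eq f w x hx
      exact TopologicalSpace.Opens.mem_iSup.2 ⟨⟨ξ, hξ⟩, hQ ⟨ξ, hξ⟩⟩
    let Q' : {ξ : Spec (CommRingCat.of Ω) ⟶ X // ξ ≫ f = η} → ((EtCoh.bc f).obj W').left.Opens := fun ξ =>
      ((EtCoh.bc f).map d).left ⁻¹ᵁ Q ξ
    let k : ∀ ξ, restrictEtale ((EtCoh.bc f).obj W') (Q' ξ) ⟶ U ξ := fun ξ =>
      restrictEtaleMap ((EtCoh.bc f).map (d ≫ b ξ)) (O ξ) (Q' ξ) (fun x hx => by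
        rw [Functor.map_comp]
        exact Set.mem_of_eq_of_mem (s := (O ξ).carrier)
          (Scheme.Hom.comp_apply ((EtCoh.bc f).map d).left ((EtCoh.bc f).map (b ξ)).left x) hx.1) ≫ m ξ
    obtain ⟨S, hS'⟩ := exists_glue_disjoint G ((EtCoh.bc f).obj W') Q'
      (fun a b hab => by
        rw [disjoint_iff]
        exact (Scheme.Hom.preimage_inf _).symm.trans (congrArg (_ ⁻¹ᵁ ·) (disjoint_iff.1 (hQd a b hab))))
      (eq_top_iff.2 fun x _ => by
        obtain ⟨ξ, hξ⟩ := TopologicalSpace.Opens.mem_iSup.1 (hd x)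
        exact TopologicalSpace.Opens.mem_iSup.2 ⟨ξ, hξ⟩)
      (fun ξ => G.obj.map (k ξ).op (s ξ))
    refine ⟨(Scheme.pointSmallEtale η).toPresheafFiber W' w'
      (((EtCoh.bc f).sheafPushforwardContinuous A Y.smallEtaleTopology X.smallEtaleTopology).obj G).obj S,
      funext fun ξ => ?_⟩
    refine (pushStalkAt_germ_apply f ξ.2 G w' S).trans ?_
    have hmem : ((liftPt f ξ.2 w').left : Spec (CommRingCat.of Ω) ⟶ ((EtCoh.bc f).obj W').left).base
        (default : Spec (CommRingCat.of Ω)) ∈ Q' ξ := by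
      show ((EtCoh.bc f).map d).left.base _ ∈ Q ξ
      have h1 := congr(($(liftPt_map f ξ.2 d w')).left)
      refine Set.mem_of_eq_of_mem (s := (Q ξ).carrier) ((Scheme.Hom.comp_apply _ _ _).symm.trans
        ((congrArg (fun j : Spec (CommRingCat.of Ω) ⟶ ((EtCoh.bc f).obj W).left =>
          j.base (default : Spec (CommRingCat.of Ω))) h1).trans ?_)) (hQ ξ)
      rw [hw']
      rfl
    obtain ⟨r, hr, -⟩ := exists_lift_point (restrictEtaleHom ((EtCoh.bc f).obj W') (Q' ξ))
      (liftPt f ξ.2 w') ⟨_, hmem⟩ rfl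
    rw [← hr]
    refine ((Scheme.pointSmallEtale ξ.1).toPresheafFiber_w_apply _ r G.obj S).symm.trans ?_
    rw [hS']
    refine ((Scheme.pointSmallEtale ξ.1).toPresheafFiber_w_apply (k ξ) r G.obj (s ξ)).trans ?_
    have hk : (Scheme.pointSmallEtale ξ.1).fiber.map (k ξ) r = u ξ := by
      let q := restrictEtaleMap ((EtCoh.bc f).map (d ≫ b ξ)) (O ξ) (Q' ξ) (fun x hx => by
        rw [Functor.map_comp]
        exact Set.mem_of_eq_of_mem (s := (O ξ).carrier)
          (Scheme.Hom.comp_apply ((EtCoh.bc f).map d).left ((EtCoh.bc f).map (b ξ)).left x) hx.1)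
      have hq : (Scheme.pointSmallEtale ξ.1).fiber.map q r = t ξ := by
        have h1 : (Scheme.pointSmallEtale ξ.1).fiber.map (restrictEtaleHom ((EtCoh.bc f).obj (V ξ)) (O ξ))
            ((Scheme.pointSmallEtale ξ.1).fiber.map q r) =
            (Scheme.pointSmallEtale ξ.1).fiber.map (restrictEtaleHom ((EtCoh.bc f).obj (V ξ)) (O ξ)) (t ξ) := by
          rw [ht ξ, ← Functor.map_comp_apply, restrictEtaleMap_comp, Functor.map_comp_apply, hr,
            liftPt_map, Functor.map_comp_apply, hw', hb]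
        apply CategoryTheory.Over.OverMorphism.ext
        refine (cancel_mono (O ξ).ι).1 ?_
        exact congrArg Over.Hom.left h1
      show (Scheme.pointSmallEtale ξ.1).fiber.map (q ≫ m ξ) r = u ξ
      rw [Functor.map_comp_apply, hq, hmt]
    rw [hk]
    exact hs ξ

end Groth.Agent.EtFound
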