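import Groth.Agent.EtFound.CechInjGen
import Mathlib.CategoryTheory.Limits.Preserves.Shapes.Products
import Mathlib.CategoryTheory.Limits.Preserves.Shapes.Over

/-!
# Čech complexes along functors preserving fibre products
-/

universe w v v' u u'

open CategoryTheory CategoryTheory.Limits Opposite

namespace Groth.Agent.EtFound.CechPushGen

open CechInjGen

set_option linter.unusedSectionVars false

variable {D : Type u'} [Category.{v'} D] [LocallySmall.{w} D] {C : Type u} [Category.{v} C]
  [LocallySmall.{w} C] (G : D ⥤ C) {V : D} [HasFiniteProducts (Over V)]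
  [HasFiniteProducts (Over (G.obj V))] [PreservesFiniteLimits G]
  {ι : Type w} (Vf : ι → Over V) (P : Cᵒᵖ ⥤ AddCommGrpCat.{w})

/-- The comparison on a product of members of the family. -/
noncomputable def prodIso {n : ℕ} (i : Fin (n + 1) → ι) :
    G.obj (∏ᶜ fun k => Vf (i k)).left ≅ (∏ᶜ fun k => (Over.post G).obj (Vf (i k))).left :=
  (Over.forget _).mapIso (PreservesProduct.iso (Over.post G) (fun k => Vf (i k)))

lemma prodIso_hom_π {n : ℕ} (i : Fin (n + 1) → ι) (k : Fin (n + 1)) :
    (prodIso G Vf i).hom ≫ (Pi.π (fun k => (Over.post G).obj (Vf (i k))) k).left =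
      G.map (Pi.π (fun k => Vf (i k)) k).left :=
  congrArg Over.Hom.left (show (PreservesProduct.iso (Over.post G) (fun k => Vf (i k))).hom ≫
    Pi.π (fun k => (Over.post G).obj (Vf (i k))) k = (Over.post G).map (Pi.π (fun k => Vf (i k)) k) by
      rw [PreservesProduct.iso_hom]; exact piComparison_comp_π _ _ _)

lemma prodIso_hom_tmap {n : ℕ} (i : Fin (n + 2) → ι) (j : Fin (n + 2)) :
    (prodIso G Vf i).hom ≫ (tmap (fun a => (Over.post G).obj (Vf a)) i j).left =
      G.map (tmap Vf i j).left ≫ (prodIso G Vf (i ∘ j.succAbove)).hom := by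
  refine hom_ext_prod (Uf := fun a => (Over.post G).obj (Vf a)) (i ∘ j.succAbove) _ _ fun k => ?_
  have h1 : (tmap (fun a => (Over.post G).obj (Vf a)) i j).left ≫
      (Pi.π (fun k => (Over.post G).obj (Vf ((i ∘ j.succAbove) k))) k).left =
        (Pi.π (fun k => (Over.post G).obj (Vf (i k))) (j.succAbove k)).left :=
    congrArg Over.Hom.left (Pi.lift_π _ k)
  have h2 : (tmap Vf i j).left ≫ (Pi.π (fun k => Vf ((i ∘ j.succAbove) k)) k).left =
      (Pi.π (fun k => Vf (i k)) (j.succAbove k)).left :=
    congrArg Over.Hom.left (Pi.lift_π _ k)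
  refine (Category.assoc _ _ _).trans (Eq.trans ?_ (Category.assoc _ _ _).symm)
  refine ((congrArg (fun m => (prodIso G Vf i).hom ≫ m) h1).trans (prodIso_hom_π G Vf i _)).trans ?_
  refine Eq.trans ?_ (congrArg (fun m => G.map (tmap Vf i j).left ≫ m)
    (prodIso_hom_π G Vf (i ∘ j.succAbove) k)).symm
  exact (congrArg G.map h2).symm.trans (G.map_comp _ _)

/-- The iso on cochains. -/
noncomputable def cochainIso (n : ℕ) :
    (EtCech.cechComplex (fun a => (Over.post G).obj (Vf a)) P).X n ≅
      (EtCech.cechComplex Vf (G.op ⋙ P)).X n :=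
  Pi.mapIso fun i => P.mapIso (prodIso G Vf i).op

lemma cev_cochainIso (n : ℕ) (i : Fin (n + 1) → ι)
    (x : (EtCech.cechComplex (fun a => (Over.post G).obj (Vf a)) P).X n) :
    cev Vf (G.op ⋙ P) n i ((cochainIso G Vf P n).hom.hom x) =
      (P.map (prodIso G Vf i).hom.op).hom (cev (fun a => (Over.post G).obj (Vf a)) P n i x) :=
  ConcreteCategory.congr_hom (Pi.map_π (fun i => (P.mapIso (prodIso G Vf i).op).hom) i) x

/-- The Čech complex of a precomposition is that of the image family. -/
noncomputable def complexIso :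
    EtCech.cechComplex (fun a => (Over.post G).obj (Vf a)) P ≅ EtCech.cechComplex Vf (G.op ⋙ P) :=
  HomologicalComplex.Hom.isoOfComponents (cochainIso G Vf P) (by
    rintro n m (rfl : n + 1 = m)
    refine AddCommGrpCat.hom_ext (AddMonoidHom.ext fun x => cev_ext Vf (G.op ⋙ P) fun i => ?_)
    show cev Vf (G.op ⋙ P) (n + 1) i (((EtCech.cechComplex Vf (G.op ⋙ P)).d n (n + 1)).hom
        ((cochainIso G Vf P n).hom.hom x)) =
      cev Vf (G.op ⋙ P) (n + 1) i ((cochainIso G Vf P (n + 1)).hom.hom
        (((EtCech.cechComplex (fun a => (Over.post G).obj (Vf a)) P).d n (n + 1)).hom x))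
    rw [cev_d, cev_cochainIso, cev_d]
    refine Eq.trans ?_ (map_sum _ _ _).symm
    refine Finset.sum_congr rfl fun j _ => ?_
    rw [cev_cochainIso]
    refine Eq.trans ?_ (map_zsmul _ _ _).symm
    refine congrArg (fun y => (-1 : ℤ) ^ (j : ℕ) • y) ?_
    refine ((ConcreteCategory.congr_hom (P.map_comp (prodIso G Vf (i ∘ j.succAbove)).hom.op
      (G.map (tmap Vf i j).left).op) _).symm.trans ?_).trans (ConcreteCategory.congr_hom (P.map_comp
        (tmap (fun a => (Over.post G).obj (Vf a)) i j).left.op (prodIso G Vf i).hom.op) _)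
    exact congrArg (fun m : G.obj (∏ᶜ fun k => Vf (i k)).left ⟶
      (∏ᶜ fun k => (Over.post G).obj (Vf ((i ∘ j.succAbove) k))).left => (P.map m.op).hom _)
        (prodIso_hom_tmap G Vf i j).symm)

end Groth.Agent.EtFound.CechPushGen
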