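import Groth.Agent.EtFound.ConstrAb
import Mathlib.AlgebraicGeometry.Noetherian

/-! constructible abelian sheaves on locally Noetherian schemes -/

universe u

open CategoryTheory CategoryTheory.Limits AlgebraicGeometry Opposite Topology TopologicalSpace

namespace Groth.Agent.EtFound

set_option backward.isDefEq.respectTransparency.types false

variable {X : Scheme.{u}}

/-- a piece near every point along its closure gives constructibility -/
theorem isConstructible_of_generic [IsLocallyNoetherian X] {F : EtCoh.Ab X}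
    (h : ∀ x : X, ∃ V : X.Opens, x ∈ V ∧ IsPiece F ((V : Set X) ∩ closure {x})) : EtPBC.IsConstructible F := by
  intro U hU
  haveI : NoetherianSpace ↥(U : Set X) := by
    have : IsNoetherianRing Γ(X, U) := IsLocallyNoetherian.component_noetherian ⟨U, hU⟩
    exact noetherianSpace_of_isAffineOpen U hU
  have key : ∃ (n : ℕ) (E : Fin n → Set X), (∀ k, IsPiece F (E k) ∧ E k ⊆ U) ∧
      (Set.univ : Set ↥(U : Set X)) ⊆ Subtype.val ⁻¹' ⋃ k, E k := by
    refine SpecLib.irred_induction (P := fun C : Set ↥(U : Set X) => ∃ (n : ℕ) (E : Fin n → Set X),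
      (∀ k, IsPiece F (E k) ∧ E k ⊆ U) ∧ C ⊆ Subtype.val ⁻¹' ⋃ k, E k) ⟨0, Fin.elim0, fun k => k.elim0, by simp⟩
      (fun A B _ _ => ?_) (fun Y hY hirr ih => ?_) isClosed_univ
    · rintro ⟨n, E, hE, hA⟩ ⟨m, E', hE', hB⟩
      refine ⟨n + m, Fin.append E E', fun k => ?_, Set.union_subset (hA.trans ?_) (hB.trans ?_)⟩
      · refine Fin.addCases (fun i => ?_) (fun i => ?_) k
        · rw [Fin.append_left]; exact hE i
        · rw [Fin.append_right]; exact hE' i
      · exact Set.preimage_mono (Set.iUnion_subset fun i => Set.subset_iUnion_of_subset (Fin.castAdd m i)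
          (Fin.append_left E E' i).ge)
      · exact Set.preimage_mono (Set.iUnion_subset fun i => Set.subset_iUnion_of_subset (Fin.natAdd n i)
          (Fin.append_right E E' i).ge)
    · haveI : QuasiSober ↥(U : Set X) := U.isOpenEmbedding'.quasiSober
      have hx : IsGenericPoint hirr.genericPoint Y := by
        simpa [hY.closure_eq] using hirr.isGenericPoint_genericPoint_closure
      obtain ⟨V, hxV, hV⟩ := h hirr.genericPoint.1
      let S := (V : Set X) ∩ (U : Set X) ∩ closure {hirr.genericPoint.1}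
      have hS : IsPiece F S := hV.mono (fun y hy => ⟨hy.1.1, hy.2⟩)
        ((V.2.inter U.2).isLocallyClosed.inter isClosed_closure.isLocallyClosed)
      obtain ⟨n, E, hE, hEc⟩ := ih (Y ∩ (Subtype.val ⁻¹' (V : Set X))ᶜ)
        (hY.inter (V.2.preimage continuous_subtype_val).isClosed_compl)
        (Set.inter_subset_left.ssubset_of_ne fun e => (e.ge hx.mem).2 hxV)
      refine ⟨n + 1, Fin.cons S E, fun k => ?_, fun y hy => ?_⟩
      · cases k using Fin.cases with
        | zero => exact ⟨hS, fun y hy => hy.1.2⟩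
        | succ i => simpa using hE i
      · by_cases hyV : (y : X) ∈ V
        · refine Set.mem_iUnion.2 ⟨0, ⟨hyV, y.2⟩, ?_⟩
          exact ((hx.specializes hy).map continuous_subtype_val).mem_closure
        · obtain ⟨i, hi⟩ := Set.mem_iUnion.1 (hEc ⟨hy, hyV⟩)
          exact Set.mem_iUnion.2 ⟨i.succ, by simpa using hi⟩
  obtain ⟨n, E, hE, hcov⟩ := key
  refine adaptedStrata_of_cover U.2.isLocallyClosed E (fun k => (hE k).1) (fun k => ?_)
    fun x hx => hcov (Set.mem_univ ⟨x, hx⟩)
  obtain ⟨O, C, hO, hC, e⟩ := (hE k).1.isLocallyClosed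
  rw [e, Set.preimage_inter]
  exact (SpecLib.isConstructible_of_isOpen (hO.preimage continuous_subtype_val)).inter
    (SpecLib.isConstructible_of_isClosed (hC.preimage continuous_subtype_val))

/-- a constructible sheaf has a piece near every point along its closure -/
theorem exists_generic_piece {F : EtCoh.Ab X} (hF : EtPBC.IsConstructible F) (x : X) :
    ∃ V : X.Opens, x ∈ V ∧ IsPiece F ((V : Set X) ∩ closure {x}) := by
  obtain ⟨U, hU, hxU, -⟩ := exists_isAffineOpen_mem_and_subset (U := (⊤ : X.Opens)) (x := x) trivial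
  obtain ⟨n, E, hE, -, hu⟩ := exists_pieces (hF U hU)
  obtain ⟨k, hk⟩ := Set.mem_iUnion.1 (hu.ge hxU)
  obtain ⟨O, C, hO, hC, e⟩ := (hE k).isLocallyClosed
  rw [e] at hk
  exact ⟨⟨O, hO⟩, hk.1, (hE k).mono (fun y hy => e ▸ ⟨hy.1, closure_minimal (by simpa using hk.2) hC hy.2⟩)
    (hO.isLocallyClosed.inter isClosed_closure.isLocallyClosed)⟩

/-- near a generic point the kernel out of a finite locally constant sheaf has constant germs -/
theorem exists_finConst_kernel [IsLocallyNoetherian X] {t : X} (ht : ∀ y, t ⤳ y) {F Q : EtCoh.Ab X}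
    (hF : EtCoh.IsFiniteLocallyConstant F) (π : F ⟶ Q) :
    ∃ (U : X.Etale) (p : U.left), U.hom.base p = t ∧ ∃ S, FinConst (kernel π) U S := by
  obtain ⟨U, p, hp, S, hS⟩ := (isFiniteLocallyConstant_iff F).1 hF t
  have := hS.1
  have : AlgebraicGeometry.Etale U.hom := U.prop
  have : IsLocallyNoetherian U.left := by
    let g : U.left ⟶ X := U.hom
    have : AlgebraicGeometry.Etale g := U.prop
    exact LocallyOfFiniteType.isLocallyNoetherian g
  obtain ⟨A, hA, hpA, -⟩ := exists_isAffineOpen_mem_and_subset (U := (⊤ : U.left.Opens)) (x := p) trivial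
  haveI : NoetherianSpace ↥A := by
    have : IsNoetherianRing Γ(U.left, A) := IsLocallyNoetherian.component_noetherian ⟨A, hA⟩
    exact noetherianSpace_of_isAffineOpen A hA
  haveI : QuasiSober ↥A := A.isOpenEmbedding'.quasiSober
  have hZ := irreducibleComponent_mem_irreducibleComponents (⟨p, hpA⟩ : A.toScheme)
  obtain ⟨o, ho, hone, hoZ⟩ := NoetherianSpace.exists_isOpen_nonempty_subset_irreducibleComponent _ hZ
  have hZc : IsClosed (irreducibleComponent (⟨p, hpA⟩ : A.toScheme)) := isClosed_irreducibleComponent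
  have hg : IsGenericPoint (hZ.1.genericPoint) (irreducibleComponent (⟨p, hpA⟩ : A.toScheme)) := by
    simpa [hZc.closure_eq] using hZ.1.isGenericPoint_genericPoint_closure
  have hgo : hZ.1.genericPoint ∈ o := (hg.mem_open_set_iff ho).2 (by
    obtain ⟨q, hq⟩ := hone
    exact ⟨q, hoZ hq, hq⟩)
  let p₀ : U.left := A.ι.base hZ.1.genericPoint
  have hp₀ : U.hom.base p₀ = t := by
    have h1 : p₀ ⤳ p := (hg.specializes mem_irreducibleComponent).map A.ι.continuous
    exact ((h1.map U.hom.continuous).trans (specializes_of_eq hp)).antisymm (ht _) |>.eq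
  -- vanishing loci of `π s`
  let O : S → Set U.left := fun s => ⋃ (V : X.Etale) (f : V ⟶ U)
    (_ : π.hom.app (op V) (F.obj.map f.op s.1) = 0), Set.range f.left.base
  have hO : ∀ s, IsOpen (O s) := fun s => isOpen_iUnion fun V => isOpen_iUnion fun f => isOpen_iUnion fun _ => by
    have := etale_left f
    exact f.left.isOpenMap.isOpen_range
  let W : Set U.left := A.ι.base '' o ∩ ⋂ s : {s : S // p₀ ∈ O s}, O s.1
  have hW : IsOpen W := (A.ι.isOpenEmbedding.isOpenMap o ho).inter (isOpen_iInter_of_finite fun s => hO s.1)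
  have hpW : p₀ ∈ W := ⟨⟨_, hgo, rfl⟩, Set.mem_iInter.2 fun s => s.2⟩
  let W' : U.left.Opens := ⟨W, hW⟩
  let U' : X.Etale := Scheme.Etale.mk (W'.ι ≫ U.hom)
  let r : U' ⟶ U := MorphismProperty.Over.homMk W'.ι rfl
  have hall : ∀ (s : S) (q : U.left), q ∈ W → q ∈ O s → ∀ q' ∈ W, q' ∈ O s := fun s q hq hqO q' hq' => by
    obtain ⟨⟨a, ha, rfl⟩, -⟩ := hq
    exact Set.mem_iInter.1 hq'.2 ⟨s, (((hg.specializes (hoZ ha)).map A.ι.continuous)).mem_open (hO s) hqO⟩
  have hvan : ∀ s : S, (∀ q ∈ W, q ∈ O s) → π.hom.app (op U') (F.obj.map r.op s.1) = 0 := fun s hs => by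
    refine (((isSheaf_iff_isSheaf_of_type _ _).1 ((sheafCompose X.smallEtaleTopology (forget _)).obj Q).property).isSeparated
      (Presheaf.equalizerSieve (X := op U') (π.hom.app (op U') (F.obj.map r.op s.1)) 0) ?_).ext fun V f hf => hf
    rw [mem_topology_iff]
    intro x
    have hxW : r.left.base x ∈ W := x.2
    obtain ⟨V, f, hf, y, hy⟩ : ∃ (V : X.Etale) (f : V ⟶ U), π.hom.app (op V) (F.obj.map f.op s.1) = 0 ∧
        ∃ y, f.left.base y = r.left.base x := by
      obtain ⟨V, hV⟩ := Set.mem_iUnion.1 (hs _ hxW)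
      obtain ⟨f, hf⟩ := Set.mem_iUnion.1 hV
      obtain ⟨hf, hy⟩ := Set.mem_iUnion.1 hf
      exact ⟨V, f, hf, hy⟩
    have := etale_left f
    have : AlgebraicGeometry.Etale V.hom := V.prop
    let V₀ : V.left.Opens := f.left ⁻¹ᵁ W'
    let V' : X.Etale := Scheme.Etale.mk (V₀.ι ≫ V.hom)
    let i : V' ⟶ V := MorphismProperty.Over.homMk V₀.ι rfl
    let k : V' ⟶ U' := MorphismProperty.Over.homMk (f.left ∣_ W') (by
      show (f.left ∣_ W') ≫ W'.ι ≫ U.hom = V₀.ι ≫ V.hom
      rw [morphismRestrict_ι_assoc]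
      exact congrArg (V₀.ι ≫ ·) (MorphismProperty.Over.w f))
    have hk : k ≫ r = i ≫ f := MorphismProperty.Over.Hom.ext (morphismRestrict_ι f.left W')
    refine ⟨V', k, (⟨y, show f.left.base y ∈ W from hy ▸ hxW⟩ : V₀.toScheme), ?_, ?_⟩
    · show Q.obj.map k.op _ = Q.obj.map k.op 0
      rw [map_zero, ← NatTrans.naturality_apply π.hom, ← Functor.map_comp_apply, ← op_comp, hk, op_comp,
        Functor.map_comp_apply, NatTrans.naturality_apply π.hom, hf, map_zero]
    · exact W'.ι.isOpenEmbedding.injective ((Scheme.Hom.comp_apply _ _ _).symm.trans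
        ((congrArg (fun l : V₀.toScheme ⟶ U.left => l.base _) (morphismRestrict_ι f.left W')).trans
          ((Scheme.Hom.comp_apply _ _ _).trans hy)))
  let K : AddSubgroup ((kernel π).obj.obj (op U')) :=
    (S.map (F.obj.map r.op).hom).comap ((kernel.ι π).hom.app (op U')).hom
  have hin : ∀ (V : X.Etale), Function.Injective ((kernel.ι π).hom.app (op V)) := fun V =>
    injective_of_stalks _ (fun Ω _ _ ξ => ((mono_iff_stalks (kernel.ι π)).1 inferInstance Ω ξ)) V
  have hS' := hS.restrict r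
  have := hS'.1
  refine ⟨U', (⟨p₀, hpW⟩ : W'.toScheme), (Scheme.Hom.comp_apply _ _ _).trans hp₀, K, ?_, fun Ω _ _ ζ z => ?_⟩
  · exact Finite.of_injective
      (fun k : K => (⟨(kernel.ι π).hom.app (op U') k.1, k.2⟩ : S.map (F.obj.map r.op).hom))
      fun a b e => Subtype.ext (hin U' (Subtype.ext_iff.1 e))
  · let Φ := Scheme.pointSmallEtale ζ
    have hnat := fun c => Φ.toPresheafFiber_naturality_apply (kernel.ι π).hom U' z c
    refine ⟨fun a b e => Subtype.ext (hin U' (congrArg Subtype.val ((hS'.2 Ω ζ z).1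
      (a₁ := ⟨_, a.2⟩) (a₂ := ⟨_, b.2⟩) ((hnat a.1).symm.trans ((congrArg _ e).trans (hnat b.1)))))), fun c => ?_⟩
    obtain ⟨⟨_, s, hs, rfl⟩, hsc⟩ := (hS'.2 Ω ζ z).2 ((EtCoh.stalk ζ).map (kernel.ι π) c)
    have e0 : Φ.toPresheafFiber U' z Q.obj (π.hom.app (op U') (F.obj.map r.op s)) = 0 := by
      refine ((Φ.toPresheafFiber_naturality_apply π.hom U' z _).symm.trans ((congrArg _ hsc).trans ?_))
      have h2 : (EtCoh.stalk ζ).map (kernel.ι π) ≫ (EtCoh.stalk ζ).map π = 0 := by
        rw [← Functor.map_comp, kernel.condition, Functor.map_zero]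
      exact congr($h2 c)
    rw [← map_zero (Φ.toPresheafFiber U' z Q.obj).hom] at e0
    obtain ⟨V, f, v, hv, hf⟩ := (Φ.toPresheafFiber_eq_iff' U' z _ _).1 e0
    rw [map_zero, ← NatTrans.naturality_apply π.hom, ← Functor.map_comp_apply, ← op_comp] at hf
    have h0 : π.hom.app (op U') (F.obj.map r.op s) = 0 := by
      let y := (v.left : Spec (CommRingCat.of Ω) ⟶ V.left).base (default : Spec (CommRingCat.of Ω))
      have hy : (f ≫ r).left.base y ∈ W := (f.left.base y).2
      refine hvan ⟨s, hs⟩ fun q hq => hall ⟨s, hs⟩ _ hy ?_ q hq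
      exact Set.mem_iUnion.2 ⟨V, Set.mem_iUnion.2 ⟨f ≫ r, Set.mem_iUnion.2 ⟨hf, y, rfl⟩⟩⟩
    obtain ⟨k, hk⟩ : ∃ k, (kernel.ι π).hom.app (op U') k = F.obj.map r.op s := by
      let T := ShortComplex.mk (kernel.ι π) π (kernel.condition π)
      have h1 := (ShortComplex.exact_of_f_is_kernel T (kernelIsKernel π)).map_of_mono_of_preservesKernel
        (sheafToPresheaf _ _ ⋙ (evaluation _ AddCommGrpCat.{u + 1}).obj (op U')) inferInstance inferInstance
      rw [ShortComplex.ab_exact_iff] at h1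
      exact h1 _ h0
    refine ⟨⟨k, show (kernel.ι π).hom.app (op U') k ∈ S.map (F.obj.map r.op).hom from hk ▸
      AddSubgroup.mem_map_of_mem _ hs⟩, (mono_iff_stalks (kernel.ι π)).1 inferInstance Ω ζ ?_⟩
    exact (hnat k).trans ((congrArg _ hk).trans hsc)

end Groth.Agent.EtFound

namespace Groth.Agent.EtFound

set_option backward.isDefEq.respectTransparency.types false

variable {X : Scheme.{u}}

/-- on a locally Noetherian scheme kernels out of constructible sheaves are constructible -/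
theorem isConstructible_kernel_noeth [IsLocallyNoetherian X] {F Q : EtCoh.Ab X} (hF : EtPBC.IsConstructible F)
    (π : F ⟶ Q) : EtPBC.IsConstructible (kernel π) := by
  refine isConstructible_of_generic fun x => ?_
  obtain ⟨V, hxV, T, g, hg, hr, hT⟩ := exists_generic_piece hF x
  obtain ⟨t, rfl⟩ : x ∈ Set.range g.base := hr ▸ ⟨hxV, subset_closure rfl⟩
  have : IsLocallyNoetherian T := LocallyOfFiniteType.isLocallyNoetherian g
  have ht : ∀ y, t ⤳ y := fun y => g.isEmbedding.isInducing.specializes_iff.1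
    (specializes_iff_mem_closure.2 ((hr.le ⟨y, rfl⟩).2))
  obtain ⟨U, p, hp, S, hS⟩ := exists_finConst_kernel ht hT ((EtCoh.pull g).map π)
  have := hS.1
  have : AlgebraicGeometry.Etale U.hom := U.prop
  let O : T.Opens := ⟨Set.range U.hom.base, U.hom.isOpenMap.isOpen_range⟩
  obtain ⟨V₀, hV₀, hOV⟩ := g.isEmbedding.isInducing.isOpen_iff.1 O.2
  have htV : g.base t ∈ V₀ := show t ∈ g.base ⁻¹' V₀ from hOV ▸ ⟨p, hp⟩
  refine ⟨V ⊓ ⟨V₀, hV₀⟩, ⟨hxV, htV⟩, O.toScheme, O.ι ≫ g, inferInstance, ?_, ?_⟩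
  · rw [Scheme.Hom.comp_base, TopCat.coe_comp, Set.range_comp, O.range_ι]
    show g.base '' Set.range U.hom.base = _
    rw [← show g.base ⁻¹' V₀ = Set.range U.hom.base from hOV, Set.image_preimage_eq_range_inter, hr]
    exact (Set.inter_right_comm _ _ _).trans rfl
  · have := pull_preservesFiniteLimits g
    refine isFiniteLocallyConstant_of_iso (((EtCoh.pull O.ι).mapIso (PreservesKernel.iso (EtCoh.pull g) π)).symm ≪≫
      ((pullCompAb O.ι g).app _).symm) ((isFiniteLocallyConstant_iff _).2 fun y => ?_)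
    obtain ⟨z, hz⟩ : O.ι.base y ∈ (O : Set T) := y.2
    obtain ⟨w, -, hw⟩ := Scheme.Pullback.exists_preimage_pullback (f := U.hom) (g := O.ι) z y hz
    exact ⟨_, w, hw, _, finConst_range (constBy_pull O.ι
      (φ := (AddCommGrpCat.ofHom S.subtype : AddCommGrpCat.of S ⟶ (kernel ((EtCoh.pull g).map π)).obj.obj (op U)))
      (fun Ω _ _ ξ z => hS.2 Ω ξ z))⟩

/-- on a locally Noetherian scheme quotients of constructible sheaves are constructible -/
theorem isConstructible_of_epi [IsLocallyNoetherian X] {F Q : EtCoh.Ab X} (hF : EtPBC.IsConstructible F)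
    (π : F ⟶ Q) [Epi π] : EtPBC.IsConstructible Q := by
  have h := isConstructible_cokernel (kernel.ι π) (isConstructible_kernel_noeth hF π) hF
  refine isConstructible_of_two h h fun T g h1 _ => isFiniteLocallyConstant_of_iso ((EtCoh.pull g).mapIso ?_) h1
  exact IsColimit.coconePointUniqueUpToIso (cokernelIsCokernel (kernel.ι π))
    (Abelian.epiIsCokernelOfKernel _ (limit.isLimit _))

end Groth.Agent.EtFound
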