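import Groth.Agent.EtFound.NoethConstr
import Groth.Agent.EtFound.StalkSet

/-! constructibility from the orders of the stalks -/

universe u

open CategoryTheory CategoryTheory.Limits AlgebraicGeometry Opposite Topology TopologicalSpace

namespace Groth.Agent.EtFound

set_option backward.isDefEq.respectTransparency.types false

variable {X : Scheme.{u}}

/-- points landing in an open factor through it -/
theorem exists_lift_open {Y S : Scheme.{u}} (q : S ⟶ Y) (W : Y.Opens) (h : ∀ s, q.base s ∈ W) :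
    ∃ q' : S ⟶ W.toScheme, q' ≫ W.ι = q :=
  ⟨IsOpenImmersion.lift W.ι q (by rintro _ ⟨s, rfl⟩; exact W.range_ι.ge (h s)), IsOpenImmersion.lift_fac _ _ _⟩

/-- points of an etale fibre do not specialise to one another -/
theorem eq_of_specializes (U : X.Etale) {p q : U.left} (h : q ⤳ p) (e : U.hom.base q = U.hom.base p) : q = p := by
  let f : U.left ⟶ X := U.hom
  have : AlgebraicGeometry.Etale f := U.prop
  have : LocallyQuasiFinite f := by
    rw [HasRingHomProperty.iff_appLE (P := @LocallyQuasiFinite)]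
    intro V W hVW
    have := HasRingHomProperty.appLE @AlgebraicGeometry.Etale f ‹_› V W hVW
    algebraize [(f.appLE V.1 W.1 hVW).hom]
    exact (inferInstance : Algebra.QuasiFinite Γ(X, V.1) Γ(U.left, W.1))
  have : DiscreteTopology ↥(f.base ⁻¹' {f.base p}) := (f.isDiscrete_preimage_singleton (f.base p)).to_subtype
  exact congrArg Subtype.val (specializes_iff_eq.1 ((IsInducing.subtypeVal.specializes_iff
    (x := (⟨q, e⟩ : ↥(f.base ⁻¹' {f.base p}))) (y := ⟨p, rfl⟩)).1 h))

/-- an etale scheme over a point generic in everything has an open in the closure of one point over it -/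
theorem exists_generic_open [IsLocallyNoetherian X] {t : X} (ht : ∀ y, t ⤳ y) (U : X.Etale) {p : U.left}
    (hp : U.hom.base p = t) :
    ∃ W : U.left.Opens, p ∈ W ∧ ∀ q ∈ W, p ⤳ q := by
  have : IsLocallyNoetherian U.left := by
    let g : U.left ⟶ X := U.hom
    have : AlgebraicGeometry.Etale g := U.prop
    exact LocallyOfFiniteType.isLocallyNoetherian g
  obtain ⟨A, hA, hpA, -⟩ := exists_isAffineOpen_mem_and_subset (U := (⊤ : U.left.Opens)) (x := p) trivial
  haveI : NoetherianSpace ↥A := by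
    have : IsNoetherianRing Γ(U.left, A) := IsLocallyNoetherian.component_noetherian ⟨A, hA⟩
    exact noetherianSpace_of_isAffineOpen A hA
  haveI : QuasiSober ↥A := A.isOpenEmbedding'.quasiSober
  have hZ := irreducibleComponent_mem_irreducibleComponents (⟨p, hpA⟩ : A.toScheme)
  obtain ⟨o, ho, hone, hoZ⟩ := NoetherianSpace.exists_isOpen_nonempty_subset_irreducibleComponent _ hZ
  have hZc : IsClosed (irreducibleComponent (⟨p, hpA⟩ : A.toScheme)) := isClosed_irreducibleComponent
  have hg : IsGenericPoint (hZ.1.genericPoint) (irreducibleComponent (⟨p, hpA⟩ : A.toScheme)) := by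
    simpa [hZc.closure_eq] using hZ.1.isGenericPoint_genericPoint_closure
  have hgo : hZ.1.genericPoint ∈ o := (hg.mem_open_set_iff ho).2 (by
    obtain ⟨q, hq⟩ := hone
    exact ⟨q, hoZ hq, hq⟩)
  let g := A.ι.base hZ.1.genericPoint
  have h1 : g ⤳ p := (hg.specializes mem_irreducibleComponent).map A.ι.continuous
  have hgp : g = p := eq_of_specializes U h1
    ((((h1.map U.hom.continuous).trans (specializes_of_eq hp)).antisymm (ht _)).eq.trans hp.symm)
  refine ⟨⟨A.ι.base '' o, A.ι.isOpenEmbedding.isOpenMap o ho⟩, ⟨_, hgo, hgp⟩, ?_⟩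
  rintro q ⟨a, ha, rfl⟩
  rw [← hgp]
  exact (hg.specializes (hoZ ha)).map A.ι.continuous

/-- near a generic point a sheaf with finite stalks of constant order has constant germs -/
theorem exists_finConst_of_card [IsLocallyNoetherian X] {t : X} (ht : ∀ y, t ⤳ y) {F : EtCoh.Ab X} (n : ℕ)
    (hfin : ∀ (Ω : Type u) [Field Ω] [IsSepClosed Ω] (ξ : Spec (CommRingCat.of Ω) ⟶ X), Finite ((EtCoh.stalk ξ).obj F))
    (hn : ∀ (Ω : Type u) [Field Ω] [IsSepClosed Ω] (ξ : Spec (CommRingCat.of Ω) ⟶ X),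
      Nat.card ((EtCoh.stalk ξ).obj F) = n) :
    ∃ (U : X.Etale) (p : U.left), U.hom.base p = t ∧ ∃ S, FinConst F U S := by
  obtain ⟨Ω, _, _, ξ, rfl⟩ := exists_geomPoint t
  let Φ := Scheme.pointSmallEtale ξ
  have : Finite ((EtCoh.stalk ξ).obj F) := hfin Ω ξ
  -- one neighbourhood with sections for every germ
  obtain ⟨U₀, u₀, s, hs⟩ : ∃ (V : X.Etale) (v : Φ.fiber.obj V) (s : (EtCoh.stalk ξ).obj F → F.obj.obj (op V)),
      ∀ c, Φ.toPresheafFiber V v F.obj (s c) = c := by
    classical
    haveI := Fintype.ofFinite ((EtCoh.stalk ξ).obj F)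
    suffices key : ∀ σ : Finset ((EtCoh.stalk ξ).obj F), ∃ (V : X.Etale) (v : Φ.fiber.obj V)
        (s : (EtCoh.stalk ξ).obj F → F.obj.obj (op V)), ∀ c ∈ σ, Φ.toPresheafFiber V v F.obj (s c) = c by
      obtain ⟨V, v, s, hs⟩ := key Finset.univ
      exact ⟨V, v, s, fun c => hs c (Finset.mem_univ c)⟩
    intro σ
    induction σ using Finset.induction with
    | empty =>
      obtain ⟨V, v, -, -⟩ := Φ.toPresheafFiber_jointly_surjective (0 : (EtCoh.stalk ξ).obj F)
      exact ⟨V, v, fun _ => 0, fun k hk => absurd hk (Finset.notMem_empty k)⟩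
    | @insert c σ hc ih =>
      obtain ⟨V, v, s, hs⟩ := ih
      obtain ⟨W, w, e, he⟩ := Φ.toPresheafFiber_jointly_surjective c
      obtain ⟨⟨T, z⟩, ⟨a, ha⟩, ⟨b, hb⟩, -⟩ := IsCofilteredOrEmpty.cone_objs
        (Φ.fiber.elementsMk V v) (Φ.fiber.elementsMk W w)
      refine ⟨T, z, Function.update (fun k => F.obj.map a.op (s k)) c (F.obj.map b.op e), fun k hk => ?_⟩
      rcases Finset.mem_insert.1 hk with rfl | hk'
      · rw [Function.update_self, Φ.toPresheafFiber_w_apply]
        exact (congrArg (fun w' => Φ.toPresheafFiber W w' F.obj e) hb).trans he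
      · rw [Function.update_of_ne (fun e' => hc (by rw [← e']; exact hk')), Φ.toPresheafFiber_w_apply]
        exact (congrArg (fun v' => Φ.toPresheafFiber V v' F.obj (s k)) ha).trans (hs k hk')
  obtain ⟨U, g, u, hu, hadd⟩ := exists_forall_eq F.obj u₀
    (fun q : (EtCoh.stalk ξ).obj F × (EtCoh.stalk ξ).obj F => s (q.1 + q.2)) (fun q => s q.1 + s q.2)
    (fun q => (hs _).trans (((map_add _ _ _).trans (congrArg₂ _ (hs q.1) (hs q.2))).symm))
  let l : (EtCoh.stalk ξ).obj F →+ F.obj.obj (op U) := AddMonoidHom.mk' (fun c => F.obj.map g.op (s c))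
    fun a b => (hadd (a, b)).trans (map_add _ _ _)
  have hl : ∀ c, Φ.toPresheafFiber U u F.obj (l c) = c := fun c => by
    show Φ.toPresheafFiber U u F.obj (F.obj.map g.op (s c)) = c
    rw [Φ.toPresheafFiber_w_apply, hu, hs]
  have : AlgebraicGeometry.Etale U.hom := U.prop
  -- shrink to an open all of whose points specialise from one point
  obtain ⟨W, hpW, hW⟩ := exists_generic_open ht U (base_of_point u)
  let U' : X.Etale := Scheme.Etale.mk (W.ι ≫ U.hom)
  let r : U' ⟶ U := MorphismProperty.Over.homMk W.ι rfl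
  obtain ⟨q, hq⟩ := exists_lift_open (u.left : Spec (CommRingCat.of Ω) ⟶ U.left) W fun (s : Spec (CommRingCat.of Ω)) => by
    rw [Subsingleton.elim (α := Spec (CommRingCat.of Ω)) s default]
    exact hpW
  let u' : Φ.fiber.obj U' := CategoryTheory.Over.homMk q
    ((Category.assoc _ _ _).symm.trans ((congrArg (· ≫ U.hom) hq).trans (CategoryTheory.Over.w u)))
  have hu' : Φ.fiber.map r u' = u := CategoryTheory.Over.OverMorphism.ext hq
  have hl' : ∀ c, Φ.toPresheafFiber U' u' F.obj (F.obj.map r.op (l c)) = c := fun c => by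
    rw [Φ.toPresheafFiber_w_apply, hu', hl]
  let L : (EtCoh.stalk ξ).obj F →+ F.obj.obj (op U') := (F.obj.map r.op).hom.comp l
  refine ⟨U', (u'.left : Spec (CommRingCat.of Ω) ⟶ U'.left).base (default : Spec (CommRingCat.of Ω)),
    base_of_point u', L.range, Finite.of_surjective L.rangeRestrict L.rangeRestrict_surjective,
    fun k _ _ ζ z => ?_⟩
  have : Finite ((EtCoh.stalk ζ).obj F) := hfin k ζ
  have : Finite L.range := Finite.of_surjective L.rangeRestrict L.rangeRestrict_surjective
  have hLinj : Function.Injective L := fun a b e => (hl' a).symm.trans ((congrArg _ e).trans (hl' b))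
  let T : L.range →+ (EtCoh.stalk ζ).obj F :=
    ((Scheme.pointSmallEtale ζ).toPresheafFiber U' z F.obj).hom.comp L.range.subtype
  have hT : Function.Injective T := by
    refine (injective_iff_map_eq_zero T).2 ?_
    rintro ⟨_, c, rfl⟩ h0
    change (Scheme.pointSmallEtale ζ).toPresheafFiber U' z F.obj (F.obj.map r.op (l c)) = 0 at h0
    rw [← map_zero ((Scheme.pointSmallEtale ζ).toPresheafFiber U' z F.obj).hom] at h0
    obtain ⟨V, f, v, -, hf⟩ := ((Scheme.pointSmallEtale ζ).toPresheafFiber_eq_iff' U' z _ _).1 h0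
    rw [map_zero] at hf
    -- the vanishing spreads to the generic point, hence to the germ at `u'`
    have := etale_left f
    let y := (v.left : Spec (CommRingCat.of k) ⟶ V.left).base (default : Spec (CommRingCat.of k))
    have hspec : (u'.left : Spec (CommRingCat.of Ω) ⟶ U'.left).base (default : Spec (CommRingCat.of Ω)) ⤳ f.left.base y := by
      refine W.ι.isOpenEmbedding.isInducing.specializes_iff.1 ?_
      refine (specializes_of_eq ?_).trans (hW _ (f.left.base y).2)
      exact (Scheme.Hom.comp_apply _ _ _).symm.trans (congrArg (fun q : Spec (CommRingCat.of Ω) ⟶ U.left =>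
        q.base (default : Spec (CommRingCat.of Ω))) hq)
    obtain ⟨y₀, hy₀⟩ := hspec.mem_open f.left.isOpenMap.isOpen_range ⟨y, rfl⟩
    let g : V.left ⟶ U'.left := f.left
    haveI hg : AlgebraicGeometry.Etale g := etale_left f
    obtain ⟨w, -⟩ := Scheme.pointSmallEtaleFiberObjToPreimage_surjective
      (u'.left : Spec (CommRingCat.of Ω) ⟶ U'.left) rfl (@Scheme.Etale.mk _ _ g hg) ⟨y₀, hy₀⟩
    let v₀ : Φ.fiber.obj V := CategoryTheory.Over.homMk (w.left : Spec (CommRingCat.of Ω) ⟶ V.left) (by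
      refine (congrArg (fun q => (w.left : Spec (CommRingCat.of Ω) ⟶ V.left) ≫ q) (MorphismProperty.Over.w f).symm).trans ?_
      refine (Category.assoc _ _ _).symm.trans ?_
      exact (congrArg (· ≫ U'.hom) (CategoryTheory.Over.w w)).trans (CategoryTheory.Over.w u'))
    have hv₀ : Φ.fiber.map f v₀ = u' := CategoryTheory.Over.OverMorphism.ext (CategoryTheory.Over.w w)
    have h1 : Φ.toPresheafFiber V v₀ F.obj (F.obj.map f.op (F.obj.map r.op (l c))) = 0 := by rw [hf, map_zero]
    rw [Φ.toPresheafFiber_w_apply, hv₀, hl'] at h1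
    subst h1
    exact Subtype.ext (map_zero L)
  refine hT.bijective_of_nat_card_le ?_
  rw [hn k ζ, ← hn Ω ξ]
  exact Nat.card_le_card_of_injective L.rangeRestrict fun a b e => hLinj (congrArg Subtype.val e)

end Groth.Agent.EtFound

namespace Groth.Agent.EtFound

set_option backward.isDefEq.respectTransparency.types false

variable {X : Scheme.{u}}

/-- constant germs on one etale scheme give a piece -/
theorem exists_piece_of_finConst {F : EtCoh.Ab X} {T : Scheme.{u}} (g : T ⟶ X) [IsImmersion g] {t : T}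
    {U : T.Etale} {p : U.left} (hp : U.hom.base p = t) {S} (hS : FinConst ((EtCoh.pull g).obj F) U S) :
    ∃ V : X.Opens, g.base t ∈ V ∧ IsPiece F ((V : Set X) ∩ Set.range g.base) := by
  have := hS.1
  have : AlgebraicGeometry.Etale U.hom := U.prop
  let O : T.Opens := ⟨Set.range U.hom.base, U.hom.isOpenMap.isOpen_range⟩
  obtain ⟨V₀, hV₀, hOV⟩ := g.isEmbedding.isInducing.isOpen_iff.1 O.2
  have htV : g.base t ∈ V₀ := show t ∈ g.base ⁻¹' V₀ from hOV ▸ ⟨p, hp⟩
  refine ⟨⟨V₀, hV₀⟩, htV, O.toScheme, O.ι ≫ g, inferInstance, ?_, ?_⟩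
  · rw [Scheme.Hom.comp_base, TopCat.coe_comp, Set.range_comp, O.range_ι]
    show g.base '' Set.range U.hom.base = _
    rw [← show g.base ⁻¹' V₀ = Set.range U.hom.base from hOV, Set.image_preimage_eq_inter_range]
    rfl
  · refine isFiniteLocallyConstant_of_iso ((pullCompAb O.ι g).app _).symm ((isFiniteLocallyConstant_iff _).2 fun y => ?_)
    obtain ⟨z, hz⟩ : O.ι.base y ∈ (O : Set T) := y.2
    obtain ⟨w, -, hw⟩ := Scheme.Pullback.exists_preimage_pullback (f := U.hom) (g := O.ι) z y hz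
    exact ⟨_, w, hw, _, finConst_range (constBy_pull O.ι
      (φ := (AddCommGrpCat.ofHom S.subtype : AddCommGrpCat.of S ⟶ ((EtCoh.pull g).obj F).obj.obj (op U)))
      (fun Ω _ _ ξ z => hS.2 Ω ξ z))⟩

/-- locally constructible loci of finite orders of stalks give constructibility -/
theorem isConstructible_of_card [IsLocallyNoetherian X] {F : EtCoh.Ab X}
    (hfin : ∀ (Ω : Type u) [Field Ω] [IsSepClosed Ω] (ξ : Spec (CommRingCat.of Ω) ⟶ X), Finite ((EtCoh.stalk ξ).obj F))
    (h : ∀ n : ℕ, IsLocallyConstructible (stalkSet F fun A => Nat.card A = n)) : EtPBC.IsConstructible F := by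
  refine isConstructible_of_generic fun x => ?_
  obtain ⟨Ω, _, _, ξ, rfl⟩ := exists_geomPoint x
  let n := Nat.card ((EtCoh.stalk ξ).obj F)
  have hP : ∀ A B : Type (u + 1), Nonempty (A ≃ B) → Nat.card A = n → Nat.card B = n :=
    fun A B ⟨e⟩ hA => (Nat.card_congr e).symm.trans hA
  let x := ξ.base (default : Spec (CommRingCat.of Ω))
  obtain ⟨U, hxU, hU, hA⟩ := h n x
  have hxA : x ∈ stalkSet F (fun A => Nat.card A = n) := (mem_stalkSet_iff hP ξ).2 rfl
  let x' : ↥U := ⟨x, mem_of_mem_nhds hxU⟩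
  obtain ⟨U₁, hU₁, ⟨y, hyU, hy⟩, hsub⟩ := SpecLib.exists_open_of_isConstructible hA
    (Z := closure {x'}) isIrreducible_singleton.closure
    (closure_mono (Set.singleton_subset_iff.2 ⟨hxA, subset_closure rfl⟩))
  have hx₁ : x' ∈ U₁ := (specializes_iff_mem_closure.2 hy).mem_open hU₁ hyU
  have hO : IsOpen (Subtype.val '' U₁ : Set X) := hU.isOpenMap_subtype_val _ hU₁
  obtain ⟨T, g, hg, hr⟩ := exists_immersion_range (hO.isLocallyClosed.inter (isClosed_closure (s := ({x} : Set X))).isLocallyClosed)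
  obtain ⟨t, ht'⟩ : x ∈ Set.range g.base := hr.ge ⟨⟨x', hx₁, rfl⟩, subset_closure rfl⟩
  have : IsLocallyNoetherian T := LocallyOfFiniteType.isLocallyNoetherian g
  have ht : ∀ y, t ⤳ y := fun y => g.isEmbedding.isInducing.specializes_iff.1
    (ht'.symm ▸ specializes_iff_mem_closure.2 ((hr.le ⟨y, rfl⟩).2))
  have hn : ∀ (k : Type u) [Field k] [IsSepClosed k] (ζ : Spec (CommRingCat.of k) ⟶ T),
      Nat.card ((EtCoh.stalk ζ).obj ((EtCoh.pull g).obj F)) = n := fun k _ _ ζ => by
    refine (Nat.card_congr ((stalkPullIso g ζ).app F).addCommGroupIsoToAddEquiv.toEquiv).trans ?_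
    refine (mem_stalkSet_iff hP (ζ ≫ g)).1 ?_
    obtain ⟨⟨z, hz, e⟩, hcl⟩ := hr.le ⟨ζ.base (default : Spec (CommRingCat.of k)), rfl⟩
    rw [Scheme.Hom.comp_apply, ← e]
    refine hsub ⟨hz, specializes_iff_mem_closure.1 (IsInducing.subtypeVal.specializes_iff.1 ?_)⟩
    show x ⤳ z.1
    rw [e]
    exact specializes_iff_mem_closure.2 hcl
  have hfin' : ∀ (k : Type u) [Field k] [IsSepClosed k] (ζ : Spec (CommRingCat.of k) ⟶ T),
      Finite ((EtCoh.stalk ζ).obj ((EtCoh.pull g).obj F)) := fun k _ _ ζ => by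
    have := hfin k (ζ ≫ g)
    exact Finite.of_equiv _ ((stalkPullIso g ζ).app F).addCommGroupIsoToAddEquiv.toEquiv.symm
  obtain ⟨W, p, hp, S, hS⟩ := exists_finConst_of_card ht n hfin' hn
  obtain ⟨V, hV, hVp⟩ := exists_piece_of_finConst g hp hS
  refine ⟨V ⊓ ⟨_, hO⟩, ⟨Set.mem_of_eq_of_mem ht'.symm hV, x', hx₁, rfl⟩, ?_⟩
  rw [hr] at hVp
  have e : ((V ⊓ ⟨_, hO⟩ : X.Opens) : Set X) ∩ closure {x} = (V : Set X) ∩ (Subtype.val '' U₁ ∩ closure {x}) :=
    Set.inter_assoc _ _ _
  exact e ▸ hVp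

end Groth.Agent.EtFound
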