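import Groth.Agent.EtFound.CechInjGen
import Groth.Agent.SiteBase.Horseshoe
import Groth.Agent.DeltaFLib.Basic
import Groth.Agent.S6774
import Groth.Agent.S16465
import Mathlib.Algebra.Homology.HomologySequenceLemmas
import Mathlib.Algebra.Category.Grp.EpiMono

/-! Čech cohomology of presheaves is the derived functor of `Ȟ⁰` -/

universe w v u v₁ u₁ v₂ u₂

open CategoryTheory CategoryTheory.Limits Opposite

namespace Groth.Agent.EtFound.CechDerived

section General

variable {A : Type u₁} [Category.{v₁} A] [Abelian A] {B : Type u₂} [Category.{v₂} B] [Abelian B]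
  (Φ : A ⥤ CochainComplex B ℕ) [Φ.Additive] [PreservesFiniteLimits Φ] [PreservesFiniteColimits Φ]

/-- the delta functor of an exact functor to complexes -/
noncomputable def delta : DeltaF.CohDeltaFunctor A B ℕ where
  F n := Φ ⋙ HomologicalComplex.homologyFunctor B (ComplexShape.up ℕ) n
  additive _ := inferInstance
  δ S hS n₀ n₁ h := (hS.map_of_exact Φ).δ n₀ n₁ h
  δ_natural {S S'} hS hS' φ n₀ n₁ h :=
    (HomologicalComplex.HomologySequence.δ_naturality (Φ.mapShortComplex.map φ) (hS.map_of_exact Φ) (hS'.map_of_exact Φ) n₀ n₁ h).symm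
  exact₂ S hS n := (hS.map_of_exact Φ).homology_exact₂ n
  comp_δ S hS n₀ n₁ h := (hS.map_of_exact Φ).comp_δ n₀ n₁ h
  exact₃ S hS n₀ n₁ h := (hS.map_of_exact Φ).homology_exact₃ n₀ n₁ h
  δ_comp S hS n₀ n₁ h := (hS.map_of_exact Φ).δ_comp n₀ n₁ h
  exact₁ S hS n₀ n₁ h := (hS.map_of_exact Φ).homology_exact₁ n₀ n₁ h

theorem h0_preservesFiniteLimits :
    PreservesFiniteLimits (Φ ⋙ HomologicalComplex.homologyFunctor B (ComplexShape.up ℕ) 0) := by
  let F := Φ ⋙ HomologicalComplex.homologyFunctor B (ComplexShape.up ℕ) 0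
  refine ((F.preservesFiniteLimits_tfae).out 0 3).1 (show ∀ S : ShortComplex A, S.ShortExact →
    (S.map F).Exact ∧ Mono (F.map S.f) from fun S hS => ⟨(delta Φ).exact₂ S hS 0, ?_⟩)
  haveI : Mono (Φ.map S.f) := (hS.map_of_exact Φ).mono_f
  let g := Φ.map S.f
  haveI : Mono g := ‹_›
  haveI : Mono (g.f 0) := inferInstance
  haveI : Mono (HomologicalComplex.cyclesMap g 0) :=
    mono_of_mono_fac (HomologicalComplex.cyclesMap_i g 0)
  haveI : IsIso ((Φ.obj S.X₁).homologyπ 0) := CochainComplex.isIso_homologyπ₀ _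
  haveI : IsIso ((Φ.obj S.X₂).homologyπ 0) := CochainComplex.isIso_homologyπ₀ _
  have e : HomologicalComplex.homologyMap g 0 =
      inv ((Φ.obj S.X₁).homologyπ 0) ≫ HomologicalComplex.cyclesMap g 0 ≫ (Φ.obj S.X₂).homologyπ 0 := by
    rw [IsIso.eq_inv_comp, HomologicalComplex.homologyπ_naturality]
  change Mono (HomologicalComplex.homologyMap g 0)
  rw [e]
  infer_instance

theorem nonempty_iso [EnoughInjectives A]
    (hacyc : ∀ (I : A) [Injective I] (n : ℕ), IsZero ((Φ.obj I).homology (n + 1))) (p : ℕ) :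
    Nonempty (Φ ⋙ HomologicalComplex.homologyFunctor B (ComplexShape.up ℕ) p ≅
      (Φ ⋙ HomologicalComplex.homologyFunctor B (ComplexShape.up ℕ) 0).rightDerived p) := by
  let F := Φ ⋙ HomologicalComplex.homologyFunctor B (ComplexShape.up ℕ) 0
  haveI : PreservesFiniteLimits F := h0_preservesFiniteLimits Φ
  obtain ⟨Δ⟩ : Nonempty (RDer.DerivedLES F) := ⟨SESResLib.derivedLES F⟩
  have hT : (delta Φ).IsEffaceable := fun n X =>
    ⟨Injective.under X, Injective.ι X, inferInstance, (hacyc (Injective.under X) n).eq_of_tgt _ _⟩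
  obtain ⟨φ, -⟩ := S6774.result (delta Φ) Δ.toCohDeltaFunctor (DeltaFLib.isUniversal hT)
    (S16465.result F Δ) F.rightDerivedZeroIsoSelf.symm
  exact ⟨{ hom := φ.hom.app p, inv := φ.inv.app p,
           hom_inv_id := congrArg (fun m : delta Φ ⟶ delta Φ => m.app p) φ.hom_inv_id,
           inv_hom_id := congrArg (fun m : Δ.toCohDeltaFunctor ⟶ Δ.toCohDeltaFunctor => m.app p) φ.inv_hom_id }⟩

end General

variable {C : Type u} [Category.{v} C] {U : C} [HasFiniteProducts (Over U)] {ι : Type w} (Uf : ι → Over U)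

/-- the Čech complex functor -/
noncomputable abbrev cx : (Cᵒᵖ ⥤ AddCommGrpCat.{w}) ⥤ CochainComplex AddCommGrpCat.{w} ℕ :=
  (Functor.whiskeringLeft (Over U)ᵒᵖ Cᵒᵖ AddCommGrpCat.{w}).obj (Over.forget U).op ⋙ cechComplexFunctor Uf

variable [LocallySmall.{w} C]

theorem cev_map {P Q : Cᵒᵖ ⥤ AddCommGrpCat.{w}} (φ : P ⟶ Q) (n : ℕ) (i : Fin (n + 1) → ι)
    (x : (EtCech.cechComplex Uf P).X n) :
    CechInjGen.cev Uf Q n i (((cx Uf).map φ).f n x) =
      φ.app _ (CechInjGen.cev Uf P n i x) :=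
  ConcreteCategory.congr_hom (Pi.map_π (fun j : Fin (n + 1) → ι => φ.app (op (∏ᶜ fun k => Uf (j k)).left)) i) x

theorem cx_shortExact (S : ShortComplex (Cᵒᵖ ⥤ AddCommGrpCat.{w})) (hS : S.ShortExact) [(cx Uf).Additive] :
    (S.map (cx Uf)).ShortExact := by
  refine HomologicalComplex.shortExact_of_degreewise_shortExact _ fun n => ?_
  have happ : ∀ c, (S.map ((evaluation Cᵒᵖ AddCommGrpCat.{w}).obj c)).ShortExact := fun c => hS.map_of_exact _
  refine { exact := (ShortComplex.ab_exact_iff _).2 fun x hx => ?_, mono_f := ?_, epi_g := ?_ }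
  · have hx' : ∀ i, S.g.app _ (CechInjGen.cev Uf S.X₂ n i x) = 0 := fun i => by
      refine (cev_map Uf S.g n i x).symm.trans ?_
      exact (congrArg (CechInjGen.cev Uf S.X₃ n i) hx).trans (map_zero _)
    choose y hy using fun i => (ShortComplex.ab_exact_iff _).1 (happ _).exact _ (hx' i)
    obtain ⟨z, hz⟩ := CechInjGen.exists_cev Uf S.X₁ (n := n) y
    refine ⟨z, CechInjGen.cev_ext Uf S.X₂ fun i => ?_⟩
    refine (cev_map Uf S.f n i z).trans ?_
    rw [hz]
    exact hy i
  · refine (AddCommGrpCat.mono_iff_injective _).2 fun x y h => CechInjGen.cev_ext Uf S.X₁ fun i => ?_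
    apply (AddCommGrpCat.mono_iff_injective _).1 (happ _).mono_f
    exact ((cev_map Uf S.f n i x).symm.trans (congrArg (CechInjGen.cev Uf S.X₂ n i) h)).trans (cev_map Uf S.f n i y)
  · refine (AddCommGrpCat.epi_iff_surjective _).2 fun x => ?_
    choose y hy using fun i => (AddCommGrpCat.epi_iff_surjective _).1 (happ _).epi_g (CechInjGen.cev Uf S.X₃ n i x)
    obtain ⟨z, hz⟩ := CechInjGen.exists_cev Uf S.X₂ (n := n) y
    refine ⟨z, CechInjGen.cev_ext Uf S.X₃ fun i => (cev_map Uf S.g n i z).trans ?_⟩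
    rw [hz]
    exact hy i

theorem cx_additive : (cx Uf).Additive where
  map_add {P Q φ ψ} := HomologicalComplex.hom_ext _ _ fun n =>
    AddCommGrpCat.ext fun x => CechInjGen.cev_ext Uf Q fun i => by
      refine (cev_map Uf (φ + ψ) n i x).trans ?_
      refine Eq.trans ?_ (map_add _ _ _).symm
      rw [cev_map, cev_map]
      rfl

end Groth.Agent.EtFound.CechDerived
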