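import Groth.Agent.EtFound.PushOutside
import Groth.Agent.EtFound.PullStalk
import Groth.Prelude.Def_DCoh2
import Mathlib.Algebra.Homology.DerivedCategory.ExactFunctor
import Mathlib.CategoryTheory.Localization.Adjunction

/-!
# Direct images along closed immersions on derived categories
-/

set_option autoImplicit false
set_option linter.style.haveILetI false
set_option backward.isDefEq.respectTransparency.types false
universe w w' v v' u u'

open CategoryTheory CategoryTheory.Limits AlgebraicGeometry Opposite

namespace Groth.Agent.EtFound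

section

variable {A : Type u} [Category.{v} A] [Abelian A] [HasDerivedCategory.{w} A]
  {B : Type u'} [Category.{v'} B] [Abelian B] [HasDerivedCategory.{w'} B]
  {F : A ⥤ B} {G : B ⥤ A} (adj : F ⊣ G)
  [F.Additive] [PreservesFiniteLimits F] [PreservesFiniteColimits F]
  [G.Additive] [PreservesFiniteLimits G] [PreservesFiniteColimits G]

/-- an adjunction, termwise on complexes -/
noncomputable def cxAdj : F.mapHomologicalComplex (ComplexShape.up ℤ) ⊣ G.mapHomologicalComplex (ComplexShape.up ℤ) where
  unit :=
    { app := fun K => { f := fun i => adj.unit.app (K.X i), comm' := fun i k _ => (adj.unit.naturality _).symm }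
      naturality := fun K L φ => by ext i; exact adj.unit.naturality (φ.f i) }
  counit :=
    { app := fun K => { f := fun i => adj.counit.app (K.X i), comm' := fun i k _ => (adj.counit.naturality _).symm }
      naturality := fun K L φ => by ext i; exact adj.counit.naturality (φ.f i) }
  left_triangle_components K := by ext i; exact adj.left_triangle_components (K.X i)
  right_triangle_components K := by ext i; exact adj.right_triangle_components (K.X i)

/-- exact adjoint functors stay adjoint on derived categories -/
noncomputable def derAdj : F.mapDerivedCategory ⊣ G.mapDerivedCategory :=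
  letI : CatCommSq (F.mapHomologicalComplex (ComplexShape.up ℤ)) DerivedCategory.Q DerivedCategory.Q
    F.mapDerivedCategory := ⟨F.mapDerivedCategoryFactors.symm⟩
  letI : CatCommSq (G.mapHomologicalComplex (ComplexShape.up ℤ)) DerivedCategory.Q DerivedCategory.Q
    G.mapDerivedCategory := ⟨G.mapDerivedCategoryFactors.symm⟩
  (cxAdj adj).localization DerivedCategory.Q (HomologicalComplex.quasiIso A (ComplexShape.up ℤ))
    DerivedCategory.Q (HomologicalComplex.quasiIso B (ComplexShape.up ℤ)) _ _

theorem isIso_derAdj_counit [∀ M, IsIso (adj.counit.app M)] : IsIso (derAdj adj).counit := by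
  haveI : ∀ K, IsIso ((derAdj adj).counit.app K) := fun K => by
    suffices h : ∀ N, IsIso ((derAdj adj).counit.app (DerivedCategory.Q.obj N)) from
      (NatTrans.isIso_app_iff_of_iso _ (DerivedCategory.Q.objObjPreimageIso K)).1 (h _)
    intro N
    haveI : ∀ i, IsIso (((cxAdj adj).counit.app N).f i) := fun i => inferInstanceAs (IsIso (adj.counit.app (N.X i)))
    haveI : IsIso ((cxAdj adj).counit.app N) := HomologicalComplex.Hom.isIso_of_components _
    rw [derAdj, Adjunction.localization_counit_app]
    infer_instance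
  exact NatIso.isIso_of_isIso_app _

theorem derived_fullyFaithful [∀ M, IsIso (adj.counit.app M)] :
    G.mapDerivedCategory.Full ∧ G.mapDerivedCategory.Faithful := by
  haveI := isIso_derAdj_counit adj
  exact ⟨(derAdj adj).fullyFaithfulROfIsIsoCounit.full, (derAdj adj).fullyFaithfulROfIsIsoCounit.faithful⟩

/-- homology commutes with exact functors on derived categories -/
noncomputable def homologyMapDerived (N : CochainComplex B ℤ) (n : ℤ) :
    (DerivedCategory.homologyFunctor A n).obj (G.mapDerivedCategory.obj (DerivedCategory.Q.obj N)) ≅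
      G.obj (N.homology n) :=
  (DerivedCategory.homologyFunctor A n).mapIso (G.mapDerivedCategoryFactors.app N) ≪≫
    (DerivedCategory.homologyFunctorFactors A n).app _ ≪≫ (N.sc n).mapHomologyIso G

theorem isIso_derAdj_unit_app (N : CochainComplex A ℤ) (h : ∀ n, IsIso (adj.unit.app (N.homology n))) :
    IsIso ((derAdj adj).unit.app (DerivedCategory.Q.obj N)) := by
  haveI : QuasiIso ((cxAdj adj).unit.app N) := ⟨fun n => by
    rw [quasiIsoAt_iff_isIso_homologyMap]
    have e : HomologicalComplex.homologyMap ((cxAdj adj).unit.app N) n =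
        ShortComplex.homologyMap ((N.sc n).mapNatTrans adj.unit) := rfl
    rw [e, ShortComplex.homologyMap_mapNatTrans]
    exact IsIso.comp_isIso' (Iso.isIso_hom _) (IsIso.comp_isIso' (h n) (Iso.isIso_inv _))⟩
  rw [derAdj, Adjunction.localization_unit_app]
  infer_instance

end

section

attribute [local instance] HasDerivedCategory.standard

variable {Z X U : Scheme.{u}} (i : Z ⟶ X) [IsClosedImmersion i] (j : U ⟶ X)

omit [IsClosedImmersion i] in
theorem stalk_avoid_range (hZU : Set.range j = (Set.range i)ᶜ) {Ω : Type u} [Field Ω] [IsSepClosed Ω]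
    (ξ : Spec (CommRingCat.of Ω) ⟶ U) : (ξ ≫ j).base (default : Spec (CommRingCat.of Ω)) ∉ Set.range i.base := fun h => by
  have h' : j.base (ξ.base default) ∈ (Set.range i.base)ᶜ := hZU ▸ Set.mem_range_self _
  exact h' (Set.mem_of_eq_of_mem (Scheme.Hom.comp_apply _ _ _).symm h)

theorem isIso_unit_of_isZero_pull [IsOpenImmersion j] (hZU : Set.range j = (Set.range i)ᶜ) (H : EtCoh.Ab X)
    (hH : IsZero ((EtCoh.pull j).obj H)) : IsIso ((EtCoh.pullPushAdj i).unit.app H) := by
  refine unit_isIso_of_outside i (liftable_of_isClosedImmersion i) i.isClosedEmbedding.isClosed_range H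
    fun k _ _ ξ hξ => ?_
  have hr : ξ.base default ∈ Set.range j.base := by rw [hZU]; exact hξ
  have hsub : Set.range ξ ⊆ Set.range j := by
    rintro _ ⟨p, rfl⟩
    rw [Subsingleton.elim p default]
    exact hr
  have hz : IsZero ((EtCoh.stalk (IsOpenImmersion.lift j ξ hsub ≫ j)).obj H) :=
    ((isZero_iff_stalks _).1 hH k (IsOpenImmersion.lift j ξ hsub)).of_iso
      ((stalkPullIso j (IsOpenImmersion.lift j ξ hsub)).app H).symm
  rw [IsOpenImmersion.lift_fac] at hz
  exact ⟨@Unique.mk' _ ⟨(0 : (EtCoh.stalk ξ).obj H)⟩ (AddCommGrpCat.subsingleton_of_isZero hz)⟩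

theorem isZero_pull_push (hZU : Set.range j = (Set.range i)ᶜ) (M : EtCoh.Ab Z) :
    IsZero ((EtCoh.pull j).obj ((EtCoh.push i).obj M)) := by
  refine (isZero_iff_stalks _).2 fun Ω _ _ ξ => ?_
  obtain ⟨h⟩ := nonempty_unique_stalk i.isClosedEmbedding.isClosed_range ((EtCoh.push i).obj M)
    (fun V hV => push_unique_of_disjoint i M V hV) (ξ ≫ j) (stalk_avoid_range i j hZU ξ)
  haveI : Subsingleton ((EtCoh.stalk (ξ ≫ j)).obj ((EtCoh.push i).obj M)) :=
    ⟨fun a b => (h.eq_default a).trans (h.eq_default b).symm⟩
  exact (AddCommGrpCat.isZero_of_subsingleton _).of_iso ((stalkPullIso j ξ).app _)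

theorem closedImmersion_derived [IsOpenImmersion j] (hZU : Set.range j = (Set.range i)ᶜ)
    [PreservesFiniteColimits (EtCoh.push i)] :
    ((EtCoh.push i).mapDerivedCategory.Full ∧ (EtCoh.push i).mapDerivedCategory.Faithful) ∧
      ∀ K : DCoh.DEt X,
        (EtCoh.push i).mapDerivedCategory.essImage K ↔
          ∀ n : ℤ, IsZero ((EtCoh.pull j).obj (DCoh.HDEt K n)) := by
  haveI : PreservesFiniteLimits (EtCoh.pull i) := pull_preservesFiniteLimits i
  haveI : PreservesColimitsOfSize.{0, 0} (EtCoh.pull i) :=
    (EtCoh.pullPushAdj i).leftAdjoint_preservesColimits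
  haveI : PreservesFiniteColimits (EtCoh.pull i) := PreservesColimitsOfSize.preservesFiniteColimits _
  haveI : (EtCoh.pull i).Additive := Functor.additive_of_preserves_binary_products _
  haveI : PreservesLimitsOfSize.{0, 0} (EtCoh.push i) :=
    (EtCoh.pullPushAdj i).rightAdjoint_preservesLimits
  haveI : PreservesFiniteLimits (EtCoh.push i) := PreservesLimitsOfSize.preservesFiniteLimits _
  haveI : ∀ M, IsIso ((EtCoh.pullPushAdj i).counit.app M) := fun M =>
    counit_isIso i (liftable_of_isClosedImmersion i) M
  refine ⟨derived_fullyFaithful (EtCoh.pullPushAdj i), fun K => ⟨?_, fun hK => ?_⟩⟩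
  · rintro ⟨M, ⟨e⟩⟩ n
    refine (isZero_pull_push i j hZU ((DerivedCategory.Q.objPreimage M).homology n)).of_iso
      ((EtCoh.pull j).mapIso ?_)
    exact ((DerivedCategory.homologyFunctor _ n).mapIso
      (((EtCoh.push i).mapDerivedCategory.mapIso (DerivedCategory.Q.objObjPreimageIso M)) ≪≫ e)).symm ≪≫
      homologyMapDerived (G := EtCoh.push i) _ n
  · let N := DerivedCategory.Q.objPreimage K
    have hh : ∀ n, IsIso ((EtCoh.pullPushAdj i).unit.app (N.homology n)) := fun n =>
      isIso_unit_of_isZero_pull i j hZU _ ((hK n).of_iso ((EtCoh.pull j).mapIso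
        (((DerivedCategory.homologyFunctorFactors _ n).app N).symm ≪≫
          (DerivedCategory.homologyFunctor _ n).mapIso (DerivedCategory.Q.objObjPreimageIso K))))
    haveI := isIso_derAdj_unit_app (EtCoh.pullPushAdj i) N hh
    exact ⟨_, ⟨(asIso ((derAdj (EtCoh.pullPushAdj i)).unit.app (DerivedCategory.Q.obj N))).symm ≪≫
      DerivedCategory.Q.objObjPreimageIso K⟩⟩

end

end Groth.Agent.EtFound
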