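import Groth.Agent.EtFound.Detect
import Groth.Agent.EtFound.ConstStalk
import Groth.Agent.EtFound.Germ
import Mathlib.AlgebraicGeometry.Morphisms.UniversallyOpen
import Mathlib.CategoryTheory.Sites.ConstantSheaf

/-! subsheaves of constant sheaves on irreducible schemes -/

universe u

open CategoryTheory CategoryTheory.Limits AlgebraicGeometry Opposite

namespace Groth.Agent.EtFound

set_option backward.isDefEq.respectTransparency.types false

variable {A : Type (u + 2)} [Category.{u + 1} A] {FA : A → A → Type*} {CA : A → Type (u + 1)}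
  [∀ M N, FunLike (FA M N) (CA M) (CA N)] [ConcreteCategory.{u + 1} A FA]
  [HasColimitsOfSize.{u, u} A] [HasProducts.{u} A] [PreservesFilteredColimitsOfSize.{u, u} (forget A)]
  [(forget A).ReflectsIsomorphisms]

variable {X : Scheme.{u}} [IrreducibleSpace ↥X] [X.smallEtaleTopology.HasSheafCompose (forget A)]
  [X.smallEtaleTopology.WEqualsLocallyBijective A] [HasWeakSheafify X.smallEtaleTopology A]

theorem isIso_of_generic_stalk {Ω : Type u} [Field Ω] [IsSepClosed Ω] (ξ : Spec (CommRingCat.of Ω) ⟶ X)
    (hξ : ξ.base default = genericPoint ↥X) {M' M : A} (i : M' ⟶ M) {G : Sheaf X.smallEtaleTopology A}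
    (a : (constantSheaf X.smallEtaleTopology A).obj M' ⟶ G) (b : G ⟶ (constantSheaf X.smallEtaleTopology A).obj M)
    (hab : a ≫ b = (constantSheaf X.smallEtaleTopology A).map i)
    (ha : ∀ (k : Type u) (_ : Field k) (_ : IsSepClosed k) (ζ : Spec (CommRingCat.of k) ⟶ X),
      Function.Injective ((Scheme.pointSmallEtale ζ).presheafFiber.map a.hom))
    (hb : ∀ (k : Type u) (_ : Field k) (_ : IsSepClosed k) (ζ : Spec (CommRingCat.of k) ⟶ X),
      Function.Injective ((Scheme.pointSmallEtale ζ).presheafFiber.map b.hom))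
    (hst : Function.Surjective ((Scheme.pointSmallEtale ξ).presheafFiber.map a.hom)) : IsIso a := by
  refine isIso_of_stalks a fun k _ _ ζ => ⟨ha k _ _ ζ, fun p => ?_⟩
  obtain ⟨U, u, g0, rfl⟩ := (Scheme.pointSmallEtale ζ).toPresheafFiber_jointly_surjective p
  obtain ⟨m, hm⟩ := (toSheafify_const_germ_bijective ζ A M U u).2
    ((Scheme.pointSmallEtale ζ).toPresheafFiber U u ((constantSheaf X.smallEtaleTopology A).obj M).obj (b.hom.app (op U) g0))
  obtain ⟨V, f, v, rfl, hf⟩ := ((Scheme.pointSmallEtale ζ).toPresheafFiber_eq_iff' _ _ _ _).1 hm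
  -- `V` meets the generic fibre
  have hV : genericPoint ↥X ∈ Set.range V.hom.base := by
    have : AlgebraicGeometry.Etale V.hom := V.prop
    exact ((genericPoint_spec ↥X).mem_open_set_iff V.hom.isOpenMap.isOpen_range).2
      ⟨ζ.base (default : Spec (CommRingCat.of k)), by
        refine ⟨Set.mem_univ _, (v.left : Spec (CommRingCat.of k) ⟶ V.left).base (default : Spec (CommRingCat.of k)), ?_⟩
        exact congrArg (fun z : Spec (CommRingCat.of k) ⟶ X => z.base default) (CategoryTheory.Over.w v)⟩
  obtain ⟨y, hy⟩ := hV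
  obtain ⟨w, -⟩ := Scheme.pointSmallEtaleFiberObjToPreimage_surjective ξ hξ V ⟨y, hy⟩
  have hconst : ∀ (W : X.Etale) (m' : ToType M'),
      b.hom.app (op W) (a.hom.app (op W)
        ((toSheafify X.smallEtaleTopology ((Functor.const X.Etaleᵒᵖ).obj M')).app (op W) m')) =
      (toSheafify X.smallEtaleTopology ((Functor.const X.Etaleᵒᵖ).obj M)).app (op W) (i m') := by
    intro W m'
    have e1 := congr(($hab).hom.app (op W))
    have e2 := congr(($(toSheafify_naturality X.smallEtaleTopology ((Functor.const X.Etaleᵒᵖ).map i))).app (op W))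
    have e3 := ConcreteCategory.congr_hom e2 m'
    refine Eq.trans ?_ ((ConcreteCategory.comp_apply _ _ m').symm.trans (e3.symm.trans ?_))
    · exact (ConcreteCategory.comp_apply _ _ _).symm.trans (ConcreteCategory.congr_hom e1 _)
    · exact ConcreteCategory.comp_apply _ _ m'
  obtain ⟨q, hq⟩ := hst ((Scheme.pointSmallEtale ξ).toPresheafFiber V w G.obj (G.obj.map f.op g0))
  obtain ⟨m', rfl⟩ := (toSheafify_const_germ_bijective ξ A M' V w).2 q
  have him : i m' = m := by
    refine (toSheafify_const_germ_bijective ξ A M V w).1 ?_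
    have := congrArg ((Scheme.pointSmallEtale ξ).presheafFiber.map b.hom) hq
    erw [(Scheme.pointSmallEtale ξ).toPresheafFiber_naturality_apply,
      (Scheme.pointSmallEtale ξ).toPresheafFiber_naturality_apply,
      (Scheme.pointSmallEtale ξ).toPresheafFiber_naturality_apply, hconst V m'] at this
    refine this.trans (congrArg _ ?_)
    erw [NatTrans.naturality_apply b.hom f.op g0, ← hf,
      ← NatTrans.naturality_apply (toSheafify X.smallEtaleTopology ((Functor.const X.Etaleᵒᵖ).obj M)) f.op m]
    exact congrArg _ (ConcreteCategory.id_apply m)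
  refine ⟨(Scheme.pointSmallEtale ζ).toPresheafFiber V v ((constantSheaf X.smallEtaleTopology A).obj M').obj
    ((toSheafify X.smallEtaleTopology ((Functor.const X.Etaleᵒᵖ).obj M')).app (op V) m'), hb k _ _ ζ ?_⟩
  erw [(Scheme.pointSmallEtale ζ).toPresheafFiber_naturality_apply,
    (Scheme.pointSmallEtale ζ).toPresheafFiber_naturality_apply,
    (Scheme.pointSmallEtale ζ).toPresheafFiber_naturality_apply, hconst V m', him]
  refine Eq.trans ?_ hm
  refine Eq.trans ?_ ((Scheme.pointSmallEtale ζ).toPresheafFiber_w_apply f v _ _)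
  exact congrArg _ ((congrArg _ (ConcreteCategory.id_apply m).symm).trans
    (NatTrans.naturality_apply (toSheafify X.smallEtaleTopology ((Functor.const X.Etaleᵒᵖ).obj M)) f.op m))

end Groth.Agent.EtFound
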