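import Groth.Agent.EtFound.PointHom
import Groth.Agent.EtFound.NoethACC

/-! constructibility through specialisation maps -/

universe u

open CategoryTheory CategoryTheory.Limits AlgebraicGeometry Opposite Topology TopologicalSpace

namespace Groth.Agent.EtFound

set_option backward.isDefEq.respectTransparency.types false

variable {X : Scheme.{u}}

/-- constant germs stay constant over separably closed fields -/
theorem FinConst.bijective {F : EtCoh.Ab X} {U : X.Etale} {S} (h : FinConst F U S) {k : Type u} [Field k]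
    [IsSepClosed k] {ζ : Spec (CommRingCat.of k) ⟶ X} (z : (Scheme.pointSmallEtale ζ).fiber.obj U) :
    Function.Bijective fun s : S => (Scheme.pointSmallEtale ζ).toPresheafFiber U z F.obj s.1 := by
  let l : Spec (CommRingCat.of (AlgebraicClosure k)) ⟶ Spec (CommRingCat.of k) :=
    Spec.map (CommRingCat.ofHom (algebraMap k (AlgebraicClosure k)))
  let φ := (pointExtIso ζ l).hom
  let γ := (stalkExtIso AddCommGrpCat.{u + 1} ζ l).app F
  have hb : Function.Bijective γ.hom := γ.addCommGroupIsoToAddEquiv.bijective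
  refine (Function.Bijective.of_comp_iff' hb _).1 ?_
  have e : (fun s : S => (Scheme.pointSmallEtale (l ≫ ζ)).toPresheafFiber U (φ.hom.app U z) F.obj s.1) =
      γ.hom ∘ fun s : S => (Scheme.pointSmallEtale ζ).toPresheafFiber U z F.obj s.1 :=
    funext fun s => (sheafFiber_germ φ F z s.1).symm
  rw [← e]
  exact h.2 _ (l ≫ ζ) _

/-- specialisation maps of finite locally constant sheaves are bijective -/
theorem bijective_sheafFiber {F : EtCoh.Ab X} (hF : EtCoh.IsFiniteLocallyConstant F) {k k' : Type u} [Field k]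
    [IsSepClosed k] [Field k'] [IsSepClosed k'] {η : Spec (CommRingCat.of k) ⟶ X} {η' : Spec (CommRingCat.of k') ⟶ X}
    (φ : Scheme.pointSmallEtale η' ⟶ Scheme.pointSmallEtale η) :
    Function.Bijective ((GrothendieckTopology.Point.Hom.sheafFiber (A := AddCommGrpCat.{u + 1}) φ).app F) := by
  obtain ⟨U, p, hp, S, hS⟩ := (isFiniteLocallyConstant_iff F).1 hF (η.base (default : Spec (CommRingCat.of k)))
  obtain ⟨z, -⟩ := Scheme.pointSmallEtaleFiberObjToPreimage_surjective η rfl U ⟨p, hp⟩
  refine (Function.Bijective.of_comp_iff _ (hS.bijective z)).1 ?_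
  have e : (fun s : S => (Scheme.pointSmallEtale η').toPresheafFiber U (φ.hom.app U z) F.obj s.1) =
      (GrothendieckTopology.Point.Hom.sheafFiber (A := AddCommGrpCat.{u + 1}) φ).app F ∘
        fun s : S => (Scheme.pointSmallEtale η).toPresheafFiber U z F.obj s.1 :=
    funext fun s => (sheafFiber_germ φ F z s.1).symm
  exact Eq.mp (congrArg Function.Bijective e) (hS.bijective _)

/-- near a point every point of a closed set is a specialisation of a generisation of it -/
theorem exists_open_components [IsLocallyNoetherian X] {C : Set X} (hC : IsClosed C) (p : X) :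
    ∃ W : X.Opens, p ∈ W ∧ ∀ q ∈ W, q ∈ C → ∃ g ∈ C, g ⤳ p ∧ g ⤳ q := by
  obtain ⟨A, hA, hpA, -⟩ := exists_isAffineOpen_mem_and_subset (U := (⊤ : X.Opens)) (x := p) trivial
  haveI : NoetherianSpace ↥A := by
    have : IsNoetherianRing Γ(X, A) := IsLocallyNoetherian.component_noetherian ⟨A, hA⟩
    exact noetherianSpace_of_isAffineOpen A hA
  haveI : QuasiSober ↥A := A.isOpenEmbedding'.quasiSober
  obtain ⟨S, hSf, hSc, hSi, hSU⟩ := NoetherianSpace.exists_finite_set_isClosed_irreducible
    (hC.preimage (continuous_subtype_val : Continuous (Subtype.val : ↥A → X)))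
  let bad := ⋃ t ∈ {t ∈ S | (⟨p, hpA⟩ : ↥A) ∉ t}, t
  have hbad : IsClosed bad := (hSf.subset fun t ht => ht.1).isClosed_biUnion fun t ht => hSc t ht.1
  refine ⟨⟨Subtype.val '' badᶜ, A.2.isOpenMap_subtype_val _ hbad.isOpen_compl⟩, ⟨⟨p, hpA⟩, fun h => ?_, rfl⟩, ?_⟩
  · obtain ⟨t, ht, hpt⟩ := Set.mem_iUnion₂.1 h
    exact ht.2 hpt
  rintro _ ⟨q, hq, rfl⟩ hqC
  obtain ⟨t, htS, hqt⟩ := Set.mem_sUnion.1 (hSU.le hqC)
  have hpt : (⟨p, hpA⟩ : ↥A) ∈ t := by
    by_contra h
    exact hq (Set.mem_iUnion₂.2 ⟨t, ⟨htS, h⟩, hqt⟩)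
  have hg : IsGenericPoint (hSi t htS).genericPoint t := by
    simpa [(hSc t htS).closure_eq] using (hSi t htS).isGenericPoint_genericPoint_closure
  exact ⟨_, hSU.ge (Set.mem_sUnion.2 ⟨t, htS, hg.mem⟩), (hg.specializes hpt).map continuous_subtype_val,
    (hg.specializes hqt).map continuous_subtype_val⟩

/-- sections representing all germs at a point -/
theorem exists_stalk_sections {F : EtCoh.Ab X} {Ω : Type u} [Field Ω] [IsSepClosed Ω]
    (ξ : Spec (CommRingCat.of Ω) ⟶ X) [Finite ((EtCoh.stalk ξ).obj F)] :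
    ∃ (U : X.Etale) (u : (Scheme.pointSmallEtale ξ).fiber.obj U) (l : (EtCoh.stalk ξ).obj F →+ F.obj.obj (op U)),
      ∀ c, (Scheme.pointSmallEtale ξ).toPresheafFiber U u F.obj (l c) = c := by
  let Φ := Scheme.pointSmallEtale ξ
  obtain ⟨U₀, u₀, s, hs⟩ : ∃ (V : X.Etale) (v : Φ.fiber.obj V) (s : (EtCoh.stalk ξ).obj F → F.obj.obj (op V)),
      ∀ c, Φ.toPresheafFiber V v F.obj (s c) = c := by
    classical
    haveI := Fintype.ofFinite ((EtCoh.stalk ξ).obj F)
    suffices key : ∀ σ : Finset ((EtCoh.stalk ξ).obj F), ∃ (V : X.Etale) (v : Φ.fiber.obj V)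
        (s : (EtCoh.stalk ξ).obj F → F.obj.obj (op V)), ∀ c ∈ σ, Φ.toPresheafFiber V v F.obj (s c) = c by
      obtain ⟨V, v, s, hs⟩ := key Finset.univ
      exact ⟨V, v, s, fun c => hs c (Finset.mem_univ c)⟩
    intro σ
    induction σ using Finset.induction with
    | empty =>
      obtain ⟨V, v, -, -⟩ := Φ.toPresheafFiber_jointly_surjective (0 : (EtCoh.stalk ξ).obj F)
      exact ⟨V, v, fun _ => 0, fun k hk => absurd hk (Finset.notMem_empty k)⟩
    | @insert c σ hc ih =>
      obtain ⟨V, v, s, hs⟩ := ih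
      obtain ⟨W, w, e, he⟩ := Φ.toPresheafFiber_jointly_surjective c
      obtain ⟨⟨T, z⟩, ⟨a, ha⟩, ⟨b, hb⟩, -⟩ := IsCofilteredOrEmpty.cone_objs
        (Φ.fiber.elementsMk V v) (Φ.fiber.elementsMk W w)
      refine ⟨T, z, Function.update (fun k => F.obj.map a.op (s k)) c (F.obj.map b.op e), fun k hk => ?_⟩
      rcases Finset.mem_insert.1 hk with rfl | hk'
      · rw [Function.update_self, Φ.toPresheafFiber_w_apply]
        exact (congrArg (fun w' => Φ.toPresheafFiber W w' F.obj e) hb).trans he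
      · rw [Function.update_of_ne (fun e' => hc (by rw [← e']; exact hk')), Φ.toPresheafFiber_w_apply]
        exact (congrArg (fun v' => Φ.toPresheafFiber V v' F.obj (s k)) ha).trans (hs k hk')
  obtain ⟨U, g, u, hu, hadd⟩ := exists_forall_eq F.obj u₀
    (fun q : (EtCoh.stalk ξ).obj F × (EtCoh.stalk ξ).obj F => s (q.1 + q.2)) (fun q => s q.1 + s q.2)
    (fun q => (hs _).trans (((map_add _ _ _).trans (congrArg₂ _ (hs q.1) (hs q.2))).symm))
  refine ⟨U, u, AddMonoidHom.mk' (fun c => F.obj.map g.op (s c)) (fun a b => (hadd (a, b)).trans (map_add _ _ _)),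
    fun c => ?_⟩
  show Φ.toPresheafFiber U u F.obj (F.obj.map g.op (s c)) = c
  rw [Φ.toPresheafFiber_w_apply, hu, hs]

/-- injectivity of germs passes from generisations to specialisations and only depends on the point -/
theorem injective_germ_of_specializes {F : EtCoh.Ab X} {U : X.Etale} (S : AddSubgroup (F.obj.obj (op U)))
    {k k' : Type u} [Field k] [IsSepClosed k] [Field k'] [IsSepClosed k'] {η : Spec (CommRingCat.of k) ⟶ X}
    {η' : Spec (CommRingCat.of k') ⟶ X} (z : (Scheme.pointSmallEtale η).fiber.obj U)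
    (z' : (Scheme.pointSmallEtale η').fiber.obj U) (h : ptOf z ⤳ ptOf z')
    (hz : Function.Injective fun s : S => (Scheme.pointSmallEtale η).toPresheafFiber U z F.obj s.1) :
    Function.Injective fun s : S => (Scheme.pointSmallEtale η').toPresheafFiber U z' F.obj s.1 := fun a b e => by
  have h0 : (Scheme.pointSmallEtale η').toPresheafFiber U z' F.obj (a.1 - b.1) = 0 := by
    rw [map_sub, sub_eq_zero]
    exact e
  have h1 := germ_eq_zero_of_specializes _ z z' h h0
  rw [map_sub, sub_eq_zero] at h1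
  exact hz h1

/-- bijectivity of germs only depends on the point -/
theorem bijective_germ_congr {F : EtCoh.Ab X} {U : X.Etale} (S : AddSubgroup (F.obj.obj (op U))) [Finite S]
    {k k' : Type u} [Field k] [IsSepClosed k] [Field k'] [IsSepClosed k'] {η : Spec (CommRingCat.of k) ⟶ X}
    {η' : Spec (CommRingCat.of k') ⟶ X} (z : (Scheme.pointSmallEtale η).fiber.obj U)
    (z' : (Scheme.pointSmallEtale η').fiber.obj U) (h : ptOf z = ptOf z')
    (hz : Function.Bijective fun s : S => (Scheme.pointSmallEtale η).toPresheafFiber U z F.obj s.1) :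
    Function.Bijective fun s : S => (Scheme.pointSmallEtale η').toPresheafFiber U z' F.obj s.1 := by
  obtain ⟨e⟩ := nonempty_stalk_equiv F η η' ((hom_ptOf z).symm.trans ((congrArg _ h).trans (hom_ptOf z')))
  have : Finite ((EtCoh.stalk η').obj F) := Finite.of_surjective _ (e.surjective.comp hz.2)
  refine @Function.Injective.bijective_of_nat_card_le _ _ this _ (injective_germ_of_specializes S z z' (specializes_of_eq h) hz.1) ?_
  exact ((Nat.card_congr e).symm.trans (Nat.card_eq_of_bijective _ hz).symm).le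

/-- bijective specialisation maps give finite local constancy -/
theorem isFiniteLocallyConstant_of_bijective [IsLocallyNoetherian X] {F : EtCoh.Ab X}
    (hfin : ∀ (Ω : Type u) [Field Ω] [IsSepClosed Ω] (ξ : Spec (CommRingCat.of Ω) ⟶ X), Finite ((EtCoh.stalk ξ).obj F))
    (hφ : ∀ (Ω Ω' : Type u) [Field Ω] [IsSepClosed Ω] [Field Ω'] [IsSepClosed Ω']
        (ξ : Spec (CommRingCat.of Ω) ⟶ X) (ξ' : Spec (CommRingCat.of Ω') ⟶ X)
        (φ : Scheme.pointSmallEtale ξ' ⟶ Scheme.pointSmallEtale ξ),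
        Function.Bijective ((GrothendieckTopology.Point.Hom.sheafFiber (A := AddCommGrpCat.{u + 1}) φ).app F)) :
    EtCoh.IsFiniteLocallyConstant F := by
  rw [isFiniteLocallyConstant_iff]
  intro x
  obtain ⟨Ω, _, _, ξ, rfl⟩ := exists_geomPoint x
  have := hfin Ω ξ
  obtain ⟨U, u, l, hl⟩ := exists_stalk_sections (F := F) ξ
  have : AlgebraicGeometry.Etale U.hom := U.prop
  haveI : IsLocallyNoetherian U.left := by
    let g : U.left ⟶ X := U.hom
    have : AlgebraicGeometry.Etale g := U.prop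
    exact LocallyOfFiniteType.isLocallyNoetherian g
  obtain ⟨W, hpW, hW⟩ := exists_open_components (C := (Set.univ : Set U.left)) isClosed_univ (ptOf u)
  have hinj : Function.Injective l := fun a b e => (hl a).symm.trans ((congrArg _ e).trans (hl b))
  have hfinS : Finite l.range := Finite.of_surjective l.rangeRestrict l.rangeRestrict_surjective
  have hu : Function.Bijective fun s : l.range => (Scheme.pointSmallEtale ξ).toPresheafFiber U u F.obj s.1 :=
    ⟨fun ⟨_, a, rfl⟩ ⟨_, b, rfl⟩ e => Subtype.ext (congrArg l ((hl a).symm.trans (e.trans (hl b)))),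
      fun c => ⟨⟨l c, c, rfl⟩, hl c⟩⟩
  have step : ∀ {k : Type u} [Field k] [IsSepClosed k] {η : Spec (CommRingCat.of k) ⟶ X}
      (z : (Scheme.pointSmallEtale η).fiber.obj U) {k' : Type u} [Field k'] [IsSepClosed k'] {η' : Spec (CommRingCat.of k') ⟶ X}
      (z' : (Scheme.pointSmallEtale η').fiber.obj U), ptOf z' ⤳ ptOf z →
      ((Function.Bijective fun s : l.range => (Scheme.pointSmallEtale η).toPresheafFiber U z F.obj s.1) ↔
        Function.Bijective fun s : l.range => (Scheme.pointSmallEtale η').toPresheafFiber U z' F.obj s.1) := by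
    intro k _ _ η z k' _ _ η' z' hzz
    obtain ⟨L, _, _, θ, w, hw⟩ := exists_algClosed_point U (ptOf z')
    obtain ⟨φ, hφw⟩ := exists_pointHom η θ z w ((specializes_of_eq hw).trans hzz)
    have e : (fun s : l.range => (Scheme.pointSmallEtale θ).toPresheafFiber U w F.obj s.1) =
        (GrothendieckTopology.Point.Hom.sheafFiber (A := AddCommGrpCat.{u + 1}) φ).app F ∘
          fun s : l.range => (Scheme.pointSmallEtale η).toPresheafFiber U z F.obj s.1 :=
      funext fun s => by rw [← hφw]; exact (sheafFiber_germ φ F z s.1).symm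
    refine ((Function.Bijective.of_comp_iff' (hφ k L η θ φ) _).symm.trans
      (congrArg Function.Bijective e.symm).to_iff).trans ?_
    exact ⟨bijective_germ_congr _ w z' hw, bijective_germ_congr _ z' w hw.symm⟩
  let U' : X.Etale := Scheme.Etale.mk (W.ι ≫ U.hom)
  let r : U' ⟶ U := MorphismProperty.Over.homMk W.ι rfl
  refine ⟨U', (⟨ptOf u, hpW⟩ : W.toScheme), (Scheme.Hom.comp_apply _ _ _).trans (hom_ptOf u),
    l.range.map (F.obj.map r.op).hom, ?_, fun k _ _ ζ z => ?_⟩
  · exact Finite.of_surjective (fun s : l.range => (⟨F.obj.map r.op s.1, AddSubgroup.mem_map_of_mem _ s.2⟩ :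
      l.range.map (F.obj.map r.op).hom)) fun ⟨_, s, hs, rfl⟩ => ⟨⟨s, hs⟩, rfl⟩
  let zU := (Scheme.pointSmallEtale ζ).fiber.map r z
  have hzW : ptOf zU ∈ W := (ptOf_map r z).symm ▸ (ptOf z).2
  obtain ⟨g, -, hgp, hgq⟩ := hW _ hzW (Set.mem_univ _)
  obtain ⟨L, _, _, θ, w, hw⟩ := exists_algClosed_point U g
  have hb := (step zU w ((specializes_of_eq hw).trans hgq)).2 ((step u w ((specializes_of_eq hw).trans hgp)).1 hu)
  let e : l.range → l.range.map (F.obj.map r.op).hom := fun s => ⟨F.obj.map r.op s.1, AddSubgroup.mem_map_of_mem _ s.2⟩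
  have he : Function.Surjective e := fun ⟨_, s, hs, rfl⟩ => ⟨⟨s, hs⟩, rfl⟩
  let T := fun t : l.range.map (F.obj.map r.op).hom => (Scheme.pointSmallEtale ζ).toPresheafFiber U' z F.obj t.1
  have hT : Function.Bijective (T ∘ e) := by
    refine Eq.mp (congrArg Function.Bijective (funext fun s => ?_)) hb
    exact ((Scheme.pointSmallEtale ζ).toPresheafFiber_w_apply r z F.obj s.1).symm
  exact ⟨Function.Injective.of_comp_right hT.1 he, Function.Surjective.of_comp hT.2⟩

/-- injective specialisation maps give constructibility -/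
theorem isConstructible_of_injective [IsLocallyNoetherian X] {F : EtCoh.Ab X}
    (hfin : ∀ (Ω : Type u) [Field Ω] [IsSepClosed Ω] (ξ : Spec (CommRingCat.of Ω) ⟶ X), Finite ((EtCoh.stalk ξ).obj F))
    (hφ : ∀ (Ω Ω' : Type u) [Field Ω] [IsSepClosed Ω] [Field Ω'] [IsSepClosed Ω']
        (ξ : Spec (CommRingCat.of Ω) ⟶ X) (ξ' : Spec (CommRingCat.of Ω') ⟶ X)
        (φ : Scheme.pointSmallEtale ξ' ⟶ Scheme.pointSmallEtale ξ),
        Function.Injective ((GrothendieckTopology.Point.Hom.sheafFiber (A := AddCommGrpCat.{u + 1}) φ).app F)) :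
    EtPBC.IsConstructible F := by
  refine isConstructible_of_generic fun x => ?_
  obtain ⟨Ω, _, _, ξ, rfl⟩ := exists_geomPoint x
  let x := ξ.base (default : Spec (CommRingCat.of Ω))
  have := hfin Ω ξ
  obtain ⟨U, u, l, hl⟩ := exists_stalk_sections (F := F) ξ
  have : AlgebraicGeometry.Etale U.hom := U.prop
  haveI : IsLocallyNoetherian U.left := by
    let g : U.left ⟶ X := U.hom
    have : AlgebraicGeometry.Etale g := U.prop
    exact LocallyOfFiniteType.isLocallyNoetherian g
  obtain ⟨W, hpW, hW⟩ := exists_open_components (X := U.left) (C := U.hom.base ⁻¹' closure {x})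
    ((isClosed_closure (s := ({x} : Set X))).preimage U.hom.continuous) (ptOf u)
  let O : X.Opens := ⟨U.hom.base '' (W : Set U.left), U.hom.isOpenMap (W : Set U.left) W.2⟩
  obtain ⟨T, g, hg, hr⟩ := exists_immersion_range
    (O.2.isLocallyClosed.inter (isClosed_closure (s := ({x} : Set X))).isLocallyClosed)
  obtain ⟨t, ht'⟩ : x ∈ Set.range g.base := hr.ge ⟨⟨ptOf u, hpW, hom_ptOf u⟩, subset_closure rfl⟩
  have : IsLocallyNoetherian T := LocallyOfFiniteType.isLocallyNoetherian g
  have ht : ∀ y, t ⤳ y := fun y => g.isEmbedding.isInducing.specializes_iff.1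
    (ht'.symm ▸ specializes_iff_mem_closure.2 ((hr.le ⟨y, rfl⟩).2))
  let n := Nat.card ((EtCoh.stalk ξ).obj F)
  have hu : Function.Injective fun s : l.range => (Scheme.pointSmallEtale ξ).toPresheafFiber U u F.obj s.1 :=
    fun ⟨_, a, rfl⟩ ⟨_, b, rfl⟩ e => Subtype.ext (congrArg l ((hl a).symm.trans (e.trans (hl b))))
  have hlinj : Function.Injective l := fun a b e => (hl a).symm.trans ((congrArg _ e).trans (hl b))
  have hn : ∀ q ∈ W, U.hom.base q ∈ closure ({x} : Set X) → ∀ (k : Type u) [Field k] [IsSepClosed k]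
      (ζ : Spec (CommRingCat.of k) ⟶ X), ζ.base (default : Spec (CommRingCat.of k)) = U.hom.base q →
        Nat.card ((EtCoh.stalk ζ).obj F) = n := by
    intro q hq hqx k _ _ ζ hζ
    obtain ⟨g₀, hg₀, hgp, hgq⟩ := hW q hq hqx
    have hgeq : g₀ = ptOf u := eq_of_specializes U hgp
      ((((hgp.map U.hom.continuous).trans (specializes_of_eq (hom_ptOf u))).antisymm
        (specializes_iff_mem_closure.2 hg₀)).eq.trans (hom_ptOf u).symm)
    subst hgeq
    obtain ⟨z, hz⟩ := Scheme.pointSmallEtaleFiberObjToPreimage_surjective ζ hζ U ⟨q, rfl⟩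
    have hzq : ptOf z = q := congrArg Subtype.val hz
    obtain ⟨L, _, _, θ, w, hw⟩ := exists_algClosed_point U (ptOf u)
    obtain ⟨φ, -⟩ := exists_pointHom ζ θ z w ((specializes_of_eq hw).trans (hgq.trans (specializes_of_eq hzq.symm)))
    have := hfin L θ
    have := hfin k ζ
    obtain ⟨e⟩ := nonempty_stalk_equiv F θ ξ ((hom_ptOf w).symm.trans ((congrArg _ hw).trans (hom_ptOf u)))
    refine le_antisymm ((Nat.card_le_card_of_injective _ (hφ k L ζ θ φ)).trans (Nat.card_congr e).le) ?_
    have : Finite l.range := Finite.of_surjective l.rangeRestrict l.rangeRestrict_surjective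
    have h1 := injective_germ_of_specializes l.range u z (hgq.trans (specializes_of_eq hzq.symm)) hu
    exact (Nat.card_le_card_of_injective l.rangeRestrict (fun a b e => hlinj (congrArg Subtype.val e))).trans
      (@Nat.card_le_card_of_injective _ _ (hfin k ζ) _ h1)
  have hn' : ∀ (k : Type u) [Field k] [IsSepClosed k] (ζ : Spec (CommRingCat.of k) ⟶ T),
      Nat.card ((EtCoh.stalk ζ).obj ((EtCoh.pull g).obj F)) = n := fun k _ _ ζ => by
    refine (Nat.card_congr ((stalkPullIso g ζ).app F).addCommGroupIsoToAddEquiv.toEquiv).trans ?_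
    obtain ⟨⟨q, hq, e⟩, hcl⟩ := hr.le ⟨ζ.base (default : Spec (CommRingCat.of k)), rfl⟩
    exact hn q hq (e.symm ▸ hcl) k (ζ ≫ g) ((Scheme.Hom.comp_apply _ _ _).trans e.symm)
  have hfin' : ∀ (k : Type u) [Field k] [IsSepClosed k] (ζ : Spec (CommRingCat.of k) ⟶ T),
      Finite ((EtCoh.stalk ζ).obj ((EtCoh.pull g).obj F)) := fun k _ _ ζ => by
    have := hfin k (ζ ≫ g)
    exact Finite.of_equiv _ ((stalkPullIso g ζ).app F).addCommGroupIsoToAddEquiv.toEquiv.symm
  obtain ⟨W', p, hp, S, hS⟩ := exists_finConst_of_card ht n hfin' hn'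
  obtain ⟨V, hV, hVp⟩ := exists_piece_of_finConst g hp hS
  refine ⟨V ⊓ O, ⟨Set.mem_of_eq_of_mem ht'.symm hV, ptOf u, hpW, hom_ptOf u⟩, ?_⟩
  rw [hr] at hVp
  exact (Set.inter_assoc (V : Set X) O (closure {x})).symm ▸ hVp

end Groth.Agent.EtFound
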