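import Groth.Agent.EtFound.AbRecollement

/-! surjectivity of `j_! j^{-1} F ⟶ F` over the image -/

universe u

open CategoryTheory CategoryTheory.Limits AlgebraicGeometry Opposite

namespace Groth.Agent.EtFound

set_option backward.isDefEq.respectTransparency.types false

variable {U X : Scheme.{u}} (j : U ⟶ X) [AlgebraicGeometry.Etale j] [EtShriek.JCont j]
  {Ω : Type u} [Field Ω] [IsSepClosed Ω]

theorem restrStalkMap_surjective (z : Spec (CommRingCat.of Ω) ⟶ U) (G : EtCoh.Ab X) :
    Function.Surjective (restrStalkMap j z G) := by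
  intro p
  obtain ⟨V, v, s, rfl⟩ := (Scheme.pointSmallEtale (z ≫ j)).toPresheafFiber_jointly_surjective p
  let W : U.Etale := (EtCoh.bc j).obj V
  let g : (EtShriek.compEtale j).obj W ⟶ V := MorphismProperty.Over.homMk (pullback.fst V.hom j) pullback.condition
  let w : (Scheme.pointSmallEtale z).fiber.obj W := CategoryTheory.Over.homMk
    (pullback.lift (v.left : Spec (CommRingCat.of Ω) ⟶ V.left) z (CategoryTheory.Over.w v)) (pullback.lift_snd _ _ _)
  refine ⟨(Scheme.pointSmallEtale z).toPresheafFiber W w ((EtShriek.restrAlong j).obj G).obj (G.obj.map g.op s),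
    ((ConcreteCategory.comp_apply _ _ _).symm.trans (ConcreteCategory.congr_hom (restrStalkMap_germ j z G W w) _)).trans
      (((Scheme.pointSmallEtale (z ≫ j)).toPresheafFiber_w_apply g _ G.obj s).trans ?_)⟩
  exact congrArg (fun v' => (Scheme.pointSmallEtale (z ≫ j)).toPresheafFiber V v' G.obj s)
    (CategoryTheory.Over.OverMorphism.ext (pullback.lift_fst _ _ _))

theorem extZeroι_counit (z : Spec (CommRingCat.of Ω) ⟶ U) (G : EtCoh.Ab X) :
    extZeroι j (z ≫ j) ((EtShriek.restrAlong j).obj G) ⟨z, rfl⟩ ≫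
        (EtCoh.stalk (z ≫ j)).map ((EtShriek.extZeroAdj j).counit.app G) = restrStalkMap j z G := by
  rw [← unit_restrStalkMap]
  refine (Category.assoc _ _ _).trans ((congrArg (_ ≫ ·) (restrStalkMap_naturality j z _).symm).trans ?_)
  refine (Category.assoc _ _ _).symm.trans ((congrArg (· ≫ _) ?_).trans (Category.id_comp _))
  refine ((EtCoh.stalk z).map_comp _ _).symm.trans ?_
  refine (congrArg (EtCoh.stalk z).map ((EtShriek.extZeroAdj j).right_triangle_components G)).trans ?_
  exact (EtCoh.stalk z).map_id _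

theorem counit_stalk_surjective (G : EtCoh.Ab X) (ξ : Spec (CommRingCat.of Ω) ⟶ X)
    (hξ : ξ.base (default : Spec (CommRingCat.of Ω)) ∈ Set.range j.base) :
    Function.Surjective ((EtCoh.stalk ξ).map ((EtShriek.extZeroAdj j).counit.app G)) := by
  obtain ⟨k, _, _, z, e, he⟩ := exists_lift_extension j ξ hξ
  have h : Function.Surjective ((EtCoh.stalk (z ≫ j)).map ((EtShriek.extZeroAdj j).counit.app G)) := fun p => by
    obtain ⟨q, rfl⟩ := restrStalkMap_surjective j z G p
    rw [← extZeroι_counit]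
    exact ⟨extZeroι j (z ≫ j) ((EtShriek.restrAlong j).obj G) ⟨z, rfl⟩ q, (ConcreteCategory.comp_apply _ _ q).symm⟩
  rw [← he] at h
  let c := (EtShriek.extZeroAdj j).counit.app G
  have hE : Epi ((EtCoh.stalk (e ≫ ξ)).map c) := (AddCommGrpCat.epi_iff_surjective _).2 h
  refine (AddCommGrpCat.epi_iff_surjective _).1 ?_
  let α : EtCoh.stalk ξ ≅ EtCoh.stalk (e ≫ ξ) := stalkExtIso AddCommGrpCat.{u + 1} ξ e
  change Epi ((EtCoh.stalk ξ).map c)
  rw [← NatIso.naturality_2 α c]
  infer_instance

end Groth.Agent.EtFound
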