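import Groth.Agent.EtFound.Crit
import Mathlib.AlgebraicGeometry.Morphisms.FinitePresentation
import Mathlib.Topology.Spectral.Hom

/-! constructibility descends along surjective morphisms -/

universe u

open CategoryTheory CategoryTheory.Limits AlgebraicGeometry Opposite Topology

namespace Groth.Agent.EtFound

set_option backward.isDefEq.respectTransparency.types false

theorem spectralSpace_of_isAffine (S : Scheme.{u}) [IsAffine S] : SpectralSpace S := { }

/-- constructibility of a subset of an affine scheme is detected by finitely many affines covering it -/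
theorem isConstructible_of_surjective_family {S : Scheme.{u}} [IsAffine S] {κ : Type*} [Finite κ] (P : κ → Scheme.{u})
    [∀ k, IsAffine (P k)] (φ : ∀ k, P k ⟶ S) (hsurj : ∀ s, ∃ k p, (φ k).base p = s) {E : Set S}
    (h : ∀ k, IsConstructible ((φ k).base ⁻¹' E)) : IsConstructible E := by
  have := spectralSpace_of_isAffine S
  have key : ∀ {D : Set S}, (∀ k, IsConstructible ((φ k).base ⁻¹' D)) → SpecLib.CC D := fun {D} hD => by
    have : D = ⋂₀ {C | ∃ _ : Unit, C = ⋃ k, (φ k).base '' ((φ k).base ⁻¹' D)} := by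
      ext s
      refine ⟨fun hs C ⟨_, hC⟩ => ?_, fun hs => ?_⟩
      · obtain ⟨k, p, rfl⟩ := hsurj s
        exact hC ▸ Set.mem_iUnion.2 ⟨k, p, hs, rfl⟩
      · obtain ⟨k, p, hp, rfl⟩ := Set.mem_iUnion.1 (hs _ ⟨(), rfl⟩)
        exact hp
    rw [this]
    refine SpecLib.CC.sInter fun C ⟨_, hC⟩ => hC ▸ ?_
    have hk : ∀ k, SpecLib.CC ((φ k).base '' ((φ k).base ⁻¹' D)) := fun k => by
      have := spectralSpace_of_isAffine (P k)
      exact SpecLib.CC.image (quasiCompact_iff_isSpectralMap.1 ((quasiCompact_iff_compactSpace (φ k)).2 inferInstance))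
        (SpecLib.cons_clopen (hD k)).1
    exact @isClosed_iUnion_of_finite S _ (constructibleTopology S) _ _ hk
  refine isConstructible_of_cc_co (key h) ?_
  have := (key (D := Eᶜ) fun k => by rw [Set.preimage_compl]; exact (h k).compl).compl
  rwa [compl_compl] at this

/-- the support of an inverse image of a section -/
theorem mem_germSupp_pull {X Y : Scheme.{u}} (f : X ⟶ Y) (F : EtCoh.Ab Y) (U : Y.Etale) (s : F.obj.obj (op U))
    (q : ((EtCoh.bc f).obj U).left) :
    q ∈ germSupp ((EtCoh.pull f).obj F) ((EtCoh.bc f).obj U)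
        ((((EtCoh.bc f).sheafAdjunctionContinuous AddCommGrpCat.{u + 1} Y.smallEtaleTopology
          X.smallEtaleTopology).unit.app F).hom.app (op U) s) ↔
      (pullback.fst U.hom f).base q ∈ germSupp F U s := by
  obtain ⟨Ω, _, _, ξ, z, rfl⟩ := exists_algClosed_point ((EtCoh.bc f).obj U) q
  let i := ((sheafFiberPullIso (A := AddCommGrpCat.{u + 1}) f ξ).app F).symm
  have hi : Function.Bijective i.hom := i.addCommGroupIsoToAddEquiv.bijective
  have e := ConcreteCategory.congr_hom (sheafFiberPullIso_germ f ξ F U z) s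
  have hp : ptOf (bcFiberEquiv f ξ U z) = (pullback.fst U.hom f).base (ptOf z) := Scheme.Hom.comp_apply _ _ _
  refine (mem_germSupp_iff _ z).trans (Iff.trans ?_ (iff_of_eq (congrArg (· ∈ germSupp F U s) hp)))
  rw [mem_germSupp_iff]
  exact not_congr ⟨fun h => hi.1 ((e.trans h).trans (map_zero i.hom.hom).symm),
    fun h => e.symm.trans ((congrArg i.hom h).trans (map_zero i.hom.hom))⟩

/-- constructibility descends along morphisms surjective through affines -/
theorem isConstructible_of_pull {X Y : Scheme.{u}} (f : X ⟶ Y)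
    (hcov : ∀ V : Y.Opens, IsAffineOpen V → ∃ t : Finset X.Opens, (∀ W ∈ t, IsAffineOpen W ∧ W ≤ f ⁻¹ᵁ V) ∧
      ∀ y ∈ V, ∃ W ∈ t, ∃ x ∈ W, f.base x = y)
    {F : EtCoh.Ab Y} (hF : EtPBC.IsConstructible ((EtCoh.pull f).obj F)) : EtPBC.IsConstructible F := by
  refine IsWeaklyConstructible.isConstructible ⟨fun Ω _ _ ξ => ?_, fun n => ?_, fun U s V hV A hA hAV => ?_⟩
  · obtain ⟨V, hV, hξV, -⟩ := exists_isAffineOpen_mem_and_subset (U := (⊤ : Y.Opens))
      (x := ξ.base (default : Spec (CommRingCat.of Ω))) trivial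
    obtain ⟨t, -, hsurj⟩ := hcov V hV
    obtain ⟨W, -, x, -, hx⟩ := hsurj _ hξV
    obtain ⟨k, _, _, z, e, he⟩ := exists_lift_extension f ξ ⟨x, hx⟩
    have := finite_stalk_of_isConstructible hF z
    obtain ⟨c⟩ := nonempty_stalk_equiv F (z ≫ f) ξ (by
      rw [← he]
      exact (Scheme.Hom.comp_apply _ _ _).trans (congrArg ξ.base
        (Subsingleton.elim (α := Spec (CommRingCat.of Ω)) _ _)))
    exact @Finite.of_equiv _ _ this (((stalkPullIso f z).app F).addCommGroupIsoToAddEquiv.toEquiv.trans c)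
  · have hP : ∀ A B : Type (u + 1), Nonempty (A ≃ B) → Nat.card A = n → Nat.card B = n :=
      fun A B ⟨e⟩ hA => (Nat.card_congr e).symm.trans hA
    intro y
    obtain ⟨V, hV, hyV, -⟩ := exists_isAffineOpen_mem_and_subset (U := (⊤ : Y.Opens)) (x := y) trivial
    refine ⟨V, V.2.mem_nhds hyV, V.2, ?_⟩
    obtain ⟨t, ht, hsurj⟩ := hcov V hV
    have : IsAffine V.toScheme := hV
    have hW : ∀ W : t, IsAffine W.1.toScheme := fun W => (ht W.1 W.2).1
    refine isConstructible_of_surjective_family (S := V.toScheme) (fun W : t => W.1.toScheme)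
      (fun W => Scheme.Hom.resLE f V W.1 (ht W.1 W.2).2) (fun s => ?_) fun W => ?_
    · obtain ⟨W, hW', x, hx, hfx⟩ := hsurj s.1 s.2
      refine ⟨⟨W, hW'⟩, ⟨x, hx⟩, Subtype.ext ?_⟩
      refine Eq.trans ?_ hfx
      show V.ι.base _ = _
      rw [← Scheme.Hom.comp_apply, Scheme.Hom.resLE_comp_ι]
      exact Scheme.Hom.comp_apply _ _ _
    · have h := (ht W.1 W.2).1
      have : CompactSpace ↥(W.1 : Set X) := isCompact_iff_compactSpace.1 h.isCompact
      have : QuasiSeparatedSpace ↥(W.1 : Set X) := (isQuasiSeparated_iff_quasiSeparatedSpace _ W.1.2).1 h.isQuasiSeparated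
      have : PrespectralSpace ↥(W.1 : Set X) := W.1.2.isOpenEmbedding_subtypeVal.prespectralSpace
      have h1 := ((isLocallyConstructible_stalkSet hF hP).preimage_of_isOpenEmbedding
        W.1.2.isOpenEmbedding_subtypeVal).isConstructible
      rw [← preimage_stalkSet f hP] at h1
      refine Eq.mp (congrArg IsConstructible ?_) h1
      ext x
      refine iff_of_eq (congrArg (· ∈ stalkSet F fun A => Nat.card A = n) ?_)
      refine ((Scheme.Hom.comp_apply (W.1.ι) f x).symm.trans ?_)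
      refine (congrArg (fun k : W.1.toScheme ⟶ Y => k.base x) (Scheme.Hom.resLE_comp_ι f (ht W.1 W.2).2).symm).trans ?_
      exact Scheme.Hom.comp_apply _ _ _
  · obtain ⟨t, ht, hsurj⟩ := hcov V hV
    have : IsAffine V.toScheme := hV
    have : IsAffine A.toScheme := hA
    have hW : ∀ W : t, IsAffine W.1.toScheme := fun W => (ht W.1 W.2).1
    let a : A.toScheme ⟶ V.toScheme := Scheme.Hom.resLE U.hom V A hAV
    let b : ∀ W : t, W.1.toScheme ⟶ V.toScheme := fun W => Scheme.Hom.resLE f V W.1 (ht W.1 W.2).2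
    have ha : a ≫ V.ι = A.ι ≫ U.hom := Scheme.Hom.resLE_comp_ι _ _
    have hb : ∀ W, b W ≫ V.ι = W.1.ι ≫ f := fun W => Scheme.Hom.resLE_comp_ι _ _
    refine isConstructible_of_surjective_family (S := A.toScheme) (fun W : t => pullback a (b W))
      (fun W => pullback.fst a (b W)) (fun s => ?_) fun W => ?_
    · obtain ⟨W, hW', x, hx, hfx⟩ := hsurj (U.hom.base s.1) (hAV s.2)
      have e : a.base s = (b ⟨W, hW'⟩).base ⟨x, hx⟩ := Subtype.ext (by
        show V.ι.base (a.base s) = V.ι.base ((b ⟨W, hW'⟩).base ⟨x, hx⟩)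
        rw [← Scheme.Hom.comp_apply, ← Scheme.Hom.comp_apply, ha, hb, Scheme.Hom.comp_apply, Scheme.Hom.comp_apply]
        exact hfx.symm)
      obtain ⟨p, hp, -⟩ := Scheme.Pullback.exists_preimage_pullback (f := a) (g := b ⟨W, hW'⟩) s ⟨x, hx⟩ e
      exact ⟨⟨W, hW'⟩, p, hp⟩
    · let P := (EtCoh.bc f).obj U
      let m : pullback a (b W) ⟶ P.left := pullback.map a (b W) U.hom f A.ι W.1.ι V.ι ha (hb W)
      haveI hm : IsOpenImmersion m := inferInstanceAs (IsOpenImmersion (pullback.map a (b W) U.hom f A.ι W.1.ι V.ι ha (hb W)))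
      have hA' : IsAffineOpen m.opensRange := isAffineOpen_opensRange m
      obtain ⟨W₀, hW₀, hWW₀⟩ : ∃ W₀ : X.Opens, IsAffineOpen W₀ ∧ m.opensRange ≤ P.hom ⁻¹ᵁ W₀ := by
        refine ⟨W.1, (ht W.1 W.2).1, ?_⟩
        rintro _ ⟨p, rfl⟩
        show P.hom.base (m.base p) ∈ W.1
        rw [← Scheme.Hom.comp_apply, show m ≫ P.hom = pullback.snd a (b W) ≫ W.1.ι from pullback.lift_snd _ _ _]
        exact ((Scheme.Hom.comp_apply _ _ _).symm ▸ ((pullback.snd a (b W)).base p).2)
      have h1 := isConstructible_germSupp hF P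
        ((((EtCoh.bc f).sheafAdjunctionContinuous AddCommGrpCat.{u + 1} Y.smallEtaleTopology
          X.smallEtaleTopology).unit.app F).hom.app (op U) s) hW₀ hA' hWW₀
      let ψ : ↥(pullback a (b W)) → ↥(m.opensRange : Set P.left) := fun p => ⟨m.base p, ⟨p, rfl⟩⟩
      have hψ : IsOpenEmbedding ψ := by
        refine .of_continuous_injective_isOpenMap (m.continuous.subtype_mk _)
          (fun p q e => m.isOpenEmbedding.injective (congrArg Subtype.val e)) fun O hO => ?_
        have e : ψ '' O = Subtype.val ⁻¹' (m.base '' O) := by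
          ext q
          exact ⟨fun ⟨p, hp, e⟩ => ⟨p, hp, congrArg Subtype.val e⟩, fun ⟨p, hp, e⟩ => ⟨p, hp, Subtype.ext e⟩⟩
        rw [e]
        exact (m.isOpenEmbedding.isOpenMap O hO).preimage continuous_subtype_val
      refine Eq.mp (congrArg IsConstructible ?_) (h1.preimage_of_isOpenEmbedding hψ)
      ext p
      refine (mem_germSupp_pull f F U s (m.base p)).trans (iff_of_eq (congrArg (· ∈ germSupp F U s) ?_))
      exact (Scheme.Hom.comp_apply _ _ _).symm.trans ((congrArg (fun k : pullback a (b W) ⟶ U.left => k.base p)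
        (pullback.lift_fst _ _ _)).trans (Scheme.Hom.comp_apply _ _ _))

end Groth.Agent.EtFound

namespace Groth.Agent.EtFound

set_option backward.isDefEq.respectTransparency.types false

/-- qcqs surjections satisfy the covering condition -/
theorem exists_affine_family_qc {X Y : Scheme.{u}} (f : X ⟶ Y) [QuasiCompact f] [Surjective f] (V : Y.Opens)
    (hV : IsAffineOpen V) : ∃ t : Finset X.Opens, (∀ W ∈ t, IsAffineOpen W ∧ W ≤ f ⁻¹ᵁ V) ∧
      ∀ y ∈ V, ∃ W ∈ t, ∃ x ∈ W, f.base x = y := by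
  classical
  choose W hW hxW hWle using fun x : ↥((f ⁻¹ᵁ V : X.Opens) : Set X) =>
    exists_isAffineOpen_mem_and_subset (U := f ⁻¹ᵁ V) (x := x.1) x.2
  obtain ⟨t, ht⟩ := (f.isCompact_preimage hV.isCompact).elim_finite_subcover
    (fun x => (W x : Set X)) (fun x => (W x).2) fun x hx => Set.mem_iUnion.2 ⟨⟨x, hx⟩, hxW _⟩
  refine ⟨t.image W, fun U hU => ?_, fun y hy => ?_⟩
  · obtain ⟨x, -, rfl⟩ := Finset.mem_image.1 hU
    exact ⟨hW x, hWle x⟩
  · obtain ⟨x, rfl⟩ := f.surjective y
    obtain ⟨i, hi, hxi⟩ : ∃ i ∈ t, x ∈ W i := by simpa using ht hy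
    exact ⟨W i, Finset.mem_image_of_mem _ hi, x, hxi, rfl⟩

/-- locally finitely presented surjections satisfy the covering condition -/
theorem exists_affine_family_lfp {X Y : Scheme.{u}} (f : X ⟶ Y) [LocallyOfFinitePresentation f] [Surjective f]
    (V : Y.Opens) (hV : IsAffineOpen V) : ∃ t : Finset X.Opens, (∀ W ∈ t, IsAffineOpen W ∧ W ≤ f ⁻¹ᵁ V) ∧
      ∀ y ∈ V, ∃ W ∈ t, ∃ x ∈ W, f.base x = y := by
  classical
  have : IsAffine V.toScheme := hV
  have := spectralSpace_of_isAffine V.toScheme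
  choose W hW hxW hWle using fun x : ↥((f ⁻¹ᵁ V : X.Opens) : Set X) =>
    exists_isAffineOpen_mem_and_subset (U := f ⁻¹ᵁ V) (x := x.1) x.2
  let φ := fun x => Scheme.Hom.resLE f V (W x) (hWle x)
  have hφ : ∀ x, IsConstructible (Set.range (φ x).base) := fun x => by
    have : IsAffine (W x).toScheme := hW x
    have : QuasiCompact (φ x) := (quasiCompact_iff_compactSpace (φ x)).2 inferInstance
    rw [← Set.image_univ]
    exact (φ x).isConstructible_image IsConstructible.univ
  have hval : ∀ x (q : (W x).toScheme), ((φ x).base q).1 = f.base q.1 := fun x q =>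
    (Scheme.Hom.comp_apply _ _ _).symm.trans ((congrArg (fun k : (W x).toScheme ⟶ Y => k.base q)
      (Scheme.Hom.resLE_comp_ι f (hWle x))).trans (Scheme.Hom.comp_apply _ _ _))
  obtain ⟨t, ht⟩ := exists_finite_cover (S := ↥V.toScheme) (fun x => Set.range (φ x).base) hφ fun s => by
    obtain ⟨x, hx⟩ := f.surjective s.1
    have hxV : x ∈ f ⁻¹ᵁ V := show f.base x ∈ V from hx ▸ s.2
    exact ⟨⟨x, hxV⟩, ⟨x, hxW _⟩, Subtype.ext ((hval ⟨x, hxV⟩ _).trans hx)⟩
  refine ⟨t.image W, fun U hU => ?_, fun y hy => ?_⟩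
  · obtain ⟨x, -, rfl⟩ := Finset.mem_image.1 hU
    exact ⟨hW x, hWle x⟩
  · obtain ⟨i, hi, q, hq⟩ := ht ⟨y, hy⟩
    exact ⟨W i, Finset.mem_image_of_mem _ hi, q.1, q.2, (hval i q).symm.trans (congrArg Subtype.val hq)⟩

end Groth.Agent.EtFound
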