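import Groth.Prelude.Def_WeakSerre
import Groth.Agent.ExtIso.Main
import Mathlib.Algebra.Homology.DerivedCategory.Ext.Map
import Mathlib.Algebra.Homology.DerivedCategory.TStructure
import Mathlib.Algebra.Homology.DerivedCategory.FullyFaithful

/-! every class in `Ext¹` is the class of an extension -/

universe w w' v v' u u'

open CategoryTheory

namespace Groth.Agent.EtFound

variable {C : Type u} [Category.{v} C] [Abelian C] [HasExt.{w} C]

theorem exists_shortExact_of_class {Q F : C} (x : Abelian.Ext.{w} Q F 1) :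
    ∃ (X : C) (i : F ⟶ X) (q : X ⟶ Q) (wiq : i ≫ q = 0) (hX : (ShortComplex.mk i q wiq).ShortExact),
      hX.extClass = x := by
  let D := HasDerivedCategory.standard C
  let S0 := DerivedCategory.singleFunctor C 0
  obtain ⟨Z, f', g', mem⟩ := Pretriangulated.distinguished_cocone_triangle₂ (x.hom : S0.obj Q ⟶ (S0.obj F)⟦(1 : ℤ)⟧)
  let T := Pretriangulated.Triangle.mk f' g' x.hom
  let H := fun n => DerivedCategory.homologyFunctor C n
  have hz : ∀ (A : C) (n : ℤ), n ≠ 0 → Limits.IsZero ((H n).obj (S0.obj A)) := by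
    intro A n hn
    rcases lt_or_gt_of_ne hn with hn | hn
    · exact (DerivedCategory.isGE_iff _ 0).1 inferInstance n hn
    · exact (DerivedCategory.isLE_iff _ 0).1 inferInstance n hn
  have hZ : ∀ n : ℤ, n ≠ 0 → Limits.IsZero ((H n).obj Z) := fun n hn =>
    (DerivedCategory.HomologySequence.exact₂ T mem n).isZero_of_both_zeros
      ((hz F n hn).eq_of_src _ _) ((hz Q n hn).eq_of_tgt _ _)
  haveI : Z.IsGE 0 := (DerivedCategory.isGE_iff _ 0).2 fun n hn => hZ n hn.ne
  haveI : Z.IsLE 0 := (DerivedCategory.isLE_iff _ 0).2 fun n hn => hZ n hn.ne'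
  obtain ⟨X, ⟨eX⟩⟩ := DerivedCategory.exists_iso_singleFunctor_obj_of_isGE_of_isLE Z 0
  let i : F ⟶ X := S0.preimage (f' ≫ eX.hom)
  let q : X ⟶ Q := S0.preimage (eX.inv ≫ g')
  have hi : S0.map i = f' ≫ eX.hom := S0.map_preimage _
  have hq : S0.map q = eX.inv ≫ g' := S0.map_preimage _
  have hfg : f' ≫ g' = 0 := Pretriangulated.comp_distTriang_mor_zero₁₂ T mem
  have wiq : i ≫ q = 0 := S0.map_injective (by
    rw [Functor.map_comp, hi, hq, Category.assoc, Iso.hom_inv_id_assoc, hfg, Functor.map_zero])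
  haveI : Mono ((H 0).map f') := by
    refine (DerivedCategory.HomologySequence.mono_homologyMap_mor₁_iff T mem (-1) 0 (by lia)).2 ?_
    exact (hz Q (-1) (by lia)).eq_of_src _ _
  haveI : Epi ((H 0).map g') := by
    refine (DerivedCategory.HomologySequence.epi_homologyMap_mor₂_iff T mem 0 1 (by lia)).2 ?_
    exact (hz F 1 (by lia)).eq_of_tgt _ _
  have hX : (ShortComplex.mk i q wiq).ShortExact := by
    let ι := DerivedCategory.singleFunctorCompHomologyFunctorIso C 0
    have w0 : (H 0).map f' ≫ (H 0).map g' = 0 := by rw [← Functor.map_comp, hfg, Functor.map_zero]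
    have hse : (ShortComplex.mk ((H 0).map f') ((H 0).map g') w0).ShortExact :=
      { exact := DerivedCategory.HomologySequence.exact₂ T mem 0, mono_f := ‹_›, epi_g := ‹_› }
    refine (ShortComplex.shortExact_iff_of_iso (ShortComplex.isoMk (ι.app F) ((H 0).mapIso eX ≪≫ ι.app X) (ι.app Q) ?_ ?_)).1 hse
    · have := ι.hom.naturality i
      simp only [Functor.comp_map, Functor.id_map] at this
      change ι.hom.app F ≫ i = (H 0).map f' ≫ (H 0).map eX.hom ≫ ι.hom.app X
      rw [← this, ← Category.assoc, ← Functor.map_comp]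
      exact congrArg (fun m => (H 0).map m ≫ _) hi
    · have := ι.hom.naturality q
      simp only [Functor.comp_map, Functor.id_map] at this
      change ((H 0).map eX.hom ≫ ι.hom.app X) ≫ q = (H 0).map g' ≫ ι.hom.app Q
      rw [Category.assoc, ← this, ← Category.assoc]
      refine congrArg (· ≫ _) ?_
      refine (Functor.map_comp _ _ _).symm.trans (congrArg (H 0).map ?_)
      erw [hq]
      rw [Iso.hom_inv_id_assoc]
  refine ⟨X, i, q, wiq, hX, Abelian.Ext.ext ?_⟩
  rw [ShortComplex.ShortExact.extClass_hom]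
  obtain ⟨t', ht1', ht2'⟩ := Pretriangulated.complete_distinguished_triangle_morphism T _ mem
    hX.singleTriangle_distinguished (𝟙 _) eX.hom (by
      change f' ≫ eX.hom = 𝟙 _ ≫ S0.map i
      rw [Category.id_comp, hi])
  let t : S0.obj Q ⟶ S0.obj Q := t'
  have ht1 : g' ≫ t = eX.hom ≫ S0.map q := ht1'
  have ht2 : x.hom ≫ (𝟙 (S0.obj F))⟦(1 : ℤ)⟧' = t ≫ hX.singleδ := ht2'
  rw [CategoryTheory.Functor.map_id] at ht2
  have hg : g' ≫ t = g' := by rw [ht1, hq, Iso.hom_inv_id_assoc]
  have hT : S0.preimage t = 𝟙 Q := by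
    haveI : Epi q := hX.epi_g
    refine (cancel_epi q).1 (S0.map_injective ?_)
    rw [Functor.map_comp, Functor.map_comp, hq, S0.map_preimage, Category.assoc, hg, CategoryTheory.Functor.map_id,
      Category.comp_id]
  have ht : t = 𝟙 _ := by rw [← S0.map_preimage t, hT, CategoryTheory.Functor.map_id]
  rw [ht, Category.id_comp] at ht2
  exact ht2.symm.trans (Category.comp_id _)

variable {D : Type u'} [Category.{v'} D] [Abelian D] [HasExt.{w'} D] (L : C ⥤ D) [L.Additive]
  [Limits.PreservesFiniteLimits L] [Limits.PreservesFiniteColimits L]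

/-- the image of a weak Serre subcategory under an exact fully faithful functor bijective on `Ext¹` -/
theorem isWeakSerre_image [L.Full] [L.Faithful]
    (hL : ∀ Q F : C, Function.Surjective (fun x : Abelian.Ext.{w} Q F 1 => x.mapExactFunctor L))
    (S : ObjectProperty C) [WSerre.IsWeakSerre S] :
    WSerre.IsWeakSerre (fun A : D => ∃ G : C, S G ∧ Nonempty (L.obj G ≅ A)) where
  exists_zero := by
    obtain ⟨Z, hZ, hS⟩ := S.exists_prop_of_containsZero
    exact ⟨L.obj Z, L.map_isZero hZ, Z, hS, ⟨Iso.refl _⟩⟩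
  kernels_le := by
    rintro A ⟨f, k, hk, ⟨G, hG, ⟨e⟩⟩, ⟨G', hG', ⟨e'⟩⟩⟩
    obtain ⟨g, hg⟩ := L.map_surjective (e.hom ≫ f ≫ e'.inv)
    refine ⟨Limits.kernel g, S.prop_kernel g hG hG', ⟨Limits.PreservesKernel.iso L g ≪≫
      Limits.kernel.mapIso (L.map g) f e e' ?_ ≪≫ Limits.IsLimit.conePointUniqueUpToIso (Limits.limit.isLimit _) hk⟩⟩
    rw [hg, Category.assoc, Category.assoc, Iso.inv_hom_id, Category.comp_id]
  cokernels_le := by
    rintro A ⟨f, k, hk, ⟨G, hG, ⟨e⟩⟩, ⟨G', hG', ⟨e'⟩⟩⟩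
    obtain ⟨g, hg⟩ := L.map_surjective (e.hom ≫ f ≫ e'.inv)
    refine ⟨Limits.cokernel g, S.prop_cokernel g hG hG', ⟨Limits.PreservesCokernel.iso L g ≪≫
      Limits.cokernel.mapIso (L.map g) f e e' ?_ ≪≫
        Limits.IsColimit.coconePointUniqueUpToIso (Limits.colimit.isColimit _) hk⟩⟩
    rw [hg, Category.assoc, Category.assoc, Iso.inv_hom_id, Category.comp_id]
  prop_X₂_of_shortExact := by
    intro T hT h1 h3
    obtain ⟨G₁, hS₁, ⟨e₁⟩⟩ := h1
    obtain ⟨G₃, hS₃, ⟨e₃⟩⟩ := h3
    let T' : ShortComplex D := ShortComplex.mk (e₁.hom ≫ T.f) (T.g ≫ e₃.inv) (by simp)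
    let φ : T' ≅ T := ShortComplex.isoMk e₁ (Iso.refl _) e₃ (by simp [T']) (by simp [T'])
    have hT' : T'.ShortExact := (ShortComplex.shortExact_iff_of_iso φ).2 hT
    obtain ⟨x, hx⟩ := hL G₃ G₁ hT'.extClass
    obtain ⟨X, i, q, w, hX, rfl⟩ := exists_shortExact_of_class x
    have hLX := hX.map_of_exact L
    have hcl : hLX.extClass = hT'.extClass := (Abelian.Ext.mapExactFunctor_extClass L hX).symm.trans hx
    obtain ⟨e, -, -⟩ := ExtIso.exists_iso_of_extClass_eq hLX hT' hcl
    exact ⟨X, S.prop_X₂_of_shortExact hX hS₁ hS₃, ⟨e⟩⟩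

end Groth.Agent.EtFound
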