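import Groth.Agent.EtFound.GermSupp

/-! finite local constancy near a point -/

universe u

open CategoryTheory CategoryTheory.Limits AlgebraicGeometry Opposite Topology

namespace Groth.Agent.EtFound

set_option backward.isDefEq.respectTransparency.types false

variable {X : Scheme.{u}}

/-- constant germs make the inverse image to the image finite locally constant -/
theorem flc_pull_of_finConst {F : EtCoh.Ab X} {U : X.Etale} {S} (hS : FinConst F U S) (O : X.Opens)
    (hO : (O : Set X) ⊆ Set.range U.hom.base) : EtCoh.IsFiniteLocallyConstant ((EtCoh.pull O.ι).obj F) := by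
  have := hS.1
  refine (isFiniteLocallyConstant_iff _).2 fun y => ?_
  obtain ⟨z, hz⟩ : O.ι.base y ∈ Set.range U.hom.base := hO y.2
  obtain ⟨w, -, hw⟩ := Scheme.Pullback.exists_preimage_pullback (f := U.hom) (g := O.ι) z y hz
  exact ⟨_, w, hw, _, finConst_range (constBy_pull O.ι
    (φ := (AddCommGrpCat.ofHom S.subtype : AddCommGrpCat.of S ⟶ F.obj.obj (op U)))
    (fun Ω _ _ ξ z => hS.2 Ω ξ z))⟩

/-- finite local constancy near a point means bijective specialisation maps into it -/
theorem flc_near_iff {F : EtCoh.Ab X} (hF : EtPBC.IsConstructible F) {Ω : Type u} [Field Ω] [IsSepClosed Ω]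
    (ξ : Spec (CommRingCat.of Ω) ⟶ X) :
    (∃ O : X.Opens, ξ.base (default : Spec (CommRingCat.of Ω)) ∈ O ∧
        EtCoh.IsFiniteLocallyConstant ((EtCoh.pull O.ι).obj F)) ↔
      ∀ (Ω' : Type u) [Field Ω'] [IsSepClosed Ω'] (ξ' : Spec (CommRingCat.of Ω') ⟶ X)
        (φ : Scheme.pointSmallEtale ξ' ⟶ Scheme.pointSmallEtale ξ),
        Function.Bijective ((GrothendieckTopology.Point.Hom.sheafFiber (A := AddCommGrpCat.{u + 1}) φ).app F) := by
  have : Finite ((EtCoh.stalk ξ).obj F) := finite_stalk_of_isConstructible hF ξ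
  obtain ⟨U, u, l, hl⟩ := exists_stalk_sections (F := F) ξ
  have : AlgebraicGeometry.Etale U.hom := U.prop
  have hlinj : Function.Injective l := fun a b e => (hl a).symm.trans ((congrArg _ e).trans (hl b))
  have : Finite l.range := Finite.of_surjective l.rangeRestrict l.rangeRestrict_surjective
  have hu : Function.Bijective fun s : l.range => (Scheme.pointSmallEtale ξ).toPresheafFiber U u F.obj s.1 :=
    ⟨fun ⟨_, a, rfl⟩ ⟨_, b, rfl⟩ e => Subtype.ext (congrArg l ((hl a).symm.trans (e.trans (hl b)))),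
      fun c => ⟨⟨l c, c, rfl⟩, hl c⟩⟩
  have hsupp : ∀ c, c ≠ 0 → ptOf u ∈ germSupp F U (l c) := fun c hc => by
    rw [mem_germSupp_iff, hl]
    exact hc
  let n := Nat.card ((EtCoh.stalk ξ).obj F)
  have hP : ∀ A B : Type (u + 1), Nonempty (A ≃ B) → Nat.card A = n → Nat.card B = n :=
    fun A B ⟨e⟩ hA => (Nat.card_congr e).symm.trans hA
  have hcard : Nat.card l.range = n := Nat.card_eq_of_bijective _ hu
  -- injectivity plus the right order give bijectivity
  have hbij : ∀ {k : Type u} [Field k] [IsSepClosed k] {η : Spec (CommRingCat.of k) ⟶ X}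
      (z : (Scheme.pointSmallEtale η).fiber.obj U), (∀ c, c ≠ 0 → ptOf z ∈ germSupp F U (l c)) →
      Nat.card ((EtCoh.stalk η).obj F) = n →
        Function.Bijective fun s : l.range => (Scheme.pointSmallEtale η).toPresheafFiber U z F.obj s.1 := by
    intro k _ _ η z hz hn
    have hfin : Finite ((EtCoh.stalk η).obj F) := finite_stalk_of_isConstructible hF η
    refine @Function.Injective.bijective_of_nat_card_le _ _ hfin _ ?_ (hn.trans hcard.symm).le
    rintro ⟨_, a, rfl⟩ ⟨_, b, rfl⟩ e
    refine Subtype.ext (congrArg l (sub_eq_zero.1 (by_contra fun hab => (mem_germSupp_iff _ z).1 (hz _ hab) ?_)))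
    rw [map_sub, map_sub, sub_eq_zero]
    exact e
  constructor
  · rintro ⟨O, hξO, hO⟩ Ω' _ _ ξ' φ
    let v := φ.hom.app U u
    have hvu : ptOf v ⤳ ptOf u := ptOf_specializes φ u
    have hr : ξ.base (default : Spec (CommRingCat.of Ω)) ∈ Set.range O.ι.base := by rwa [O.range_ι]
    have hξξ' : ξ'.base (default : Spec (CommRingCat.of Ω')) ⤳ ξ.base (default : Spec (CommRingCat.of Ω)) := by
      rw [← hom_ptOf v, ← hom_ptOf u]
      exact hvu.map U.hom.continuous
    have hξ'O : ξ'.base (default : Spec (CommRingCat.of Ω')) ∈ O := hξξ'.mem_open O.2 hξO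
    have hv : Function.Bijective fun s : l.range => (Scheme.pointSmallEtale ξ').toPresheafFiber U v F.obj s.1 := by
      refine hbij v (fun c hc => ?_) ?_
      · obtain ⟨O', hO', hOe⟩ := exists_isOpen_germSupp O.ι hO U (l c)
        rw [O.range_ι] at hOe
        have h1 := hOe.ge ⟨show U.hom.base (ptOf u) ∈ O from (hom_ptOf u).symm ▸ hξO, hsupp c hc⟩
        exact (hOe.le ⟨show U.hom.base (ptOf v) ∈ O from (hom_ptOf v).symm ▸ hξ'O, hvu.mem_open hO' h1.2⟩).2
      · obtain ⟨a, ha⟩ := hr
        obtain ⟨b, hb⟩ : ξ'.base (default : Spec (CommRingCat.of Ω')) ∈ Set.range O.ι.base := by rwa [O.range_ι]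
        refine (mem_stalkSet_iff hP ξ').1 ?_
        rw [← hb]
        have hab : b ⤳ a := O.ι.isEmbedding.isInducing.specializes_iff.1 (ha.symm ▸ hb.symm ▸ hξξ')
        refine hab.mem_open (s := O.ι.base ⁻¹' stalkSet F fun A => Nat.card A = n) ?_ ?_
        · rw [preimage_stalkSet O.ι hP]
          exact isOpen_stalkSet hO hP
        · refine Set.mem_preimage.2 ?_
          rw [ha]
          exact (mem_stalkSet_iff hP ξ).2 rfl
    refine (Function.Bijective.of_comp_iff _ hu).1 ?_
    exact Eq.mp (congrArg Function.Bijective (funext fun s : l.range => (sheafFiber_germ φ F u s.1).symm)) hv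
  · intro hφ
    obtain ⟨V, hV, hxV, -⟩ := exists_isAffineOpen_mem_and_subset (U := (⊤ : X.Opens))
      (x := U.hom.base (ptOf u)) trivial
    obtain ⟨A, hA, hpA, hAV⟩ := exists_isAffineOpen_mem_and_subset
      (U := (U.hom ⁻¹ᵁ V : U.left.Opens)) (x := ptOf u) hxV
    have : CompactSpace ↥(A : Set U.left) := isCompact_iff_compactSpace.1 hA.isCompact
    have : QuasiSeparatedSpace ↥(A : Set U.left) :=
      (isQuasiSeparated_iff_quasiSeparatedSpace _ A.2).1 hA.isQuasiSeparated
    have : PrespectralSpace ↥(A : Set U.left) := A.2.isOpenEmbedding_subtypeVal.prespectralSpace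
    have : QuasiSober ↥(A : Set U.left) := A.2.isOpenEmbedding_subtypeVal.quasiSober
    let val : ↥(A : Set U.left) → U.left := Subtype.val
    let K : Set ↥(A : Set U.left) := val ⁻¹' stalkSet ((EtCoh.pull U.hom).obj F) fun A => Nat.card A = n
    let Good : Set ↥(A : Set U.left) := K ∩ ⋂ c : {c : (EtCoh.stalk ξ).obj F // c ≠ 0}, val ⁻¹' germSupp F U (l c.1)
    have hGood : IsConstructible Good := by
      refine IsConstructible.inter ?_ (IsConstructible.iInter fun c =>
        isConstructible_germSupp hF U _ hV hA hAV)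
      exact ((isLocallyConstructible_stalkSet (isConstructible_pull U.hom hF) hP).preimage_of_isOpenEmbedding
        A.2.isOpenEmbedding_subtypeVal).isConstructible
    have hmemK : ∀ {k : Type u} [Field k] [IsSepClosed k] {η : Spec (CommRingCat.of k) ⟶ X}
        (z : (Scheme.pointSmallEtale η).fiber.obj U),
        ptOf z ∈ stalkSet ((EtCoh.pull U.hom).obj F) (fun A => Nat.card A = n) ↔
          Nat.card ((EtCoh.stalk η).obj F) = n := fun {k} _ _ {η} z => by
      rw [← preimage_stalkSet U.hom hP, Set.mem_preimage, hom_ptOf z, mem_stalkSet_iff hP]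
    -- no bad point specialises to the given one
    have hp : (⟨ptOf u, hpA⟩ : ↥(A : Set U.left)) ∉ closure Goodᶜ := fun h => by
      obtain ⟨q, hq, hqp⟩ := (SpecLib.cons_clopen hGood.compl).1.exists_specializes h
      obtain ⟨L, _, _, θ, w, hw⟩ := exists_algClosed_point U q.1
      obtain ⟨φ, hφw⟩ := exists_pointHom ξ θ u w ((specializes_of_eq hw).trans (hqp.map continuous_subtype_val))
      have hb : Function.Bijective fun s : l.range => (Scheme.pointSmallEtale θ).toPresheafFiber U w F.obj s.1 := by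
        refine Eq.mp (congrArg Function.Bijective (funext fun s : l.range => ?_)) ((hφ L θ φ).comp hu)
        rw [← hφw]
        exact sheafFiber_germ φ F u s.1
      refine hq ⟨?_, Set.mem_iInter.2 fun c => ?_⟩
      · show val q ∈ stalkSet ((EtCoh.pull U.hom).obj F) (fun B => Nat.card B = n)
        rw [show val q = ptOf w from hw.symm]
        exact (hmemK w).2 ((Nat.card_eq_of_bijective _ hb).symm.trans hcard)
      · show val q ∈ germSupp F U (l c.1)
        rw [show val q = ptOf w from hw.symm]
        refine (mem_germSupp_iff _ w).2 fun h0 => c.2 ?_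
        have h1 : l c.1 = 0 := congrArg Subtype.val (hb.1 (a₁ := ⟨_, c.1, rfl⟩) (a₂ := 0)
          (h0.trans (map_zero ((Scheme.pointSmallEtale θ).toPresheafFiber U w F.obj).hom).symm))
        exact hlinj (h1.trans (map_zero l).symm)
    let W : U.left.Opens := ⟨val '' (closure Goodᶜ)ᶜ, A.2.isOpenMap_subtype_val _ isClosed_closure.isOpen_compl⟩
    let U' : X.Etale := Scheme.Etale.mk (W.ι ≫ U.hom)
    let r : U' ⟶ U := MorphismProperty.Over.homMk W.ι rfl
    let O : X.Opens := ⟨U.hom.base '' (W : Set U.left), U.hom.isOpenMap (W : Set U.left) W.2⟩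
    have hS' : FinConst F U' (l.range.map (F.obj.map r.op).hom) := by
      let e : l.range → l.range.map (F.obj.map r.op).hom := fun s => ⟨F.obj.map r.op s.1, AddSubgroup.mem_map_of_mem _ s.2⟩
      have he : Function.Surjective e := fun ⟨_, s, hs, rfl⟩ => ⟨⟨s, hs⟩, rfl⟩
      refine ⟨Finite.of_surjective e he, fun k _ _ ζ z => ?_⟩
      obtain ⟨a, ha, hae⟩ : ptOf ((Scheme.pointSmallEtale ζ).fiber.map r z) ∈ W := (ptOf_map r z).symm ▸ (ptOf z).2
      have hg : a ∈ Good := Classical.not_not.1 fun h => ha (subset_closure h)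
      have hb := hbij ((Scheme.pointSmallEtale ζ).fiber.map r z) (fun c hc => Set.mem_of_eq_of_mem hae.symm (Set.mem_iInter.1 hg.2 ⟨c, hc⟩))
        ((hmemK _).1 (Set.mem_of_eq_of_mem hae.symm hg.1))
      let T := fun t : l.range.map (F.obj.map r.op).hom => (Scheme.pointSmallEtale ζ).toPresheafFiber U' z F.obj t.1
      have hT : Function.Bijective (T ∘ e) := by
        refine Eq.mp (congrArg Function.Bijective (funext fun s => ?_)) hb
        exact ((Scheme.pointSmallEtale ζ).toPresheafFiber_w_apply r z F.obj s.1).symm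
      exact ⟨Function.Injective.of_comp_right hT.1 he, Function.Surjective.of_comp hT.2⟩
    refine ⟨O, ⟨ptOf u, ⟨_, hp, rfl⟩, hom_ptOf u⟩, flc_pull_of_finConst hS' O ?_⟩
    rintro _ ⟨q, hq, rfl⟩
    exact ⟨(⟨q, hq⟩ : W.toScheme), Scheme.Hom.comp_apply _ _ _⟩

end Groth.Agent.EtFound
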