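import Mathlib.CategoryTheory.Sites.Limits
import Mathlib.CategoryTheory.Sites.LocallyBijective
import Mathlib.CategoryTheory.Limits.Types.Filtered
import Mathlib.Algebra.Category.Grp.FilteredColimits
import Mathlib.Algebra.Category.Grp.Colimits
import Mathlib.Algebra.Category.Grp.Limits
import Mathlib.CategoryTheory.Sites.ConcreteSheafification
import Mathlib.CategoryTheory.Limits.Shapes.Pullback.HasPullback
import Mathlib.Data.Finset.Basic
import Mathlib.CategoryTheory.Filtered.Basic

/-!
# Sections over quasi-compact quasi-separated objects of filtered colimits of sheaves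
-/

universe w v u

open CategoryTheory CategoryTheory.Limits Opposite

namespace Groth.Agent.EtFound.FilteredSectionsGen

variable {C : Type u} [Category.{v} C] [HasPullbacks C] {J : GrothendieckTopology C}
  {I : Type w} [Category.{w} I] [IsFiltered I]

variable (J) in
/-- Objects all whose coverings have finite refinements with quasi-compact members and overlaps. -/
def HasFiniteRefinements (B : C → Prop) : Prop :=
  ∀ U : C, B U → ∀ S : Sieve U, S ∈ J U → ∃ (n : ℕ) (V : Fin n → C) (g : ∀ k, V k ⟶ U),
    (∀ k, S (g k)) ∧ Sieve.ofArrows V g ∈ J U ∧ (∀ k, B (V k)) ∧ ∀ k l, B (pullback (g k) (g l))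

section Colimit

variable {K : I ⥤ Cᵒᵖ ⥤ Type w} (hK : ∀ i, Presieve.IsSheaf J (K.obj i))
  {c : Cocone K} (hc : ∀ X : Cᵒᵖ, IsColimit (((evaluation Cᵒᵖ (Type w)).obj X).mapCocone c))

include hK hc

omit [HasPullbacks C] in
lemma exists_stage_eq (i : I) {W : C} (a b : (K.obj i).obj (op W))
    (h : (c.ι.app i).app (op W) a = (c.ι.app i).app (op W) b) :
    ∃ (j : I) (f : i ⟶ j), (K.map f).app (op W) a = (K.map f).app (op W) b := by
  obtain ⟨j, f, g, hfg⟩ := (Types.FilteredColimit.isColimit_eq_iff _ (hc (op W))).mp h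
  refine ⟨IsFiltered.coeq f g, f ≫ IsFiltered.coeqHom f g, ?_⟩
  have e := congrArg ((K.map (IsFiltered.coeqHom f g)).app (op W)) hfg
  change (K.map _).app _ ((K.map f).app _ a) = (K.map _).app _ ((K.map g).app _ b) at e
  rw [← NatTrans.comp_app_apply, ← NatTrans.comp_app_apply, ← K.map_comp, ← K.map_comp] at e
  conv_rhs => rw [IsFiltered.coeq_condition f g]
  exact e

omit [HasPullbacks C] in
lemma exists_stage_eqs (i : I) {N : Type} (s : Finset N) (W : N → C)
    (a b : ∀ k, (K.obj i).obj (op (W k)))
    (h : ∀ k ∈ s, (c.ι.app i).app (op (W k)) (a k) = (c.ι.app i).app (op (W k)) (b k)) :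
    ∃ (j : I) (f : i ⟶ j), ∀ k ∈ s, (K.map f).app (op (W k)) (a k) = (K.map f).app (op (W k)) (b k) := by
  classical
  induction s using Finset.induction with
  | empty => exact ⟨i, 𝟙 i, fun k hk => absurd hk (Finset.notMem_empty k)⟩
  | @insert k s _ ih =>
    obtain ⟨j, f, hf⟩ := ih fun l hl => h l (Finset.mem_insert_of_mem hl)
    have hw : ∀ x, (c.ι.app j).app (op (W k)) ((K.map f).app (op (W k)) x) =
        (c.ι.app i).app (op (W k)) x := fun x => by
      rw [← NatTrans.comp_app_apply, c.w f]
    obtain ⟨j', f', hf'⟩ := exists_stage_eq hK hc j ((K.map f).app _ (a k)) ((K.map f).app _ (b k)) (by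
      rw [hw, hw]; exact h k (Finset.mem_insert_self _ _))
    refine ⟨j', f ≫ f', fun l hl => ?_⟩
    rw [K.map_comp, NatTrans.comp_app_apply, NatTrans.comp_app_apply]
    rcases Finset.mem_insert.mp hl with rfl | hl
    · exact hf'
    · rw [hf l hl]

omit [HasPullbacks C] in
/-- The colimit presheaf is separated for finite covers. -/
theorem separated_finite {X : C} {n : ℕ} (V : Fin n → C) (g : ∀ k, V k ⟶ X)
    (hg : Sieve.ofArrows V g ∈ J X) (x y : c.pt.obj (op X))
    (h : ∀ k, c.pt.map (g k).op x = c.pt.map (g k).op y) : x = y := by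
  obtain ⟨i₁, a₁, rfl⟩ := Types.jointly_surjective _ (hc (op X)) x
  obtain ⟨i₂, a₂, rfl⟩ := Types.jointly_surjective _ (hc (op X)) y
  let i := IsFiltered.max i₁ i₂
  let a := (K.map (IsFiltered.leftToMax i₁ i₂)).app (op X) a₁
  let b := (K.map (IsFiltered.rightToMax i₁ i₂)).app (op X) a₂
  have ha : (c.ι.app i).app (op X) a = (c.ι.app i₁).app (op X) a₁ := by
    show (c.ι.app i).app _ ((K.map _).app _ _) = _
    rw [← NatTrans.comp_app_apply, c.w]
  have hb : (c.ι.app i).app (op X) b = (c.ι.app i₂).app (op X) a₂ := by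
    show (c.ι.app i).app _ ((K.map _).app _ _) = _
    rw [← NatTrans.comp_app_apply, c.w]
  change (c.ι.app i₁).app (op X) a₁ = (c.ι.app i₂).app (op X) a₂
  change ∀ k, c.pt.map (g k).op ((c.ι.app i₁).app (op X) a₁) =
    c.pt.map (g k).op ((c.ι.app i₂).app (op X) a₂) at h
  rw [← ha, ← hb] at h ⊢
  obtain ⟨j, f, hf⟩ := exists_stage_eqs hK hc i Finset.univ V
    (fun k => (K.obj i).map (g k).op a) (fun k => (K.obj i).map (g k).op b) fun k _ => by
      rw [NatTrans.naturality_apply, NatTrans.naturality_apply]; exact h k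
  rw [← c.w f, NatTrans.comp_app_apply, NatTrans.comp_app_apply]
  refine congrArg ((c.ι.app j).app (op X)) ?_
  refine (((Presieve.isSheafFor_iff_generate _).2 ((hK j) _ hg)).isSeparatedFor.ext fun W w hw => ?_)
  obtain ⟨k⟩ := hw
  have e := hf k (Finset.mem_univ k)
  rwa [NatTrans.naturality_apply, NatTrans.naturality_apply] at e

/-- Finite compatible families in the colimit presheaf glue. -/
theorem exists_glue_finite {X : C} {n : ℕ} (V : Fin n → C) (g : ∀ k, V k ⟶ X)
    (hg : Sieve.ofArrows V g ∈ J X) (x : ∀ k, c.pt.obj (op (V k)))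
    (h : ∀ k l, c.pt.map (pullback.fst (g k) (g l)).op (x k) = c.pt.map (pullback.snd (g k) (g l)).op (x l)) :
    ∃ y, ∀ k, c.pt.map (g k).op y = x k := by
  classical
  choose i₀ a₀ ha₀ using fun k => Types.jointly_surjective _ (hc (op (V k))) (x k)
  obtain ⟨i, hi⟩ := IsFiltered.sup_objs_exists (Finset.univ.image i₀)
  let b : ∀ k, (K.obj i).obj (op (V k)) := fun k =>
    (K.map (hi (Finset.mem_image_of_mem i₀ (Finset.mem_univ k))).some).app _ (a₀ k)
  have hb : ∀ k, (c.ι.app i).app _ (b k) = x k := fun k => by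
    show (c.ι.app i).app _ ((K.map _).app _ _) = _
    rw [← NatTrans.comp_app_apply, c.w]
    exact ha₀ k
  obtain ⟨j, f, hf⟩ := exists_stage_eqs hK hc i Finset.univ
    (fun p : Fin n × Fin n => pullback (g p.1) (g p.2))
    (fun p => (K.obj i).map (pullback.fst (g p.1) (g p.2)).op (b p.1))
    (fun p => (K.obj i).map (pullback.snd (g p.1) (g p.2)).op (b p.2)) fun p _ => by
      rw [NatTrans.naturality_apply, NatTrans.naturality_apply, hb, hb]
      exact h p.1 p.2
  have hcompat : Presieve.Arrows.PullbackCompatible (K.obj j) g (fun k => (K.map f).app _ (b k)) := by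
    intro k l
    have e := hf (k, l) (Finset.mem_univ _)
    rwa [NatTrans.naturality_apply, NatTrans.naturality_apply] at e
  obtain ⟨a, ha, -⟩ := (Presieve.isSheafFor_arrows_iff_pullbacks _ _).1
    ((Presieve.isSheafFor_iff_generate _).2 ((hK j) _ hg)) _ hcompat
  refine ⟨(c.ι.app j).app _ a, fun k => ?_⟩
  rw [← NatTrans.naturality_apply, ha k, ← NatTrans.comp_app_apply, c.w, hb]

variable {B : C → Prop} (hB : HasFiniteRefinements J B) {Q : Cᵒᵖ ⥤ Type w} (η : c.pt ⟶ Q)
  (hinj : ∀ (X : C) (x y : c.pt.obj (op X)), η.app _ x = η.app _ y →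
    ∃ R ∈ J X, ∀ ⦃W : C⦄ (g : W ⟶ X), R g → c.pt.map g.op x = c.pt.map g.op y)
  (hsurj : ∀ (X : C) (s : Q.obj (op X)), ∃ R ∈ J X, ∀ ⦃W : C⦄ (g : W ⟶ X), R g →
    ∃ x, η.app _ x = Q.map g.op s)

include hB hinj

theorem injective_app {U : C} (hU : B U) : Function.Injective (η.app (op U)) := by
  intro x y h
  obtain ⟨R, hR, hxy⟩ := hinj U x y h
  obtain ⟨n, V, g, hgR, hg, -, -⟩ := hB U hU R hR
  exact separated_finite hK hc V g hg x y fun k => hxy _ (hgR k)

include hsurj

/-- A locally bijective map to a separated presheaf is bijective on the good objects. -/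
theorem bijective_app (hQ : Presieve.IsSeparated J Q) {U : C} (hU : B U) :
    Function.Bijective (η.app (op U)) := by
  refine ⟨injective_app hK hc hB η hinj hU, fun s => ?_⟩
  obtain ⟨R, hR, hs⟩ := hsurj U s
  obtain ⟨n, V, g, hgR, hg, -, hW⟩ := hB U hU R hR
  choose x hx using fun k => hs (g k) (hgR k)
  obtain ⟨y, hy⟩ := exists_glue_finite hK hc V g hg x fun k l =>
    injective_app hK hc hB η hinj (hW k l) (by
      rw [NatTrans.naturality_apply, NatTrans.naturality_apply, hx, hx, ← Functor.map_comp_apply,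
        ← Functor.map_comp_apply, ← op_comp, ← op_comp, pullback.condition])
  refine ⟨y, (hQ _ hg).ext fun W w hw => ?_⟩
  obtain ⟨Z, p, q, ⟨k⟩, rfl⟩ := hw
  rw [op_comp, Functor.map_comp_apply, Functor.map_comp_apply, ← NatTrans.naturality_apply, hy k, hx k]

end Colimit

section Sheaf

variable {B : C → Prop} (hB : HasFiniteRefinements J B)

include hB

/-- Sections over the good objects commute with filtered colimits of sheaves of sets. -/
theorem preservesColimitsOfShape_sections_type [HasSheafify J (Type w)]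
    [J.WEqualsLocallyBijective (Type w)] {U : C} (hU : B U) :
    PreservesColimitsOfShape I (sheafToPresheaf J (Type w) ⋙ (evaluation Cᵒᵖ (Type w)).obj (op U)) where
  preservesColimit {K} := by
    let c := colimit.cocone (K ⋙ sheafToPresheaf J (Type w))
    have hc : ∀ X : Cᵒᵖ, IsColimit (((evaluation Cᵒᵖ (Type w)).obj X).mapCocone c) :=
      fun X => isColimitOfPreserves _ (colimit.isColimit _)
    have hb := bijective_app (J := J) (fun i => (isSheaf_iff_isSheaf_of_type J _).1 (K.obj i).property)
      hc hB (toSheafify J c.pt)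
      (fun X x y h => ⟨Presheaf.equalizerSieve (F := c.pt) (X := op X) x y,
        Presheaf.equalizerSieve_mem J (toSheafify J c.pt) (X := op X) x y h, fun W g hg => hg⟩)
      (fun X s => ⟨Presheaf.imageSieve (toSheafify J c.pt) (U := X) s,
        Presheaf.imageSieve_mem J (toSheafify J c.pt) (U := op X) s, fun W g hg => hg⟩)
      ((isSheaf_iff_isSheaf_of_type J _).1 ((presheafToSheaf J (Type w)).obj c.pt).property).isSeparated hU
    let e := (Equiv.ofBijective _ hb).toIso
    refine preservesColimit_of_preserves_colimit_cocone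
      (Sheaf.isColimitSheafifyCocone c (colimit.isColimit _)) ?_
    refine (hc (op U)).ofIsoColimit (Cocone.ext e fun i => ?_)
    exact (NatTrans.congr_app (Sheaf.sheafifyCocone_ι_app_val c i) (op U)).symm

/-- Sections over the good objects commute with filtered colimits of abelian sheaves. -/
theorem preservesColimitsOfShape_sections_ab [HasSheafify J AddCommGrpCat.{w}]
    [J.WEqualsLocallyBijective AddCommGrpCat.{w}] [J.HasSheafCompose (forget AddCommGrpCat.{w})]
    {U : C} (hU : B U) :
    PreservesColimitsOfShape I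
      (sheafToPresheaf J AddCommGrpCat.{w} ⋙ (evaluation Cᵒᵖ AddCommGrpCat.{w}).obj (op U)) where
  preservesColimit {K} := by
    let c := colimit.cocone (K ⋙ sheafToPresheaf J AddCommGrpCat.{w})
    have hc : ∀ X : Cᵒᵖ, IsColimit (((evaluation Cᵒᵖ AddCommGrpCat.{w}).obj X).mapCocone c) :=
      fun X => isColimitOfPreserves _ (colimit.isColimit _)
    let Φ := (Functor.whiskeringRight Cᵒᵖ AddCommGrpCat.{w} (Type w)).obj (forget AddCommGrpCat.{w})
    have hb := bijective_app (J := J) (K := (K ⋙ sheafToPresheaf J AddCommGrpCat.{w}) ⋙ Φ)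
      (fun i => (isSheaf_iff_isSheaf_of_type J _).1
        (((sheafCompose J (forget AddCommGrpCat.{w})).obj (K.obj i)).property))
      (c := Φ.mapCocone c) (fun X => isColimitOfPreserves (forget AddCommGrpCat.{w}) (hc X)) hB
      (Functor.whiskerRight (toSheafify J c.pt) (forget AddCommGrpCat.{w}))
      (fun X x y h => ⟨Presheaf.equalizerSieve (F := c.pt) (X := op X) x y,
        Presheaf.equalizerSieve_mem J (toSheafify J c.pt) (X := op X) x y h, fun W g hg => hg⟩)
      (fun X s => ⟨Presheaf.imageSieve (toSheafify J c.pt) (U := X) s,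
        Presheaf.imageSieve_mem J (toSheafify J c.pt) (U := op X) s, fun W g hg => hg⟩)
      ((isSheaf_iff_isSheaf_of_type J _).1 (((sheafCompose J (forget AddCommGrpCat.{w})).obj
        ((presheafToSheaf J AddCommGrpCat.{w}).obj c.pt)).property)).isSeparated hU
    have : IsIso ((toSheafify J c.pt).app (op U)) := (ConcreteCategory.isIso_iff_bijective _).2 hb
    refine preservesColimit_of_preserves_colimit_cocone
      (Sheaf.isColimitSheafifyCocone c (colimit.isColimit _)) ?_
    refine (hc (op U)).ofIsoColimit (Cocone.ext (@asIso _ _ _ _ ((toSheafify J c.pt).app (op U)) this) fun i => ?_)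
    exact (NatTrans.congr_app (Sheaf.sheafifyCocone_ι_app_val c i) (op U)).symm

end Sheaf

end Groth.Agent.EtFound.FilteredSectionsGen
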