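import Groth.Agent.EtFound.IntegralCore
import Groth.Agent.WLocalLib.EtaleProd
import Mathlib.FieldTheory.PurelyInseparable.Basic

/-! separating geometric points of integral algebras by idempotents, etale locally on the base -/

universe u

open scoped TensorProduct
open IsLocalRing

namespace Groth.Agent.EtFound

set_option backward.isDefEq.respectTransparency.types false

/-- over a strictly henselian ring, two points of the closed fibre of an integral algebra with values in a
field are either equal or separated by an idempotent -/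
theorem exists_idempotent_integral {R : Type u} [CommRing R] [HenselianLocalRing R] [IsSepClosed (ResidueField R)]
    {B : Type u} [CommRing B] [Algebra R B] [Algebra.IsIntegral R B] {Ω : Type u} [Field Ω] [Algebra R Ω]
    (hker : RingHom.ker (algebraMap R Ω) = maximalIdeal R) (φ φ' : B →ₐ[R] Ω) (hne : φ ≠ φ') :
    ∃ e : B, IsIdempotentElem e ∧ φ e = 1 ∧ φ' e = 0 := by
  let m := RingHom.ker φ.toRingHom
  let m' := RingHom.ker φ'.toRingHom
  have : m.IsPrime := RingHom.ker_isPrime _
  have : m'.IsPrime := RingHom.ker_isPrime _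
  have hm : m.comap (algebraMap R B) = maximalIdeal R := by
    rw [← hker, RingHom.comap_ker]; congr 1; exact φ.comp_algebraMap
  have hm' : m'.comap (algebraMap R B) = maximalIdeal R := by
    rw [← hker, RingHom.comap_ker]; congr 1; exact φ'.comp_algebraMap
  have hmax : ∀ q : Ideal B, q.IsPrime → q.comap (algebraMap R B) = maximalIdeal R → q.IsMaximal := fun q hq h =>
    Ideal.isMaximal_of_isIntegral_of_isMaximal_comap q (h ▸ maximalIdeal.isMaximal R)
  have : m.IsMaximal := hmax m inferInstance hm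
  have : m'.IsMaximal := hmax m' inferInstance hm'
  -- the kernels are distinct
  have hmm : m ≠ m' := by
    intro e
    refine hne ?_
    let : Field (B ⧸ m) := Ideal.Quotient.field m
    let k := ResidueField R
    let i : k →+* B ⧸ m := Ideal.Quotient.lift (maximalIdeal R) (algebraMap R (B ⧸ m)) fun a ha => by
      rw [← hm] at ha
      exact Ideal.Quotient.eq_zero_iff_mem.2 ha
    let : Algebra k (B ⧸ m) := i.toAlgebra
    have : IsScalarTower R k (B ⧸ m) := .of_algebraMap_eq fun r => rfl
    have : Algebra.IsIntegral R (B ⧸ m) := ⟨fun x => by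
      obtain ⟨b, rfl⟩ := Ideal.Quotient.mk_surjective x
      exact (Algebra.IsIntegral.isIntegral (R := R) b).map (Ideal.Quotient.mkₐ R m)⟩
    have : Algebra.IsIntegral k (B ⧸ m) := Algebra.IsIntegral.tower_top (R := R)
    have : Algebra.IsAlgebraic k (B ⧸ m) := Algebra.IsIntegral.isAlgebraic
    let ψ : B ⧸ m →+* Ω := Ideal.Quotient.lift m φ.toRingHom fun a ha => ha
    let ψ' : B ⧸ m →+* Ω := Ideal.Quotient.lift m φ'.toRingHom fun a ha => by
      rw [e] at ha; exact ha
    have hψ : ψ.comp (algebraMap k (B ⧸ m)) = ψ'.comp (algebraMap k (B ⧸ m)) :=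
      Ideal.Quotient.ringHom_ext (RingHom.ext fun r =>
        (φ.commutes r).trans (φ'.commutes r).symm)
    have h2 := IsPurelyInseparable.injective_comp_algebraMap k (B ⧸ m) Ω hψ
    exact AlgHom.ext fun b => DFunLike.congr_fun h2 (Ideal.Quotient.mk m b)
  -- the auxiliary cover
  obtain ⟨a, ha', ha⟩ : ∃ a ∈ m', a ∉ m := by
    by_contra h
    push Not at h
    exact hmm (Ideal.IsMaximal.eq_of_le ‹m'.IsMaximal› (Ideal.IsPrime.ne_top ‹m.IsPrime›) h).symm
  obtain ⟨c, i, hi, hci⟩ := ‹m.IsMaximal›.exists_inv ha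
  have hb : i ∈ m := hi
  let Ca := Localization.Away a
  let Cb := Localization.Away i
  have : Algebra.Etale B (Ca × Cb) := WLocalLib.etale_prod
  have hsurj : ∀ x : PrimeSpectrum B, x.asIdeal.comap (algebraMap R B) = maximalIdeal R →
      ∃ y : PrimeSpectrum (Ca × Cb), PrimeSpectrum.comap (algebraMap B (Ca × Cb)) y = x := by
    intro x _
    by_cases hax : a ∈ x.asIdeal
    · have hix : i ∉ x.asIdeal := fun h => x.2.ne_top ((Ideal.eq_top_iff_one _).2
        (hci ▸ x.asIdeal.add_mem (x.asIdeal.mul_mem_left c hax) h))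
      obtain ⟨y, hy⟩ := (PrimeSpectrum.localization_away_comap_range Cb i).ge hix
      exact ⟨PrimeSpectrum.comap (RingHom.snd Ca Cb) y, hy⟩
    · obtain ⟨y, hy⟩ := (PrimeSpectrum.localization_away_comap_range Ca a).ge hax
      exact ⟨PrimeSpectrum.comap (RingHom.fst Ca Cb) y, hy⟩
  obtain ⟨y, hy⟩ := (PrimeSpectrum.localization_away_comap_range Ca a).ge
    (show (⟨m, inferInstance⟩ : PrimeSpectrum B) ∈ (PrimeSpectrum.basicOpen a : Set (PrimeSpectrum B)) from ha)
  let Q : PrimeSpectrum (Ca × Cb) := PrimeSpectrum.comap (RingHom.fst Ca Cb) y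
  have hQ : PrimeSpectrum.comap (algebraMap B (Ca × Cb)) Q = ⟨m, inferInstance⟩ := hy
  obtain ⟨ψ, hψ⟩ := exists_section_integral B (Ca × Cb) hsurj Q (by
    rw [show Q.asIdeal.comap (algebraMap B (Ca × Cb)) = m from congrArg PrimeSpectrum.asIdeal hQ]
    exact hm)
  rw [hQ] at hψ
  have hidem : IsIdempotentElem (ψ ((1, 0) : Ca × Cb)) := by
    show ψ _ * ψ _ = ψ _
    rw [← map_mul]; simp
  have hem : ψ ((1, 0) : Ca × Cb) ∉ m := by
    intro h
    have h' : ((1, 0) : Ca × Cb) ∈ (PrimeSpectrum.comap ψ.toRingHom ⟨m, inferInstance⟩).asIdeal := h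
    rw [hψ] at h'
    exact y.2.ne_top ((Ideal.eq_top_iff_one _).2 h')
  obtain ⟨v, hv⟩ := isUnit_iff_exists_inv.1 (IsLocalization.Away.algebraMap_isUnit (S := Ca) a)
  have he : ψ ((1, 0) : Ca × Cb) = a * ψ ((v, 0) : Ca × Cb) := by
    rw [← smul_eq_mul, ← map_smul]
    congr 1
    exact Prod.ext (by simp [Algebra.smul_def, hv]) (by simp)
  have hem' : ψ ((1, 0) : Ca × Cb) ∈ m' := he ▸ m'.mul_mem_right _ ha'
  refine ⟨_, hidem, ?_, RingHom.mem_ker.1 hem'⟩
  rcases IsIdempotentElem.iff_eq_zero_or_one.1 (hidem.map φ) with h | h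
  · exact absurd (RingHom.mem_ker.2 h) hem
  · exact h

open Groth.Agent.Hensel in
/-- two distinct points of an integral algebra with values in a separably closed field are separated by an
idempotent over an etale neighbourhood of the base point -/
theorem exists_idempotent_etale {A B : Type u} [CommRing A] [CommRing B] [Algebra A B] [Algebra.IsIntegral A B]
    {Ω : Type u} [Field Ω] [IsSepClosed Ω] [Algebra A Ω] (φ φ' : B →ₐ[A] Ω) (hne : φ ≠ φ') :
    ∃ (A' : Type u) (_ : CommRing A') (_ : Algebra A A') (_ : Algebra.Etale A A') (τ : A' →ₐ[A] Ω)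
      (e : B ⊗[A] A'), IsIdempotentElem e ∧
      Algebra.TensorProduct.lift φ τ (fun _ _ => .all _ _) e = 1 ∧
      Algebra.TensorProduct.lift φ' τ (fun _ _ => .all _ _) e = 0 := by
  let R := Hensel.Henz A Ω
  have := henselianLocalRing_henz' A Ω
  have := isSepClosed_residue_henz' A Ω
  let B' := B ⊗[A] R
  let iR : R →+* B' := (Algebra.TensorProduct.includeRight (R := A) (A := B) (B := R)).toRingHom
  let : Algebra R B' := iR.toAlgebra
  have : IsScalarTower A R B' := .of_algebraMap_eq fun a =>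
    ((Algebra.TensorProduct.includeRight (R := A) (A := B) (B := R)).commutes a).symm
  have : Algebra.IsIntegral R B' := ⟨fun z => by
    induction z using TensorProduct.induction_on with
    | zero => exact isIntegral_zero
    | add a b ha hb => exact ha.add hb
    | tmul b r =>
      have h1 : IsIntegral R (b ⊗ₜ[A] (1 : R) : B') :=
        ((Algebra.IsIntegral.isIntegral (R := A) b).map
          (Algebra.TensorProduct.includeLeft (R := A) (S := A) (A := B) (B := R))).tower_top
      have h2 : IsIntegral R (algebraMap R B' r) := isIntegral_algebraMap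
      have he : (b ⊗ₜ[A] r : B') = b ⊗ₜ[A] (1 : R) * algebraMap R B' r := by
        show _ = _ * ((1 : B) ⊗ₜ[A] r)
        rw [Algebra.TensorProduct.tmul_mul_tmul, mul_one, one_mul]
      rw [he]; exact h1.mul h2⟩
  let : Algebra R Ω := (Henz.proj A Ω).toRingHom.toAlgebra
  let Φ : (B →ₐ[A] Ω) → B' →ₐ[A] Ω := fun χ =>
    Algebra.TensorProduct.lift χ (Henz.proj A Ω) fun _ _ => .all _ _
  let ΦR : (B →ₐ[A] Ω) → B' →ₐ[R] Ω := fun χ =>
    { (Φ χ).toRingHom with
      commutes' := fun r => by
        show Φ χ ((1 : B) ⊗ₜ[A] r) = Henz.proj A Ω r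
        exact (Algebra.TensorProduct.lift_tmul χ (Henz.proj A Ω) _ 1 r).trans (by rw [map_one, one_mul]) }
  have hne' : ΦR φ ≠ ΦR φ' := fun h => hne (AlgHom.ext fun b => by
    have h1 : Φ φ (b ⊗ₜ 1) = Φ φ' (b ⊗ₜ 1) := DFunLike.congr_fun h (b ⊗ₜ 1)
    have e1 : ∀ χ : B →ₐ[A] Ω, Φ χ (b ⊗ₜ 1) = χ b := fun χ =>
      (Algebra.TensorProduct.lift_tmul χ (Henz.proj A Ω) _ b 1).trans (by rw [map_one, mul_one])
    rwa [e1, e1] at h1)
  obtain ⟨e, he, h1, h0⟩ := exists_idempotent_integral (maximalIdeal_henz' A Ω).symm _ _ hne'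
  have hG := (isColim_henz A Ω).baseChange B
  obtain ⟨N, x, hx⟩ := hG.surj e
  obtain ⟨M, t, ht⟩ := hG.eq_of_apply_eq N (x * x) x (by rw [map_mul, hx]; exact he)
  have hM : Algebra.TensorProduct.map (AlgHom.id B B) (Henz.ofB M) (t.1 x) = e := (t.apply x).trans hx
  have key : ∀ (χ : B →ₐ[A] Ω) (z : B ⊗[A] M.B),
      Algebra.TensorProduct.lift χ M.toK (fun _ _ => .all _ _) z =
        Φ χ (Algebra.TensorProduct.map (AlgHom.id B B) (Henz.ofB M) z) := fun χ z => by
    induction z using TensorProduct.induction_on with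
    | zero => simp
    | add a b ha hb => simp [map_add, ha, hb]
    | tmul b r =>
      refine (Algebra.TensorProduct.lift_tmul χ M.toK _ b r).trans ?_
      rw [Algebra.TensorProduct.map_tmul]
      refine Eq.trans ?_ (Algebra.TensorProduct.lift_tmul χ (Henz.proj A Ω) _ _ _).symm
      rw [Henz.proj_ofB]
      rfl
  refine ⟨M.B, inferInstance, inferInstance, inferInstance, M.toK, t.1 x,
    (show t.1 x * t.1 x = t.1 x by rw [← map_mul, ht]), ?_, ?_⟩
  · rw [key, hM]; exact h1
  · rw [key, hM]; exact h0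

end Groth.Agent.EtFound
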