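import Groth.Agent.EtFound.ClopenDescend
import Groth.Agent.Approx.IntegralLimit

/-!
Connectedness of traces of a closed subset on integral covers, from clopen lifting on finite covers.
-/

set_option autoImplicit false
set_option linter.style.haveILetI false

universe u

open CategoryTheory CategoryTheory.Limits AlgebraicGeometry Topology Opposite

namespace Groth.Agent.IntegralConn

/-- Clopen lifting along all finite covers. -/
def FiniteLifts {X : Scheme.{u}} (K : Set X) : Prop :=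
  ∀ (X' : Scheme.{u}) (π : X' ⟶ X) [IsFinite π] (V : Set (π ⁻¹' K : Set X')), IsClopen V →
    ∃! U : Set X', IsClopen U ∧ Subtype.val ⁻¹' U = V

theorem nonempty_inter_closure {X : Scheme.{u}} {K : Set X} (hK : FiniteLifts K) (x : X) :
    (K ∩ closure {x}).Nonempty := by
  let I := Scheme.IdealSheafData.vanishingIdeal ⟨closure {x}, isClosed_closure⟩
  have hr : Set.range I.subschemeι = closure {x} := by
    rw [I.range_subschemeι]; simp [I]
  by_contra hne
  have he : ∀ z : (I.subschemeι ⁻¹' K : Set I.subscheme), False := fun z =>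
    hne ⟨I.subschemeι z.1, z.2, hr ▸ Set.mem_range_self z.1⟩
  obtain ⟨y, hy⟩ : x ∈ Set.range I.subschemeι := hr ▸ subset_closure rfl
  obtain ⟨U, -, huniq⟩ := hK I.subscheme I.subschemeι ∅ isClopen_empty
  have h1 := huniq Set.univ ⟨isClopen_univ, Set.ext fun z => (he z).elim⟩
  have h2 := huniq ∅ ⟨isClopen_empty, Set.ext fun z => (he z).elim⟩
  have : (Set.univ : Set I.subscheme) = ∅ := h1.trans h2.symm
  exact (this ▸ Set.mem_univ y : y ∈ (∅ : Set I.subscheme))

set_option backward.isDefEq.respectTransparency false in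
set_option backward.isDefEq.respectTransparency.types false in
theorem isPreconnected_preimage {X : Scheme.{u}} [CompactSpace X] [QuasiSeparatedSpace X] {K : Set X}
    (hKc : IsClosed K) (hK : FiniteLifts K) {W : Scheme.{u}} [PreconnectedSpace W] (ω : W ⟶ X)
    [IsIntegralHom ω] : _root_.IsPreconnected (ω ⁻¹' K) := by
  rw [isPreconnected_iff_preconnectedSpace, preconnectedSpace_iff_clopen]
  intro V hV
  obtain ⟨J, _, _, _, DO, c, hc, hfin, ⟨e⟩⟩ := Approx.exists_isLimit_finite_fp ω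
  let D := DO ⋙ Over.forget X
  let cc := (Over.forget X).mapCone c
  haveI : IsConnected Jᵒᵖ := IsCofiltered.isConnected Jᵒᵖ
  have hcc : IsLimit cc := isLimitOfPreserves _ hc
  haveI : ∀ {i j : Jᵒᵖ} (f : i ⟶ j), IsAffineHom (D.map f) := fun {i j} f => by
    haveI := (hfin i).1
    haveI := (hfin j).1
    haveI : IsAffineHom ((DO.map f).left ≫ (DO.obj j).hom) := by rw [Over.w (DO.map f)]; infer_instance
    exact MorphismProperty.of_postcomp @IsAffineHom (DO.map f).left (DO.obj j).hom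
      (inferInstance : IsSeparated _) inferInstance
  haveI : ∀ i, CompactSpace (D.obj i) := fun i => by
    haveI := (hfin i).1; exact QuasiCompact.compactSpace_of_compactSpace (DO.obj i).hom
  haveI : ∀ i, QuasiSeparatedSpace (D.obj i) := fun i => by
    haveI := (hfin i).1; exact quasiSeparatedSpace_of_quasiSeparated (DO.obj i).hom
  let Z : ∀ i, Set (D.obj i) := fun i => (DO.obj i).hom ⁻¹' K
  have hπ : ∀ (i : Jᵒᵖ) (s : cc.pt), (DO.obj i).hom (cc.π.app i s) = c.pt.hom s := fun i s =>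
    congrArg (fun q : c.pt.left ⟶ X => q s) (Over.w (c.π.app i))
  have hmap : ∀ {i j : Jᵒᵖ} (f : i ⟶ j), Set.MapsTo (D.map f) (Z i) (Z j) := fun {i j} f x hx => by
    have e' := congrArg (fun q : (DO.obj i).left ⟶ X => q x) (Over.w (DO.map f))
    show (DO.obj j).hom ((DO.map f).left x) ∈ K
    exact e' ▸ hx
  have hS : ∀ s : cc.pt, s ∈ c.pt.hom ⁻¹' K ↔ ∀ i, cc.π.app i s ∈ Z i := fun s => by
    refine ⟨fun hs i => ?_, fun hs => ?_⟩
    · show (DO.obj i).hom (cc.π.app i s) ∈ K; rw [hπ]; exact hs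
    · obtain ⟨i⟩ := IsCofiltered.nonempty (C := Jᵒᵖ)
      have := hs i
      show c.pt.hom s ∈ K
      rw [← hπ i]; exact this
  let ε : c.pt.left ⟶ W := e.hom.left
  let δ : W ⟶ c.pt.left := e.inv.left
  have hεK : ∀ s : (c.pt.hom ⁻¹' K : Set cc.pt), ε s.1 ∈ ω ⁻¹' K := fun s => by
    have e' := congrArg (fun q : c.pt.left ⟶ X => q s.1) (Over.w e.hom)
    show ω (ε s.1) ∈ K
    exact e'.symm ▸ s.2
  let r : (c.pt.hom ⁻¹' K : Set cc.pt) → (ω ⁻¹' K : Set W) := fun s => ⟨ε s.1, hεK s⟩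
  obtain ⟨i, V', hV', hVV⟩ := ClopenDescend.exists_clopen_descend D cc hcc Z
    (fun i => hKc.preimage (DO.obj i).hom.continuous) hmap (c.pt.hom ⁻¹' K) hS (r ⁻¹' V)
    (hV.preimage ((ε.continuous.comp continuous_subtype_val).subtype_mk _))
  haveI := (hfin i).1
  obtain ⟨U, ⟨hU, hUV⟩, -⟩ := hK (DO.obj i).left (DO.obj i).hom V' hV'
  have hmem : ∀ y : (ω ⁻¹' K : Set W), (cc.π.app i (δ y.1) ∈ U ↔ y ∈ V) := fun y => by
    have hy : δ y.1 ∈ c.pt.hom ⁻¹' K := by
      have e' := congrArg (fun q : W ⟶ X => q y.1) (Over.w e.inv)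
      show c.pt.hom (δ y.1) ∈ K
      exact e'.symm ▸ y.2
    have hry : r ⟨δ y.1, hy⟩ = y := Subtype.ext
      (congrArg (fun q : (Over.mk ω) ⟶ Over.mk ω => q.left y.1) e.inv_hom_id)
    refine (Set.ext_iff.mp hUV ⟨_, (hS _).1 hy i⟩).trans ((hVV ⟨δ y.1, hy⟩).trans ?_)
    rw [Set.mem_preimage, hry]
  rcases isClopen_iff.1 (hU.preimage (δ ≫ cc.π.app i).continuous) with h | h
  · exact Or.inl (Set.eq_empty_of_forall_notMem fun y hy =>
      Set.eq_empty_iff_forall_notMem.1 h y.1 ((hmem y).2 hy))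
  · exact Or.inr (Set.eq_univ_of_forall fun y => (hmem y).1 (Set.eq_univ_iff_forall.1 h y.1))

end Groth.Agent.IntegralConn
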