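import Groth.Agent.EtFound.AbLocEq
import Groth.Agent.EtFound.AbsNormal
import Groth.Agent.EtFound.IntegralConn
import Groth.Agent.H23.RedSub

/-!
Germs of local sections agreeing along a closed subset with connected traces on integral covers.
-/

set_option autoImplicit false
set_option linter.style.haveILetI false

universe u

open CategoryTheory CategoryTheory.Limits AlgebraicGeometry Opposite TopologicalSpace Topology

namespace Groth.Agent.GabberH0

set_option backward.isDefEq.respectTransparency.types false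

open AbLocEq IntegralConn

variable {X : Scheme.{u}}

/-- The fibre product of two etale schemes. -/
noncomputable def prodEt (V V' : X.Etale) : X.Etale :=
  MorphismProperty.Over.mk ⊤ (pullback.fst V.hom V'.hom ≫ V.hom) (by
    haveI : Etale V.hom := V.prop
    haveI : Etale V'.hom := V'.prop
    haveI : Etale (pullback.fst V.hom V'.hom) := MorphismProperty.pullback_fst _ _ inferInstance
    exact inferInstanceAs (Etale (pullback.fst V.hom V'.hom ≫ V.hom)))

noncomputable def p₁ (V V' : X.Etale) : prodEt V V' ⟶ V :=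
  MorphismProperty.Over.homMk (pullback.fst V.hom V'.hom) rfl

noncomputable def p₂ (V V' : X.Etale) : prodEt V V' ⟶ V' :=
  MorphismProperty.Over.homMk (pullback.snd V.hom V'.hom) pullback.condition.symm

variable {F : EtCoh.Ab X} (K : Set X) {ι : Type*} (U : ι → X.Etale) (a : ∀ j, F.obj.obj (op (U j)))

/-- A family of local sections that agree with one another above `K`. -/
def AgreeOn : Prop :=
  ∀ (j k : ι) (p : (prodEt (U j) (U k)).left), (prodEt (U j) (U k)).hom p ∈ K →
    AEq F.obj (F.obj.map (p₁ (U j) (U k)).op (a j)) (F.obj.map (p₂ (U j) (U k)).op (a k)) p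

/-- A point specialising to a point above `K`. -/
def Adj (j : ι) (y : (U j).left) : Prop := ∃ v, y ⤳ v ∧ (U j).hom v ∈ K

section mono

variable {W : Scheme.{u}} [IsIntegral W] [IsSepClosed W.functionField] (ω : W ⟶ X)

/-- The generic geometric point of the base. -/
noncomputable abbrev ηb (W : Scheme.{u}) [IsIntegral W] : Spec (CommRingCat.of W.functionField) ⟶ W := W.fromSpecStalk (genericPoint W)

omit [IsSepClosed W.functionField] in
theorem ηb_apply (p : Spec (CommRingCat.of W.functionField)) : ηb W p = genericPoint W := by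
  haveI : Subsingleton (Spec (CommRingCat.of W.functionField)) :=
    inferInstanceAs (Subsingleton (PrimeSpectrum W.functionField))
  rw [Subsingleton.elim p (IsLocalRing.closedPoint W.functionField)]
  exact Scheme.fromSpecStalk_closedPoint

/-- `c` is the germ at the generic point of some section of the family through a chart at `w`. -/
def Val (w : W) (c : ToType ((Scheme.pointSmallEtale ((ηb W) ≫ ω)).presheafFiber.obj F.obj)) : Prop :=
  ∃ (j : ι) (O : (pullback (U j).hom ω).Opens) (τ : (O : Scheme.{u}))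
    (l : Spec (CommRingCat.of W.functionField) ⟶ (O : Scheme.{u}))
    (_ : IsOpenImmersion (O.ι ≫ pullback.snd (U j).hom ω))
    (_ : (O.ι ≫ pullback.snd (U j).hom ω) τ = w) (_ : l ≫ O.ι ≫ pullback.snd (U j).hom ω = (ηb W))
    (t : (Scheme.pointSmallEtale ((ηb W) ≫ ω)).fiber.obj (U j)),
    (t.left : Spec (CommRingCat.of W.functionField) ⟶ (U j).left) = l ≫ O.ι ≫ pullback.fst (U j).hom ω ∧
      (Scheme.pointSmallEtale ((ηb W) ≫ ω)).toPresheafFiber (U j) t F.obj (a j) = c

variable {K U a}

theorem Val.eq (hA : AgreeOn K U a) {w : W} (hw : ω w ∈ K)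
    {c c' : ToType ((Scheme.pointSmallEtale ((ηb W) ≫ ω)).presheafFiber.obj F.obj)}
    (h : Val U a ω w c) (h' : Val U a ω w c') : c = c' := by
  obtain ⟨j, O, τ, l, hO, hτ, hl, t, ht, rfl⟩ := h
  obtain ⟨k, O', τ', l', hO', hτ', hl', t', ht', rfl⟩ := h'
  let Φ := Scheme.pointSmallEtale (ηb W ≫ ω)
  let q := O.ι ≫ pullback.snd (U j).hom ω
  let q' := O'.ι ≫ pullback.snd (U k).hom ω
  let Q := pullback q q'
  obtain ⟨z, hz₁, hz₂⟩ := Scheme.Pullback.exists_preimage_pullback (f := q) (g := q') τ τ' (hτ.trans hτ'.symm)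
  let L : Spec (CommRingCat.of W.functionField) ⟶ Q := pullback.lift l l' (hl.trans hl'.symm)
  let m : Q ⟶ pullback (U j).hom (U k).hom :=
    pullback.lift (pullback.fst q q' ≫ O.ι ≫ pullback.fst (U j).hom ω)
      (pullback.snd q q' ≫ O'.ι ≫ pullback.fst (U k).hom ω) (by
      simp only [Category.assoc, pullback.condition]
      exact (pullback.condition_assoc (f := q) (g := q') ω).trans rfl)
  haveI : IsOpenImmersion q := hO
  haveI : IsOpenImmersion q' := hO'
  haveI : IsOpenImmersion (pullback.fst q q' ≫ q) := inferInstance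
  have hL : L ≫ pullback.fst q q' ≫ q = (ηb W) := by
    rw [← Category.assoc, pullback.lift_fst]; exact hl
  let d : Spec (CommRingCat.of W.functionField) := default
  have hspec : L d ⤳ z := by
    refine (pullback.fst q q' ≫ q).isOpenEmbedding.isInducing.specializes_iff.1 ?_
    have e1 : (pullback.fst q q' ≫ q) (L d) = genericPoint W :=
      (congrArg (fun φ : Spec (CommRingCat.of W.functionField) ⟶ W => φ d) hL).trans (ηb_apply d)
    rw [e1]
    exact (genericPoint_spec W).specializes (Set.mem_univ _)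
  have hK : (prodEt (U j) (U k)).hom (m z) ∈ K := by
    have e : m ≫ pullback.fst (U j).hom (U k).hom ≫ (U j).hom = (pullback.fst q q' ≫ q) ≫ ω := by
      rw [pullback.lift_fst_assoc]
      simp only [q, Category.assoc]
      rw [pullback.condition]
    have e' := congrArg (fun φ : Q ⟶ X => φ z) e
    refine e'.symm ▸ ?_
    show ω (q (pullback.fst q q' z)) ∈ K
    rw [hz₁, hτ]
    exact hw
  have hagree : AEq F.obj (F.obj.map (p₁ (U j) (U k)).op (a j)) (F.obj.map (p₂ (U j) (U k)).op (a k)) (m (L d)) :=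
    show m (L d) ∈ {p : (prodEt (U j) (U k)).left | AEq F.obj (F.obj.map (p₁ (U j) (U k)).op (a j))
      (F.obj.map (p₂ (U j) (U k)).op (a k)) p} from
    (hspec.map m.continuous).mem_open (isOpen_aEq _ _) (hA j k _ hK)
  have hov : (L ≫ m) ≫ pullback.fst (U j).hom (U k).hom ≫ (U j).hom = (ηb W) ≫ ω := by
    rw [Category.assoc, pullback.lift_fst_assoc, ← hL]
    simp only [q, Category.assoc]
    rw [pullback.condition]
  let T : Φ.fiber.obj (prodEt (U j) (U k)) := CategoryTheory.Over.homMk (L ≫ m) hov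
  have h1 : Φ.fiber.map (p₁ (U j) (U k)) T = t := CategoryTheory.Over.OverMorphism.ext (by
    show (L ≫ m) ≫ pullback.fst (U j).hom (U k).hom = t.left
    rw [ht, Category.assoc, pullback.lift_fst, ← Category.assoc, pullback.lift_fst])
  have h2 : Φ.fiber.map (p₂ (U j) (U k)) T = t' := CategoryTheory.Over.OverMorphism.ext (by
    show (L ≫ m) ≫ pullback.snd (U j).hom (U k).hom = t'.left
    rw [ht', Category.assoc, pullback.lift_snd, ← Category.assoc, pullback.lift_snd])
  have hg := germ_eq hagree T (Scheme.Hom.comp_apply L m d)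
  rw [Φ.toPresheafFiber_w_apply, Φ.toPresheafFiber_w_apply, h1, h2] at hg
  exact hg

variable (hN : ∀ w : W, IsIntegrallyClosed (W.presheaf.stalk w))

omit [IsSepClosed W.functionField] in
theorem exists_lift_generic {T : Scheme.{u}} (q : T ⟶ W) [IsOpenImmersion q] (τ : T) :
    ∃ l : Spec (CommRingCat.of W.functionField) ⟶ T, l ≫ q = (ηb W) :=
  ⟨IsOpenImmersion.lift q (ηb W) (by
    rintro _ ⟨p, rfl⟩
    rw [ηb_apply]
    exact ((genericPoint_spec W).specializes (Set.mem_univ (q τ))).mem_open q.isOpenEmbedding.isOpen_range ⟨τ, rfl⟩),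
    IsOpenImmersion.lift_fac _ _ _⟩

include hN in
theorem exists_val_nhd (hcov : ∀ x ∈ K, ∃ (j : ι) (v : (U j).left), (U j).hom v = x) {w : W} (hw : ω w ∈ K) :
    ∃ (N : Set W) (c : ToType ((Scheme.pointSmallEtale ((ηb W) ≫ ω)).presheafFiber.obj F.obj)),
      IsOpen N ∧ w ∈ N ∧ ∀ w' ∈ N, Val U a ω w' c := by
  obtain ⟨j, v, hv⟩ := hcov _ hw
  haveI : Etale (U j).hom := (U j).prop
  haveI : Etale (pullback.snd (U j).hom ω) := MorphismProperty.pullback_snd _ _ inferInstance
  obtain ⟨z, -, hz₂⟩ := Scheme.Pullback.exists_preimage_pullback (f := (U j).hom) (g := ω) v w hv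
  obtain ⟨O, hzO, hO⟩ := AbsNormal.exists_chart hN (pullback.snd (U j).hom ω) z
  obtain ⟨l, hl⟩ := exists_lift_generic (O.ι ≫ pullback.snd (U j).hom ω) ⟨z, hzO⟩
  let t : (Scheme.pointSmallEtale (ηb W ≫ ω)).fiber.obj (U j) :=
    CategoryTheory.Over.homMk (l ≫ O.ι ≫ pullback.fst (U j).hom ω) (by
      show (l ≫ O.ι ≫ pullback.fst (U j).hom ω) ≫ (U j).hom = (ηb W) ≫ ω
      rw [← hl]
      simp only [Category.assoc, pullback.condition])
  refine ⟨Set.range (O.ι ≫ pullback.snd (U j).hom ω),
    (Scheme.pointSmallEtale ((ηb W) ≫ ω)).toPresheafFiber (U j) t F.obj (a j),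
    (O.ι ≫ pullback.snd (U j).hom ω).isOpenEmbedding.isOpen_range, ⟨⟨z, hzO⟩, hz₂⟩, ?_⟩
  rintro _ ⟨τ, rfl⟩
  exact ⟨j, O, τ, l, hO, rfl, hl, t, rfl, rfl⟩

include hN in
/-- All lifts of the generic geometric point adjacent to `K` have the same germ. -/
theorem germ_adjacent (hA : AgreeOn K U a) (hcov : ∀ x ∈ K, ∃ (j : ι) (v : (U j).left), (U j).hom v = x)
    [IsIntegralHom ω] (hconn : _root_.IsPreconnected (ω ⁻¹' K)) {j k : ι}
    (t : (Scheme.pointSmallEtale ((ηb W) ≫ ω)).fiber.obj (U j))
    (t' : (Scheme.pointSmallEtale ((ηb W) ≫ ω)).fiber.obj (U k))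
    (ht : Adj K U j ((t.left : Spec (CommRingCat.of W.functionField) ⟶ (U j).left) (default : Spec (CommRingCat.of W.functionField))))
    (ht' : Adj K U k ((t'.left : Spec (CommRingCat.of W.functionField) ⟶ (U k).left) (default : Spec (CommRingCat.of W.functionField)))) :
    (Scheme.pointSmallEtale ((ηb W) ≫ ω)).toPresheafFiber (U j) t F.obj (a j) =
      (Scheme.pointSmallEtale ((ηb W) ≫ ω)).toPresheafFiber (U k) t' F.obj (a k) := by
  let Φ := Scheme.pointSmallEtale (ηb W ≫ ω)
  have key : ∀ (j : ι) (t : Φ.fiber.obj (U j)),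
      Adj K U j ((t.left : Spec (CommRingCat.of W.functionField) ⟶ (U j).left) (default : Spec (CommRingCat.of W.functionField))) →
      ∃ w, ω w ∈ K ∧ Val U a ω w (Φ.toPresheafFiber (U j) t F.obj (a j)) := by
    intro j t ⟨v, hyv, hv⟩
    haveI : Etale (U j).hom := (U j).prop
    haveI : Etale (pullback.snd (U j).hom ω) := MorphismProperty.pullback_snd _ _ inferInstance
    haveI : IsIntegralHom (pullback.fst (U j).hom ω) := MorphismProperty.pullback_fst _ _ inferInstance
    let t0 : Spec (CommRingCat.of W.functionField) ⟶ (U j).left := t.left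
    have hw0 : t0 ≫ (U j).hom = (ηb W) ≫ ω := CategoryTheory.Over.w t
    let l0 : Spec (CommRingCat.of W.functionField) ⟶ pullback (U j).hom ω := pullback.lift t0 (ηb W) hw0
    have e0 : pullback.fst (U j).hom ω (l0 default) = t0 default := by
      rw [← Scheme.Hom.comp_apply, pullback.lift_fst]
    obtain ⟨τ, hτ, hτv⟩ : v ∈ pullback.fst (U j).hom ω '' closure {l0 default} :=
      ((pullback.fst (U j).hom ω).isClosedMap _ isClosed_closure).stableUnderSpecialization hyv
        ⟨l0 default, subset_closure rfl, e0⟩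
    obtain ⟨O, hτO, hO⟩ := AbsNormal.exists_chart hN (pullback.snd (U j).hom ω) τ
    have h0O : l0 default ∈ O := (specializes_iff_mem_closure.2 hτ).mem_open O.isOpen hτO
    let l : Spec (CommRingCat.of W.functionField) ⟶ (O : Scheme.{u}) := IsOpenImmersion.lift O.ι l0 (by
      rintro _ ⟨p, rfl⟩
      haveI : Subsingleton (Spec (CommRingCat.of W.functionField)) :=
        inferInstanceAs (Subsingleton (PrimeSpectrum W.functionField))
      rw [Subsingleton.elim p default, O.range_ι]
      exact h0O)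
    have hl : l ≫ O.ι = l0 := IsOpenImmersion.lift_fac _ _ _
    refine ⟨pullback.snd (U j).hom ω τ, ?_, j, O, ⟨τ, hτO⟩, l, hO, rfl, ?_, t, ?_, rfl⟩
    · have e := congrArg (fun φ : pullback (U j).hom ω ⟶ X => φ τ) (pullback.condition (f := (U j).hom) (g := ω))
      show ω (pullback.snd (U j).hom ω τ) ∈ K
      rw [← Scheme.Hom.comp_apply, ← e]
      show (U j).hom (pullback.fst (U j).hom ω τ) ∈ K
      rw [hτv]; exact hv
    · rw [← Category.assoc, hl, pullback.lift_snd]
    · show t0 = l ≫ O.ι ≫ pullback.fst (U j).hom ω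
      rw [← Category.assoc, hl, pullback.lift_fst]
  obtain ⟨w, hw, hv⟩ := key j t ht
  obtain ⟨w', hw', hv'⟩ := key k t' ht'
  haveI : PreconnectedSpace ↥(ω ⁻¹' K) := isPreconnected_iff_preconnectedSpace.1 hconn
  choose N c hNo hwN hNc using fun w : ↥(ω ⁻¹' K) => exists_val_nhd (a := a) ω hN hcov (w := w.1) w.2
  have hφ : IsLocallyConstant c := (IsLocallyConstant.iff_exists_open c).2 fun w =>
    ⟨Subtype.val ⁻¹' N w, (hNo w).preimage continuous_subtype_val, hwN w, fun w₁ hw₁ =>
      Val.eq ω hA w₁.2 (hNc w₁ w₁.1 (hwN w₁)) (hNc w w₁.1 hw₁)⟩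
  rw [Val.eq ω hA hw hv (hNc ⟨w, hw⟩ w (hwN ⟨w, hw⟩)), Val.eq ω hA hw' hv' (hNc ⟨w', hw'⟩ w' (hwN ⟨w', hw'⟩))]
  exact hφ.apply_eq_of_preconnectedSpace _ _

end mono

variable {K U a}

/-- Sections of the family agree at points lying adjacent to `K` on both sides. -/
theorem aEq_of_adj [CompactSpace X] [QuasiSeparatedSpace X] (hKc : IsClosed K) (hK : FiniteLifts K)
    (hA : AgreeOn K U a) (hcov : ∀ x ∈ K, ∃ (j : ι) (v : (U j).left), (U j).hom v = x) {j k : ι}
    (p : (prodEt (U j) (U k)).left) (h₁ : Adj K U j ((p₁ (U j) (U k)).left p))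
    (h₂ : Adj K U k ((p₂ (U j) (U k)).left p)) :
    AEq F.obj (F.obj.map (p₁ (U j) (U k)).op (a j)) (F.obj.map (p₂ (U j) (U k)).op (a k)) p := by
  let x := (prodEt (U j) (U k)).hom p
  let I := Scheme.IdealSheafData.vanishingIdeal ⟨closure {x}, isClosed_closure⟩
  let Y := I.subscheme
  let ι' : Y ⟶ X := I.subschemeι
  have hr : Set.range ι' = closure {x} := by
    show Set.range I.subschemeι = _
    rw [I.range_subschemeι]; simp [I]
  obtain ⟨y, hy⟩ : x ∈ Set.range ι' := hr ▸ subset_closure rfl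
  have hygen : ∀ y' : Y, y ⤳ y' := fun y' => ι'.isEmbedding.isInducing.specializes_iff.1 (by
    rw [hy, specializes_iff_mem_closure, ← hr]; exact ⟨y', rfl⟩)
  haveI : PreirreducibleSpace Y := by
    refine ⟨?_⟩
    intro O O' hO hO' hq hq'
    obtain ⟨q₁, -, hq₁⟩ := hq
    obtain ⟨q₂, -, hq₂⟩ := hq'
    exact ⟨y, Set.mem_univ _, (hygen q₁).mem_open hO hq₁, (hygen q₂).mem_open hO' hq₂⟩
  haveI : IrreducibleSpace Y := { toNonempty := ⟨y⟩ }
  haveI : AlgebraicGeometry.IsReduced Y := inferInstance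
  haveI : AlgebraicGeometry.IsIntegral Y := isIntegral_of_irreducibleSpace_of_isReduced Y
  haveI : QuasiSeparatedSpace Y := quasiSeparatedSpace_of_quasiSeparated ι'
  obtain ⟨W, ω', hWi, hω', hac, hN, hgen⟩ := AbsNormal.exists_absolute Y
  haveI : IsSepClosed W.functionField := inferInstance
  let ω : W ⟶ X := ω' ≫ ι'
  haveI : IsIntegralHom ω := inferInstance
  have hconn := IntegralConn.isPreconnected_preimage hKc hK ω
  let ξ := ηb W ≫ ω
  let Φ := Scheme.pointSmallEtale ξ
  let d : Spec (CommRingCat.of W.functionField) := default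
  have hξ : ξ d = x := by
    show ι' (ω' (ηb W d)) = x
    rw [ηb_apply, hgen]
    refine Eq.trans (congrArg ι' ?_) hy
    exact ((genericPoint_spec Y).specializes (Set.mem_univ y)).antisymm (hygen _) |>.eq
  haveI : Etale (prodEt (U j) (U k)).hom := (prodEt (U j) (U k)).prop
  obtain ⟨T₀, hT₀, hT₀p⟩ := Scheme.exists_fac_of_etale_of_isSepClosed (prodEt (U j) (U k)).hom ξ p hξ.symm
  let T : Φ.fiber.obj (prodEt (U j) (U k)) := CategoryTheory.Over.homMk T₀ hT₀
  refine aEq_of_germ ξ T ?_ p hT₀p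
  rw [Φ.toPresheafFiber_w_apply, Φ.toPresheafFiber_w_apply]
  refine germ_adjacent ω hN hA hcov hconn _ _ ?_ ?_
  · show Adj K U j ((T₀ ≫ (p₁ (U j) (U k)).left) d)
    rw [Scheme.Hom.comp_apply, hT₀p]; exact h₁
  · show Adj K U k ((T₀ ≫ (p₂ (U j) (U k)).left) d)
    rw [Scheme.Hom.comp_apply, hT₀p]; exact h₂

end Groth.Agent.GabberH0
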