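import Mathlib.Algebra.Homology.DerivedCategory.TStructure
import Mathlib.Algebra.Homology.DerivedCategory.FullyFaithful

/-! composites of morphisms killing homology in the derived category -/

universe w v u

open CategoryTheory Limits Pretriangulated DerivedCategory

namespace Groth.Agent.EtFound

variable {A : Type u} [Category.{v} A] [Abelian A] [HasDerivedCategory.{w} A]

theorem hom_ext_of_isLE_isGE {L M : DerivedCategory A} (a : ℤ) [L.IsLE a] [M.IsGE a] (g : L ⟶ M)
    (hg : (homologyFunctor A a).map g = 0) : g = 0 := by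
  obtain ⟨L', L'', hL', hL'', i, p, δ, hT⟩ := TStructure.t.exists_triangle L (a - 1) a (by lia)
  haveI : L'.IsLE (a - 1) := ⟨hL'⟩
  haveI : L''.IsGE a := ⟨hL''⟩
  obtain ⟨g₀, hg₀⟩ := Triangle.yoneda_exact₂ _ hT g (TStructure.t.zero (i ≫ g : L' ⟶ M) (a - 1) a (by lia))
  let g' : L'' ⟶ M := g₀
  have hg' : g = p ≫ g' := hg₀
  haveI : L''.IsLE a := (isLE_iff _ a).2 fun m hm =>
    (HomologySequence.exact₃ _ hT m (m + 1) rfl).isZero_of_both_zeros
      (((isLE_iff L a).1 inferInstance m hm).eq_of_src _ _)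
      (((isLE_iff L' (a - 1)).1 inferInstance (m + 1) (by lia)).eq_of_tgt _ _)
  haveI : Epi ((homologyFunctor A a).map p) :=
    (HomologySequence.epi_homologyMap_mor₂_iff _ hT a (a + 1) rfl).2
      (((isLE_iff L' (a - 1)).1 inferInstance (a + 1) (by lia)).eq_of_tgt _ _)
  obtain ⟨M', M'', hM', hM'', i', p', δ', hT'⟩ := TStructure.t.exists_triangle M a (a + 1) rfl
  haveI : M'.IsLE a := ⟨hM'⟩
  haveI : M''.IsGE (a + 1) := ⟨hM''⟩
  obtain ⟨g₁, hg₁⟩ := Triangle.coyoneda_exact₂ _ hT' g' (TStructure.t.zero (g' ≫ p' : L'' ⟶ M'') a (a + 1) (by lia))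
  let g'' : L'' ⟶ M' := g₁
  have hg'' : g' = g'' ≫ i' := hg₁
  haveI : M'.IsGE a := (isGE_iff _ a).2 fun m hm =>
    (HomologySequence.exact₁ _ hT' (m - 1) m (by lia)).isZero_of_both_zeros
      (((isGE_iff M'' (a + 1)).1 inferInstance (m - 1) (by lia)).eq_of_src _ _)
      (((isGE_iff M a).1 inferInstance m hm).eq_of_tgt _ _)
  haveI : Mono ((homologyFunctor A a).map i') :=
    (HomologySequence.mono_homologyMap_mor₁_iff _ hT' (a - 1) a (by lia)).2
      (((isGE_iff M'' (a + 1)).1 inferInstance (a - 1) (by lia)).eq_of_src _ _)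
  have h0 : (homologyFunctor A a).map g'' = 0 := by
    rw [← cancel_mono ((homologyFunctor A a).map i'), ← cancel_epi ((homologyFunctor A a).map p), zero_comp, comp_zero,
      ← Functor.map_comp, ← hg'', ← Functor.map_comp, ← hg', hg]
  obtain ⟨Y₁, ⟨e₁⟩⟩ := exists_iso_singleFunctor_obj_of_isGE_of_isLE L'' a
  obtain ⟨Y₂, ⟨e₂⟩⟩ := exists_iso_singleFunctor_obj_of_isGE_of_isLE M' a
  obtain ⟨φ, hφ⟩ := (singleFunctor A a).map_surjective (e₁.inv ≫ g'' ≫ e₂.hom)
  have hφ0 : φ = 0 := by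
    have h1 : (homologyFunctor A a).map ((singleFunctor A a).map φ) = 0 := by
      rw [hφ, Functor.map_comp, Functor.map_comp, h0, zero_comp, comp_zero]
    have h2 := (singleFunctorCompHomologyFunctorIso A a).hom.naturality φ
    rw [Functor.comp_map, h1, zero_comp] at h2
    exact ((cancel_epi ((singleFunctorCompHomologyFunctorIso A a).hom.app Y₁)).1
      (h2.symm.trans comp_zero.symm) :)
  have hg0 : g'' = 0 := by
    rw [hφ0, Functor.map_zero] at hφ
    rw [← cancel_mono e₂.hom, ← cancel_epi e₁.inv, ← hφ, zero_comp, comp_zero]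
  rw [hg', hg'', hg0, zero_comp, comp_zero]

/-- a chain of `a + 1` maps killing homology up to degree `a` kills maps from objects in degrees `≤ a` -/
theorem comp_eq_zero_of_homology_zero {N : ℕ} (k : ℤ) (K : ComposableArrows (DerivedCategory A) N)
    (hK : ∀ (i : ℕ) (hi : i ≤ N), (K.obj' i).IsGE 0)
    (hf : ∀ (i : ℕ) (hi : i < N) (p : ℤ), p < k → (homologyFunctor A p).map (K.map' i (i + 1)) = 0)
    (m : ℕ) (hm : (m : ℤ) ≤ k) (i j : ℕ) (hj : j = i + m) (hi : j ≤ N) (L : DerivedCategory A) [L.IsLE ((m : ℤ) - 1)]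
    (g : L ⟶ K.obj' i) : g ≫ K.map' i j = 0 := by
  induction m generalizing i j L with
  | zero =>
    haveI := hK i (by lia)
    rw [TStructure.t.zero g ((0 : ℕ) - 1 : ℤ) 0 (by lia), zero_comp]
  | succ m ih =>
    obtain ⟨M', M'', hM', hM'', i', p', δ', hT'⟩ :=
      TStructure.t.exists_triangle (K.obj' (i + 1)) ((m : ℤ) - 1) m (by lia)
    haveI : M'.IsLE ((m : ℤ) - 1) := ⟨hM'⟩
    haveI : M''.IsGE (m : ℤ) := ⟨hM''⟩
    haveI : L.IsLE (m : ℤ) := TStructure.t.isLE_of_le L (((m + 1 : ℕ) : ℤ) - 1) m (by lia)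
    have h0 : (g ≫ K.map' i (i + 1)) ≫ p' = 0 := hom_ext_of_isLE_isGE (m : ℤ) _ (by
      rw [Functor.map_comp, Functor.map_comp, hf i (by lia) m (by lia), comp_zero, zero_comp])
    obtain ⟨g₀, hg₀⟩ := Triangle.coyoneda_exact₂ _ hT' _ h0
    let g' : L ⟶ M' := g₀
    have hg' : g ≫ K.map' i (i + 1) = g' ≫ i' := hg₀
    have h1 := ih (by lia) (i + 1) j (by lia) hi M' i'
    have e : K.map' i j = K.map' i (i + 1) ≫ K.map' (i + 1) j :=
      K.map'_comp i (i + 1) j (by lia) (by lia) hi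
    rw [e, reassoc_of% hg', h1, comp_zero]

end Groth.Agent.EtFound
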