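import Groth.Agent.EtFound.ZeroDimSection
import Groth.Agent.Hensel.Colim
import Groth.Agent.Hensel.Henselization
import Groth.Agent.Hensel.Pair

/-! etale neighbourhoods of fibres of integral morphisms -/

universe u

open scoped TensorProduct
open IsLocalRing

namespace Groth.Agent.EtFound

set_option backward.isDefEq.respectTransparency.types false

/-- over a strictly henselian ring, an etale algebra over an integral algebra which covers the closed
fibre has a section, through any given point -/
theorem exists_section_integral {R : Type u} [CommRing R] [HenselianLocalRing R] [IsSepClosed (ResidueField R)]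
    (B : Type u) [CommRing B] [Algebra R B] [Algebra.IsIntegral R B] (C : Type u) [CommRing C] [Algebra B C]
    [Algebra.Etale B C]
    (hsurj : ∀ x : PrimeSpectrum B, x.asIdeal.comap (algebraMap R B) = maximalIdeal R →
      ∃ y : PrimeSpectrum C, PrimeSpectrum.comap (algebraMap B C) y = x)
    (Q : PrimeSpectrum C) (hQ : (Q.asIdeal.comap (algebraMap B C)).comap (algebraMap R B) = maximalIdeal R) :
    ∃ ψ : C →ₐ[B] B, PrimeSpectrum.comap ψ.toRingHom (PrimeSpectrum.comap (algebraMap B C) Q) = Q := by
  let J : Ideal B := (maximalIdeal R).map (algebraMap R B)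
  have : HenselianRing B J := Hensel.henselianRing_of_isIntegral' (maximalIdeal R) B
  let T := B ⧸ J
  let k := ResidueField R
  let f : k →+* T := Ideal.Quotient.lift (maximalIdeal R) ((Ideal.Quotient.mk J).comp (algebraMap R B))
    fun a ha => Ideal.Quotient.eq_zero_iff_mem.2 (Ideal.mem_map_of_mem _ ha)
  let : Algebra k T := f.toAlgebra
  have : IsScalarTower R k T := .of_algebraMap_eq fun r => rfl
  have : Algebra.IsIntegral R T := ⟨fun x => by
    obtain ⟨b, rfl⟩ := Ideal.Quotient.mk_surjective x
    exact (Algebra.IsIntegral.isIntegral (R := R) b).map (Ideal.Quotient.mkₐ R J)⟩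
  have : Algebra.IsIntegral k T := Algebra.IsIntegral.tower_top (R := R)
  have hmax : ∀ q : Ideal T, q.IsPrime → q.IsMaximal := fun q hq =>
    Ideal.isMaximal_of_isIntegral_of_isMaximal_comap q
      (by
        have := Ideal.comap_isPrime (algebraMap k T) q
        rcases Ideal.eq_bot_or_top (q.comap (algebraMap k T)) with h | h
        · rw [h]; exact Ideal.bot_isMaximal
        · exact absurd h this.ne_top)
  have : Ring.KrullDimLE 0 T := Ring.KrullDimLE.mk₀ hmax
  have hsep : ∀ (q : Ideal T) [q.IsPrime], IsSepClosed (ResidueField (Localization.AtPrime q)) := by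
    intro q hq
    have := hmax q hq
    let : Field (T ⧸ q) := Ideal.Quotient.field q
    let alg : Algebra k (T ⧸ q) := Ideal.Quotient.algebra k
    have : @Algebra.IsIntegral k (T ⧸ q) _ _ alg := ⟨fun x => by
      obtain ⟨b, rfl⟩ := Ideal.Quotient.mk_surjective x
      exact (Algebra.IsIntegral.isIntegral (R := k) b).map (Ideal.Quotient.mkₐ k q)⟩
    have : IsSepClosed (T ⧸ q) := @Algebra.IsAlgebraic.isSepClosed k (T ⧸ q) _ _ alg Algebra.IsIntegral.isAlgebraic _
    exact Hensel.isSepClosed_of_ringEquiv
      (RingEquiv.ofBijective _ (Ideal.bijective_algebraMap_quotient_residueField q))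
  let D := T ⊗[B] C
  have hx : ∀ x : PrimeSpectrum T,
      (PrimeSpectrum.comap (Ideal.Quotient.mk J) x).asIdeal.comap (algebraMap R B) = maximalIdeal R := by
    intro x
    refine ((maximalIdeal.isMaximal R).eq_of_le (Ideal.IsPrime.ne_top inferInstance) ?_).symm
    intro r hr
    show Ideal.Quotient.mk J (algebraMap R B r) ∈ x.asIdeal
    rw [Ideal.Quotient.eq_zero_iff_mem.2 (Ideal.mem_map_of_mem _ hr)]
    exact zero_mem _
  have hDsurj : Function.Surjective (PrimeSpectrum.comap (algebraMap T D)) := fun x => by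
    obtain ⟨y, hy⟩ := hsurj _ (hx x)
    obtain ⟨r, -, hr⟩ := WStrictLib.exists_point_tensor (A := B) (C := T) y x hy
    exact ⟨r, hr⟩
  have hle : J ≤ Q.asIdeal.comap (algebraMap B C) := Ideal.map_le_iff_le_comap.2 hQ.ge
  let x0 : PrimeSpectrum T := ⟨(Q.asIdeal.comap (algebraMap B C)).map (Ideal.Quotient.mk J),
    Ideal.map_isPrime_of_surjective Ideal.Quotient.mk_surjective (by rwa [Ideal.mk_ker])⟩
  have hx0 : x0.asIdeal.comap (Ideal.Quotient.mk J) = Q.asIdeal.comap (algebraMap B C) :=
    Ideal.comap_map_mk hle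
  obtain ⟨r, hr1, hr2⟩ := WStrictLib.exists_point_tensor (A := B) (C := T) Q x0
    (PrimeSpectrum.ext hx0.symm)
  obtain ⟨σ, hσ⟩ := exists_section_zeroDim_at hsep hDsurj r.asIdeal
  obtain ⟨τ, hτ, -⟩ := Hensel.existsUnique_etale_lift_of_algebra (A := B) (I := J)
    ((σ.restrictScalars B).comp Algebra.TensorProduct.includeRight)
  refine ⟨τ, PrimeSpectrum.ext (Ideal.ext fun c => ?_)⟩
  change τ c ∈ Q.asIdeal.comap (algebraMap B C) ↔ c ∈ Q.asIdeal
  have h1 : r.asIdeal.comap (algebraMap T D) = x0.asIdeal := congrArg PrimeSpectrum.asIdeal hr2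
  have h2 : Ideal.Quotient.mk J (τ c) = σ (1 ⊗ₜ c) := AlgHom.congr_fun hτ c
  rw [← hx0, Ideal.mem_comap, h2, ← h1, ← hσ]
  exact SetLike.ext_iff.1 (congrArg PrimeSpectrum.asIdeal hr1) c

section Henz

open Groth.Agent.Hensel

variable (A K : Type u) [CommRing A] [Field K] [Algebra A K]

theorem isLocalRing_henz' : IsLocalRing (Henz A K) :=
  haveI : Nontrivial (Henz A K) := (Henz.proj A K).toRingHom.domain_nontrivial
  .of_nonunits_add fun a b ha hb => by
    simp only [mem_nonunits_iff, Henz.isUnit_iff, isUnit_iff_ne_zero, not_not] at ha hb ⊢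
    rw [map_add, ha, hb, add_zero]

theorem maximalIdeal_henz' [IsLocalRing (Henz A K)] :
    maximalIdeal (Henz A K) = RingHom.ker (Henz.proj A K) := by
  ext x
  rw [IsLocalRing.mem_maximalIdeal, mem_nonunits_iff, Henz.isUnit_iff, isUnit_iff_ne_zero, not_not,
    RingHom.mem_ker]

theorem henselianLocalRing_henz' : HenselianLocalRing (Henz A K) :=
  have := isLocalRing_henz' A K
  have : HenselianRing (Henz A K) (maximalIdeal (Henz A K)) := by
    rw [maximalIdeal_henz']; exact Henz.henselianRing
  henselianLocalRing_of_henselianRing _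

theorem isSepClosed_residue_henz' [IsSepClosed K] [IsLocalRing (Henz A K)] :
    IsSepClosed (ResidueField (Henz A K)) := by
  let φ : ResidueField (Henz A K) →+* K := Ideal.Quotient.lift _ (Henz.proj A K).toRingHom
    fun a ha => by rw [maximalIdeal_henz'] at ha; exact ha
  refine IsSepClosed.of_exists_root _ fun p hpm hpi hps => ?_
  obtain ⟨κ, hκ⟩ := IsSepClosed.exists_aeval_eq_zero K (p.map φ) (by
    rw [Polynomial.degree_map]; exact (Polynomial.degree_pos_of_irreducible hpi).ne') hps.map
  obtain ⟨F, hF, -, hFm⟩ := Polynomial.lifts_and_degree_eq_and_monic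
    (Polynomial.map_surjective _ IsLocalRing.residue_surjective p : p ∈ Polynomial.lifts (residue _)) hpm
  have hroot : (p.map φ).eval κ = 0 := by simpa using hκ
  have hc : F.map (Henz.proj A K).toRingHom = p.map φ := by
    rw [← hF, Polynomial.map_map]; rfl
  obtain ⟨a, ha, hak⟩ := Henz.exists_root_proj F hFm κ
    (by rw [Polynomial.eval₂_eq_eval_map, hc, hroot])
    (by
      rw [Polynomial.eval₂_eq_eval_map, ← Polynomial.derivative_map, hc, isUnit_iff_ne_zero]
      exact hps.map.aeval_derivative_ne_zero (by simpa using hroot))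
  refine ⟨residue _ a, ?_⟩
  rw [← hF, Polynomial.eval_map, Polynomial.eval₂_at_apply, ha.eq_zero, map_zero]

theorem isColim_henz : DirColim.IsColim (fun N : Nbhd A K => Henz.ofB N) where
  surj z := Henz.exists_ofB z
  directed N M := by
    obtain ⟨P, α, β, hα, hβ⟩ := N.exists_hom₂ M
    exact ⟨P, ⟨⟨α, Henz.ofB_comp α hα⟩⟩, ⟨⟨β, Henz.ofB_comp β hβ⟩⟩⟩
  ker N x hx := by
    obtain ⟨M, α, hα, h0⟩ := Henz.exists_of_ofB_eq_zero hx
    exact ⟨M, ⟨α, Henz.ofB_comp α hα⟩, h0⟩

end Henz

/-- the algebraic core: etale covers of fibres of integral algebras split etale locally on the base -/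
theorem exists_etale_section {A B C : Type u} [CommRing A] [CommRing B] [CommRing C] [Algebra A B]
    [Algebra.IsIntegral A B] [Algebra B C] [Algebra.Etale B C] (p : PrimeSpectrum A)
    (hsurj : ∀ x : PrimeSpectrum B, PrimeSpectrum.comap (algebraMap A B) x = p →
      ∃ y : PrimeSpectrum C, PrimeSpectrum.comap (algebraMap B C) y = x)
    (Q : PrimeSpectrum C)
    (hQ : PrimeSpectrum.comap (algebraMap A B) (PrimeSpectrum.comap (algebraMap B C) Q) = p) :
    ∃ (A' : Type u) (_ : CommRing A') (_ : Algebra A A') (_ : Algebra.Etale A A') (p' : PrimeSpectrum A')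
      (ψ : C →ₐ[B] B ⊗[A] A') (x : PrimeSpectrum (B ⊗[A] A')),
      PrimeSpectrum.comap (algebraMap A A') p' = p ∧
      PrimeSpectrum.comap (Algebra.TensorProduct.includeRight (R := A) (A := B) (B := A')).toRingHom x = p' ∧
      PrimeSpectrum.comap ψ.toRingHom x = Q := by
  let K := SeparableClosure p.asIdeal.ResidueField
  let R := Hensel.Henz A K
  have := henselianLocalRing_henz' A K
  have := isSepClosed_residue_henz' A K
  have hp : ∀ z : PrimeSpectrum R, z.asIdeal = maximalIdeal R → PrimeSpectrum.comap (algebraMap A R) z = p := by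
    intro z hz
    refine PrimeSpectrum.ext (Ideal.ext fun a => ?_)
    change algebraMap A R a ∈ z.asIdeal ↔ _
    rw [hz, maximalIdeal_henz', RingHom.mem_ker, AlgHom.commutes,
      IsScalarTower.algebraMap_apply A p.asIdeal.ResidueField K, map_eq_zero,
      Ideal.algebraMap_residueField_eq_zero]
  let B' := B ⊗[A] R
  let iR : R →+* B' := (Algebra.TensorProduct.includeRight (R := A) (A := B) (B := R)).toRingHom
  let : Algebra R B' := iR.toAlgebra
  have : IsScalarTower A R B' := .of_algebraMap_eq fun a =>
    ((Algebra.TensorProduct.includeRight (R := A) (A := B) (B := R)).commutes a).symm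
  have : Algebra.IsIntegral R B' := ⟨fun z => by
    induction z using TensorProduct.induction_on with
    | zero => exact isIntegral_zero
    | add a b ha hb => exact ha.add hb
    | tmul b r =>
      have h1 : IsIntegral R (b ⊗ₜ[A] (1 : R) : B') :=
        ((Algebra.IsIntegral.isIntegral (R := A) b).map
          (Algebra.TensorProduct.includeLeft (R := A) (S := A) (A := B) (B := R))).tower_top
      have h2 : IsIntegral R (algebraMap R B' r) := isIntegral_algebraMap
      have he : (b ⊗ₜ[A] r : B') = b ⊗ₜ[A] (1 : R) * algebraMap R B' r := by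
        show _ = _ * ((1 : B) ⊗ₜ[A] r)
        rw [Algebra.TensorProduct.tmul_mul_tmul, mul_one, one_mul]
      rw [he]; exact h1.mul h2⟩
  let C' := B' ⊗[B] C
  have hsurj' : ∀ x : PrimeSpectrum B', x.asIdeal.comap (algebraMap R B') = maximalIdeal R →
      ∃ y : PrimeSpectrum C', PrimeSpectrum.comap (algebraMap B' C') y = x := by
    intro x hx
    obtain ⟨y, hy⟩ := hsurj (PrimeSpectrum.comap (algebraMap B B') x) (by
      rw [← PrimeSpectrum.comap_comp_apply, ← IsScalarTower.algebraMap_eq, IsScalarTower.algebraMap_eq A R B',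
        PrimeSpectrum.comap_comp_apply]
      exact hp _ hx)
    obtain ⟨r, -, hr⟩ := WStrictLib.exists_point_tensor (A := B) (C := B') y x hy.symm.symm
    exact ⟨r, hr⟩
  obtain ⟨r0, hr0, hr0'⟩ := WStrictLib.exists_point_tensor (A := A) (C := B) (closedPoint R)
    (PrimeSpectrum.comap (algebraMap B C) Q) ((hp _ rfl).trans hQ.symm)
  obtain ⟨Q', hQ', hQ''⟩ := WStrictLib.exists_point_tensor (A := B) (C := B') Q r0 hr0'.symm
  obtain ⟨ψ, hψ⟩ := exists_section_integral (R := R) B' C' hsurj' Q' (by
    rw [show Q'.asIdeal.comap (algebraMap B' C') = r0.asIdeal from congrArg PrimeSpectrum.asIdeal hQ'']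
    exact congrArg PrimeSpectrum.asIdeal hr0)
  let φ : C →ₐ[B] B' := (ψ.restrictScalars B).comp Algebra.TensorProduct.includeRight
  obtain ⟨N, φ', hφ'⟩ := ((isColim_henz A K).baseChange B).exists_lift φ
  let m : PrimeSpectrum R := closedPoint R
  let gN := Algebra.TensorProduct.map (AlgHom.id B B) (Hensel.Henz.ofB N)
  refine ⟨N.B, inferInstance, inferInstance, inferInstance, PrimeSpectrum.comap (Hensel.Henz.ofB N).toRingHom m, φ',
    PrimeSpectrum.comap gN.toRingHom r0, ?_, ?_, ?_⟩
  · rw [← PrimeSpectrum.comap_comp_apply,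
      show (Hensel.Henz.ofB N).toRingHom.comp (algebraMap A N.B) = algebraMap A R from
        (Hensel.Henz.ofB N).comp_algebraMap]
    exact hp _ rfl
  · rw [← PrimeSpectrum.comap_comp_apply, show gN.toRingHom.comp
        (Algebra.TensorProduct.includeRight (R := A) (A := B) (B := N.B)).toRingHom =
        iR.comp (Hensel.Henz.ofB N).toRingHom from RingHom.ext fun z => by simp [gN, iR],
      PrimeSpectrum.comap_comp_apply]
    exact congrArg _ hr0
  · rw [← PrimeSpectrum.comap_comp_apply, show gN.toRingHom.comp φ'.toRingHom =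
        ψ.toRingHom.comp (Algebra.TensorProduct.includeRight (R := B) (A := B') (B := C)).toRingHom from
          congrArg AlgHom.toRingHom hφ', PrimeSpectrum.comap_comp_apply]
    refine (congrArg _ ?_).trans hQ'
    conv_rhs => rw [← hψ]
    rw [hQ'']

end Groth.Agent.EtFound
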