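import Mathlib.RingTheory.Unramified.LocalStructure
import Mathlib.RingTheory.Localization.Integral
import Mathlib.RingTheory.Polynomial.ScaleRoots

/-! standard etale algebras over a localization descend -/

universe u

open Polynomial
open scoped TensorProduct

namespace Groth.Agent.EtFound

set_option backward.isDefEq.respectTransparency.types false

theorem exists_standardEtale_lift_loc {A T C : Type u} [CommRing A] [CommRing T] [CommRing C] [Algebra A T]
    (S : Submonoid A) [IsLocalization S T] [Algebra T C] [Algebra.IsStandardEtale T C] :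
    ∃ (P : StandardEtalePair A), Nonempty (T ⊗[A] P.Ring ≃ₐ[T] C) := by
  obtain ⟨Q⟩ : Nonempty (StandardEtalePresentation T C) := inferInstance
  obtain ⟨b, hb⟩ := IsLocalization.exist_integer_multiples S (Finset.range (Q.f.natDegree + 1)) (fun i => Q.f.coeff i)
  obtain ⟨v, hv⟩ := (IsLocalization.map_units T b).exists_right_inv
  let u : T := algebraMap A T b
  let fu : T[X] := Q.f.scaleRoots u
  have hlift : fu ∈ Polynomial.lifts (algebraMap A T) := by
    rw [lifts_iff_coeff_lifts]
    intro i
    rcases lt_trichotomy i Q.f.natDegree with h | h | h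
    · obtain ⟨a, ha⟩ := hb i (Finset.mem_range.2 (h.trans (Nat.lt_succ_self _)))
      refine ⟨a * (b : A) ^ (Q.f.natDegree - i - 1), ?_⟩
      rw [map_mul, map_pow, ha, coeff_scaleRoots, Algebra.smul_def]
      change u * Q.f.coeff i * u ^ (Q.f.natDegree - i - 1) = _
      rw [mul_comm u, mul_assoc, ← pow_succ', Nat.sub_add_cancel (Nat.sub_pos_of_lt h)]
    · refine ⟨1, ?_⟩
      rw [map_one, h, coeff_scaleRoots_natDegree]
      exact Q.monic_f.symm
    · refine ⟨0, ?_⟩
      rw [map_zero, coeff_scaleRoots, Polynomial.coeff_eq_zero_of_natDegree_lt h, zero_mul]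
  obtain ⟨f, hf, -, hfm⟩ := Polynomial.lifts_and_natDegree_eq_and_monic hlift
    ((monic_scaleRoots_iff u).2 Q.monic_f)
  obtain ⟨b', hb'⟩ := IsLocalization.integerNormalization_map_to_map S (Q.g.comp (Polynomial.C v * X))
  set g := IsLocalization.integerNormalization S (Q.g.comp (Polynomial.C v * X))
  have hg : g.map (algebraMap A T) = Polynomial.C (algebraMap A T b') * Q.g.comp (Polynomial.C v * X) := by
    rw [hb', ← algebraMap_smul T, Polynomial.smul_eq_C_mul]
  let P : StandardEtalePair A :=
    ⟨f, hfm, g * derivative f, g, 0, 1, by rw [mul_zero, add_zero, pow_one]; ring⟩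
  let R' : StandardEtalePair T := P.map (algebraMap A T)
  have hfR : R'.f = fu := hf
  have hgR : R'.g = g.map (algebraMap A T) * derivative fu := by
    change (g * derivative f).map _ = _
    rw [Polynomial.map_mul, ← derivative_map, hf]
  have hcomp : fu.comp (Polynomial.C u * X) = Polynomial.C (u ^ Q.f.natDegree) * Q.f := by
    rw [Polynomial.comp, scaleRoots_eval₂_mul, ← map_pow, eval₂_C_X]
  have hder : Polynomial.C u * (derivative fu).comp (Polynomial.C u * X) =
      Polynomial.C (u ^ Q.f.natDegree) * derivative Q.f := by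
    have := congrArg derivative hcomp
    rw [derivative_comp, derivative_C_mul, derivative_C_mul, derivative_X, mul_one] at this
    exact this
  have hvu : v * u = 1 := (mul_comm _ _).trans hv
  let y : C := algebraMap T C u * Q.x
  have hQ : R'.HasMap y := by
    refine ⟨?_, ?_⟩
    · rw [hfR]; exact scaleRoots_aeval_eq_zero Q.hasMap.1
    · rw [hgR, map_mul]
      refine IsUnit.mul ?_ ?_
      · rw [hg, map_mul, aeval_C, aeval_comp, map_mul, aeval_C, aeval_X, ← mul_assoc, ← map_mul, hvu,
          map_one, one_mul]
        exact ((IsLocalization.map_units T b').map (algebraMap T C)).mul Q.hasMap.2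
      · have h := congrArg (aeval Q.x) hder
        rw [map_mul, aeval_comp, map_mul, aeval_C, aeval_X, map_mul, aeval_C, map_pow] at h
        refine isUnit_of_mul_isUnit_right (x := algebraMap T C u) ?_
        rw [show algebraMap T C u * aeval y (derivative fu) = _ from h]
        exact (((IsLocalization.map_units T b).map (algebraMap T C)).pow _).mul Q.hasMap.isUnit_derivative_f
  let z : R'.Ring := algebraMap T R'.Ring v * R'.X
  have hz : algebraMap T R'.Ring u * z = R'.X := by
    rw [← mul_assoc, ← map_mul, mul_comm u, hvu, map_one, one_mul]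
  have hR : Q.P.HasMap z := by
    have h := R'.hasMap_X
    rw [StandardEtalePair.HasMap, hfR, hgR, map_mul, IsUnit.mul_iff] at h
    refine ⟨?_, ?_⟩
    · have h1 := congrArg (aeval z) hcomp
      rw [aeval_comp, map_mul, aeval_C, aeval_X, hz, h.1, map_mul, aeval_C] at h1
      exact ((((IsLocalization.map_units T b).pow _).map (algebraMap T R'.Ring)).mul_right_eq_zero).1 h1.symm
    · have h2 := h.2.1
      rw [hg, map_mul, aeval_C, aeval_comp, map_mul, aeval_C, aeval_X] at h2
      exact isUnit_of_mul_isUnit_right h2
  let e : R'.Ring ≃ₐ[T] C := AlgEquiv.ofAlgHom (R'.lift y hQ)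
    ((Q.P.lift z hR).comp Q.equivRing.toAlgHom)
    (Q.hom_ext (by simp [z, y]; rw [← mul_assoc, ← map_mul (algebraMap T C), hvu, map_one, one_mul]))
    (R'.hom_ext (by simp [z, y]; rw [← mul_assoc, ← map_mul (algebraMap T R'.Ring), mul_comm u, hvu, map_one, one_mul]))
  let Pp : StandardEtalePresentation A P.Ring :=
    ⟨P, P.X, P.hasMap_X, by simpa [StandardEtalePair.lift_X_left] using Function.bijective_id⟩
  exact ⟨P, ⟨(Pp.baseChange (T := T)).equivRing.trans e⟩⟩

end Groth.Agent.EtFound
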