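import Groth.Agent.EtFound.LiftEtale
import Groth.Agent.EtFound.LiftEtaleLoc
import Mathlib.RingTheory.TensorProduct.Maps

/-! etale schemes over a fibre lift, Zariski locally -/

universe u

open CategoryTheory CategoryTheory.Limits AlgebraicGeometry Opposite Polynomial
open scoped TensorProduct

namespace Groth.Agent.EtFound

set_option backward.isDefEq.respectTransparency false
set_option backward.isDefEq.respectTransparency.types false

/-- standard etale algebras lift along the composite of a localization and a surjection -/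
theorem exists_standardEtale_lift_locQuot {A T C : Type u} [CommRing A] [CommRing T] [CommRing C] [Algebra A T]
    (M : Submonoid A) (hM : ∀ m : M, IsUnit (algebraMap A T m))
    (hT : Function.Surjective (IsLocalization.lift (S := Localization M) hM))
    [Algebra T C] [Algebra.IsStandardEtale T C] :
    ∃ (P : StandardEtalePair A), Nonempty (T ⊗[A] P.Ring ≃ₐ[T] C) := by
  letI : Algebra (Localization M) T := (IsLocalization.lift (S := Localization M) hM).toAlgebra
  haveI : IsScalarTower A (Localization M) T :=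
    IsScalarTower.of_algebraMap_eq fun a => (IsLocalization.lift_eq hM a).symm
  obtain ⟨P₁, ⟨e₁⟩⟩ := exists_standardEtale_lift (A := Localization M) (T := T) (C := C) hT
  obtain ⟨P, ⟨e₀⟩⟩ := exists_standardEtale_lift_loc (A := A) (T := Localization M) (C := P₁.Ring) M
  exact ⟨P, ⟨((Algebra.TensorProduct.cancelBaseChange A (Localization M) T T P.Ring).symm.trans
    (Algebra.TensorProduct.congr AlgEquiv.refl e₀)).trans e₁⟩⟩

/-- etale schemes over a subscheme lift Zariski locally, if standard etale algebras lift on a chart -/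
theorem exists_etale_lift_of_chart {Z X : Scheme.{u}} (i : Z ⟶ X) {U : Scheme.{u}}
    (f : U ⟶ Z) [AlgebraicGeometry.Etale f] (u : U) (A T : CommRingCat.{u}) [Algebra A T]
    (j : Spec A ⟶ X) [IsOpenImmersion j] (hxA : i (f u) ∈ Set.range j) (k : Spec T ⟶ Z)
    (sq : IsPullback k (Spec.map (CommRingCat.ofHom (algebraMap A T))) i j)
    (hlift : ∀ (C : Type u) [CommRing C] [Algebra T C] [Algebra.IsStandardEtale T C],
      ∃ (P : StandardEtalePair A), Nonempty ((T : Type u) ⊗[A] P.Ring ≃ₐ[T] C)) :
    ∃ (V : X.Etale) (h : pullback V.hom i ⟶ U), h ≫ f = pullback.snd V.hom i ∧ IsOpenImmersion h ∧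
      u ∈ Set.range h.base := by
  let q : Spec T ⟶ Spec A := Spec.map (CommRingCat.ofHom (algebraMap A T))
  have hj : IsOpenImmersion j := inferInstance
  have hk : IsOpenImmersion k := MorphismProperty.of_isPullback sq.flip hj
  obtain ⟨t, ht⟩ : ∃ t, k.base t = f.base u := by
    obtain ⟨a, ha⟩ := hxA
    obtain ⟨z, hz, -⟩ := Scheme.exists_preimage_of_isPullback sq (f.base u) a ha.symm
    exact ⟨z, hz⟩
  obtain ⟨u', hu', hu''⟩ := Scheme.Pullback.exists_preimage_pullback (f := f) (g := k) u t ht.symm
  obtain ⟨C0, w, hw, hu0, -⟩ := Scheme.exists_affine_mem_range_and_range_subset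
    (x := u') (U := (⊤ : (pullback f k).Opens)) (by simp)
  obtain ⟨c, hc⟩ := hu0
  obtain ⟨φ, hφ⟩ := Spec.map_surjective (w ≫ pullback.snd f k)
  algebraize [φ.hom]
  have : Algebra.Etale T C0 := by
    have h : AlgebraicGeometry.Etale (Spec.map φ) := by
      have hs : AlgebraicGeometry.Etale (pullback.snd f k) :=
        MorphismProperty.of_isPullback (P := @AlgebraicGeometry.Etale) (IsPullback.of_hasPullback f k) ‹_›
      rw [hφ]; infer_instance
    exact RingHom.etale_algebraMap.1 ((HasRingHomProperty.Spec_iff (P := @AlgebraicGeometry.Etale)).mp h)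
  obtain ⟨g, hgc, hC⟩ := Algebra.IsEtaleAt.exists_isStandardEtale (R := T) c.asIdeal
  obtain ⟨P, ⟨eC⟩⟩ := hlift (Localization.Away g)
  let B : CommRingCat.{u} := CommRingCat.of P.Ring
  let b : Spec B ⟶ Spec A := Spec.map (CommRingCat.ofHom (algebraMap A P.Ring))
  have hb : AlgebraicGeometry.Etale b := by
    rw [HasRingHomProperty.Spec_iff (P := @AlgebraicGeometry.Etale)]
    exact RingHom.etale_algebraMap.2 inferInstance
  have hVet : AlgebraicGeometry.Etale (b ≫ j) := inferInstance
  let V : X.Etale := Scheme.Etale.mk (b ≫ j)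
  -- the fibre of `V` over `Z`
  let L : CommRingCat.{u} := CommRingCat.of (Localization.Away g)
  let π : Spec L ⟶ Spec T := Spec.map (CommRingCat.ofHom (algebraMap T (Localization.Away g)))
  let m : Spec L ⟶ Spec B := Spec.map (CommRingCat.ofHom ((eC.toRingEquiv.toRingHom).comp
    (Algebra.TensorProduct.includeRight (R := A) (A := T) (B := P.Ring)).toRingHom))
  let ε : Spec L ≅ Spec (CommRingCat.of (T ⊗[A] P.Ring)) :=
    Scheme.Spec.mapIso (eC.toRingEquiv.toCommRingCatIso).op
  have sq2 : IsPullback π m q b := by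
    refine (IsPullback.of_hasPullback q b).of_iso ((pullbackSpecIso A T P.Ring) ≪≫ ε.symm)
      (Iso.refl _) (Iso.refl _) (Iso.refl _) ?_ ?_ (by simp) (by simp)
    · have e1 : ε.hom ≫ Spec.map (CommRingCat.ofHom (algebraMap T (T ⊗[A] P.Ring))) = π := by
        change Spec.map _ ≫ Spec.map _ = _
        rw [← Spec.map_comp]
        refine congrArg Spec.map ?_
        ext r
        exact eC.commutes r
      rw [← e1]
      change _ ≫ 𝟙 _ = ((pullbackSpecIso A T P.Ring).hom ≫ ε.inv) ≫ ε.hom ≫ _
      rw [Category.comp_id, Category.assoc, Iso.inv_hom_id_assoc]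
      exact (pullbackSpecIso_hom_fst' _ _ _).symm
    · have e2 : ε.hom ≫ Spec.map (CommRingCat.ofHom
          (Algebra.TensorProduct.includeRight (R := A) (A := T) (B := P.Ring)).toRingHom) = m := by
        change Spec.map _ ≫ Spec.map _ = _
        rw [← Spec.map_comp]
        rfl
      rw [← e2]
      change _ ≫ 𝟙 _ = ((pullbackSpecIso A T P.Ring).hom ≫ ε.inv) ≫ ε.hom ≫ _
      rw [Category.comp_id, Category.assoc, Iso.inv_hom_id_assoc]
      exact (pullbackSpecIso_hom_snd _ _ _).symm
  have sq3 : IsPullback m (π ≫ k) (b ≫ j) i := sq2.flip.paste_vert sq.flip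
  let o : Spec L ⟶ U := Spec.map (CommRingCat.ofHom (algebraMap C0 (Localization.Away g))) ≫ w ≫ pullback.fst f k
  have ho : IsOpenImmersion o := by
    have h1 : IsOpenImmersion (Spec.map (CommRingCat.ofHom (algebraMap C0 (Localization.Away g)))) :=
      IsOpenImmersion.of_isLocalization g
    have h2 : IsOpenImmersion (pullback.fst f k) :=
      MorphismProperty.of_isPullback (P := @IsOpenImmersion) (IsPullback.of_hasPullback f k).flip hk
    infer_instance
  have hof : o ≫ f = π ≫ k := by
    simp only [o, Category.assoc, pullback.condition]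
    rw [← Category.assoc w, ← hφ, ← Category.assoc, ← Spec.map_comp]
    refine congrArg (· ≫ k) (congrArg Spec.map ?_)
    ext r
    exact (IsScalarTower.algebraMap_apply T C0 (Localization.Away g) r).symm
  refine ⟨V, sq3.isoPullback.inv ≫ o, ?_, inferInstance, ?_⟩
  · rw [Category.assoc, hof]
    exact sq3.isoPullback_inv_snd
  · have hcg : c ∈ Set.range (Spec.map (CommRingCat.ofHom (algebraMap C0 (Localization.Away g)))).base :=
      (PrimeSpectrum.localization_away_comap_range (Localization.Away g) g).ge hgc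
    obtain ⟨l, hl⟩ := hcg
    obtain ⟨p', hp'⟩ := sq3.isoPullback.inv.surjective l
    refine ⟨p', (Scheme.Hom.comp_apply _ _ p').trans ((congrArg o.base hp').trans ?_)⟩
    rw [← hu']
    simp only [o, Scheme.Hom.comp_apply]
    erw [hl, hc]


/-- etale schemes over a fibre lift Zariski locally -/
theorem exists_etale_lift_fiber {X S V : Scheme.{u}} (f : X ⟶ S) (s : S) (g : V ⟶ f.fiber s)
    [AlgebraicGeometry.Etale g] (v : V) :
    ∃ (W : X.Etale) (h : pullback W.hom (f.fiberι s) ⟶ V), h ≫ g = pullback.snd W.hom (f.fiberι s) ∧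
      IsOpenImmersion h ∧ v ∈ Set.range h.base := by
  let x := f.fiberι s (g v)
  have hfx : f x = s := by
    have hmem : x ∈ Set.range (f.fiberι s) := ⟨_, rfl⟩
    rw [Scheme.Hom.range_fiberι] at hmem
    exact hmem
  obtain ⟨O, hO, hxO, -⟩ := exists_isAffineOpen_mem_and_subset (X := S) (x := s) (U := ⊤) trivial
  obtain ⟨U, hU, hxU, hUO⟩ := exists_isAffineOpen_mem_and_subset (X := X) (x := x) (U := f ⁻¹ᵁ O)
    (show f x ∈ O by rw [hfx]; exact hxO)
  let σ : Γ(S, O) ⟶ S.residueField s := S.presheaf.germ O s hxO ≫ S.residue s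
  have hσ : Spec.map σ ≫ hO.fromSpec = S.fromSpecResidueField s := by
    rw [Spec.map_comp, Category.assoc]
    show Spec.map (S.residue s) ≫ hO.fromSpecStalk hxO = _
    rw [hO.fromSpecStalk_eq_fromSpecStalk hxO]
    rfl
  letI : Algebra Γ(S, O) Γ(X, U) := (f.appLE O U hUO).hom.toAlgebra
  letI : Algebra Γ(S, O) (S.residueField s) := σ.hom.toAlgebra
  let A := Γ(X, U)
  let T : CommRingCat.{u} := CommRingCat.of (Γ(X, U) ⊗[Γ(S, O)] S.residueField s)
  have hsq : Spec.map (f.appLE O U hUO) ≫ hO.fromSpec = hU.fromSpec ≫ f := hO.SpecMap_appLE_fromSpec f hU hUO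
  let a : Spec T ⟶ Spec A := Spec.map (CommRingCat.ofHom (algebraMap A T))
  let b : Spec T ⟶ Spec (S.residueField s) := Spec.map (CommRingCat.ofHom
    (Algebra.TensorProduct.includeRight (R := Γ(S, O)) (A := Γ(X, U)) (B := S.residueField s)).toRingHom)
  have h0 : IsPullback a b (Spec.map (f.appLE O U hUO)) (Spec.map σ) :=
    (IsPullback.of_hasPullback _ _).of_iso (pullbackSpecIso Γ(S, O) Γ(X, U) (S.residueField s))
      (Iso.refl _) (Iso.refl _) (Iso.refl _)
      (by simp only [Iso.refl_hom, Category.comp_id]; exact (pullbackSpecIso_hom_fst' _ _ _).symm)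
      (by simp only [Iso.refl_hom, Category.comp_id]; exact (pullbackSpecIso_hom_snd _ _ _).symm)
      (by simp only [Iso.refl_hom, Category.comp_id, Category.id_comp]; rfl)
      (by simp only [Iso.refl_hom, Category.comp_id, Category.id_comp]; rfl)
  have h1 : IsPullback a b (hU.fromSpec ≫ f) (S.fromSpecResidueField s) := by
    rw [← hsq, ← hσ]
    refine ⟨⟨by rw [reassoc_of% h0.w]⟩, ⟨PullbackCone.IsLimit.mk _ (fun c => h0.lift c.fst c.snd
      ((cancel_mono hO.fromSpec).1 (by rw [Category.assoc, Category.assoc]; exact c.condition)))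
      (fun c => h0.lift_fst _ _ _) (fun c => h0.lift_snd _ _ _) (fun c m hm1 hm2 => ?_)⟩⟩
    exact h0.hom_ext (hm1.trans (h0.lift_fst _ _ _).symm) (hm2.trans (h0.lift_snd _ _ _).symm)
  let k : Spec T ⟶ f.fiber s := pullback.lift (a ≫ hU.fromSpec) b (by rw [Category.assoc]; exact h1.w)
  have sq : IsPullback k a (f.fiberι s) hU.fromSpec := by
    refine IsPullback.of_right (h₁₂ := f.fiberToSpecResidueField s) ?_ (pullback.lift_fst _ _ _)
      (IsPullback.of_hasPullback f (S.fromSpecResidueField s)).flip
    rw [show k ≫ f.fiberToSpecResidueField s = b from pullback.lift_snd _ _ _]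
    exact h1.flip
  let p := (hO.primeIdealOf ⟨s, hxO⟩).asIdeal
  let M : Submonoid Γ(X, U) := p.primeCompl.map (algebraMap Γ(S, O) Γ(X, U))
  have hker : ∀ r : Γ(S, O), r ∈ p.primeCompl → IsUnit (σ.hom r) := fun r hr => by
    letI := S.presheaf.algebra_section_stalk ⟨s, hxO⟩
    haveI := hO.isLocalization_stalk ⟨s, hxO⟩
    exact (IsLocalization.map_units (S.presheaf.stalk s) ⟨r, hr⟩).map (S.residue s).hom
  have hM : ∀ m : M, IsUnit (algebraMap Γ(X, U) T m) := by
    rintro ⟨_, r, hr, rfl⟩
    show IsUnit ((algebraMap Γ(S, O) Γ(X, U) r) ⊗ₜ[Γ(S, O)] (1 : S.residueField s))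
    rw [Algebra.algebraMap_eq_smul_one, TensorProduct.smul_tmul, ← Algebra.algebraMap_eq_smul_one]
    exact (hker r hr).map (Algebra.TensorProduct.includeRight (R := Γ(S, O)) (A := Γ(X, U)) (B := S.residueField s))
  have hT : Function.Surjective (IsLocalization.lift (S := Localization M) hM) := by
    intro t
    let φ := IsLocalization.lift (S := Localization M) hM
    change t ∈ φ.range
    induction t using TensorProduct.induction_on with
    | zero => exact φ.range.zero_mem
    | add c d hc hd => exact φ.range.add_mem hc hd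
    | tmul c z =>
      letI := S.presheaf.algebra_section_stalk ⟨s, hxO⟩
      haveI := hO.isLocalization_stalk ⟨s, hxO⟩
      obtain ⟨z', rfl⟩ := S.residue_surjective s z
      obtain ⟨⟨r, m⟩, hrm⟩ := IsLocalization.surj p.primeCompl z'
      refine ⟨IsLocalization.mk' (Localization M) (algebraMap Γ(S, O) Γ(X, U) r * c)
        (⟨_, Submonoid.mem_map_of_mem (algebraMap Γ(S, O) Γ(X, U)) m.2⟩ : M), ?_⟩
      rw [IsLocalization.lift_mk'_spec]
      show (algebraMap Γ(S, O) Γ(X, U) r * c) ⊗ₜ[Γ(S, O)] (1 : S.residueField s) =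
        ((algebraMap Γ(S, O) Γ(X, U) m) ⊗ₜ[Γ(S, O)] (1 : S.residueField s)) * (c ⊗ₜ[Γ(S, O)] (S.residue s).hom z')
      rw [Algebra.TensorProduct.tmul_mul_tmul, one_mul]
      rw [← Algebra.smul_def r c, ← Algebra.smul_def (m : Γ(S, O)) c, TensorProduct.smul_tmul,
        TensorProduct.smul_tmul, Algebra.smul_def, Algebra.smul_def, mul_one]
      congr 1
      have h := congrArg (S.residue s).hom hrm
      rw [map_mul, mul_comm] at h
      exact h.symm
  exact exists_etale_lift_of_chart (f.fiberι s) g v A T hU.fromSpec (by rw [hU.range_fromSpec]; exact hxU) k sq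
    fun C _ _ _ => exists_standardEtale_lift_locQuot M hM hT

end Groth.Agent.EtFound
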