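import Groth.Agent.EtFound.SpectralSections
import Mathlib.Topology.LocallyConstant.Basic
import Mathlib.Topology.Sheaves.LocalPredicate

/-!
A closed subset along which sheaves of sets have the same global sections detects clopen subsets.
-/

set_option autoImplicit false
set_option linter.style.haveILetI false

universe u

open CategoryTheory TopologicalSpace Opposite TopCat Topology

noncomputable section

namespace Groth.Agent.LiftsH0

open SpectralSections

theorem lifts_of_bijective (X : TopCat.{u}) (Z : Set X)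
    (h : ∀ F : TopCat.Sheaf (Type u) X, Function.Bijective
      (((TopCat.Sheaf.pullbackPushforwardAdjunction (Type u)
        (TopCat.ofHom ⟨(Subtype.val : Z → X), continuous_subtype_val⟩)).unit.app F).hom.app (op ⊤))) :
    ∀ V : Set Z, IsClopen V → ∃! U : Set X, IsClopen U ∧ Subtype.val ⁻¹' U = V := by
  classical
  let i : TopCat.of Z ⟶ X := TopCat.ofHom ⟨(Subtype.val : Z → X), continuous_subtype_val⟩
  have hi : IsInducing i := IsInducing.subtypeVal
  let B : TopCat.{u} := TopCat.of (ULift.{u} Bool)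
  let F := TopCat.sheafToTop (X := X) B
  let G := (TopCat.Sheaf.pullback (Type u) i).obj F
  let η := (TopCat.Sheaf.pullbackPushforwardAdjunction (Type u) i).unit.app F
  let cst : ∀ U : Opens X, Bool → F.presheaf.obj (op U) := fun U b =>
    TopCat.ofHom ⟨fun _ => ⟨b⟩, continuous_const⟩
  let ev : ∀ {U : Opens X} (y : X) (_ : y ∈ U), F.presheaf.obj (op U) → Bool :=
    fun {U} y hy s => ((show (Opens.toTopCat X).obj U ⟶ B from s).hom ⟨y, hy⟩).down
  have hev : ∀ {U U' : Opens X} (y : X) (hy : y ∈ U) (hy' : y ∈ U') (s : F.presheaf.obj (op U))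
      (s' : F.presheaf.obj (op U')), F.presheaf.germ U y hy s = F.presheaf.germ U' y hy' s' →
      ev y hy s = ev y hy' s' := by
    intro U U' y hy hy' s s' e
    obtain ⟨W, hW, iU, iU', heq⟩ := F.presheaf.germ_eq y hy hy' s s' e
    exact congrArg (fun t => ev y hW t) heq

  intro V hV
  obtain ⟨O, hO, hOV⟩ := isOpen_induced_iff.1 hV.isOpen
  obtain ⟨P, hP, hPV⟩ := isOpen_induced_iff.1 hV.compl.isOpen
  let O' : Opens X := ⟨O, hO⟩
  let P' : Opens X := ⟨P, hP⟩
  let U2 : ULift.{u} Bool → Opens Z := fun b => (Opens.map i).obj (if b.down then O' else P')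
  let sf : ∀ b, G.presheaf.obj (op (U2 b)) := fun b => η.hom.app (op _) (cst _ b.down)
  obtain ⟨g, hg, -⟩ := G.existsUnique_gluing' U2 ⊤ (fun b => homOfLE le_top) (fun z _ => by
      by_cases hz : z ∈ V
      · refine Opens.mem_iSup.2 ⟨⟨true⟩, ?_⟩
        show z ∈ Subtype.val ⁻¹' O
        rw [hOV]; exact hz
      · refine Opens.mem_iSup.2 ⟨⟨false⟩, ?_⟩
        show z ∈ Subtype.val ⁻¹' P
        rw [hPV]; exact hz) sf (fun b b' => TopCat.Presheaf.section_ext G _ _ _ fun z hz => by
      rcases b with ⟨_ | _⟩ <;> rcases b' with ⟨_ | _⟩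
      · rfl
      · exfalso
        have h1 : z ∈ Subtype.val ⁻¹' P := hz.1
        have h2 : z ∈ Subtype.val ⁻¹' O := hz.2
        rw [hPV] at h1; rw [hOV] at h2
        exact h1 h2
      · exfalso
        have h1 : z ∈ Subtype.val ⁻¹' O := hz.1
        have h2 : z ∈ Subtype.val ⁻¹' P := hz.2
        rw [hOV] at h1; rw [hPV] at h2
        exact h2 h1
      · rfl)
  obtain ⟨s, hs⟩ := (h F).2 g
  let U : Set X := (fun y => ev (U := ⊤) y (Set.mem_univ y) s) ⁻¹' {true}
  have hsc : Continuous fun y => ev (U := ⊤) y (Set.mem_univ y) s :=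
    continuous_uliftDown.comp ((show (Opens.toTopCat X).obj ⊤ ⟶ B from s).hom.continuous.comp
      (continuous_id.subtype_mk fun _ => Set.mem_univ _))
  have key : ∀ (z : Z) (b : ULift.{u} Bool), z ∈ U2 b →
      ev (U := ⊤) (i z) (Set.mem_univ _) s = b.down := by
    intro z b hb
    refine hev (i z) (Set.mem_univ _) hb s (cst _ b.down) ?_
    apply (α_bijective hi F z).1
    refine (α_germ (i := i) F z ⊤ (Set.mem_univ _) s).trans (Eq.trans ?_ (α_germ (i := i) F z _ hb _).symm)
    have h1 := congrArg (G.presheaf.germ (U2 b) z hb) (hg b)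
    erw [TopCat.Presheaf.germ_res_apply] at h1
    exact (congrArg _ hs).trans h1
  have hUV : ∀ z : Z, i z ∈ U ↔ z ∈ V := by
    intro z
    by_cases hz : z ∈ V
    · exact iff_of_true (key z ⟨true⟩ (show z ∈ Subtype.val ⁻¹' O by rw [hOV]; exact hz)) hz
    · refine iff_of_false (fun hzU => ?_) hz
      have h0 := key z ⟨false⟩ (show z ∈ Subtype.val ⁻¹' P by rw [hPV]; exact hz)
      exact Bool.false_ne_true (h0.symm.trans hzU)
  have hU : IsClopen U := (isClopen_discrete _).preimage hsc
  refine ⟨U, ⟨hU, Set.ext hUV⟩, fun U' hU' => ?_⟩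
  let χ : ∀ D : Set X, IsClopen D → F.presheaf.obj (op ⊤) := fun D hD =>
    TopCat.ofHom ⟨fun y => ⟨decide (y.1 ∈ D)⟩, continuous_uliftUp.comp
      (((IsLocallyConstant.iff_exists_open fun y : X => decide (y ∈ D)).2 fun y => by
        by_cases hy : y ∈ D
        · exact ⟨D, hD.isOpen, hy, fun y' hy' => by simp only [hy, hy']⟩
        · exact ⟨Dᶜ, hD.compl.isOpen, hy, fun y' (hy' : y' ∉ D) => by simp only [hy, hy']⟩).continuous.comp
        continuous_subtype_val)⟩
  have e : χ U' hU'.1 = χ U hU := by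
    apply (h F).1
    refine TopCat.Presheaf.section_ext G _ _ _ fun z _ => ?_
    refine (α_germ (i := i) F z ⊤ (Set.mem_univ _) _).symm.trans
      (Eq.trans ?_ (α_germ (i := i) F z ⊤ (Set.mem_univ _) _))
    refine congrArg _ ?_
    have hiff : i z ∈ U' ↔ i z ∈ U := (Set.ext_iff.1 hU'.2 z).trans (hUV z).symm
    by_cases hz : i z ∈ U
    · refine TopCat.Presheaf.germ_ext F.presheaf (⟨U ∩ U', hU.isOpen.inter hU'.1.isOpen⟩ : Opens X)
        ⟨hz, hiff.2 hz⟩ (homOfLE le_top) (homOfLE le_top) ?_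
      refine TopCat.hom_ext (ContinuousMap.ext fun y => ULift.ext _ _ ?_)
      show decide (y.1 ∈ U') = decide (y.1 ∈ U)
      exact decide_eq_decide.2 (iff_of_true y.2.2 y.2.1)
    · refine TopCat.Presheaf.germ_ext F.presheaf (⟨Uᶜ ∩ U'ᶜ, hU.compl.isOpen.inter hU'.1.compl.isOpen⟩ : Opens X)
        ⟨hz, fun h' => hz (hiff.1 h')⟩ (homOfLE le_top) (homOfLE le_top) ?_
      refine TopCat.hom_ext (ContinuousMap.ext fun y => ULift.ext _ _ ?_)
      show decide (y.1 ∈ U') = decide (y.1 ∈ U)
      exact decide_eq_decide.2 (iff_of_false y.2.2 y.2.1)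
  ext y
  have := congrArg (fun s => ev (U := ⊤) y (Set.mem_univ y) s) e
  exact decide_eq_decide.1 this

end Groth.Agent.LiftsH0
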