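import Groth.Agent.EtFound.FiniteStalk
import Mathlib.CategoryTheory.Sites.ConstantSheaf
import Mathlib.CategoryTheory.Sites.LocallyBijective
import Mathlib.FieldTheory.IsAlgClosed.AlgebraicClosure

/-! being constant over an etale scheme, in terms of stalks -/

universe u

open CategoryTheory CategoryTheory.Limits AlgebraicGeometry Opposite

namespace Groth.Agent.EtFound

set_option backward.isDefEq.respectTransparency false
set_option backward.isDefEq.respectTransparency.types false

variable {A : Type (u + 2)} [Category.{u + 1} A] [HasColimitsOfSize.{u, u} A]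
  {FA : A → A → Type*} {CA : A → Type (u + 1)}
  [∀ M N, FunLike (FA M N) (CA M) (CA N)] [ConcreteCategory.{u + 1} A FA]
  [PreservesFilteredColimitsOfSize.{u, u} (forget A)]
  {X : Scheme.{u}} (F : Sheaf X.smallEtaleTopology A) {U : X.Etale} {M : A}

/-- a section family over `U` inducing bijections at all geometric points of `U` -/
def ConstBy (φ : M ⟶ F.obj.obj (op U)) : Prop :=
  ∀ (Ω : Type u) [Field Ω] [IsAlgClosed Ω] (ξ : Spec (CommRingCat.of Ω) ⟶ X)
    (z : (Scheme.pointSmallEtale ξ).fiber.obj U),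
      Function.Bijective (φ ≫ (Scheme.pointSmallEtale ξ).toPresheafFiber U z F.obj)

theorem exists_algClosed_point (V : X.Etale) (x : V.left) :
    ∃ (Ω : Type u) (_ : Field Ω) (_ : IsAlgClosed Ω) (ξ : Spec (CommRingCat.of Ω) ⟶ X)
      (z : (Scheme.pointSmallEtale ξ).fiber.obj V),
        (z.left : Spec (CommRingCat.of Ω) ⟶ V.left).base (default : Spec (CommRingCat.of Ω)) = x := by
  let Ω := AlgebraicClosure (V.left.residueField x)
  let l : Spec (CommRingCat.of Ω) ⟶ V.left :=
    Spec.map (CommRingCat.ofHom (algebraMap (V.left.residueField x) Ω)) ≫ V.left.fromSpecResidueField x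
  refine ⟨Ω, inferInstance, inferInstance, l ≫ V.hom, CategoryTheory.Over.homMk l rfl, ?_⟩
  exact (Scheme.Hom.comp_apply _ _ _).trans (Scheme.fromSpecResidueField_apply x _)

variable {F} [∀ U : X.Etale, HasWeakSheafify (X.smallEtaleTopology.over U) A]
  [∀ U : X.Etale, (X.smallEtaleTopology.over U).WEqualsLocallyBijective A]

/-- the map from the constant presheaf given by a family of sections -/
noncomputable def constPreMap (φ : M ⟶ F.obj.obj (op U)) :
    (Functor.const (Over U)ᵒᵖ).obj M ⟶ (F.over U).obj where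
  app W := φ ≫ F.obj.map W.unop.hom.op
  naturality W W' g := by
    refine (Category.id_comp _).trans ?_
    show φ ≫ F.obj.map W'.unop.hom.op = (φ ≫ F.obj.map W.unop.hom.op) ≫ F.obj.map g.unop.left.op
    rw [Category.assoc, ← Functor.map_comp, ← op_comp, Over.w]

/-- the map from the constant sheaf given by a family of sections -/
noncomputable def constMap (φ : M ⟶ F.obj.obj (op U)) :
    (constantSheaf (X.smallEtaleTopology.over U) A).obj M ⟶ F.over U :=
  (presheafToSheaf _ A).map (constPreMap φ) ≫ (sheafificationAdjunction _ A).counit.app (F.over U)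

theorem constMap_natural {G : Sheaf X.smallEtaleTopology A} {N : A} {φ : M ⟶ F.obj.obj (op U)}
    {ψ : N ⟶ G.obj.obj (op U)} (a : F ⟶ G) (h : M ⟶ N) (e : φ ≫ a.hom.app (op U) = h ≫ ψ) :
    constMap φ ≫ (X.smallEtaleTopology.overPullback A U).map a =
      (constantSheaf (X.smallEtaleTopology.over U) A).map h ≫ constMap ψ := by
  have e' : constPreMap φ ≫ ((X.smallEtaleTopology.overPullback A U).map a).hom =
      (Functor.const (Over U)ᵒᵖ).map h ≫ constPreMap ψ := by
    refine NatTrans.ext (funext fun W => ?_)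
    show (φ ≫ F.obj.map W.unop.hom.op) ≫ a.hom.app (op W.unop.left) = h ≫ ψ ≫ G.obj.map W.unop.hom.op
    rw [Category.assoc, a.hom.naturality, reassoc_of% e]
  have n := (sheafificationAdjunction (X.smallEtaleTopology.over U) A).counit.naturality
    ((X.smallEtaleTopology.overPullback A U).map a)
  refine (Category.assoc _ _ _).trans ((congrArg (_ ≫ ·) n.symm).trans ?_)
  refine (Category.assoc _ _ _).symm.trans (Eq.trans ?_ (Category.assoc _ _ _))
  refine congrArg (· ≫ _) ?_
  refine ((presheafToSheaf _ A).map_comp _ _).symm.trans ?_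
  exact (congrArg (presheafToSheaf _ A).map e').trans ((presheafToSheaf _ A).map_comp _ _)

theorem isIso_constMap {φ : M ⟶ F.obj.obj (op U)} (h : ConstBy F φ) : IsIso (constMap φ) := by
  let J := X.smallEtaleTopology.over U
  let η := constPreMap φ
  have key : ∀ (W : Over U) (V : X.Etale) (g : V ⟶ W.left) {Ω : Type u} [Field Ω] [IsAlgClosed Ω]
      (ξ : Spec (CommRingCat.of Ω) ⟶ X) (z : (Scheme.pointSmallEtale ξ).fiber.obj V) (m : ToType M),
      (Scheme.pointSmallEtale ξ).toPresheafFiber W.left ((Scheme.pointSmallEtale ξ).fiber.map g z) F.obj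
        (η.app (op W) m) =
      (φ ≫ (Scheme.pointSmallEtale ξ).toPresheafFiber U
        ((Scheme.pointSmallEtale ξ).fiber.map (g ≫ W.hom) z) F.obj) m := fun W V g Ω _ _ ξ z m => by
    refine (congrArg _ (ConcreteCategory.comp_apply φ (F.obj.map W.hom.op) m)).trans ?_
    refine ((Scheme.pointSmallEtale ξ).toPresheafFiber_w_apply W.hom _ F.obj (φ m)).trans ?_
    rw [← Functor.map_comp_apply]
    exact (ConcreteCategory.comp_apply _ _ _).symm
  have hi : Presheaf.IsLocallyInjective J η := ⟨fun {W} m m' e => by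
    rw [GrothendieckTopology.mem_over_iff, mem_topology_iff]
    intro x
    obtain ⟨Ω, _, _, ξ, z, hz⟩ := exists_algClosed_point W.unop.left x
    have hm : m = m' := by
      have h1 := key W.unop _ (𝟙 _) ξ z m
      have h2 := key W.unop _ (𝟙 _) ξ z m'
      exact (h Ω ξ _).1 (h1.symm.trans ((congrArg _ e).trans h2))
    refine ⟨W.unop.left, 𝟙 _, x, ?_, rfl⟩
    rw [Sieve.overEquiv_iff]
    subst hm
    rfl⟩
  have hs : Presheaf.IsLocallySurjective J η := ⟨fun {W} s => by
    rw [GrothendieckTopology.mem_over_iff, mem_topology_iff]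
    intro x
    obtain ⟨Ω, _, _, ξ, z, hz⟩ := exists_algClosed_point W.left x
    obtain ⟨m, hm⟩ := (h Ω ξ ((Scheme.pointSmallEtale ξ).fiber.map W.hom z)).2
      ((Scheme.pointSmallEtale ξ).toPresheafFiber W.left z F.obj s)
    have h0 := key W _ (𝟙 _) ξ z m
    rw [Category.id_comp, CategoryTheory.Functor.map_id, ConcreteCategory.id_apply] at h0
    obtain ⟨V, g, v, hv, hg⟩ := ((Scheme.pointSmallEtale ξ).toPresheafFiber_eq_iff' W.left z _ _).1 (h0.trans hm)
    refine ⟨V, g, (v.left : Spec (CommRingCat.of Ω) ⟶ V.left).base (default : Spec (CommRingCat.of Ω)), ?_, ?_⟩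
    · rw [Sieve.overEquiv_iff]
      refine ⟨m, ?_⟩
      refine Eq.trans ?_ hg
      refine (ConcreteCategory.comp_apply φ _ m).trans ?_
      refine Eq.trans ?_ (congrArg (F.obj.map g.op) (ConcreteCategory.comp_apply φ (F.obj.map W.hom.op) m)).symm
      rw [← Functor.map_comp_apply, ← op_comp]
      rfl
    · rw [← hz, ← hv]
      exact (Scheme.Hom.comp_apply _ _ _).symm⟩
  have : IsIso ((presheafToSheaf J A).map η) := by
    have hW : J.W η := (J.W_iff_isLocallyBijective η).2 ⟨hi, hs⟩
    rwa [J.W_iff] at hW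
  exact inferInstanceAs (IsIso ((presheafToSheaf J A).map η ≫ (sheafificationAdjunction J A).counit.app (F.over U)))

/-- constancy over `U` from bijectivity at geometric points -/
theorem nonempty_restr_iso_const {φ : M ⟶ F.obj.obj (op U)} (h : ConstBy F φ) :
    Nonempty (F.over U ≅ (constantSheaf (X.smallEtaleTopology.over U) A).obj M) :=
  have := isIso_constMap h
  ⟨(asIso (constMap φ)).symm⟩

/-- restricting a constant family -/
theorem ConstBy.restrict {φ : M ⟶ F.obj.obj (op U)} (h : ConstBy F φ) {V : X.Etale} (g : V ⟶ U) :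
    ConstBy F (φ ≫ F.obj.map g.op) := fun Ω _ _ ξ z => by
  refine Eq.mp (congrArg Function.Bijective (funext fun m => ?_)) (h Ω ξ ((Scheme.pointSmallEtale ξ).fiber.map g z))
  rw [Category.assoc]
  exact congrArg (fun k : F.obj.obj (op U) ⟶ _ => (φ ≫ k) m)
    ((Scheme.pointSmallEtale ξ).toPresheafFiber_w g z F.obj).symm

/-- constancy over `U` gives bijectivity at geometric points -/
theorem exists_constBy (e : F.over U ≅ (constantSheaf (X.smallEtaleTopology.over U) A).obj M) :
    ∃ φ : M ⟶ F.obj.obj (op U), ConstBy F φ := by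
  let J := X.smallEtaleTopology.over U
  let η : (Functor.const (Over U)ᵒᵖ).obj M ⟶ (F.over U).obj := toSheafify J _ ≫ e.inv.hom
  have : IsIso e.inv.hom := inferInstanceAs (IsIso ((sheafToPresheaf _ _).map e.inv))
  have hW : J.W η := MorphismProperty.RespectsIso.postcomp _ e.inv.hom _ (J.W_toSheafify _)
  obtain ⟨hinj, hsurj⟩ := (J.W_iff_isLocallyBijective η).1 hW
  refine ⟨η.app (op (Over.mk (𝟙 U))), fun Ω _ _ ξ u₀ => ?_⟩
  let Φ := Scheme.pointSmallEtale ξ
  let φ : M ⟶ Φ.presheafFiber.obj F.obj := η.app (op (Over.mk (𝟙 U))) ≫ Φ.toPresheafFiber U u₀ F.obj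
  have key : ∀ (W : Over U) (w : Φ.fiber.obj W.left) (m : ToType M), Φ.fiber.map W.hom w = u₀ →
      φ m = Φ.toPresheafFiber W.left w F.obj (η.app (op W) m) := by
    intro W w m hw
    have h2 : η.app (op W) m = F.obj.map W.hom.op (η.app (op (Over.mk (𝟙 U))) m) :=
      (congrArg _ (ConcreteCategory.id_apply m).symm).trans
        (NatTrans.naturality_apply η (Over.homMk W.hom : W ⟶ Over.mk (𝟙 U)).op m)
    rw [h2, Φ.toPresheafFiber_w_apply, hw]
    exact ConcreteCategory.comp_apply _ _ m
  refine ⟨fun m m' h => ?_, fun p => ?_⟩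
  · simp only [ConcreteCategory.comp_apply] at h
    obtain ⟨V, g, v, hv, hg⟩ := (Φ.toPresheafFiber_eq_iff' U u₀ _ _).1 h
    have h3 : η.app (op (Over.mk g)) m = η.app (op (Over.mk g)) m' :=
      (congrArg _ (ConcreteCategory.id_apply m).symm).trans
        ((NatTrans.naturality_apply η (Over.homMk g : Over.mk g ⟶ Over.mk (𝟙 U)).op m).trans
          (hg.trans ((NatTrans.naturality_apply η (Over.homMk g : Over.mk g ⟶ Over.mk (𝟙 U)).op m').symm.trans
            (congrArg _ (ConcreteCategory.id_apply m')))))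
    have hS := Presheaf.equalizerSieve_mem J η _ _ h3
    rw [GrothendieckTopology.mem_over_iff] at hS
    obtain ⟨W, f, hf, -, -⟩ := Φ.jointly_surjective _ hS v
    rw [Sieve.overEquiv_iff] at hf
    exact (ConcreteCategory.id_apply m).symm.trans (hf.trans (ConcreteCategory.id_apply m'))
  · obtain ⟨V, v, s, rfl⟩ := Φ.toPresheafFiber_jointly_surjective p
    obtain ⟨⟨T, t⟩, ⟨a₀, ha₀⟩, ⟨b₀, hb₀⟩, -⟩ := IsCofilteredOrEmpty.cone_objs
      (Φ.fiber.elementsMk V v) (Φ.fiber.elementsMk U u₀)
    obtain ⟨a, ha⟩ : ∃ a : T ⟶ V, Φ.fiber.map a t = v := ⟨a₀, ha₀⟩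
    obtain ⟨b, hb⟩ : ∃ b : T ⟶ U, Φ.fiber.map b t = u₀ := ⟨b₀, hb₀⟩
    have hS := Presheaf.imageSieve_mem J η (U := op (Over.mk b)) (F.obj.map a.op s)
    rw [GrothendieckTopology.mem_over_iff] at hS
    obtain ⟨W, f, hf, w, hw⟩ := Φ.jointly_surjective _ hS t
    rw [Sieve.overEquiv_iff] at hf
    obtain ⟨m, hm⟩ := hf
    refine ⟨m, ?_⟩
    refine (key (Over.mk (f ≫ b)) w m ((Functor.map_comp_apply _ _ _ _).trans
      ((congrArg _ hw).trans hb))).trans ?_
    refine (congrArg (Φ.toPresheafFiber W w F.obj) hm).trans ?_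
    refine (Φ.toPresheafFiber_w_apply f w F.obj _).trans ?_
    rw [hw]
    refine (Φ.toPresheafFiber_w_apply a t F.obj _).trans ?_
    erw [ha]

end Groth.Agent.EtFound
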