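import Groth.Agent.EtFound.TorsionCoh
import Groth.Agent.EtFound.PushOutside
import Groth.Agent.EtFound.PullExt
import Groth.Agent.EtFound.EdgeVanish
import Groth.Agent.S8525
import Mathlib.Algebra.Module.LocalizedModule.Basic

/-! localisation of cohomology over a qcqs scheme -/

universe u

open CategoryTheory CategoryTheory.Limits AlgebraicGeometry Opposite Abelian

namespace Groth.Agent.EtFound

set_option backward.isDefEq.respectTransparency.types false

variable {X : Scheme.{u}}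

theorem exists_affine_cover_hom (U : X.Etale) (x : U.left) :
    ∃ (V : X.Etale) (a : V ⟶ U), IsAffine V.left ∧ ∃ v : V.left, a.left.base v = x := by
  obtain ⟨O, hO, hx, -⟩ := exists_isAffineOpen_mem_and_subset (X := U.left) (x := x) (U := ⊤) trivial
  haveI : IsAffine (restrictEtale U O).left := hO
  exact ⟨restrictEtale U O, restrictEtaleHom U O, ‹_›, ⟨x, hx⟩, rfl⟩

theorem eq_of_affine {F : EtCoh.Ab X} {U : X.Etale} {a b : F.obj.obj (op U)}
    (h : ∀ (V : X.Etale) (g : V ⟶ U), IsAffine V.left → F.obj.map g.op a = F.obj.map g.op b) : a = b := by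
  refine eq_of_cover (A := AddCommGrpCat.{u + 1}) F a b ?_
  rw [mem_topology_iff]
  intro x
  obtain ⟨V, g, hV, v, hv⟩ := exists_affine_cover_hom U x
  exact ⟨V, g, v, h V g hV, hv⟩

/-- a morphism of sheaves which is bijective on affine objects is an isomorphism -/
theorem isIso_of_bijective_on_affine {F G : EtCoh.Ab X} (a : F ⟶ G)
    (h : ∀ V : X.Etale, IsAffine V.left → Function.Bijective (a.hom.app (op V))) : IsIso a := by
  haveI : Mono a := by
    haveI : ∀ U, Mono (a.hom.app U) := fun U => (AddCommGrpCat.mono_iff_injective _).2 fun x y hxy =>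
      eq_of_affine (F := F) (U := U.unop) fun V g hV => (h V hV).1 (by
        refine (ConcreteCategory.congr_hom (a.hom.naturality g.op) x).trans ?_
        refine Eq.trans ?_ (ConcreteCategory.congr_hom (a.hom.naturality g.op) y).symm
        exact congrArg (G.obj.map g.op) hxy)
    have := NatTrans.mono_of_mono_app a.hom
    exact (sheafToPresheaf _ _).mono_of_mono_map this
  haveI : Epi a := by
    refine (Sheaf.isLocallySurjective_iff_epi' _ a).1 ⟨fun {U} t => ?_⟩
    rw [mem_topology_iff]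
    intro x
    obtain ⟨V, g, hV, v, hv⟩ := exists_affine_cover_hom U x
    exact ⟨V, g, v, (h V hV).2 _, hv⟩
  exact isIso_of_mono_of_epi a

/-- `ℤ[X] ≅ ℤ` -/
theorem nonempty_freeOn_top_iso : Nonempty (freeOn (EtCoh.top X) ≅ EtCoh.const X ℤ) := by
  obtain ⟨e, he⟩ := exists_free_hom (W := EtCoh.top X) (G := EtCoh.const X ℤ) (constVal (𝟙 _))
  let e' : EtCoh.const X ℤ ⟶ freeOn (EtCoh.top X) := ofVal (freeVal (𝟙 _))
  refine ⟨⟨e, e', free_ext ?_, (constVal_bijective _).1 ?_⟩⟩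
  · rw [freeVal_comp, he]
    exact ((constVal_comp (𝟙 _) e').symm.trans (congrArg constVal (Category.id_comp e'))).trans (constVal_ofVal _)
  · rw [constVal_comp, constVal_ofVal]
    exact ((freeVal_comp (𝟙 _) e).symm.trans (congrArg freeVal (Category.id_comp e))).trans he

variable [CompactSpace X] [QuasiSeparatedSpace X]

theorem exists_nsmul_H {K : EtCoh.Ab X} (hK : EtCoh.IsTorsion K) (q : ℕ) (x : EtCoh.H X K q) :
    ∃ n : ℕ, 0 < n ∧ n • x = 0 := by
  obtain ⟨e⟩ := nonempty_freeOn_top_iso (X := X)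
  have hW : IsQcqsObj (EtCoh.top X) :=
    ⟨inferInstanceAs (CompactSpace X), inferInstanceAs (QuasiSeparatedSpace X)⟩
  obtain ⟨n, hn, h0⟩ := exists_nsmul_ext_free hW hK q ((Ext.mk₀ e.hom).comp x (zero_add q))
  refine ⟨n, hn, ?_⟩
  have h := congrArg ((Ext.mk₀ e.inv).precomp K (zero_add q)) h0
  rw [map_nsmul, map_zero] at h
  refine Eq.trans (congrArg (n • ·) ?_) h
  change x = (Ext.mk₀ e.inv).comp ((Ext.mk₀ e.hom).comp x (zero_add q)) (zero_add q)
  rw [Ext.mk₀_comp_mk₀_assoc, Iso.inv_hom_id, Ext.mk₀_id_comp]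

theorem natCast_nsmul_id (K : EtCoh.Ab X) (n : ℕ) (q : ℕ) (x : EtCoh.H X K q) :
    n • x = x.comp (Ext.mk₀ (n • 𝟙 K)) (add_zero q) := by
  rw [comp_mk₀_nsmul, Ext.comp_mk₀_id]

/-- the primes dividing elements of a multiplicative set -/
def primesOf (S : Submonoid ℤ) : Set ℕ := {p | p.Prime ∧ ∃ s ∈ S, p ∣ s.natAbs}

theorem exists_mem_dvd (S : Submonoid ℤ) {m : ℕ} (hm : EtAcyc.PrimesIn (primesOf S) m) :
    ∃ s ∈ S, m ∣ s.natAbs := by
  obtain ⟨hm0, hmp⟩ := hm
  induction m using Nat.recOnMul with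
  | zero => exact absurd hm0 (lt_irrefl 0)
  | one => exact ⟨1, S.one_mem, one_dvd _⟩
  | prime p hp => exact (hmp p hp dvd_rfl).2
  | mul a b ha hb =>
    have h0 := Nat.pos_iff_ne_zero.1 hm0
    obtain ⟨s, hs, hs'⟩ := ha (Nat.pos_of_ne_zero (left_ne_zero_of_mul h0))
      fun p hp hd => hmp p hp (hd.trans (dvd_mul_right a b))
    obtain ⟨t, ht, ht'⟩ := hb (Nat.pos_of_ne_zero (right_ne_zero_of_mul h0))
      fun p hp hd => hmp p hp (hd.trans (dvd_mul_left b a))
    exact ⟨s * t, S.mul_mem hs ht, by rw [Int.natAbs_mul]; exact mul_dvd_mul hs' ht'⟩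

theorem zsmul_eq_zero_of_dvd {A : Type*} [AddCommGroup A] {m : ℕ} {s : ℤ} (h : m ∣ s.natAbs) {x : A}
    (hx : m • x = 0) : s • x = 0 := by
  obtain ⟨c, rfl⟩ := Int.natCast_dvd.2 h
  rw [mul_comm, mul_smul, natCast_zsmul, hx, smul_zero]

theorem primesIn_natAbs {S : Submonoid ℤ} {s : ℤ} (hs : s ∈ S) (h0 : s ≠ 0) :
    EtAcyc.PrimesIn (primesOf S) s.natAbs :=
  ⟨Int.natAbs_pos.2 h0, fun p hp hd => ⟨hp, s, hs, hd⟩⟩

theorem natAbs_nsmul_eq_zero {A : Type*} [AddCommGroup A] {s : ℤ} {x : A} (hx : s • x = 0) : s.natAbs • x = 0 := by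
  rcases Int.natAbs_eq s with h | h <;> rw [h] at hx
  · exact (natCast_zsmul x _).symm.trans hx
  · rw [neg_zsmul, neg_eq_zero, natCast_zsmul] at hx; exact hx

/-- cohomology of a sheaf with `S`-torsion sections is `S`-torsion -/
theorem exists_zsmul_H {K : EtCoh.Ab X} (S : Submonoid ℤ) (hK : EtAcyc.IsLTorsion (primesOf S) K) (q : ℕ)
    (x : EtCoh.H X K q) : ∃ s ∈ S, s • x = 0 := by
  classical
  have hK' : EtCoh.IsTorsion K := fun U s x => by
    obtain ⟨V, g, m, hv, hm, h0⟩ := hK U s x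
    exact ⟨V, g, hv, isOfFinAddOrder_iff_nsmul_eq_zero.2 ⟨m, hm.1, h0⟩⟩
  obtain ⟨n, hn, hx⟩ := exists_nsmul_H hK' q x
  clear hK'
  suffices h : ∀ n : ℕ, 0 < n → ∀ x : EtCoh.H X K q, n • x = 0 →
      ∃ m, EtAcyc.PrimesIn (primesOf S) m ∧ m • x = 0 by
    obtain ⟨m, hm, hmx⟩ := h n hn x hx
    obtain ⟨s, hs, hd⟩ := exists_mem_dvd S hm
    exact ⟨s, hs, zsmul_eq_zero_of_dvd hd hmx⟩
  intro n
  induction n using Nat.recOnMul with
  | zero => exact fun h => absurd h (lt_irrefl 0)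
  | one => exact fun _ x hx => ⟨1, ⟨one_pos, fun p hp hd => absurd (Nat.dvd_one.1 hd) hp.ne_one⟩, hx⟩
  | prime p hp =>
    intro _ x hx
    by_cases hpS : p ∈ primesOf S
    · exact ⟨p, ⟨hp.pos, fun r hr hd => (Nat.prime_dvd_prime_iff_eq hr hp).1 hd ▸ hpS⟩, hx⟩
    · refine ⟨1, ⟨one_pos, fun r hr hd => absurd (Nat.dvd_one.1 hd) hr.ne_one⟩, ?_⟩
      haveI : IsIso (p • 𝟙 K) := (isIso_iff_stalks _).2 fun Ω _ _ ξ => by
        haveI : (EtCoh.stalk ξ).Additive := Functor.additive_of_preserves_binary_products _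
        rw [(EtCoh.stalk ξ).map_nsmul, CategoryTheory.Functor.map_id]
        refine (ConcreteCategory.isIso_iff_bijective _).2 ?_
        have happ : ∀ t : (EtCoh.stalk ξ).obj K, (p • 𝟙 ((EtCoh.stalk ξ).obj K)) t = p • t := fun t => rfl
        have hinv : ∀ t : (EtCoh.stalk ξ).obj K, ∃ c : ℕ, c • p • t = t := fun t => by
          obtain ⟨m, hm, h0⟩ := (S8525.result _ K).1 hK Ω ξ t
          obtain ⟨c, hc⟩ := exists_nsmul_eq_self_of_coprime (x := t) (n := p)
            (Nat.Coprime.coprime_dvd_right (addOrderOf_dvd_of_nsmul_eq_zero h0)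
              (hp.coprime_iff_not_dvd.2 fun hd => hpS (hm.2 p hp hd)))
          exact ⟨c, hc⟩
        refine ⟨(injective_iff_map_eq_zero _).2 fun t ht => ?_, fun t => ?_⟩
        · obtain ⟨c, hc⟩ := hinv t
          rw [happ] at ht
          rw [← hc, ht, smul_zero]
        · obtain ⟨c, hc⟩ := hinv t
          exact ⟨c • t, (happ _).trans ((smul_comm p c t).trans hc)⟩
      rw [natCast_nsmul_id] at hx
      rw [one_nsmul]
      refine (postcomp_bijective (p • 𝟙 K) _).1 (hx.trans ?_)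
      simp
  | mul a b ha hb =>
    intro hab x hx
    have ha0 := Nat.pos_of_ne_zero (left_ne_zero_of_mul hab.ne')
    have hb0 := Nat.pos_of_ne_zero (right_ne_zero_of_mul hab.ne')
    rw [mul_comm, mul_nsmul'] at hx
    obtain ⟨m, hm, hmx⟩ := hb hb0 (a • x) hx
    rw [smul_comm] at hmx
    obtain ⟨m', hm', hmx'⟩ := ha ha0 (m • x) hmx
    refine ⟨m' * m, ⟨mul_pos hm'.1 hm.1, fun r hr hd => (hr.dvd_mul.1 hd).elim (hm'.2 r hr) (hm.2 r hr)⟩, ?_⟩
    rw [mul_nsmul']
    exact hmx'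

theorem isLTorsion_of_affine {L : Set ℕ} {K : EtCoh.Ab X}
    (h : ∀ (V : X.Etale), IsAffine V.left → ∀ t : K.obj.obj (op V), ∃ m, EtAcyc.PrimesIn L m ∧ m • t = 0) :
    EtAcyc.IsLTorsion L K := by
  intro U s x
  obtain ⟨V, g, hV, v, hv⟩ := exists_affine_cover_hom U x
  obtain ⟨m, hm, h0⟩ := h V hV (K.obj.map g.op s)
  exact ⟨V, g, m, ⟨v, hv⟩, hm, h0⟩

theorem zsmul_hom_app {F G : EtCoh.Ab X} (s : ℤ) (a : F ⟶ G) (V : X.Etale) (z : F.obj.obj (op V)) :
    (s • a).hom.app (op V) z = s • a.hom.app (op V) z := by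
  let ev := sheafToPresheaf X.smallEtaleTopology AddCommGrpCat.{u + 1} ⋙
    (evaluation X.Etaleᵒᵖ AddCommGrpCat.{u + 1}).obj (op V)
  haveI : ev.Additive := inferInstance
  exact ConcreteCategory.congr_hom (ev.map_zsmul (f := a) (r := s)) z

theorem H_zsmul {K : EtCoh.Ab X} (s : ℤ) (q : ℕ) (x : EtCoh.H X K q) :
    s • x = x.comp (Ext.mk₀ (s • 𝟙 K)) (add_zero q) := by
  rw [show Ext.mk₀ (s • 𝟙 K) = s • Ext.mk₀ (𝟙 K) from map_zsmul Ext.addEquiv₀.symm s (𝟙 K)]
  simp only [← Ext.bilinearComp_apply_apply]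
  rw [map_zsmul]
  simp [Ext.bilinearComp_apply_apply]

theorem isLocalizedModule_H (S : Submonoid ℤ) {F G : EtCoh.Ab X} (φ : F ⟶ G)
    (hφ : ∀ U : X.Etale, IsAffine U.left → IsLocalizedModule S (φ.hom.app (op U)).hom.toIntLinearMap) (i : ℕ) :
    IsLocalizedModule S (((Ext.mk₀ φ).postcomp (EtCoh.const X ℤ) (add_zero i)).toIntLinearMap) := by
  classical
  have hunit : ∀ s ∈ S, IsIso (s • 𝟙 G) := fun s hs => isIso_of_bijective_on_affine _ fun V hV => by
    have h := (hφ V hV).map_units ⟨s, hs⟩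
    have hb := (Module.End.isUnit_iff _).1 h
    convert hb using 1
    funext z
    exact zsmul_hom_app s (𝟙 G) V z
  have hkill : ∀ s ∈ S, ∀ {A : EtCoh.Ab X} (y : EtCoh.H X A i), s = 0 → IsIso (s • 𝟙 A) → y = 0 := by
    intro s _ A y h0 hi
    apply (postcomp_bijective (s • 𝟙 A) _).1
    dsimp only
    rw [Ext.zero_comp, ← H_zsmul, h0, zero_zsmul]
  by_cases hzero : (0 : ℤ) ∈ S
  · haveI : Subsingleton (EtCoh.H X G i) :=
      subsingleton_of_forall_eq 0 fun y => hkill 0 hzero y rfl (hunit 0 hzero)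
    exact
    { map_units := fun s => (Module.End.isUnit_iff _).2
        ⟨fun a b _ => Subsingleton.elim a b, fun b => ⟨b, Subsingleton.elim _ _⟩⟩
      surj := fun y => ⟨(0, 1), Subsingleton.elim _ _⟩
      exists_of_eq := fun {a b} _ => ⟨⟨0, hzero⟩, (zero_zsmul a).trans (zero_zsmul b).symm⟩ }
  have hne : ∀ s ∈ S, s ≠ 0 := fun s hs h => hzero (h ▸ hs)
  let ιK := kernel.ι φ
  have hKt : EtAcyc.IsLTorsion (primesOf S) (kernel φ) := isLTorsion_of_affine fun V hV t => by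
    have h0 : φ.hom.app (op V) (ιK.hom.app (op V) t) = 0 :=
      ConcreteCategory.congr_hom (congrArg (fun m : kernel φ ⟶ G => m.hom.app (op V)) (kernel.condition φ)) t
    obtain ⟨⟨s, hs⟩, hst⟩ := (hφ V hV).exists_of_eq (x₁ := ιK.hom.app (op V) t) (x₂ := 0)
      (h0.trans (map_zero _).symm)
    refine ⟨s.natAbs, primesIn_natAbs hs (hne s hs), ?_⟩
    haveI := (sheafToPresheaf X.smallEtaleTopology AddCommGrpCat.{u + 1}).map_mono ιK
    have hm : Mono (ιK.hom.app (op V)) :=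
      ((evaluation X.Etaleᵒᵖ AddCommGrpCat.{u + 1}).obj (op V)).map_mono
        ((sheafToPresheaf X.smallEtaleTopology AddCommGrpCat.{u + 1}).map ιK)
    apply (AddCommGrpCat.mono_iff_injective _).1 hm
    rw [map_zero, map_nsmul]
    exact natAbs_nsmul_eq_zero (hst.trans (smul_zero s))
  let πC := cokernel.π φ
  have hCt : EtAcyc.IsLTorsion (primesOf S) (cokernel φ) := by
    intro U t x
    haveI : Sheaf.IsLocallySurjective πC := (Sheaf.isLocallySurjective_iff_epi' _ πC).2 inferInstance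
    obtain ⟨W, w, v, ⟨g, hg⟩, hv⟩ := (mem_topology_iff _).1
      (Presheaf.imageSieve_mem X.smallEtaleTopology πC.hom (U := op U) t) x
    obtain ⟨V, a, hV, v', hv'⟩ := exists_affine_cover_hom W v
    obtain ⟨⟨f, s, hs⟩, hsf⟩ := (hφ V hV).surj (G.obj.map a.op g)
    refine ⟨V, a ≫ w, s.natAbs, ⟨v', ?_⟩, primesIn_natAbs hs (hne s hs), natAbs_nsmul_eq_zero ?_⟩
    · refine (Scheme.Hom.comp_apply a.left w.left v').trans ?_
      rw [hv']; exact hv
    · rw [op_comp, Functor.map_comp, ConcreteCategory.comp_apply]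
      erw [← hg]
      rw [← ConcreteCategory.comp_apply, ← πC.hom.naturality, ConcreteCategory.comp_apply, ← map_zsmul]
      refine (congrArg (πC.hom.app (op V)) hsf).trans ?_
      exact ConcreteCategory.congr_hom (congrArg (fun m : F ⟶ cokernel φ => m.hom.app (op V)) (cokernel.condition φ)) f
  let I := Abelian.image φ
  let ε := Abelian.factorThruImage φ
  let μ := Abelian.image.ι φ
  have hεμ : ε ≫ μ = φ := Abelian.image.fac φ
  have w1 : ιK ≫ ε = 0 := (cancel_mono μ).1 (by rw [Category.assoc, hεμ, kernel.condition, zero_comp])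
  have h1 : (ShortComplex.mk ιK ε w1).ShortExact :=
    { exact := ShortComplex.exact_of_f_is_kernel _ (KernelFork.IsLimit.ofι' _ w1 fun k hk =>
        ⟨kernel.lift φ k (by rw [← hεμ, reassoc_of% hk, zero_comp]), kernel.lift_ι _ _ _⟩) }
  have w2 : μ ≫ πC = 0 := kernel.condition _
  have h2 : (ShortComplex.mk μ πC w2).ShortExact :=
    { exact := ShortComplex.exact_of_f_is_kernel _ (kernelIsKernel πC) }
  let pc := fun {A B : EtCoh.Ab X} (a : A ⟶ B) (q : ℕ) => (Ext.mk₀ a).postcomp (EtCoh.const X ℤ) (add_zero q)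
  let d1 := fun (q r : ℕ) (h : q + 1 = r) => h1.extClass.postcomp (EtCoh.const X ℤ) h
  let d2 := fun (q r : ℕ) (h : q + 1 = r) => h2.extClass.postcomp (EtCoh.const X ℤ) h
  have hpc : ∀ x : EtCoh.H X F i, pc φ i x = pc μ i (pc ε i x) := fun x => by
    change x.comp (Ext.mk₀ φ) (add_zero i) = (x.comp (Ext.mk₀ ε) (add_zero i)).comp (Ext.mk₀ μ) (add_zero i)
    rw [Ext.comp_assoc_of_third_deg_zero, Ext.mk₀_comp_mk₀, hεμ]
  exact
  { map_units := fun ⟨s, hs⟩ => (Module.End.isUnit_iff _).2 (by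
      haveI := hunit s hs
      convert postcomp_bijective (X := EtCoh.const X ℤ) (s • 𝟙 G) i using 2 with y
      exact H_zsmul s i y)
    surj := fun y => by
      obtain ⟨s, hs, hsy⟩ := exists_zsmul_H S hCt i (pc πC i y)
      obtain ⟨z, hz⟩ := Ext.covariant_sequence_exact₂ _ h2 (s • y) ((map_zsmul (pc πC i) s y).trans hsy)
      obtain ⟨t, ht, htz⟩ := exists_zsmul_H S hKt (i + 1) (d1 i (i + 1) rfl z)
      obtain ⟨w, hw⟩ := Ext.covariant_sequence_exact₃ _ h1 (t • z) rfl ((map_zsmul (d1 i (i + 1) rfl) t z).trans htz)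
      refine ⟨(w, ⟨t * s, S.mul_mem ht hs⟩), ?_⟩
      change (t * s) • y = pc φ i w
      rw [hpc, show pc ε i w = t • z from hw, map_zsmul, show pc μ i z = s • y from hz, mul_smul]
    exists_of_eq := fun {a b} hab => by
      have h0 : pc μ i (pc ε i (a - b)) = 0 := by
        rw [← hpc, map_sub, sub_eq_zero]; exact hab
      have hz : ∃ s ∈ S, s • pc ε i (a - b) = 0 := by
        rcases i.eq_zero_or_pos with rfl | hi
        · exact ⟨1, S.one_mem, by rw [one_zsmul]; exact (postcomp_mk₀_zero_injective μ) (h0.trans (map_zero _).symm)⟩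
        · obtain ⟨q, rfl⟩ := Nat.exists_eq_succ_of_ne_zero hi.ne'
          obtain ⟨c, hc⟩ := Ext.covariant_sequence_exact₁ _ h2 (pc ε (q + 1) (a - b)) h0 (rfl : q + 1 = q + 1)
          obtain ⟨s, hs, hsc⟩ := exists_zsmul_H S hCt q c
          exact ⟨s, hs, by rw [← show d2 q (q + 1) rfl c = _ from hc, ← map_zsmul, hsc, map_zero]⟩
      obtain ⟨s, hs, hse⟩ := hz
      obtain ⟨k, hk⟩ := Ext.covariant_sequence_exact₂ _ h1 (s • (a - b)) ((map_zsmul (pc ε i) s (a - b)).trans hse)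
      obtain ⟨t, ht, htk⟩ := exists_zsmul_H S hKt i k
      refine ⟨⟨t * s, S.mul_mem ht hs⟩, sub_eq_zero.1 ?_⟩
      change (t * s) • a - (t * s) • b = 0
      rw [← smul_sub, mul_smul, ← show pc ιK i k = _ from hk, ← map_zsmul, htk, map_zero] }
where
  postcomp_mk₀_zero_injective {A B : EtCoh.Ab X} (a : A ⟶ B) [Mono a] :=
    Ext.postcomp_mk₀_injective_of_mono (EtCoh.const X ℤ) a

end Groth.Agent.EtFound
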