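import Groth.Agent.EtFound.PushOutside
import Groth.Prelude.Def_SGA4b

/-! the sheaf of two valued functions on the points over a subset; a nonsurjective qc morphism misses a locally closed set -/

universe u

open CategoryTheory CategoryTheory.Limits AlgebraicGeometry Opposite

namespace Groth.Agent.EtFound

set_option backward.isDefEq.respectTransparency.types false

variable {X : Scheme.{u}} (C : Set X)

/-- two valued functions on the points over `C` -/
def pointFunPre : X.Etaleᵒᵖ ⥤ Type (u + 1) where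
  obj W := {w : W.unop.left // W.unop.hom.base w ∈ C} → ULift.{u + 1} Bool
  map {W W'} g := TypeCat.ofHom fun s w => s ⟨g.unop.left.base w.1,
    Set.mem_of_eq_of_mem ((Scheme.Hom.comp_apply g.unop.left W.unop.hom w.1).symm.trans
      (congrArg (fun a : W'.unop.left ⟶ X => a.base w.1) (MorphismProperty.Over.w g.unop))) w.2⟩
  map_id W := by ext s; rfl
  map_comp f g := by ext s; rfl

theorem isSheaf_pointFunPre : Presheaf.IsSheaf X.smallEtaleTopology (pointFunPre C) := by
  rw [isSheaf_iff_isSheaf_of_type]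
  intro W S hS
  intro x hx
  rw [mem_topology_iff] at hS
  choose V g v hg hv using hS
  have hC : ∀ w : {w : W.left // W.hom.base w ∈ C}, (V w.1).hom.base (v w.1) ∈ C := fun w => by
    refine Set.mem_of_eq_of_mem ((congrArg (fun a : (V w.1).left ⟶ X => a.base (v w.1))
      (MorphismProperty.Over.w (g w.1))).symm.trans ((Scheme.Hom.comp_apply _ _ _).trans ?_)) w.2
    exact congrArg (fun z => W.hom.base z) (hv w.1)
  refine ⟨fun w => x (g w.1) (hg w.1) ⟨v w.1, hC w⟩, fun V' h hh => funext fun v' => ?_, fun t ht => funext fun w => ?_⟩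
  · let w : W.left := h.left.base v'.1
    obtain ⟨z, hz₁, hz₂⟩ := Scheme.Pullback.exists_preimage_pullback (f := (g w).left) (g := h.left) (v w) v'.1 (hv w)
    have := etale_left (g w)
    have := etale_left h
    have : AlgebraicGeometry.Etale V'.hom := V'.prop
    let P : X.Etale := Scheme.Etale.mk (pullback.snd (g w).left h.left ≫ V'.hom)
    let p₁ : P ⟶ V w := MorphismProperty.Over.homMk (pullback.fst (g w).left h.left) (by
      show pullback.fst (g w).left h.left ≫ (V w).hom = pullback.snd (g w).left h.left ≫ V'.hom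
      rw [← MorphismProperty.Over.w (g w), ← MorphismProperty.Over.w h, pullback.condition_assoc])
    let p₂ : P ⟶ V' := MorphismProperty.Over.homMk (pullback.snd (g w).left h.left) rfl
    have hc := hx p₁ p₂ (hg w) hh (MorphismProperty.Over.Hom.ext pullback.condition)
    have hzC : P.hom.base z ∈ C := by
      refine Set.mem_of_eq_of_mem ((Scheme.Hom.comp_apply _ _ _).trans ?_) v'.2
      exact congrArg (fun z => V'.hom.base z) hz₂
    have hc' : x (g w) (hg w) ⟨p₁.left.base z, _⟩ = x h hh ⟨p₂.left.base z, _⟩ := congrFun hc ⟨z, hzC⟩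
    refine Eq.trans ?_ (hc'.trans (congrArg (x h hh) (Subtype.ext hz₂)))
    exact congrArg (x (g w) (hg w)) (Subtype.ext hz₁.symm)
  · have h1 := congrFun (ht (g w.1) (hg w.1)) ⟨v w.1, hC w⟩
    refine Eq.trans ?_ h1
    exact congrArg t (Subtype.ext (hv w.1).symm)

/-- the sheaf -/
def pointFun : EtDesc.Sh X := ⟨pointFunPre C, isSheaf_pointFunPre C⟩

theorem nonempty_unique_pointFun {U : X.Etale} (hU : Disjoint (Set.range U.hom.base) C) :
    Nonempty (Unique (ToType ((pointFun C).obj.obj (op U)))) := by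
  have : IsEmpty {w : U.left // U.hom.base w ∈ C} := ⟨fun w => Set.disjoint_left.1 hU ⟨w.1, rfl⟩ w.2⟩
  exact ⟨(Pi.uniqueOfIsEmpty _ : Unique ({w : U.left // U.hom.base w ∈ C} → ULift.{u + 1} Bool))⟩

variable {Y : Scheme.{u}}

/-- outside of the image of a quasi-compact morphism: a neighbourhood in which the closure of the point avoids the image -/
theorem exists_open_closure_avoiding (g : X ⟶ Y) [QuasiCompact g] {y : Y} (hy : y ∉ Set.range g.base) :
    ∃ O : Y.Opens, y ∈ O ∧ ∀ x : X, g.base x ∈ O → g.base x ∉ closure {y} := by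
  obtain ⟨V, hV, hyV, -⟩ := exists_isAffineOpen_mem_and_subset (TopologicalSpace.Opens.mem_top y)
  obtain ⟨S, h, hh⟩ := isCompact_iff_exists.1 (g.isCompact_preimage hV.isCompact : IsCompact ((g ⁻¹ᵁ V : X.Opens) : Set X))
  have hr : Set.range (h ≫ g).base ⊆ Set.range hV.fromSpec.base := by
    rintro _ ⟨s, rfl⟩
    rw [hV.range_fromSpec]
    have : h.base s ∈ (g ⁻¹ᵁ V : X.Opens) := by
      rw [← SetLike.mem_coe, ← hh]
      exact ⟨s, rfl⟩
    exact Set.mem_of_eq_of_mem (Scheme.Hom.comp_apply _ _ _) this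
  let l := IsOpenImmersion.lift hV.fromSpec (h ≫ g) hr
  obtain ⟨φ, hφ⟩ : ∃ φ : Γ(Y, V) ⟶ S, Spec.map φ = l := ⟨Spec.preimage l, Spec.map_preimage l⟩
  have hl : ∀ s, hV.fromSpec.base ((Spec.map φ).base s) = g.base (h.base s) := by
    intro s
    rw [← Scheme.Hom.comp_apply, ← Scheme.Hom.comp_apply, hφ]
    exact congrArg (fun a : Spec S ⟶ Y => a.base s) (IsOpenImmersion.lift_fac hV.fromSpec (h ≫ g) hr)
  let p := hV.primeIdealOf ⟨y, hyV⟩
  have hp : hV.fromSpec.base p = y := hV.fromSpec_primeIdealOf ⟨y, hyV⟩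
  have hne : ¬ ((p.asIdeal.map φ.hom).comap φ.hom = p.asIdeal) := by
    rw [Ideal.comap_map_eq_self_iff_of_isPrime]
    rintro ⟨q, hq, hqp⟩
    refine hy ⟨h.base ⟨q, hq⟩, ?_⟩
    rw [← hl, ← hp]
    exact congrArg (fun z => hV.fromSpec.base z) (PrimeSpectrum.ext hqp)
  obtain ⟨r, hr', hrp⟩ : ∃ r, r ∈ (p.asIdeal.map φ.hom).comap φ.hom ∧ r ∉ p.asIdeal := by
    by_contra hcon
    push Not at hcon
    exact hne (le_antisymm hcon Ideal.le_comap_map)
  refine ⟨Y.basicOpen r, ?_, fun x hxO hxC => ?_⟩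
  · rw [← hp]
    have : p ∈ hV.fromSpec ⁻¹ᵁ Y.basicOpen r := by
      rw [hV.fromSpec_preimage_basicOpen]
      exact hrp
    exact this
  · have hxV : x ∈ (g ⁻¹ᵁ V : X.Opens) := Y.basicOpen_le r hxO
    rw [← SetLike.mem_coe, ← hh] at hxV
    obtain ⟨s, rfl⟩ := hxV
    rw [← hl] at hxO hxC
    have h1 : (Spec.map φ).base s ∈ hV.fromSpec ⁻¹ᵁ Y.basicOpen r := hxO
    rw [hV.fromSpec_preimage_basicOpen] at h1
    rw [← hp, ← specializes_iff_mem_closure, hV.fromSpec.isOpenEmbedding.isInducing.specializes_iff] at hxC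
    have hle : p ≤ (show PrimeSpectrum ↑Γ(Y, V) from (Spec.map φ).base s) :=
      (PrimeSpectrum.le_iff_specializes _ _).2 hxC
    exact h1 (Ideal.map_le_iff_le_comap.2 hle hr')

end Groth.Agent.EtFound
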