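import Groth.Agent.EtMVLib.PullSec
import Groth.Agent.EtFound.JContGen
import Groth.Prelude.Def_EtShriek2
import Mathlib.CategoryTheory.MorphismProperty.OverAdjunction

/-! pullback of sections over étale objects to points with values in a scheme -/

universe u

open CategoryTheory CategoryTheory.Limits AlgebraicGeometry Opposite

namespace Groth.Agent.EtFound

open Groth.Agent.EtMVLib

set_option backward.isDefEq.respectTransparency.types false

variable {X Z Z' : Scheme.{u}}

/-- the section of `W ×_X Z` given by an `X`-morphism `Z ⟶ W` -/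
noncomputable def ptSec (h : Z ⟶ X) (W : X.Etale) (ρ : Z ⟶ W.left) (e : ρ ≫ W.hom = h) :
    EtCoh.top Z ⟶ (EtCoh.bc h).obj W :=
  MorphismProperty.Over.homMk (pullback.lift ρ (𝟙 Z) (e.trans (Category.id_comp h).symm))
    (pullback.lift_snd _ _ _)

/-- `F(W) ⟶ Γ(Z, h⁻¹F)` -/
noncomputable def atPt (h : Z ⟶ X) (W : X.Etale) (ρ : Z ⟶ W.left) (e : ρ ≫ W.hom = h) (F : EtCoh.Ab X) :
    F.obj.obj (op W) ⟶ (EtCore.gsec Z).obj ((EtCoh.pull h).obj F) :=
  ((EtCoh.pullPushAdj h).unit.app F).hom.app (op W) ≫ ((EtCoh.pull h).obj F).obj.map (ptSec h W ρ e).op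

theorem atPt_naturality (h : Z ⟶ X) (W : X.Etale) (ρ : Z ⟶ W.left) (e : ρ ≫ W.hom = h) {F G : EtCoh.Ab X}
    (a : F ⟶ G) : a.hom.app (op W) ≫ atPt h W ρ e G = atPt h W ρ e F ≫ (EtCore.gsec Z).map ((EtCoh.pull h).map a) := by
  have h1 := congrArg (fun m : F ⟶ _ => m.hom.app (op W)) ((EtCoh.pullPushAdj h).unit.naturality a)
  have h2 := ((EtCoh.pull h).map a).hom.naturality (ptSec h W ρ e).op
  refine (Category.assoc _ _ _).symm.trans ((congrArg (· ≫ _) h1).trans ?_)
  refine (Category.assoc _ _ _).trans ?_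
  refine Eq.trans ?_ (Category.assoc _ _ _).symm
  exact congrArg (_ ≫ ·) h2.symm

theorem atPt_naturality_apply (h : Z ⟶ X) (W : X.Etale) (ρ : Z ⟶ W.left) (e : ρ ≫ W.hom = h) {F G : EtCoh.Ab X}
    (a : F ⟶ G) (s : F.obj.obj (op W)) :
    atPt h W ρ e G (a.hom.app (op W) s) = (EtCore.gsec Z).map ((EtCoh.pull h).map a) (atPt h W ρ e F s) := by
  have := ConcreteCategory.congr_hom (atPt_naturality h W ρ e a) s
  exact this

variable (k : Z' ⟶ Z) (h : Z ⟶ X) (w : Z' ⟶ X) (hw : k ≫ h = w)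

/-- composition isomorphism of inverse images -/
noncomputable abbrev θPull : EtCoh.pull h ⋙ EtCoh.pull k ≅ EtCoh.pull w :=
  (EtCore.pullComp k h).symm ≪≫ EtCore.pullCongr hw

/-- pullback to `W ×_X Z`, then along a point of it -/
theorem atPt_comp (W : X.Etale) (σ : Z' ⟶ ((EtCoh.bc h).obj W).left) (hσ : σ ≫ ((EtCoh.bc h).obj W).hom = k)
    (ρ : Z' ⟶ W.left) (hρ : ρ = σ ≫ pullback.fst W.hom h) (e : ρ ≫ W.hom = w) (F : EtCoh.Ab X) :
    ((EtCoh.pullPushAdj h).unit.app F).hom.app (op W) ≫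
        atPt k ((EtCoh.bc h).obj W) σ hσ ((EtCoh.pull h).obj F) ≫
      (EtCore.gsec Z').map ((θPull k h w hw).hom.app F) = atPt w W ρ e F := by
  subst hw
  have hu : ((EtCoh.pullPushAdj (k ≫ h)).unit.app F).hom.app (op W) ≫
      ((EtCore.pullComp k h).hom.app F).hom.app (op ((EtCoh.bc (k ≫ h)).obj W)) =
    ((EtCoh.pullPushAdj h).unit.app F).hom.app (op W) ≫
      ((EtCoh.pullPushAdj k).unit.app ((EtCoh.pull h).obj F)).hom.app (op ((EtCoh.bc h).obj W)) ≫
        ((EtCoh.pushComp h k).hom.app ((EtCoh.pull k).obj ((EtCoh.pull h).obj F))).hom.app (op W) := by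
    have h' : (EtCoh.pullPushAdj (k ≫ h)).unit.app F ≫
        (EtCoh.push (k ≫ h)).map ((EtCore.pullComp k h).hom.app F) =
      ((EtCoh.pullPushAdj h).unit.app F ≫ (EtCoh.push h).map ((EtCoh.pullPushAdj k).unit.app _)) ≫
        (EtCoh.pushComp h k).hom.app _ := by
      refine (Adjunction.unit_leftAdjointUniq_hom_app (EtCoh.pullPushAdj (k ≫ h))
        (((EtCoh.pullPushAdj h).comp (EtCoh.pullPushAdj k)).ofNatIsoRight (EtCoh.pushComp h k)) F).trans ?_
      rw [Adjunction.ofNatIsoRight_unit]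
      simp
    exact (congrArg (fun m : F ⟶ _ => m.hom.app (op W)) h').trans (Category.assoc _ _ _)
  have hθ : (θPull k h (k ≫ h) rfl).hom.app F = (EtCore.pullComp k h).inv.app F := by
    simp [θPull, EtCore.pullCongr]
  rw [hθ]
  let T := (EtCoh.pull k).obj ((EtCoh.pull h).obj F)
  let ci := ((EtCore.pullComp k h).inv.app F).hom.app (op (EtCoh.top Z'))
  have hpt : T.obj.map (ptSec k ((EtCoh.bc h).obj W) σ hσ).op =
      ((EtCoh.pushComp h k).hom.app T).hom.app (op W) ≫ T.obj.map (ptSec (k ≫ h) W ρ e).op := by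
    change _ = T.obj.map (Quiver.Hom.op _) ≫ T.obj.map (Quiver.Hom.op _)
    rw [← Functor.map_comp, ← op_comp]
    refine congrArg (fun m => T.obj.map (Quiver.Hom.op m)) ?_
    let c := (MorphismProperty.Over.pullbackComp (P := EtCoh.etaleMP) (Q := ⊤) k h).hom.app W
    have c1 : c.left ≫ pullback.fst (pullback.snd W.hom h) k ≫ pullback.fst W.hom h = pullback.fst W.hom (k ≫ h) :=
      MorphismProperty.Over.pullbackComp_left_fst_fst k h W
    have c2 : c.left ≫ pullback.snd (pullback.snd W.hom h) k = pullback.snd W.hom (k ≫ h) :=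
      MorphismProperty.Over.w c
    have c3 : c.left ≫ pullback.fst (pullback.snd W.hom h) k ≫ pullback.snd W.hom h =
        pullback.snd W.hom (k ≫ h) ≫ k :=
      (congrArg (c.left ≫ ·) (pullback.condition (f := pullback.snd W.hom h) (g := k))).trans
        ((Category.assoc _ _ _).symm.trans (congrArg (· ≫ k) c2))
    change ptSec k ((EtCoh.bc h).obj W) σ hσ = ptSec (k ≫ h) W ρ e ≫ c
    apply MorphismProperty.Over.Hom.ext
    have l1 : (ptSec (k ≫ h) W ρ e ≫ c).left = pullback.lift ρ (𝟙 Z') (e.trans (Category.id_comp _).symm) ≫ c.left :=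
      rfl
    change pullback.lift σ (𝟙 Z') _ = _
    refine Eq.trans ?_ l1.symm
    have hσ' : σ ≫ pullback.snd W.hom h = k := hσ
    refine pullback.hom_ext (pullback.hom_ext ?_ ?_) ?_
    · refine ((congrArg (· ≫ pullback.fst W.hom h) (pullback.lift_fst _ _ _)).trans ?_)
      refine hρ.symm.trans ?_
      refine Eq.trans ?_ ((congrArg (· ≫ pullback.fst W.hom h) (Category.assoc _ _ _)).trans (Category.assoc _ _ _)).symm
      refine Eq.trans ?_ (congrArg (pullback.lift ρ (𝟙 Z') (e.trans (Category.id_comp _).symm) ≫ ·)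
        (c1.symm.trans (Category.assoc _ _ _).symm))
      exact (pullback.lift_fst _ _ _).symm
    · refine ((congrArg (· ≫ pullback.snd W.hom h) (pullback.lift_fst _ _ _)).trans ?_)
      refine hσ'.trans ?_
      refine Eq.trans ?_ ((congrArg (· ≫ pullback.snd W.hom h) (Category.assoc _ _ _)).trans (Category.assoc _ _ _)).symm
      refine Eq.trans ?_ (congrArg (pullback.lift ρ (𝟙 Z') (e.trans (Category.id_comp _).symm) ≫ ·)
        (c3.symm.trans (Category.assoc _ _ _).symm))
      rw [← Category.assoc, pullback.lift_snd, Category.id_comp]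
    · refine (pullback.lift_snd _ _ _).trans ?_
      refine Eq.trans ?_ (Category.assoc _ _ _).symm
      refine Eq.trans ?_ (congrArg (pullback.lift ρ (𝟙 Z') (e.trans (Category.id_comp _).symm) ≫ ·) c2.symm)
      exact (pullback.lift_snd _ _ _).symm
  have hnat : ((EtCore.pullComp k h).hom.app F).hom.app (op ((EtCoh.bc (k ≫ h)).obj W)) ≫
      T.obj.map (ptSec (k ≫ h) W ρ e).op ≫ ci =
        ((EtCoh.pull (k ≫ h)).obj F).obj.map (ptSec (k ≫ h) W ρ e).op := by
    have n := ((EtCore.pullComp k h).hom.app F).hom.naturality (ptSec (k ≫ h) W ρ e).op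
    refine (Category.assoc _ _ _).symm.trans ((congrArg (· ≫ ci) n.symm).trans ((Category.assoc _ _ _).trans ?_))
    refine (congrArg (_ ≫ ·) (congrArg (fun m : (EtCoh.pull (k ≫ h)).obj F ⟶ _ => m.hom.app (op (EtCoh.top Z')))
      ((EtCore.pullComp k h).hom_inv_id_app F))).trans ?_
    exact Category.comp_id _
  refine Eq.trans ?_ (congrArg (((EtCoh.pullPushAdj (k ≫ h)).unit.app F).hom.app (op W) ≫ ·) hnat)
  refine Eq.trans ?_ ((congrArg (· ≫ (T.obj.map (ptSec (k ≫ h) W ρ e).op ≫ ci)) hu.symm).trans (Category.assoc _ _ _))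
  change _ ≫ (_ ≫ T.obj.map (ptSec k ((EtCoh.bc h).obj W) σ hσ).op) ≫ ci = _
  rw [hpt]
  exact ((Category.assoc _ _ _).trans (congrArg (_ ≫ ·) ((Category.assoc _ _ _).trans
    ((congrArg (_ ≫ ·) (Category.assoc _ _ _).symm).trans (Category.assoc _ _ _).symm)))).symm

/-- evaluation at a point of `W ×_X Z` and pullback of global sections -/
theorem atPt_pullSec (W : X.Etale) (ρ : Z ⟶ W.left) (e : ρ ≫ W.hom = h) (ρ' : Z' ⟶ W.left) (hρ : ρ' = k ≫ ρ)
    (e' : ρ' ≫ W.hom = w) (F : EtCoh.Ab X) :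
    atPt h W ρ e F ≫ (pullSec k).app ((EtCoh.pull h).obj F) ≫
      (EtCore.gsec Z').map ((θPull k h w hw).hom.app F) = atPt w W ρ' e' F := by
  let σ : Z' ⟶ ((EtCoh.bc h).obj W).left := k ≫ (ptSec h W ρ e).left
  have hσ : σ ≫ ((EtCoh.bc h).obj W).hom = k :=
    (Category.assoc _ _ _).trans ((congrArg (k ≫ ·) (MorphismProperty.Over.w (ptSec h W ρ e))).trans (Category.comp_id k))
  have hρσ : ρ' = σ ≫ pullback.fst W.hom h :=
    hρ.trans ((congrArg (k ≫ ·) (pullback.lift_fst _ _ _).symm).trans (Category.assoc _ _ _).symm)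
  refine Eq.trans ?_ (atPt_comp k h w hw W σ hσ ρ' hρσ e' F)
  let G := (EtCoh.pull h).obj F
  let K := (EtCoh.pull k).obj G
  have hm : (EtCore.bcTopIso k).inv ≫ (EtCoh.bc k).map (ptSec h W ρ e) = ptSec k ((EtCoh.bc h).obj W) σ hσ := by
    apply MorphismProperty.Over.Hom.ext
    let b := (EtCore.bcTopIso k).inv
    have b2 : b.left ≫ pullback.snd (EtCoh.top Z).hom k = 𝟙 Z' := MorphismProperty.Over.w b
    have b1 : b.left ≫ pullback.fst (EtCoh.top Z).hom k = k := by
      have hc : pullback.fst (EtCoh.top Z).hom k = pullback.snd (EtCoh.top Z).hom k ≫ k :=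
        (Category.comp_id _).symm.trans (pullback.condition (f := (EtCoh.top Z).hom) (g := k))
      refine (congrArg (b.left ≫ ·) hc).trans ?_
      exact (Category.assoc _ _ _).symm.trans ((congrArg (· ≫ k) b2).trans (Category.id_comp k))
    change b.left ≫ ((EtCoh.bc k).map (ptSec h W ρ e)).left = pullback.lift σ (𝟙 Z') _
    apply pullback.hom_ext
    · refine ((Category.assoc _ _ _).trans (congrArg (b.left ≫ ·) (EtCoh.isPullback_bc_map k (ptSec h W ρ e)).w)).trans ?_
      refine (Category.assoc _ _ _).symm.trans ((congrArg (· ≫ (ptSec h W ρ e).left) b1).trans ?_)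
      exact (pullback.lift_fst _ _ _).symm
    · refine ((Category.assoc _ _ _).trans (congrArg (b.left ≫ ·) (MorphismProperty.Over.w ((EtCoh.bc k).map (ptSec h W ρ e))))).trans ?_
      exact b2.trans (pullback.lift_snd _ _ _).symm
  have key : G.obj.map (ptSec h W ρ e).op ≫ (pullSec k).app G = atPt k ((EtCoh.bc h).obj W) σ hσ G := by
    have n := ((EtCoh.pullPushAdj k).unit.app G).hom.naturality (ptSec h W ρ e).op
    refine ((Category.assoc _ _ _).symm.trans (congrArg (· ≫ _) n)).trans ?_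
    refine (Category.assoc _ _ _).trans (congrArg (_ ≫ ·) ?_)
    change K.obj.map ((EtCoh.bc k).map (ptSec h W ρ e)).op ≫ K.obj.map (EtCore.bcTopIso k).inv.op =
      K.obj.map (ptSec k ((EtCoh.bc h).obj W) σ hσ).op
    rw [← Functor.map_comp, ← op_comp, hm]
  refine (Category.assoc _ _ _).trans (congrArg (_ ≫ ·) ?_)
  exact (Category.assoc _ _ _).symm.trans (congrArg (· ≫ _) key)

end Groth.Agent.EtFound
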