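import Groth.Agent.EtFound.FiniteSplit
import Groth.Agent.EtFound.LocConst
import Mathlib.AlgebraicGeometry.Morphisms.FlatMono
import Mathlib.Algebra.Group.Equiv.Basic

/-! finite etale direct images of finite locally constant sheaves -/

universe u

open CategoryTheory CategoryTheory.Limits AlgebraicGeometry Opposite

namespace Groth.Agent.EtFound

set_option backward.isDefEq.respectTransparency.types false

variable {X Y : Scheme.{u}} (f : X ⟶ Y) [IsFinite f] [AlgebraicGeometry.Etale f] {Ω : Type u} [Field Ω] [IsAlgClosed Ω]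

/-- near a geometric point a finite etale morphism becomes a trivial cover, refining given neighbourhoods -/
theorem exists_iso_stage (η : Spec (CommRingCat.of Ω) ⟶ Y)
    (V : {ξ : Spec (CommRingCat.of Ω) ⟶ X // ξ ≫ f = η} → Y.Etale)
    (v : ∀ a, (Scheme.pointSmallEtale η).fiber.obj (V a)) (O : ∀ a, ((EtCoh.bc f).obj (V a)).left.Opens)
    (hO : ∀ a, ((liftPt f a.2 (v a)).left : Spec (CommRingCat.of Ω) ⟶ ((EtCoh.bc f).obj (V a)).left).base
        (default : Spec (CommRingCat.of Ω)) ∈ O a) :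
    ∃ (W : Y.Etale) (_ : (Scheme.pointSmallEtale η).fiber.obj W) (b : ∀ a, W ⟶ V a)
      (Q : {ξ : Spec (CommRingCat.of Ω) ⟶ X // ξ ≫ f = η} → ((EtCoh.bc f).obj W).left.Opens),
      Pairwise (fun a b => Disjoint (Q a) (Q b)) ∧ (⨆ a, Q a) = ⊤ ∧
      (∀ a, Q a ≤ ((EtCoh.bc f).map (b a)).left ⁻¹ᵁ O a) ∧
      ∀ a, IsIso ((Q a).ι ≫ pullback.fst W.hom f) := by
  haveI := finite_points f η
  haveI := Fintype.ofFinite {ξ : Spec (CommRingCat.of Ω) ⟶ X // ξ ≫ f = η}
  classical
  obtain ⟨W₀, w₀, Q₀, hd, hc, hm, hcl⟩ := exists_closedImmersion_stage f η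
  obtain ⟨⟨W, w⟩, hS⟩ := IsCofiltered.inf_objs_exists
    (insert (((Scheme.pointSmallEtale η).fiber).elementsMk W₀ w₀)
      (Finset.univ.image fun a => ((Scheme.pointSmallEtale η).fiber).elementsMk (V a) (v a)))
  have hb₀ : ∃ b : W ⟶ W₀, (Scheme.pointSmallEtale η).fiber.map b w = w₀ :=
    ⟨_, (hS (Finset.mem_insert_self _ _)).some.2⟩
  obtain ⟨b₀, hb₀⟩ := hb₀
  have hb : ∀ a, ∃ b : W ⟶ V a, (Scheme.pointSmallEtale η).fiber.map b w = v a := fun a =>
    ⟨_, (hS (Finset.mem_insert_of_mem (Finset.mem_image_of_mem _ (Finset.mem_univ a)))).some.2⟩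
  choose b hb using hb
  let Q : {ξ : Spec (CommRingCat.of Ω) ⟶ X // ξ ≫ f = η} → ((EtCoh.bc f).obj W).left.Opens := fun a =>
    ((EtCoh.bc f).map b₀).left ⁻¹ᵁ Q₀ a ⊓ ((EtCoh.bc f).map (b a)).left ⁻¹ᵁ O a
  have hpt : ∀ (a : {ξ : Spec (CommRingCat.of Ω) ⟶ X // ξ ≫ f = η}) {W₁ W' : Y.Etale} (c : W₁ ⟶ W')
      (w₁ : (Scheme.pointSmallEtale η).fiber.obj W₁) (w' : (Scheme.pointSmallEtale η).fiber.obj W'),
      (Scheme.pointSmallEtale η).fiber.map c w₁ = w' →
      ((EtCoh.bc f).map c).left.base (((liftPt f a.2 w₁).left : Spec (CommRingCat.of Ω) ⟶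
        ((EtCoh.bc f).obj W₁).left).base (default : Spec (CommRingCat.of Ω))) =
      ((liftPt f a.2 w').left : Spec (CommRingCat.of Ω) ⟶ ((EtCoh.bc f).obj W').left).base
        (default : Spec (CommRingCat.of Ω)) := fun a W₁ W' c w₁ w' hc => by
    subst hc
    rw [← liftPt_map f a.2 c w₁]
    exact (Scheme.Hom.comp_apply _ _ _).symm
  have hQ : ∀ a, ((liftPt f a.2 w).left : Spec (CommRingCat.of Ω) ⟶ ((EtCoh.bc f).obj W).left).base
      (default : Spec (CommRingCat.of Ω)) ∈ Q a := fun a => by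
    refine ⟨?_, ?_⟩
    · show ((EtCoh.bc f).map b₀).left.base _ ∈ Q₀ a
      rw [hpt a b₀ w w₀ hb₀]
      exact hm a
    · show ((EtCoh.bc f).map (b a)).left.base _ ∈ O a
      rw [hpt a (b a) w (v a) (hb a)]
      exact hO a
  let h : ∀ a, (Q a).toScheme ⟶ W.left := fun a => (Q a).ι ≫ pullback.fst W.hom f
  have hoi : ∀ a, IsOpenImmersion (h a) := fun a => by
    have h1 : AlgebraicGeometry.Etale (pullback.fst W.hom f) := MorphismProperty.pullback_fst _ _ ‹_›
    have : AlgebraicGeometry.Etale (h a) := MorphismProperty.comp_mem @AlgebraicGeometry.Etale _ _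
      (inferInstanceAs (AlgebraicGeometry.Etale (Q a).ι)) h1
    have h0 : Mono ((Q₀ a).ι ≫ pullback.fst W₀.hom f) := ((IsClosedImmersion.iff_isFinite_and_mono _).1 (hcl a)).2
    let r : (Q a).toScheme ⟶ (Q₀ a).toScheme :=
      Scheme.Hom.resLE ((EtCoh.bc f).map b₀).left (Q₀ a) (Q a) inf_le_left
    have hr : r ≫ (Q₀ a).ι ≫ pullback.fst W₀.hom f = h a ≫ b₀.left := by
      refine (Category.assoc _ _ _).symm.trans ((congrArg (· ≫ pullback.fst W₀.hom f)
        (Scheme.Hom.resLE_comp_ι _ _)).trans ?_)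
      exact (Category.assoc _ _ _).trans ((congrArg ((Q a).ι ≫ ·) (EtCoh.isPullback_bc_map f b₀).w).trans
        (Category.assoc _ _ _).symm)
    have : Mono (h a) := ⟨fun {T} p q hpq => by
      have e : p ≫ r = q ≫ r := by
        refine (cancel_mono ((Q₀ a).ι ≫ pullback.fst W₀.hom f)).1 ?_
        rw [Category.assoc, Category.assoc, hr, ← Category.assoc, hpq, Category.assoc]
      refine (cancel_mono (Q a).ι).1 ((EtCoh.isPullback_bc_map f b₀).hom_ext ?_ ?_)
      · have e' := congrArg (· ≫ (Q₀ a).ι) e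
        simp only [Category.assoc, r, Scheme.Hom.resLE_comp_ι] at e'
        exact (Category.assoc _ _ _).trans (e'.trans (Category.assoc _ _ _).symm)
      · exact (Category.assoc _ _ _).trans (hpq.trans (Category.assoc _ _ _).symm)⟩
    exact IsOpenImmersion.of_flat_of_mono _
  let G : W.left.Opens := ⟨⋂ a, Set.range (h a).base, isOpen_iInter_of_finite fun a => by
    have := hoi a
    exact (h a).isOpenEmbedding.isOpen_range⟩
  have hG : (w.left : Spec (CommRingCat.of Ω) ⟶ W.left).base (default : Spec (CommRingCat.of Ω)) ∈ G := by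
    refine Set.mem_iInter.2 fun a => ⟨⟨_, hQ a⟩, ?_⟩
    refine (Scheme.Hom.comp_apply (Q a).ι (pullback.fst W.hom f) _).trans ?_
    refine (Scheme.Hom.comp_apply _ _ _).symm.trans ?_
    exact congrArg (fun k : Spec (CommRingCat.of Ω) ⟶ W.left => k.base (default : Spec (CommRingCat.of Ω)))
      (liftPt_fst f a.2 w)
  obtain ⟨wG, hwG, -⟩ := exists_lift_point (restrictEtaleHom W G) w ⟨_, hG⟩ rfl
  obtain ⟨W', d, w', hw', hd'⟩ := exists_shrink f wG (((EtCoh.bc f).map (restrictEtaleHom W G)).left ⁻¹ᵁ ⨆ a, Q a)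
    fun x hx => by
      obtain ⟨ξ, hξ, rfl⟩ := exists_liftPt_eq f wG x hx
      show ((EtCoh.bc f).map (restrictEtaleHom W G)).left.base _ ∈ ⨆ a, Q a
      rw [hpt ⟨ξ, hξ⟩ _ wG w hwG]
      exact TopologicalSpace.Opens.mem_iSup.2 ⟨⟨ξ, hξ⟩, hQ ⟨ξ, hξ⟩⟩
  let c : W' ⟶ W := d ≫ restrictEtaleHom W G
  let Q' := fun a => ((EtCoh.bc f).map c).left ⁻¹ᵁ Q a
  refine ⟨W', w', fun a => c ≫ b a, Q', fun a a' ne => ?_, ?_, fun a x hx => ?_, fun a => ?_⟩
  · show Disjoint _ _
    refine Disjoint.mono (b := ((EtCoh.bc f).map c).left ⁻¹ᵁ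
      (((EtCoh.bc f).map b₀).left ⁻¹ᵁ Q₀ a)) (d := ((EtCoh.bc f).map c).left ⁻¹ᵁ
      (((EtCoh.bc f).map b₀).left ⁻¹ᵁ Q₀ a')) (fun x hx => hx.1) (fun x hx => hx.1) ?_
    rw [disjoint_iff]
    exact (Scheme.Hom.preimage_inf _).symm.trans (congrArg (_ ⁻¹ᵁ ·)
      ((Scheme.Hom.preimage_inf _).symm.trans (congrArg (_ ⁻¹ᵁ ·) (disjoint_iff.1 (hd ne)))))
  · refine eq_top_iff.2 fun x _ => ?_
    obtain ⟨a, ha⟩ := TopologicalSpace.Opens.mem_iSup.1 (hd' x)
    refine TopologicalSpace.Opens.mem_iSup.2 ⟨a, ?_⟩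
    show ((EtCoh.bc f).map c).left.base x ∈ Q a
    rw [Functor.map_comp]
    exact Set.mem_of_eq_of_mem (s := (Q a).carrier) (Scheme.Hom.comp_apply _ _ _) ha
  · show ((EtCoh.bc f).map (c ≫ b a)).left.base x ∈ O a
    rw [Functor.map_comp]
    exact Set.mem_of_eq_of_mem (s := (O a).carrier) (Scheme.Hom.comp_apply _ _ _) hx.2
  · let r : (Q' a).toScheme ⟶ (Q a).toScheme := Scheme.Hom.resLE ((EtCoh.bc f).map c).left (Q a) (Q' a) le_rfl
    have P : IsPullback r ((Q' a).ι ≫ pullback.fst W'.hom f) (h a) c.left := by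
      have P1 : IsPullback r (Q' a).ι (Q a).ι ((EtCoh.bc f).map c).left :=
        IsOpenImmersion.isPullback _ _ _ _ (Scheme.Hom.resLE_comp_ι _ _).symm (by simp [Q'])
      exact P1.paste_vert (EtCoh.isPullback_bc_map f c)
    have := hoi a
    have : IsOpenImmersion ((Q' a).ι ≫ pullback.fst W'.hom f) :=
      MorphismProperty.of_isPullback P this
    refine @IsOpenImmersion.isIso _ _ _ this ?_
    refine (TopCat.epi_iff_surjective _).2 fun x => ?_
    have hx : c.left.base x ∈ G := Set.mem_of_eq_of_mem (s := (G : Set ↥W.left))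
      (Scheme.Hom.comp_apply d.left G.ι x) (Subtype.coe_prop _)
    obtain ⟨q, hq⟩ := Set.mem_iInter.1 hx a
    obtain ⟨z, -, hz⟩ := Scheme.Pullback.exists_preimage_pullback (f := h a) (g := c.left) q x hq
    refine ⟨P.isoPullback.inv.base z, ?_⟩
    rw [← hz, ← P.isoPullback_inv_snd]
    exact (Scheme.Hom.comp_apply _ _ _).symm

/-- the direct image of a finite locally constant sheaf along a finite etale morphism is finite locally constant -/
theorem isFiniteLocallyConstant_push [EtCoh.BCCont f] (F : EtCoh.Ab X) (hF : EtCoh.IsFiniteLocallyConstant F) :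
    EtCoh.IsFiniteLocallyConstant ((EtCoh.push f).obj F) := by
  obtain ⟨ι, U, hU, h⟩ := hF
  choose M iM fM he using h
  choose φ hφ using fun i => exists_constBy (he i).some
  suffices key : ∀ y : Y, ∃ (W : Y.Etale) (N : Type) (_ : AddCommGroup N) (_ : Finite N),
      y ∈ Set.range W.hom.base ∧ Nonempty (EtCoh.restr ((EtCoh.push f).obj F) W ≅
        (constantSheaf (Y.smallEtaleTopology.over W) AddCommGrpCat.{u + 1}).obj
          (AddCommGrpCat.of (ULift.{u + 1} N))) by
    choose W N iN fN hy hW using key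
    exact ⟨Y, W, fun y => ⟨y, hy y⟩, fun y => ⟨N y, iN y, fN y, hW y⟩⟩
  intro y
  let Ω := AlgebraicClosure (Y.residueField y)
  let η : Spec (CommRingCat.of Ω) ⟶ Y :=
    Spec.map (CommRingCat.ofHom (algebraMap (Y.residueField y) Ω)) ≫ Y.fromSpecResidueField y
  have hpts : ∀ a : {ξ : Spec (CommRingCat.of Ω) ⟶ X // ξ ≫ f = η},
      ∃ i, Nonempty ((Scheme.pointSmallEtale a.1).fiber.obj (U i)) := fun a => by
    obtain ⟨i, p, hp⟩ := hU (a.1.base default)
    exact ⟨i, ⟨(Scheme.pointSmallEtaleFiberObjToPreimage_surjective a.1 rfl (U i) ⟨p, hp⟩).choose⟩⟩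
  choose i u using hpts
  choose V v O m t ht hmt using fun a => exists_open_factor f a.2 (U (i a)) (u a).some
  obtain ⟨W, w, b, Q, hd, hc, hQ, hiso⟩ := exists_iso_stage f η V v O fun a => by
    rw [← ht a]
    exact Set.mem_of_eq_of_mem (s := (O a).carrier) (Scheme.Hom.comp_apply _ _ _) (Subtype.coe_prop _)
  haveI := finite_points f η
  obtain ⟨n, ⟨e⟩⟩ := Finite.exists_equiv_fin {ξ : Spec (CommRingCat.of Ω) ⟶ X // ξ ≫ f = η}
  refine ⟨W, ∀ j : Fin n, M (i (e.symm j)), inferInstance, inferInstance, ?_, ?_⟩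
  · refine ⟨(w.left : Spec (CommRingCat.of Ω) ⟶ W.left).base (default : Spec (CommRingCat.of Ω)), ?_⟩
    refine (Scheme.Hom.comp_apply _ _ _).symm.trans ?_
    refine (congrArg (fun k : Spec (CommRingCat.of Ω) ⟶ Y => k.base (default : Spec (CommRingCat.of Ω)))
      (CategoryTheory.Over.w w)).trans ?_
    exact (Scheme.Hom.comp_apply _ _ _).trans (Scheme.fromSpecResidueField_apply y _)
  let B := (EtCoh.bc f).obj W
  let res : F.obj.obj (op B) →+ ∀ j : Fin n, F.obj.obj (op (restrictEtale B (Q (e.symm j)))) :=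
    { toFun := fun s j => F.obj.map (restrictEtaleHom B (Q (e.symm j))).op s
      map_zero' := funext fun j => map_zero (F.obj.map _).hom
      map_add' := fun s s' => funext fun j => map_add (F.obj.map _).hom s s' }
  have hres : Function.Bijective res := by
    refine ⟨fun s s' hs => ?_, fun c => ?_⟩
    · refine eq_of_cover F s s' (equalizerSieve_mem_of_germs F.obj _ s s' fun k _ _ ζ z => ?_)
      obtain ⟨a, ha⟩ := TopologicalSpace.Opens.mem_iSup.1 (hc.ge (TopologicalSpace.Opens.mem_top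
        ((z.left : Spec (CommRingCat.of k) ⟶ B.left).base (default : Spec (CommRingCat.of k)))))
      obtain ⟨r, hr, -⟩ := exists_lift_point (restrictEtaleHom B (Q a)) z ⟨_, ha⟩ rfl
      have hs' := congrFun hs (e a)
      simp only [res, AddMonoidHom.coe_mk, ZeroHom.coe_mk] at hs'
      rw [Equiv.symm_apply_apply] at hs'
      rw [← hr]
      exact ((Scheme.pointSmallEtale ζ).toPresheafFiber_w_apply _ r F.obj s).symm.trans
        ((congrArg _ hs').trans ((Scheme.pointSmallEtale ζ).toPresheafFiber_w_apply _ r F.obj s'))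
    · let c' : ∀ a, ToType (F.obj.obj (op (restrictEtale B (Q a)))) := fun a =>
        (Equiv.piCongrLeft' (fun a => ToType (F.obj.obj (op (restrictEtale B (Q a))))) e).symm c a
      obtain ⟨s, hs⟩ := exists_glue_disjoint F B Q (fun a a' ne => hd ne) hc c'
      exact ⟨s, funext fun j => (hs (e.symm j)).trans
        (congrFun ((Equiv.piCongrLeft' (fun a => ToType (F.obj.obj (op (restrictEtale B (Q a))))) e).apply_symm_apply c) j)⟩
  let k : ∀ a, restrictEtale B (Q a) ⟶ U (i a) := fun a =>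
    restrictEtaleMap ((EtCoh.bc f).map (b a)) (O a) (Q a) (hQ a) ≫ m a
  let comp : ULift.{u + 1} (∀ j : Fin n, M (i (e.symm j))) →+
      ∀ j : Fin n, F.obj.obj (op (restrictEtale B (Q (e.symm j)))) :=
    { toFun := fun x j => F.obj.map (k (e.symm j)).op (φ (i (e.symm j)) (ULift.up (x.down j)))
      map_zero' := funext fun j => by
        show F.obj.map _ (φ _ 0) = 0
        rw [map_zero, map_zero]
      map_add' := fun x x' => funext fun j => by
        show F.obj.map _ (φ _ (ULift.up (x.down j) + ULift.up (x'.down j))) = _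
        rw [map_add, map_add]
        rfl }
  let Φ : AddCommGrpCat.of (ULift.{u + 1} (∀ j : Fin n, M (i (e.symm j)))) ⟶ ((EtCoh.push f).obj F).obj.obj (op W) :=
    AddCommGrpCat.ofHom ((AddEquiv.ofBijective res hres).symm.toAddMonoidHom.comp comp)
  refine nonempty_restr_iso_const (φ := Φ) fun Ω' _ _ ζ z => ?_
  let s : ∀ a, W.left ⟶ B.left := fun a => (@inv _ _ _ _ _ (hiso a)) ≫ (Q a).ι
  have hs1 : ∀ a, s a ≫ pullback.fst W.hom f = 𝟙 _ := fun a => by
    have := hiso a
    exact (Category.assoc _ _ _).trans (IsIso.inv_hom_id ((Q a).ι ≫ pullback.fst W.hom f))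
  let zl : Spec (CommRingCat.of Ω') ⟶ W.left := z.left
  have hξz : ∀ a, ((zl ≫ s a) ≫ pullback.snd W.hom f) ≫ f = ζ := fun a => by
    refine (Category.assoc _ _ _).trans ((congrArg ((zl ≫ s a) ≫ ·) pullback.condition.symm).trans ?_)
    refine (Category.assoc _ _ _).trans ((congrArg (zl ≫ ·) ((Category.assoc _ _ _).symm.trans
      ((congrArg (· ≫ W.hom) (hs1 a)).trans (Category.id_comp _)))).trans ?_)
    exact CategoryTheory.Over.w z
  let E : Fin n → {ξ : Spec (CommRingCat.of Ω') ⟶ X // ξ ≫ f = ζ} := fun j => ⟨_, hξz (e.symm j)⟩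
  have hlift : ∀ j, ((liftPt f (E j).2 z).left : Spec (CommRingCat.of Ω') ⟶ B.left) = zl ≫ s (e.symm j) := fun j => by
    refine pullback.hom_ext ((liftPt_fst f (E j).2 z).trans ?_) (pullback.lift_snd _ _ _)
    exact ((Category.assoc _ _ _).trans ((congrArg (zl ≫ ·) (hs1 _)).trans (Category.comp_id _))).symm
  have hmem : ∀ j, ((liftPt f (E j).2 z).left : Spec (CommRingCat.of Ω') ⟶ B.left).base
      (default : Spec (CommRingCat.of Ω')) ∈ Q (e.symm j) := fun j => by
    rw [hlift j]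
    refine Set.mem_of_eq_of_mem (s := (Q (e.symm j) : Set ↥B.left)) (Scheme.Hom.comp_apply _ _ _) ?_
    exact Set.mem_of_eq_of_mem (s := (Q (e.symm j) : Set ↥B.left)) (Scheme.Hom.comp_apply _ _ _) (Subtype.coe_prop _)
  have hE : Function.Bijective E := by
    refine ⟨fun j j' hj => e.symm.injective ?_, fun ξ => ?_⟩
    · by_contra hne
      have h1 := hmem j
      rw [hj] at h1
      exact Set.disjoint_left.1 (TopologicalSpace.Opens.coe_disjoint.2 (hd hne)) h1 (hmem j')
    · obtain ⟨a, ha⟩ := TopologicalSpace.Opens.mem_iSup.1 (hc.ge (TopologicalSpace.Opens.mem_top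
        (((liftPt f ξ.2 z).left : Spec (CommRingCat.of Ω') ⟶ B.left).base (default : Spec (CommRingCat.of Ω')))))
      obtain ⟨r, hr, -⟩ := exists_lift_point (restrictEtaleHom B (Q a)) (liftPt f ξ.2 z) ⟨_, ha⟩ rfl
      have hr' : (r.left : Spec (CommRingCat.of Ω') ⟶ (Q a).toScheme) ≫ (Q a).ι = (liftPt f ξ.2 z).left :=
        congr(($hr).left)
      have hrz : (r.left : Spec (CommRingCat.of Ω') ⟶ (Q a).toScheme) = zl ≫ @inv _ _ _ _ ((Q a).ι ≫ pullback.fst W.hom f) (hiso a) := by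
        refine (Iso.eq_comp_inv (@asIso _ _ _ _ ((Q a).ι ≫ pullback.fst W.hom f) (hiso a))).2 ?_
        refine (Category.assoc _ _ _).symm.trans ((congrArg (· ≫ pullback.fst W.hom f) hr').trans ?_)
        exact liftPt_fst f ξ.2 z
      refine ⟨e a, Subtype.ext ?_⟩
      show (zl ≫ s (e.symm (e a))) ≫ pullback.snd W.hom f = ξ.1
      rw [e.symm_apply_apply]
      refine Eq.trans (congrArg (· ≫ pullback.snd W.hom f) ?_) (pullback.lift_snd _ _ _ :
        ((liftPt f ξ.2 z).left : Spec (CommRingCat.of Ω') ⟶ pullback W.hom f) ≫ pullback.snd W.hom f = ξ.1)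
      exact ((Category.assoc _ _ _).symm.trans ((congrArg (· ≫ (Q a).ι) hrz.symm).trans hr'))
  choose r hr using fun j => exists_lift_point (restrictEtaleHom B (Q (e.symm j))) (liftPt f (E j).2 z) ⟨_, hmem j⟩ rfl
  have hbij : ∀ j, Function.Bijective fun x : M (i (e.symm j)) =>
      (φ (i (e.symm j)) ≫ (Scheme.pointSmallEtale (E j).1).toPresheafFiber _
        ((Scheme.pointSmallEtale (E j).1).fiber.map (k (e.symm j)) (r j)) F.obj) (ULift.up x) := fun j =>
    (hφ _ Ω' _ _).comp Equiv.ulift.symm.bijective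
  let P := fun p (ξ : {ξ : Spec (CommRingCat.of Ω') ⟶ X // ξ ≫ f = ζ}) => (pushStalkAt f ξ.2).app F p
  have hP : Function.Bijective P := pushStalkAt_bijective f F
  refine (Function.Bijective.of_comp_iff' hP _).1 ?_
  refine (Function.Bijective.of_comp_iff'
    (Equiv.piCongrLeft' (fun ξ : {ξ : Spec (CommRingCat.of Ω') ⟶ X // ξ ≫ f = ζ} =>
      ToType ((Scheme.pointSmallEtale ξ.1).sheafFiber.obj F)) (Equiv.ofBijective E hE).symm).bijective _).1 ?_
  refine Eq.mp (congrArg Function.Bijective (funext fun x => funext fun j => ?_))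
    (((Equiv.piCongrRight fun j => Equiv.ofBijective _ (hbij j)).bijective).comp Equiv.ulift.bijective)
  show (φ (i (e.symm j)) ≫ _) (ULift.up (x.down j)) = (pushStalkAt f (E j).2).app F ((Φ ≫ _) x)
  refine Eq.trans ?_ (((congrArg _ (ConcreteCategory.comp_apply Φ _ x)).trans
    (pushStalkAt_germ_apply f (E j).2 F z (Φ x)))).symm
  rw [← (hr j).1]
  refine Eq.trans ?_ ((Scheme.pointSmallEtale (E j).1).toPresheafFiber_w_apply _ (r j) F.obj (Φ x))
  have hΦ : F.obj.map (restrictEtaleHom B (Q (e.symm j))).op (Φ x) =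
      F.obj.map (k (e.symm j)).op (φ (i (e.symm j)) (ULift.up (x.down j))) :=
    congrFun ((AddEquiv.ofBijective res hres).apply_symm_apply (comp x)) j
  refine Eq.trans ?_ (congrArg _ hΦ).symm
  exact (ConcreteCategory.comp_apply _ _ _).trans
    ((Scheme.pointSmallEtale (E j).1).toPresheafFiber_w_apply (k (e.symm j)) (r j) F.obj _).symm

end Groth.Agent.EtFound
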