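import Groth.Agent.EtFound.QcqsObjects
import Groth.Agent.FlatCxLib.HomologyColim
import Groth.Prelude.Def_EtCech
import Mathlib.CategoryTheory.Abelian.GrothendieckAxioms.Basic
import Mathlib.CategoryTheory.Comma.Over.Pullback
import Mathlib.CategoryTheory.Limits.Constructions.Over.Products

/-!
# Čech cohomology of qcqs coverings commutes with filtered colimits
-/

universe u

open CategoryTheory CategoryTheory.Limits AlgebraicGeometry Opposite

namespace Groth.Agent.EtFound

set_option backward.isDefEq.respectTransparency.types false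

theorem isQcqsObj_of_iso {X : Scheme.{u}} {U V : X.Etale} (e : U ≅ V) (hV : IsQcqsObj V) : IsQcqsObj U := by
  obtain ⟨h1, h2⟩ := hV
  let φ : U.left ≅ V.left := (Scheme.Etale.forget X ⋙ CategoryTheory.Over.forget X).mapIso e
  exact ⟨QuasiCompact.compactSpace_of_compactSpace φ.hom, quasiSeparatedSpace_of_quasiSeparated φ.hom⟩

/-- Finite products over a qcqs object of qcqs objects are qcqs. -/
theorem isQcqsObj_prod {X : Scheme.{u}} {U : X.Etale} [HasFiniteProducts (Over U)] (hU : IsQcqsObj U) :
    ∀ (n : ℕ) (Y : Fin (n + 1) → Over U), (∀ k, IsQcqsObj (Y k).left) → IsQcqsObj (∏ᶜ Y).left := by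
  intro n
  induction n with
  | zero =>
    intro Y hY
    haveI : IsIso (Pi.π Y 0) := by
      refine ⟨Pi.lift fun k => eqToHom (by rw [Fin.fin_one_eq_zero k]), ?_, ?_⟩
      · refine Pi.hom_ext _ _ fun k => ?_
        obtain rfl := Fin.fin_one_eq_zero k
        simp
      · simp
    exact isQcqsObj_of_iso ((CategoryTheory.Over.forget U).mapIso (asIso (Pi.π Y 0))) (hY 0)
  | succ n ih =>
    intro Y hY
    haveI : HasBinaryProducts (Over U) := inferInstance
    let e : ∏ᶜ Y ≅ (Y 0 ⨯ ∏ᶜ fun k => Y (Fin.succ k)) :=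
      { hom := prod.lift (Pi.π Y 0) (Pi.lift fun k => Pi.π Y (Fin.succ k))
        inv := Pi.lift (Fin.cases prod.fst fun k => prod.snd ≫ Pi.π (fun k => Y (Fin.succ k)) k)
        hom_inv_id := Pi.hom_ext _ _ fun k => by
          rw [Category.assoc, Pi.lift_π, Category.id_comp]
          induction k using Fin.cases with
          | zero => exact prod.lift_fst _ _
          | succ k =>
            refine (Category.assoc _ _ _).symm.trans ?_
            exact (congrArg (· ≫ _) (prod.lift_snd _ _)).trans (Pi.lift_π _ _)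
        inv_hom_id := by
          refine prod.hom_ext ?_ (Pi.hom_ext _ _ fun k => ?_)
          · rw [Category.assoc, Category.id_comp]
            exact (congrArg (_ ≫ ·) (prod.lift_fst _ _)).trans (Pi.lift_π _ 0)
          · rw [Category.assoc, Category.assoc, Category.id_comp]
            refine (congrArg (_ ≫ ·) ((Category.assoc _ _ _).symm.trans
              ((congrArg (· ≫ _) (prod.lift_snd _ _)).trans (Pi.lift_π _ k)))).trans ?_
            exact Pi.lift_π _ (Fin.succ k) }
    refine isQcqsObj_of_iso ((CategoryTheory.Over.forget U).mapIso e) ?_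
    exact isQcqsObj_of_iso (CategoryTheory.Over.prodLeftIsoPullback (Y 0) (∏ᶜ fun k => Y (Fin.succ k)))
      (isQcqsObj_pullback _ _ hU (hY 0) (ih _ fun k => hY _))

/-- A finite product of functors preserving colimits of a shape preserves them. -/
theorem preservesColimitsOfShape_pi {D : Type*} [Category D] {I : Type*} [Category I] {N : Type (u + 1)}
    [Finite N] (G : N → D ⥤ AddCommGrpCat.{u + 1}) [∀ i, PreservesColimitsOfShape I (G i)]
    [HasColimitsOfShape I AddCommGrpCat.{u + 1}] :
    PreservesColimitsOfShape I ((Discrete.functor G).flip ⋙ lim) := by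
  haveI : PreservesColimitsOfShape I (Discrete.functor G).flip :=
    preservesColimitsOfShape_of_evaluation _ I fun ⟨i⟩ =>
      preservesColimitsOfShape_of_natIso (show G i ≅ _ from NatIso.ofComponents (fun _ => Iso.refl _))
  exact preservesColimitsOfShape_of_natIso
    (Functor.isoWhiskerLeft (Discrete.functor G).flip HasBiproductsOfShape.colimIsoLim)

/-- Čech cohomology of a finite family with qcqs members commutes with filtered colimits of sheaves. -/
theorem preservesColimitsOfShape_cechHFunctor {X : Scheme.{u}} (U : X.Etale) (hU : IsQcqsObj U)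
    [HasFiniteProducts (Over U)] (ι : Type (u + 1)) [Finite ι] (Uf : ι → Over U)
    (hUf : ∀ i, IsQcqsObj (Uf i).left) (q : ℕ) (I : Type (u + 1)) [SmallCategory I] [IsFiltered I] :
    PreservesColimitsOfShape I
      (sheafToPresheaf X.smallEtaleTopology AddCommGrpCat.{u + 1} ⋙ EtCech.cechHFunctor Uf q) := by
  let Φ : EtCoh.Ab X ⥤ CochainComplex AddCommGrpCat.{u + 1} ℕ :=
    sheafToPresheaf X.smallEtaleTopology AddCommGrpCat.{u + 1} ⋙
      (Functor.whiskeringLeft (Over U)ᵒᵖ X.Etaleᵒᵖ AddCommGrpCat.{u + 1}).obj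
        (CategoryTheory.Over.forget U).op ⋙ cechComplexFunctor Uf
  haveI : PreservesColimitsOfShape I Φ := HomologicalComplex.preservesColimitsOfShape_of_eval Φ fun n => by
    haveI : ∀ i : Fin (n + 1) → ι, PreservesColimitsOfShape I
        (sheafToPresheaf X.smallEtaleTopology AddCommGrpCat.{u + 1} ⋙
          (evaluation X.Etaleᵒᵖ AddCommGrpCat.{u + 1}).obj (op (∏ᶜ fun k => Uf (i k)).left)) := fun i =>
      preservesColimitsOfShape_sections_qcqs_ab _ (isQcqsObj_prod hU n _ fun k => hUf _) I
    haveI := preservesColimitsOfShape_pi (I := I) fun i : Fin (n + 1) → ι =>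
      sheafToPresheaf X.smallEtaleTopology AddCommGrpCat.{u + 1} ⋙
        (evaluation X.Etaleᵒᵖ AddCommGrpCat.{u + 1}).obj (op (∏ᶜ fun k => Uf (i k)).left)
    let G : (Fin (n + 1) → ι) → EtCoh.Ab X ⥤ AddCommGrpCat.{u + 1} := fun i =>
      sheafToPresheaf X.smallEtaleTopology AddCommGrpCat.{u + 1} ⋙
        (evaluation X.Etaleᵒᵖ AddCommGrpCat.{u + 1}).obj (op (∏ᶜ fun k => Uf (i k)).left)
    let e : (Discrete.functor G).flip ⋙ lim ≅ Φ ⋙ HomologicalComplex.eval _ _ n :=
      NatIso.ofComponents
        (fun F => HasLimit.isoOfNatIso (Discrete.natIso fun ⟨i⟩ => Iso.refl ((G i).obj F)))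
        (fun {F F'} φ => Pi.hom_ext _ _ fun i => by
          refine (Category.assoc _ _ _).trans (Eq.trans ?_ (Category.assoc _ _ _).symm)
          refine (congrArg (_ ≫ ·) (HasLimit.isoOfNatIso_hom_π _ (Discrete.mk i))).trans ?_
          refine (congrArg (_ ≫ ·) (Category.comp_id _)).trans ?_
          refine (limMap_π _ _).trans ?_
          refine Eq.trans ?_ (congrArg (_ ≫ ·)
            (Pi.map_π (fun i : Fin (n + 1) → ι => φ.hom.app (op (∏ᶜ fun k => Uf (i k)).left)) i)).symm
          refine Eq.trans ?_ (Category.assoc _ _ _)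
          exact (congrArg (· ≫ φ.hom.app _) ((HasLimit.isoOfNatIso_hom_π _ (Discrete.mk i)).trans (Category.comp_id _))).symm)
    exact preservesColimitsOfShape_of_natIso e
  haveI := FlatCxLib.preservesColimitsOfShape_complexHomology (C := AddCommGrpCat.{u + 1}) (J := I)
    (ComplexShape.up ℕ) q
  exact preservesColimitsOfShape_of_natIso
    (show Φ ⋙ HomologicalComplex.homologyFunctor _ _ q ≅ _ from Iso.refl _)

end Groth.Agent.EtFound
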