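import Groth.Agent.SpecLib.Basic
import Mathlib.Topology.Connected.TotallyDisconnected
import Mathlib.Topology.Spectral.Basic
import Mathlib.Order.Disjointed

/-!
# Connected components and clopen decompositions of spectral spaces
-/

universe u

open Set

namespace Groth.Agent.EtFound.SpectralPiZero

variable {X : Type u} [TopologicalSpace X]

/-- The points specializing into a closed set form a pro-constructible set. -/
theorem cc_generalizations [SpectralSpace X] {A : Set X} (hA : IsClosed A) :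
    SpecLib.CC {x : X | ∃ a ∈ A, x ⤳ a} := by
  have e : {x : X | ∃ a ∈ A, x ⤳ a} = ⋂₀ {s : Set X | (IsOpen s ∧ IsCompact s) ∧ A ⊆ s} := by
    refine Subset.antisymm (fun x ⟨a, ha, hxa⟩ s hs => hxa.mem_open hs.1.1 (hs.2 ha)) fun x hx => ?_
    by_contra hne
    have : ∀ v ∈ A, ∃ U : Set X, (IsOpen U ∧ IsCompact U) ∧ v ∈ U ∧ x ∉ U := fun v hv => by
      by_contra h
      push Not at h
      exact hne ⟨v, hv, SpecLib.specializes_of_forall_qc fun U a b c => h U ⟨a, b⟩ c⟩
    choose! U hU heU hxU using this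
    obtain ⟨t, htV, ht, hcov⟩ := hA.isCompact.elim_finite_subcover_image (fun v hv => (hU v hv).1)
      (fun v hv => mem_biUnion hv (heU v hv))
    obtain ⟨v, hv, hxv⟩ := mem_iUnion₂.1 (hx (⋃ v ∈ t, U v) ⟨⟨isOpen_biUnion fun v hv => (hU v (htV hv)).1,
      ht.isCompact_biUnion fun v hv => (hU v (htV hv)).2⟩, hcov⟩)
    exact hxU v (htV hv) hxv
  exact e ▸ SpecLib.CC.sInter fun s hs => SpecLib.cc_of_isOpen_isCompact hs.1.1 hs.1.2

/-- Clopen decompositions lift from a closed subset meeting each closure in a connected set. -/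
theorem exists_lift_decomposition [SpectralSpace X] (Z : Set X) (hconn : ∀ x : X, IsConnected (Z ∩ closure {x}))
    (Z₁ Z₂ : Set X) (h₁ : IsClosed Z₁) (h₂ : IsClosed Z₂) (hdisj : Disjoint Z₁ Z₂)
    (hunion : Z₁ ∪ Z₂ = Z) :
    ∃ X₁ X₂ : Set X, IsClosed X₁ ∧ IsClosed X₂ ∧ Disjoint X₁ X₂ ∧ X₁ ∪ X₂ = Set.univ ∧
      Z₁ = Z ∩ X₁ ∧ Z₂ = Z ∩ X₂ := by
  have hor : ∀ x, Z ∩ closure {x} ⊆ Z₁ ∨ Z ∩ closure {x} ⊆ Z₂ := fun x =>
    isPreconnected_iff_subset_of_disjoint_closed.1 (hconn x).isPreconnected Z₁ Z₂ h₁ h₂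
      (fun y hy => hunion.ge hy.1)
      (by rw [hdisj.inter_eq, inter_empty])
  let G : Set X → Set X := fun A => {x | ∃ a ∈ A, x ⤳ a}
  have hd : Disjoint (G Z₁) (G Z₂) := by
    rw [disjoint_iff_inter_eq_empty, eq_empty_iff_forall_notMem]
    rintro x ⟨⟨a, ha, hxa⟩, b, hb, hxb⟩
    have ha' : a ∈ Z ∩ closure {x} := ⟨hunion.le (Or.inl ha), hxa.mem_closure⟩
    have hb' : b ∈ Z ∩ closure {x} := ⟨hunion.le (Or.inr hb), hxb.mem_closure⟩
    rcases hor x with h | h
    · exact Set.disjoint_left.1 hdisj (h hb') hb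
    · exact Set.disjoint_left.1 hdisj ha (h ha')
  have hu : G Z₁ ∪ G Z₂ = univ := eq_univ_of_forall fun x => by
    obtain ⟨z, hz, hzx⟩ := (hconn x).nonempty
    rcases hunion.ge hz with h | h
    · exact Or.inl ⟨z, h, specializes_iff_mem_closure.2 hzx⟩
    · exact Or.inr ⟨z, h, specializes_iff_mem_closure.2 hzx⟩
  have hgen : ∀ A : Set X, ∀ {x y : X}, x ⤳ y → y ∈ G A → x ∈ G A := fun A x y hxy ⟨a, ha, hya⟩ =>
    ⟨a, ha, hxy.trans hya⟩
  have hspec : ∀ A B : Set X, Disjoint (G A) (G B) → G A ∪ G B = univ → StableUnderSpecialization (G A) := by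
    intro A B hAB huAB x y hxy hx
    rcases huAB.ge (mem_univ y) with h | h
    · exact h
    · exact absurd (hgen B hxy h) (Set.disjoint_left.1 hAB hx)
  refine ⟨G Z₁, G Z₂, SpecLib.CC.isClosed (cc_generalizations h₁) (hspec _ _ hd hu),
    SpecLib.CC.isClosed (cc_generalizations h₂) (hspec _ _ hd.symm (by rw [union_comm, hu])), hd, hu, ?_, ?_⟩
  · refine Subset.antisymm (fun z hz => ⟨hunion.le (Or.inl hz), z, hz, specializes_rfl⟩) fun z hz => ?_
    rcases hunion.ge hz.1 with h | h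
    · exact h
    · exact absurd (⟨z, h, specializes_rfl⟩ : z ∈ G Z₂) (Set.disjoint_left.1 hd hz.2)
  · refine Subset.antisymm (fun z hz => ⟨hunion.le (Or.inr hz), z, hz, specializes_rfl⟩) fun z hz => ?_
    rcases hunion.ge hz.1 with h | h
    · exact absurd hz.2 (Set.disjoint_left.1 hd ⟨z, h, specializes_rfl⟩)
    · exact h

/-- Clopen sets containing a point contain finitely intersected cores. -/
theorem exists_clopen_subset [CompactSpace X] (x : X) {K : Set X} (hK : IsCompact K)
    (h : ∀ y ∈ K, ∃ W, IsClopen W ∧ x ∈ W ∧ y ∉ W) : ∃ W, IsClopen W ∧ x ∈ W ∧ Disjoint W K := by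
  choose! W hW hxW hyW using h
  obtain ⟨t, htK, ht, hcov⟩ := hK.elim_finite_subcover_image
    (fun y hy => (hW y hy).1.isOpen_compl) (fun y hy => mem_biUnion hy (hyW y hy))
  refine ⟨⋂ y ∈ t, W y, ht.isClopen_biInter fun y hy => hW y (htK hy),
    mem_iInter₂.2 fun y hy => hxW y (htK hy), Set.disjoint_left.2 fun a ha haK => ?_⟩
  obtain ⟨y, hy, hay⟩ := mem_iUnion₂.1 (hcov haK)
  exact hay (mem_iInter₂.1 ha y hy)

/-- In a spectral space the connected component is the intersection of the clopen neighbourhoods. -/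
theorem connectedComponent_eq_iInter_clopen [SpectralSpace X] (x : X) :
    connectedComponent x = ⋂₀ {W : Set X | IsClopen W ∧ x ∈ W} := by
  refine Subset.antisymm (subset_sInter fun W hW => hW.1.connectedComponent_subset hW.2) ?_
  set Q := ⋂₀ {W : Set X | IsClopen W ∧ x ∈ W} with hQ
  have hQc : IsClosed Q := isClosed_sInter fun W hW => hW.1.1
  have hxQ : x ∈ Q := mem_sInter.2 fun W hW => hW.2
  refine IsPreconnected.subset_connectedComponent ?_ hxQ
  rw [isPreconnected_iff_subset_of_fully_disjoint_closed hQc]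
  intro A B hA hB hQAB hAB
  have key : ∀ A B : Set X, IsClosed A → IsClosed B → Q ⊆ A ∪ B → Disjoint A B → x ∈ A → Q ⊆ A := by
    intro A B hA hB hQAB hAB hxA
    have hext : ∀ O : Set X, IsOpen O → ∀ S : Set X, IsCompact S → S ⊆ O →
        ∃ U : Set X, IsOpen U ∧ IsCompact U ∧ S ⊆ U ∧ U ⊆ O := fun O hO S hS hSO => by
      choose! U hU₁ hU₂ hU₃ hU₄ using fun (v : X) (hv : v ∈ S) =>
        SpecLib.exists_qc (hSO hv) hO
      obtain ⟨t, htS, ht, hcov⟩ := hS.elim_finite_subcover_image (fun v hv => hU₁ v hv)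
        (fun v hv => mem_biUnion hv (hU₃ v hv))
      exact ⟨⋃ v ∈ t, U v, isOpen_biUnion fun v hv => hU₁ v (htS hv),
        ht.isCompact_biUnion fun v hv => hU₂ v (htS hv), hcov,
        iUnion₂_subset fun v hv => hU₄ v (htS hv)⟩
    obtain ⟨U, hUo, hUc, hAU, hUB⟩ := hext Bᶜ hB.isOpen_compl (Q ∩ A) ((hQc.inter hA).isCompact)
      (fun z hz => Set.disjoint_left.1 hAB hz.2)
    obtain ⟨V, hVo, hVc, hBV, hVA⟩ := hext Aᶜ hA.isOpen_compl (Q ∩ B) ((hQc.inter hB).isCompact)
      (fun z hz => Set.disjoint_right.1 hAB hz.2)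
    have hK : IsCompact ((U ∩ V) ∪ (U ∪ V)ᶜ) :=
      (QuasiSeparatedSpace.inter_isCompact U V hUo hUc hVo hVc).union
        (hUo.union hVo).isClosed_compl.isCompact
    have hKQ : ∀ y ∈ (U ∩ V) ∪ (U ∪ V)ᶜ, y ∉ Q := fun y hy hyQ => by
      rcases hy with ⟨hyU, hyV⟩ | hy
      · rcases hQAB hyQ with h | h
        · exact hVA hyV h
        · exact hUB hyU h
      · rcases hQAB hyQ with h | h
        · exact hy (Or.inl (hAU ⟨hyQ, h⟩))
        · exact hy (Or.inr (hBV ⟨hyQ, h⟩))
    obtain ⟨W, hW, hxW, hWK⟩ := exists_clopen_subset x hK fun y hy => by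
      have := hKQ y hy
      rw [hQ, mem_sInter] at this
      push Not at this
      obtain ⟨W, ⟨hW, hxW⟩, hyW⟩ := this
      exact ⟨W, hW, hxW, hyW⟩
    have hWU : IsClopen (W ∩ U) := by
      refine ⟨?_, hW.isOpen.inter hUo⟩
      have e : W ∩ U = W ∩ Vᶜ := by
        ext z
        refine ⟨fun ⟨hz, hzU⟩ => ⟨hz, fun hzV => Set.disjoint_left.1 hWK hz (Or.inl ⟨hzU, hzV⟩)⟩,
          fun ⟨hz, hzV⟩ => ⟨hz, ?_⟩⟩
        by_contra hzU
        exact Set.disjoint_left.1 hWK hz (Or.inr fun h => h.elim hzU hzV)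
      rw [e]
      exact hW.isClosed.inter hVo.isClosed_compl
    intro q hq
    have hqU : q ∈ U := (mem_sInter.1 hq (W ∩ U) ⟨hWU, hxW, hAU ⟨hxQ, hxA⟩⟩).2
    exact (hQAB hq).resolve_right fun h => hUB hqU h
  rcases hQAB hxQ with h | h
  · exact Or.inl (key A B hA hB hQAB hAB h)
  · exact Or.inr (key B A hB hA (union_comm A B ▸ hQAB) hAB.symm h)

/-- Covers have finite clopen partition refinements iff closed points map bijectively to components. -/
theorem refinement_iff [SpectralSpace X] :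
    (∀ (ι : Type u) (U : ι → Set X), (∀ i, IsOpen (U i)) → (⋃ i, U i) = Set.univ →
      ∃ (n : ℕ) (V : Fin n → Set X), (∀ k, IsClopen (V k)) ∧
        Pairwise (fun k l => Disjoint (V k) (V l)) ∧ (⋃ k, V k) = Set.univ ∧ ∀ k, ∃ i, V k ⊆ U i) ↔
    Function.Bijective (fun x : {x : X // IsClosed ({x} : Set X)} => _root_.ConnectedComponents.mk x.1) := by
  constructor
  · intro h
    refine ⟨fun x y hxy => ?_, fun c => ?_⟩
    · by_contra hne
      have hne' : x.1 ≠ y.1 := fun e => hne (Subtype.ext e)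
      obtain ⟨n, V, hV, -, hcov, href⟩ := h (ULift.{u} Bool)
        (fun b => if b.down then ({x.1} : Set X)ᶜ else ({y.1} : Set X)ᶜ)
        (fun b => by split_ifs <;> [exact x.2.isOpen_compl; exact y.2.isOpen_compl])
        (eq_univ_of_forall fun z => by
          by_cases hz : z = x.1
          · exact mem_iUnion.2 ⟨⟨false⟩, by simp [hz, hne']⟩
          · exact mem_iUnion.2 ⟨⟨true⟩, by simp [hz]⟩)
      obtain ⟨k, hk⟩ := mem_iUnion.1 (hcov.ge (mem_univ x.1))
      obtain ⟨⟨b⟩, hb⟩ := href k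
      have hy : y.1 ∈ V k := by
        have h1 : y.1 ∈ connectedComponent x.1 := ConnectedComponents.coe_eq_coe'.1 hxy.symm
        exact (hV k).connectedComponent_subset hk h1
      cases b
      · exact absurd (hb hy) (by simp)
      · exact absurd (hb hk) (by simp)
    · obtain ⟨z, rfl⟩ := ConnectedComponents.surjective_coe c
      obtain ⟨a, ha, hac⟩ := IsClosed.exists_closed_singleton (isClosed_connectedComponent (x := z))
        ⟨z, mem_connectedComponent⟩
      exact ⟨⟨a, hac⟩, ConnectedComponents.coe_eq_coe'.2 ha⟩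
  · intro hbij ι U hU hcov
    have hstep : ∀ x : X, ∃ W : Set X, IsClopen W ∧ x ∈ W ∧ ∃ i, W ⊆ U i := by
      intro x
      obtain ⟨⟨a, hac⟩, ha⟩ := hbij.2 (ConnectedComponents.mk x)
      obtain ⟨i, hi⟩ := mem_iUnion.1 (hcov.ge (mem_univ a))
      have hsub : ∀ z ∈ connectedComponent x, z ∈ U i := by
        intro z hz
        obtain ⟨b, hbz, hbc⟩ := IsClosed.exists_closed_singleton (isClosed_closure (s := ({z} : Set X)))
          ⟨z, subset_closure rfl⟩
        have hzb : b ∈ connectedComponent z :=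
          isPreconnected_singleton.closure.subset_connectedComponent (subset_closure rfl) hbz
        have hab : (⟨b, hbc⟩ : {x : X // IsClosed ({x} : Set X)}) = ⟨a, hac⟩ := hbij.1 (by
          show ConnectedComponents.mk b = ConnectedComponents.mk a
          exact ((ConnectedComponents.coe_eq_coe'.2 hzb).trans (ConnectedComponents.coe_eq_coe'.2 hz)).trans ha.symm)
        obtain rfl : b = a := congrArg Subtype.val hab
        exact (specializes_iff_mem_closure.2 hbz).mem_open (hU i) hi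
      obtain ⟨W, hW, hxW, hWd⟩ := exists_clopen_subset x (hU i).isClosed_compl.isCompact fun y hy => by
        have : y ∉ connectedComponent x := fun hy' => hy (hsub y hy')
        rw [connectedComponent_eq_iInter_clopen x, mem_sInter] at this
        push Not at this
        obtain ⟨W, ⟨hW, hxW⟩, hyW⟩ := this
        exact ⟨W, hW, hxW, hyW⟩
      exact ⟨W, hW, hxW, i, fun z hz => not_not.1 fun h => Set.disjoint_left.1 hWd hz h⟩
    choose W hW hxW i hi using hstep
    obtain ⟨t, ht⟩ := isCompact_univ.elim_finite_subcover W (fun x => (hW x).isOpen)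
      (fun x _ => mem_iUnion.2 ⟨x, hxW x⟩)
    let e := t.equivFin.symm
    let W' : Fin t.card → Set X := fun k => W (e k).1
    refine ⟨t.card, disjointed W', fun k => ?_, disjoint_disjointed W', ?_, fun k =>
      ⟨i (e k).1, (disjointed_subset W' k).trans (hi _)⟩⟩
    · refine disjointedRec (p := IsClopen) (fun s j hs => hs.diff (hW _)) (hW _)
    · rw [iUnion_disjointed]
      refine eq_univ_of_forall fun z => ?_
      obtain ⟨x, hx, hzx⟩ := mem_iUnion₂.1 (ht (mem_univ z))
      exact mem_iUnion.2 ⟨e.symm ⟨x, hx⟩, by simpa [W'] using hzx⟩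

end Groth.Agent.EtFound.SpectralPiZero
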