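import Groth.Agent.EtFound.NoethACC

/-! strata adapted to several sheaves -/

universe u

open CategoryTheory CategoryTheory.Limits AlgebraicGeometry Opposite Topology TopologicalSpace

namespace Groth.Agent.EtFound

set_option backward.isDefEq.respectTransparency.types false

variable {X : Scheme.{u}}

/-- finitely many constructible sheaves have common pieces -/
theorem exists_common_pieces [CompactSpace X] [QuasiSeparatedSpace X] {κ : Type*} (s : Finset κ) (F : κ → EtCoh.Ab X)
    (hF : ∀ k ∈ s, EtPBC.IsConstructible (F k)) :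
    ∃ (m : ℕ) (T : Fin m → Scheme.{u}) (g : ∀ i, T i ⟶ X), (∀ i, IsImmersion (g i)) ∧
      (⋃ i, Set.range (g i).base) = Set.univ ∧
      ∀ k ∈ s, ∀ i, EtCoh.IsFiniteLocallyConstant ((EtCoh.pull (g i)).obj (F k)) := by
  classical
  induction s using Finset.induction with
  | empty =>
    refine ⟨1, fun _ => X, fun _ => 𝟙 X, fun _ => inferInstance, Set.eq_univ_of_forall fun x => ?_,
      fun k hk => absurd hk (Finset.notMem_empty k)⟩
    exact Set.mem_iUnion.2 ⟨0, x, rfl⟩
  | @insert a s ha ih =>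
    obtain ⟨m, T, g, hg, hu, hT⟩ := ih fun k hk => hF k (Finset.mem_insert_of_mem hk)
    obtain ⟨n, T', g', hg', -, -, hu', hT'⟩ := (isConstructible_iff_adaptedStrata X (F a)).1 (hF a (Finset.mem_insert_self a s))
    let e := (Fintype.equivFin (Fin m × Fin n)).symm
    refine ⟨_, fun i => pullback (g (e i).1) (g' (e i).2),
      fun i => pullback.fst (g (e i).1) (g' (e i).2) ≫ g (e i).1, fun i => ?_, Set.eq_univ_of_forall fun x => ?_,
      fun k hk i => ?_⟩
    · have := hg (e i).1
      have := hg' (e i).2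
      have : IsImmersion (pullback.fst (g (e i).1) (g' (e i).2)) := MorphismProperty.pullback_fst _ _ (hg' _)
      infer_instance
    · obtain ⟨i, y, hy⟩ := Set.mem_iUnion.1 (hu.ge (Set.mem_univ x))
      obtain ⟨j, z, hz⟩ := Set.mem_iUnion.1 (hu'.ge (Set.mem_univ x))
      obtain ⟨p, hp⟩ := e.surjective (i, j)
      refine Set.mem_iUnion.2 ⟨p, ?_⟩
      show x ∈ Set.range (pullback.fst (g (e p).1) (g' (e p).2) ≫ g (e p).1).base
      rw [hp]
      rw [Scheme.Hom.comp_base, TopCat.coe_comp, Set.range_comp, Scheme.Pullback.range_fst]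
      exact ⟨y, ⟨z, hz.trans hy.symm⟩, hy⟩
    · rcases Finset.mem_insert.1 hk with rfl | hk'
      · show EtCoh.IsFiniteLocallyConstant ((EtCoh.pull (pullback.fst (g (e i).1) (g' (e i).2) ≫ g (e i).1)).obj (F k))
        rw [pullback.condition]
        exact isFiniteLocallyConstant_of_iso ((pullCompAb _ (g' (e i).2)).app (F k)).symm
          (isFiniteLocallyConstant_pull _ (hT' _))
      · exact isFiniteLocallyConstant_of_iso ((pullCompAb _ (g (e i).1)).app (F k)).symm
          (isFiniteLocallyConstant_pull _ (hT k hk' _))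

/-- overlapping pieces refine to disjoint ones -/
theorem exists_disjoint_pieces [IsLocallyNoetherian X] [CompactSpace X] {m : ℕ} (T : Fin m → Scheme.{u})
    (g : ∀ i, T i ⟶ X) (hg : ∀ i, IsImmersion (g i)) (hu : (⋃ i, Set.range (g i).base) = Set.univ)
    (P : ∀ {S : Scheme.{u}}, (S ⟶ X) → Prop) (hP : ∀ i, P (g i))
    (hmono : ∀ {S S' : Scheme.{u}} (f : S' ⟶ S) (h : S ⟶ X), P h → P (f ≫ h)) :
    ∃ (n : ℕ) (S : Fin n → Scheme.{u}) (h : ∀ i, S i ⟶ X), (∀ i, IsImmersion (h i)) ∧
      Pairwise (fun i j => Disjoint (Set.range (h i).base) (Set.range (h j).base)) ∧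
      (⋃ i, Set.range (h i).base) = Set.univ ∧ ∀ i, P (h i) := by
  classical
  haveI : IsNoetherian X := {}
  obtain ⟨n, Q, hlc, -, hd, hQu, hQ⟩ := exists_lc_partition (fun i => Set.range (g i).base) fun i => by
    obtain ⟨O, C, hO, hC, e⟩ := (g i).isLocallyClosed_range
    rw [show Set.range (g i).base = O ∩ C from e]
    exact (SpecLib.isConstructible_of_isOpen hO).inter (SpecLib.isConstructible_of_isClosed hC)
  let J := {j : Fin n // (Q j).Nonempty}
  have key : ∀ j : J, ∃ (S : Scheme.{u}) (h : S ⟶ X), IsImmersion h ∧ Set.range h.base = Q j.1 ∧ P h := fun j => by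
    obtain ⟨R, r, hr, hrQ⟩ := exists_immersion_range (hlc j.1)
    obtain ⟨x, hx⟩ := j.2
    obtain ⟨i, hi⟩ := Set.mem_iUnion.1 (hu.ge (Set.mem_univ x))
    refine ⟨pullback r (g i), pullback.fst r (g i) ≫ r, ?_, ?_, ?_⟩
    · have : IsImmersion (pullback.fst r (g i)) := MorphismProperty.pullback_fst _ _ (hg i)
      infer_instance
    · rw [Scheme.Hom.comp_base, TopCat.coe_comp, Set.range_comp, Scheme.Pullback.range_fst,
        Set.image_preimage_eq_range_inter, hrQ]
      exact Set.inter_eq_left.2 ((hQ j.1 i).resolve_right fun h => Set.disjoint_left.1 h hx hi)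
    · rw [pullback.condition]
      exact hmono _ _ (hP i)
  choose S h hh hhQ hhP using key
  let e := (Fintype.equivFin J).symm
  refine ⟨_, fun a => S (e a), fun a => h (e a), fun a => hh _, fun a b hab => ?_, ?_, fun a => hhP _⟩
  · show Disjoint (Set.range (h (e a)).base) (Set.range (h (e b)).base)
    rw [hhQ, hhQ]
    exact hd fun he => hab (e.injective (Subtype.ext he))
  · refine Set.eq_univ_of_forall fun x => ?_
    obtain ⟨j, hj⟩ := Set.mem_iUnion.1 (hQu.ge (Set.mem_univ x))
    obtain ⟨a, ha⟩ := e.surjective ⟨j, x, hj⟩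
    refine Set.mem_iUnion.2 ⟨a, ?_⟩
    show x ∈ Set.range (h (e a)).base
    rw [hhQ, ha]
    exact hj

end Groth.Agent.EtFound
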