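import Mathlib.AlgebraicGeometry.Morphisms.Finite
import Mathlib.AlgebraicGeometry.Morphisms.FormallyUnramified
import Mathlib.RingTheory.Unramified.LocalRing

/-! finite unramified morphisms with a one point fibre are closed immersions nearby -/

universe u

open CategoryTheory AlgebraicGeometry

namespace Groth.Agent.EtFound

set_option backward.isDefEq.respectTransparency.types false

theorem exists_smul_mem_range {A B : Type*} [CommRing A] [CommRing B] [Algebra A B] [Module.Finite A B]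
    {p : Ideal A} [p.IsPrime] {q : Ideal B} [q.IsPrime] [q.LiesOver p] (hq : p.primesOver B = {q})
    [Algebra.IsUnramifiedAt A q]
    (H : ∀ b : B, ∃ c d : A, d ∉ p ∧ b * algebraMap A B d - algebraMap A B c ∈ q) :
    ∃ r ∉ p, ∀ b : B, algebraMap A B r * b ∈ (algebraMap A B).range := by
  classical
  let := Localization.AtPrime.algebraOfLiesOver p q
  have hsurj := Localization.localRingHom_surjective_of_primesOver_eq_singleton (p := p) hq (fun z => by
    obtain ⟨z, rfl⟩ := IsLocalRing.residue_surjective z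
    obtain ⟨a, ⟨s, hs⟩, rfl⟩ := IsLocalization.exists_mk'_eq q.primeCompl z
    obtain ⟨c, d, hd, hcd⟩ := H a
    obtain ⟨c', d', hd', hcd'⟩ := H s
    have hc' : c' ∉ p := fun h => by
      have h1 : algebraMap A B c' ∈ q := (Ideal.mem_of_liesOver q p c').1 h
      have h2 : s * algebraMap A B d' ∈ q := by simpa using q.add_mem hcd' h1
      exact (‹q.IsPrime›.mem_or_mem h2).elim hs fun h => hd' ((Ideal.mem_of_liesOver q p d').2 h)
    have hu : ∀ {x : A}, x ∉ p → algebraMap A q.ResidueField x ≠ 0 := fun {x} hx => by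
      rw [IsScalarTower.algebraMap_apply A B q.ResidueField, Ne, Ideal.algebraMap_residueField_eq_zero]
      exact fun h => hx ((Ideal.mem_of_liesOver q p x).2 h)
    have e : ∀ {x : B} {c d : A}, x * algebraMap A B d - algebraMap A B c ∈ q →
        algebraMap B q.ResidueField x * algebraMap A q.ResidueField d = algebraMap A q.ResidueField c := by
      intro x c d h
      rw [← Ideal.algebraMap_residueField_eq_zero, map_sub, map_mul, sub_eq_zero] at h
      simpa [← IsScalarTower.algebraMap_apply] using h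
    refine ⟨algebraMap A _ (c * d') / algebraMap A _ (d * c'), ?_⟩
    rw [map_div₀, ← IsScalarTower.algebraMap_apply A p.ResidueField q.ResidueField,
      ← IsScalarTower.algebraMap_apply A p.ResidueField q.ResidueField, map_mul, map_mul,
      div_eq_iff (mul_ne_zero (hu hd) (hu hc')), ← e hcd, ← e hcd']
    have hz : IsLocalRing.residue _ (IsLocalization.mk' (Localization.AtPrime q) a ⟨s, hs⟩) *
        algebraMap B q.ResidueField s = algebraMap B q.ResidueField a := by
      rw [IsScalarTower.algebraMap_apply B (Localization.AtPrime q) q.ResidueField s,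
        IsScalarTower.algebraMap_apply B (Localization.AtPrime q) q.ResidueField a,
        IsLocalRing.ResidueField.algebraMap_eq, ← map_mul, IsLocalization.mk'_spec]
    rw [← hz]
    ring)
  have key : ∀ b : B, ∃ r ∉ p, algebraMap A B r * b ∈ (algebraMap A B).range := by
    intro b
    obtain ⟨w, hw⟩ := hsurj (algebraMap _ _ b)
    obtain ⟨a, ⟨s, hs⟩, rfl⟩ := IsLocalization.exists_mk'_eq p.primeCompl w
    rw [Localization.localRingHom_mk', IsLocalization.mk'_eq_iff_eq_mul, ← map_mul,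
      IsLocalization.eq_iff_exists q.primeCompl] at hw
    obtain ⟨⟨t, ht⟩, hw⟩ := hw
    obtain ⟨r, hr, t', htt'⟩ := Ideal.exists_notMem_dvd_algebraMap_of_primesOver_eq_singleton hq _ ht
    refine ⟨r * s, ‹p.IsPrime›.mul_notMem hr hs, r * a, ?_⟩
    rw [map_mul, map_mul, htt']
    linear_combination t' * hw
  obtain ⟨T, hT⟩ := Module.Finite.fg_top (R := A) (M := B)
  choose r hrp hr using key
  refine ⟨∏ b ∈ T, r b, Submonoid.prod_mem p.primeCompl fun b _ => hrp b, fun x => ?_⟩
  have : x ∈ Submodule.span A (T : Set B) := hT ▸ Submodule.mem_top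
  refine Submodule.span_induction (p := fun x _ => algebraMap A B (∏ b ∈ T, r b) * x ∈ (algebraMap A B).range)
    (fun b hb => ?_) (by simp) (fun a b _ _ ha hb => by rw [mul_add]; exact add_mem ha hb)
    (fun a b _ hb => by rw [Algebra.smul_def, mul_left_comm]; exact mul_mem ⟨a, rfl⟩ hb) this
  rw [← Finset.prod_erase_mul T r hb, map_mul, mul_assoc]
  exact mul_mem ⟨_, rfl⟩ (hr b)

/-- a finite unramified morphism is a closed immersion near a point with one rational preimage -/
theorem exists_isClosedImmersion_restrict {X S : Scheme.{u}} (f : X ⟶ S) [IsFinite f] [FormallyUnramified f]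
    (s : S) (x : X) (hx : f.base ⁻¹' {s} = {x}) (hκ : Function.Surjective (f.residueFieldMap x)) :
    ∃ U : S.Opens, s ∈ U ∧ IsClosedImmersion (f ∣_ U) := by
  have hfx : f.base x = s := by
    have : x ∈ f.base ⁻¹' {s} := by rw [hx]; rfl
    exact this
  obtain ⟨W, hW, hsW, -⟩ := exists_isAffineOpen_mem_and_subset (x := s) (U := (⊤ : S.Opens)) (by simp)
  have hV : IsAffineOpen (f ⁻¹ᵁ W) := hW.preimage f
  subst hfx
  let φ := f.appLE W (f ⁻¹ᵁ W) le_rfl
  have hφ : φ = f.app W := (Scheme.Hom.app_eq_appLE _).symm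
  algebraize [φ.hom]
  have : Module.Finite Γ(S, W) Γ(X, f ⁻¹ᵁ W) := by
    have h := IsFinite.finite_app (f := f) W hW
    rw [← hφ] at h
    exact h
  have hunr : Algebra.FormallyUnramified Γ(S, W) Γ(X, f ⁻¹ᵁ W) :=
    HasRingHomProperty.appLE @FormallyUnramified f ‹_› ⟨W, hW⟩ ⟨_, hV⟩ le_rfl
  set p := (hW.primeIdealOf ⟨f.base x, hsW⟩).asIdeal with hp
  set q := (hV.primeIdealOf ⟨x, hsW⟩).asIdeal with hqdef
  have hcomap := IsAffineOpen.comap_primeIdealOf_appLE (f := f) W hW (f ⁻¹ᵁ W) hV le_rfl (x := x) hsW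
  have : q.LiesOver p := ⟨congr(($hcomap).asIdeal).symm⟩
  have hpq : p.primesOver Γ(X, f ⁻¹ᵁ W) = {q} := by
    refine Set.Subset.antisymm ?_ (by rintro _ rfl; exact ⟨inferInstance, inferInstance⟩)
    rintro P ⟨hP, hPp⟩
    let y : X := hV.fromSpec ⟨P, hP⟩
    have hy : y ∈ f ⁻¹ᵁ W := hV.range_fromSpec.le ⟨_, rfl⟩
    have hyP : hV.primeIdealOf ⟨y, hy⟩ = ⟨P, hP⟩ :=
      hV.fromSpec.isOpenEmbedding.injective (hV.fromSpec_primeIdealOf _)
    have h2 := IsAffineOpen.comap_primeIdealOf_appLE (f := f) W hW (f ⁻¹ᵁ W) hV le_rfl (x := y) hy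
    have h3 : hW.primeIdealOf ⟨f.base y, hy⟩ = hW.primeIdealOf ⟨f.base x, hsW⟩ := by
      refine h2.symm.trans (PrimeSpectrum.ext ?_)
      rw [hyP]
      exact hPp.over.symm
    have h4 : y = x := by
      have h5 := (hW.fromSpec_primeIdealOf _).symm.trans ((congrArg hW.fromSpec h3).trans (hW.fromSpec_primeIdealOf _))
      have h6 : y ∈ f.base ⁻¹' {f.base x} := h5
      rwa [hx] at h6
    show P = q
    have h7 : hV.primeIdealOf ⟨y, hy⟩ = hV.primeIdealOf ⟨x, hsW⟩ := congrArg _ (Subtype.ext h4)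
    rw [hyP] at h7
    exact congr(($h7).asIdeal)
  have : Algebra.IsUnramifiedAt Γ(S, W) q := by
    dsimp [Algebra.IsUnramifiedAt]; infer_instance
  obtain ⟨r, hrp, hr⟩ := exists_smul_mem_range hpq (fun b => by
    let := S.presheaf.algebra_section_stalk ⟨f.base x, hsW⟩
    have := hW.isLocalization_stalk ⟨f.base x, hsW⟩
    let := X.presheaf.algebra_section_stalk (U := f ⁻¹ᵁ W) ⟨x, hsW⟩
    have := hV.isLocalization_stalk ⟨x, hsW⟩
    obtain ⟨z, hz⟩ := hκ (X.residue x (X.presheaf.germ _ x hsW b))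
    obtain ⟨z, rfl⟩ := IsLocalRing.residue_surjective z
    obtain ⟨c, ⟨d, hd⟩, rfl⟩ := IsLocalization.exists_mk'_eq p.primeCompl z
    refine ⟨c, d, hd, ?_⟩
    rw [hqdef, ← IsLocalization.AtPrime.to_map_mem_maximal_iff (X.presheaf.stalk x) _,
      ← IsLocalRing.residue_eq_zero_iff, map_sub, map_mul, map_sub, map_mul, sub_eq_zero]
    have e1 : ∀ a : Γ(S, W), algebraMap Γ(X, f ⁻¹ᵁ W) (X.presheaf.stalk x) (algebraMap Γ(S, W) Γ(X, f ⁻¹ᵁ W) a) =
        f.stalkMap x (algebraMap Γ(S, W) (S.presheaf.stalk (f.base x)) a) := by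
      intro a
      change X.presheaf.germ _ x hsW (φ a) = f.stalkMap x (S.presheaf.germ W (f.base x) hsW a)
      rw [hφ, Scheme.Hom.germ_stalkMap_apply]
    have e2 : ∀ w, X.residue x (f.stalkMap x w) = f.residueFieldMap x (S.residue (f.base x) w) := fun w =>
      (ConcreteCategory.congr_hom (Scheme.residue_residueFieldMap f x) w).symm
    rw [e1, e1]
    change X.residue x (X.presheaf.germ _ x hsW b) * X.residue x (f.stalkMap x _) = X.residue x (f.stalkMap x _)
    rw [e2, e2, ← hz]
    change f.residueFieldMap x _ * f.residueFieldMap x _ = _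
    rw [← map_mul]
    refine congrArg (f.residueFieldMap x) ?_
    exact (map_mul (IsLocalRing.residue _) _ _).symm.trans (congrArg _ (IsLocalization.mk'_spec _ _ _)))
  have hmem : f.base x ∈ S.basicOpen r := by
    rw [Scheme.mem_basicOpen _ _ _ hsW]
    let := S.presheaf.algebra_section_stalk ⟨f.base x, hsW⟩
    have := hW.isLocalization_stalk ⟨f.base x, hsW⟩
    exact IsLocalization.map_units (M := p.primeCompl) (S.presheaf.stalk (f.base x)) ⟨r, hrp⟩
  refine ⟨S.basicOpen r, hmem, ?_⟩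
  have hUaff : IsAffineOpen (S.basicOpen r) := hW.basicOpen r
  have : IsAffine (S.basicOpen r).toScheme := hUaff
  have hsurj : Function.Surjective (f.app (S.basicOpen r)) := by
    intro w
    have hle : f ⁻¹ᵁ S.basicOpen r ≤ f ⁻¹ᵁ W := fun _ h => S.basicOpen_le r h
    have heq : f ⁻¹ᵁ S.basicOpen r = X.basicOpen (φ r) := by rw [hφ, Scheme.preimage_basicOpen]
    let := (X.presheaf.map (homOfLE hle).op).hom.toAlgebra
    have := hV.isLocalization_of_eq_basicOpen (φ r) (homOfLE hle) heq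
    let g := f.app (S.basicOpen r)
    let resS := S.presheaf.map (homOfLE (S.basicOpen_le r)).op
    have hnat : ∀ a : Γ(S, W), g (resS a) = algebraMap Γ(X, f ⁻¹ᵁ W) Γ(X, f ⁻¹ᵁ S.basicOpen r) (φ a) := fun a => by
      rw [hφ]
      exact ConcreteCategory.congr_hom (f.naturality (homOfLE (S.basicOpen_le r)).op) a
    obtain ⟨b, ⟨_, n, rfl⟩, rfl⟩ := IsLocalization.exists_mk'_eq (Submonoid.powers (φ r)) w
    obtain ⟨a, ha : φ a = φ r * b⟩ := hr b
    have hru : IsUnit (resS r) := RingedSpace.isUnit_res_basicOpen _ r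
    obtain ⟨v, hv⟩ := hru.pow (n + 1)
    refine ⟨resS a * (↑v⁻¹ : Γ(S, S.basicOpen r)), ?_⟩
    rw [IsLocalization.eq_mk'_iff_mul_eq]
    have e1 : g ↑v⁻¹ * g ↑v = 1 := by rw [← map_mul, Units.inv_mul, map_one]
    have e2 := hnat a
    rw [ha, map_mul, ← hnat r] at e2
    have e3 : g ↑v = g (resS r) * g (resS r) ^ n := by rw [hv, map_pow, pow_succ']
    simp only [map_pow, ← hnat]
    change g (resS a * ↑v⁻¹) * g (resS r) ^ n = _
    rw [map_mul, e2]
    linear_combination (algebraMap Γ(X, f ⁻¹ᵁ W) Γ(X, f ⁻¹ᵁ S.basicOpen r) b) * e1 -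
      g ↑v⁻¹ * (algebraMap Γ(X, f ⁻¹ᵁ W) Γ(X, f ⁻¹ᵁ S.basicOpen r) b) * e3
  rw [HasAffineProperty.iff_of_isAffine (P := @IsClosedImmersion)]
  refine ⟨hUaff.preimage f, ?_⟩
  rw [morphismRestrict_appTop]
  intro w
  obtain ⟨v, hv⟩ := (ConcreteCategory.bijective_of_isIso (X.presheaf.map
    (eqToHom (image_morphismRestrict_preimage f (S.basicOpen r) ⊤)).op)).2 w
  obtain ⟨z, hz⟩ : ∃ z, f.app ((S.basicOpen r).ι ''ᵁ ⊤) z = v := by
    suffices ∀ D : S.Opens, D = S.basicOpen r → Function.Surjective (f.app D) from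
      this _ (Scheme.Opens.ι_image_top _) v
    rintro _ rfl
    exact hsurj
  exact ⟨z, (congrArg _ hz).trans hv⟩

end Groth.Agent.EtFound
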