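import Groth.Agent.WStrictLib.Square
import Groth.Agent.Hensel.StrictSchemes
import Groth.Agent.Hensel.PairBasic
import Groth.Agent.Hensel.Local
import Groth.Agent.DirColim.Basic
import Groth.Agent.Hensel.IntegralStrict

/-! etale covers of zero dimensional rings with separably closed residue fields have sections -/

universe u

open scoped TensorProduct
open IsLocalRing

namespace Groth.Agent.EtFound

set_option backward.isDefEq.respectTransparency.types false

variable {T : Type u} [CommRing T] {D : Type u} [CommRing D] [Algebra T D]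

/-- a section of `D` over the piece cut out by the idempotent `e` -/
structure Part (e : T) (φ : D → T) : Prop where
  idem : IsIdempotentElem e
  one : φ 1 = e
  add : ∀ a b, φ (a + b) = φ a + φ b
  mul : ∀ a b, φ (a * b) = φ a * φ b
  scal : ∀ t d, φ (algebraMap T D t * d) = t * φ d

theorem Part.absorb {e : T} {φ : D → T} (h : Part e φ) (d : D) : e * φ d = φ d := by
  rw [← h.one, ← h.mul, one_mul]

theorem Part.union {e f : T} {φ χ : D → T} (h : Part e φ) (h' : Part f χ) :
    Part (e + (1 - e) * f) (fun d => φ d + (1 - e) * χ d) := by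
  have he : (1 - e) * (1 - e) = 1 - e := h.idem.one_sub
  have h0 : ∀ d, φ d * (1 - e) = 0 := fun d => by
    linear_combination -h.absorb d
  have hee : e * (1 - e) = 0 := by linear_combination -h.idem.eq
  refine ⟨?_, by simp [h.one, h'.one], fun a b => ?_, fun a b => ?_, fun t d => ?_⟩
  · unfold IsIdempotentElem
    linear_combination h.idem.eq + 2 * f * hee + f * f * he + (1 - e) * h'.idem.eq
  · show φ (a + b) + (1 - e) * χ (a + b) = _
    rw [h.add, h'.add]; ring
  · show φ (a * b) + (1 - e) * χ (a * b) = _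
    rw [h.mul, h'.mul]
    linear_combination -χ b * h0 a - χ a * h0 b - χ a * χ b * he
  · show φ (_ * d) + (1 - e) * χ (_ * d) = _
    rw [h.scal, h'.scal]; ring

theorem part_zero : Part (0 : T) (fun _ : D => (0 : T)) :=
  ⟨IsIdempotentElem.zero, rfl, by simp, by simp, by simp⟩

/-- a total part is a section -/
theorem Part.algHom {φ : D → T} (h : Part 1 φ) : ∃ ψ : D →ₐ[T] T, ∀ d, ψ d = φ d := by
  refine ⟨{ toFun := φ, map_one' := h.one, map_mul' := h.mul, map_zero' := ?_, map_add' := h.add,
            commutes' := fun t => ?_ }, fun _ => rfl⟩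
  · simpa using h.scal 0 1
  · simpa [h.one] using h.scal t 1

theorem exists_pow_mul_eq_zero [Ring.KrullDimLE 0 T] (s : T) :
    ∃ (n : ℕ) (t : T), s ^ n * (1 - t * s) = 0 := by
  by_contra hc
  simp only [not_exists] at hc
  let M : Submonoid T :=
    { carrier := {x | ∃ (n : ℕ) (t : T), s ^ n * (1 - t * s) = x}
      one_mem' := ⟨0, 0, by simp⟩
      mul_mem' := by
        rintro _ _ ⟨n, t, rfl⟩ ⟨m, t', rfl⟩
        exact ⟨n + m, t + t' - t * t' * s, by ring⟩ }
  obtain ⟨P, hP, -, hPM⟩ := Ideal.exists_le_prime_disjoint (⊥ : Ideal T) M (by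
    rw [Set.disjoint_left]
    intro x hx ⟨n, t, ht⟩
    exact hc n t (ht.trans hx))
  have : P.IsMaximal := inferInstance
  have hs : s ∉ P := fun h => Set.disjoint_left.mp hPM h ⟨1, 0, by simp⟩
  obtain ⟨y, i, hi, hy⟩ := ‹P.IsMaximal›.exists_inv hs
  refine Set.disjoint_left.mp hPM hi ⟨0, y, ?_⟩
  linear_combination -hy

variable [Ring.KrullDimLE 0 T] [Algebra.Etale T D]

/-- sections through a given point exist on a piece -/
theorem exists_part_at
    (hsep : ∀ (q : Ideal T) [q.IsPrime], IsSepClosed (ResidueField (Localization.AtPrime q)))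
    (Q : Ideal D) [Q.IsPrime] :
    ∃ (e : T) (φ : D → T), Part e φ ∧ e ∉ Q.comap (algebraMap T D) ∧
      ∀ d, d ∈ Q ↔ φ d ∈ Q.comap (algebraMap T D) := by
  classical
  set q := Q.comap (algebraMap T D) with hqdef
  let L := Localization.AtPrime q
  have hmin : q ∈ minimalPrimes T := Ideal.mem_minimalPrimes_of_krullDimLE_zero q
  have hnil : ∀ x ∈ maximalIdeal L, IsNilpotent x := by
    intro x hx
    have : Ring.KrullDimLE 0 L := .of_isLocalization q hmin L
    rwa [← Ring.KrullDimLE.nilradical_eq_maximalIdeal] at hx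
  have : HenselianLocalRing L :=
    have := Hensel.henselianRing_of_forall_isNilpotent (maximalIdeal L) hnil
    Hensel.henselianLocalRing_of_radical_eq L (maximalIdeal L) (maximalIdeal.isMaximal L).isPrime.radical
  have := hsep q
  -- the point over the local ring
  obtain ⟨r, hr1, hr2⟩ := WStrictLib.exists_point_tensor (A := T) (C := L) (⟨Q, inferInstance⟩ : PrimeSpectrum D)
    (closedPoint L) (PrimeSpectrum.ext (Localization.AtPrime.comap_maximalIdeal (I := q)).symm)
  obtain ⟨ψ, hψ⟩ := Hensel.exists_section_of_sepClosed L (L ⊗[T] D) r.asIdeal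
    (congrArg PrimeSpectrum.asIdeal hr2)
  let σ : D →ₐ[T] L := (ψ.restrictScalars T).comp Algebra.TensorProduct.includeRight
  have hσ : ∀ d, d ∈ Q ↔ σ d ∈ maximalIdeal L := fun d => by
    have h1 : d ∈ Q ↔ (Algebra.TensorProduct.includeRight : D →ₐ[T] L ⊗[T] D) d ∈ r.asIdeal := by
      exact (SetLike.ext_iff.1 (congrArg PrimeSpectrum.asIdeal hr1) d).symm
    rw [h1, ← hψ]
    rfl
  -- it spreads out
  let G : q.primeCompl → Type u := fun s => Localization.Away (s : T)
  let g : ∀ s, G s →ₐ[T] L := fun s =>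
    IsLocalization.Away.liftAlgHom (s : T) (f := Algebra.ofId T L)
      (IsLocalization.map_units L s)
  have hg : DirColim.IsColim g := by
    have htr : ∀ s u : q.primeCompl, Nonempty (DirColim.Trans g s (s * u)) := fun s u =>
      ⟨⟨IsLocalization.Away.liftAlgHom (s : T) (f := Algebra.ofId T (G (s * u)))
        (isUnit_of_mul_isUnit_left (y := algebraMap T (G (s * u)) u)
          ((map_mul (algebraMap T (G (s * u))) (s : T) (u : T)) ▸
            IsLocalization.Away.algebraMap_isUnit ((s * u : q.primeCompl) : T))),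
        IsLocalization.algHom_ext (Submonoid.powers (s : T)) (Subsingleton.elim _ _)⟩⟩
    refine ⟨fun a => ?_, fun s u => ⟨s * u, htr s u, mul_comm s u ▸ htr u s⟩, fun s x hx => ?_⟩
    · obtain ⟨⟨a, s⟩, rfl⟩ := IsLocalization.mk'_surjective q.primeCompl a
      refine ⟨s, algebraMap T (G s) a * IsLocalization.Away.invSelf (s : T), ?_⟩
      refine IsLocalization.eq_mk'_iff_mul_eq.2 ?_
      rw [map_mul, AlgHom.commutes, mul_assoc, ← (g s).commutes (s : T), ← map_mul,
        mul_comm (IsLocalization.Away.invSelf (s : T)), IsLocalization.Away.mul_invSelf, map_one, mul_one]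
    · obtain ⟨n, a, ha⟩ := IsLocalization.Away.surj (s : T) x
      have h0 : algebraMap T L a = 0 := by
        rw [← (g s).commutes, ← ha, map_mul, hx, zero_mul]
      obtain ⟨u, hu⟩ := (IsLocalization.map_eq_zero_iff q.primeCompl L a).1 h0
      obtain ⟨φ⟩ := htr s u
      refine ⟨s * u, φ, ?_⟩
      have hu' : IsUnit (algebraMap T (G (s * u)) ((s : T) * u)) :=
        IsLocalization.Away.algebraMap_isUnit ((s * u : q.primeCompl) : T)
      rw [map_mul] at hu'
      have ha0 : algebraMap T (G (s * u)) a = 0 := by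
        refine (isUnit_of_mul_isUnit_right hu').mul_right_eq_zero.mp ?_
        rw [← map_mul, hu, map_zero]
      refine (((isUnit_of_mul_isUnit_left hu').pow n).mul_left_eq_zero).mp ?_
      rw [← map_pow, ← φ.1.commutes ((s : T) ^ n), ← map_mul, map_pow, ha, AlgHom.commutes, ha0]
  obtain ⟨s, σ', hσ'⟩ := hg.exists_lift σ
  obtain ⟨n, t, hnt⟩ := exists_pow_mul_eq_zero (s : T)
  let e : T := (s : T) ^ n * t ^ n
  have hgeo : ∀ k, (s : T) ^ n * (t * s) ^ k = (s : T) ^ n := by
    intro k
    induction k with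
    | zero => simp
    | succ k ih =>
      rw [pow_succ, ← mul_assoc, ih]
      linear_combination -hnt
  have hse : (s : T) ^ n * e = (s : T) ^ n := by
    have := hgeo n
    rw [mul_pow] at this
    linear_combination this
  have he : IsIdempotentElem e := by
    unfold IsIdempotentElem
    linear_combination t ^ n * hse
  let J : Ideal T := Ideal.span {1 - e}
  have hsu : IsUnit (algebraMap T (T ⧸ J) (s : T)) := by
    have h1 : Ideal.Quotient.mk J e = 1 :=
      (Ideal.Quotient.eq.mpr (by rw [← neg_sub]; exact J.neg_mem (Ideal.mem_span_singleton_self _))).trans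
        (map_one _)
    rcases Nat.eq_zero_or_pos n with rfl | hn
    · refine IsUnit.of_mul_eq_one (Ideal.Quotient.mk J t) ?_
      rw [Ideal.Quotient.algebraMap_eq, ← map_mul]
      have : (s : T) * t = 1 := by linear_combination -hnt
      rw [this, map_one]
    · refine (isUnit_pow_iff hn.ne').1 (IsUnit.of_mul_eq_one (Ideal.Quotient.mk J (t ^ n)) ?_)
      rw [Ideal.Quotient.algebraMap_eq, ← map_pow, ← map_mul]
      exact h1
  let θ : D →ₐ[T] T ⧸ J :=
    (IsLocalization.Away.liftAlgHom (s : T) (f := Algebra.ofId T (T ⧸ J)) hsu).comp σ'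
  have hwd : ∀ a b : T, Ideal.Quotient.mk J a = Ideal.Quotient.mk J b → e * a = e * b := by
    intro a b hab
    obtain ⟨c, hc⟩ := Ideal.mem_span_singleton'.1 (Ideal.Quotient.eq.1 hab)
    linear_combination -e * hc - c * he.eq
  choose φ0 hφ0 using fun d => Ideal.Quotient.mk_surjective (θ d)
  have hne : e ∉ q := fun h => s.2 <| by
    have : (s : T) ^ n ∈ q := hse ▸ q.mul_mem_left _ h
    exact (inferInstance : q.IsPrime).mem_of_pow_mem n this
  refine ⟨e, fun d => e * φ0 d, ⟨he, ?_, fun a b => ?_, fun a b => ?_, fun t' d => ?_⟩, hne, fun d => ?_⟩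
  · exact (hwd _ 1 (by rw [hφ0, map_one, map_one])).trans (mul_one e)
  · rw [← mul_add]; exact hwd _ _ (by rw [map_add, hφ0, hφ0, hφ0, map_add])
  · calc e * φ0 (a * b) = e * (φ0 a * φ0 b) := hwd _ _ (by rw [map_mul, hφ0, hφ0, hφ0, map_mul])
      _ = e * φ0 a * (e * φ0 b) := by linear_combination (-φ0 a * φ0 b) * he.eq
  · calc e * φ0 (algebraMap T D t' * d) = e * (t' * φ0 d) := hwd _ _ (by
          rw [map_mul, hφ0, hφ0, map_mul, AlgHom.commutes]; rfl)
      _ = t' * (e * φ0 d) := by ring
  · have hu : IsUnit (algebraMap T L e) := IsLocalization.map_units L (⟨e, hne⟩ : q.primeCompl)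
    have hJ : ∀ x ∈ J, algebraMap T L x = 0 := by
      intro x hx
      obtain ⟨c, rfl⟩ := Ideal.mem_span_singleton'.1 hx
      refine hu.mul_right_eq_zero.mp ?_
      rw [← map_mul, show e * (c * (1 - e)) = 0 by linear_combination -c * he.eq, map_zero]
    let π : T ⧸ J →ₐ[T] L := Ideal.Quotient.liftₐ J (Algebra.ofId T L) hJ
    have hπ : π.comp (IsLocalization.Away.liftAlgHom (s : T) (f := Algebra.ofId T (T ⧸ J)) hsu) = g s :=
      IsLocalization.algHom_ext (Submonoid.powers (s : T)) (Subsingleton.elim _ _)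
    have h1 : σ d = algebraMap T L (φ0 d) := by
      rw [← hσ', AlgHom.comp_apply, ← hπ, AlgHom.comp_apply]
      exact (congrArg π (hφ0 d)).symm.trans (Ideal.Quotient.liftₐ_apply _ _ _ _)
    rw [hσ d, h1, IsLocalization.AtPrime.to_map_mem_maximal_iff L q]
    exact ⟨fun h => q.mul_mem_left e h, fun h => ((inferInstance : q.IsPrime).mem_or_mem h).resolve_left hne⟩

/-- surjective etale covers of `T` have sections -/
theorem exists_section_zeroDim
    (hsep : ∀ (q : Ideal T) [q.IsPrime], IsSepClosed (ResidueField (Localization.AtPrime q)))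
    (hsurj : Function.Surjective (PrimeSpectrum.comap (algebraMap T D))) :
    Nonempty (D →ₐ[T] T) := by
  let S : Set T := {e | ∃ φ : D → T, Part e φ}
  have htop : Ideal.span S = ⊤ := by
    by_contra hne
    obtain ⟨m, hm, hle⟩ := Ideal.exists_le_maximal _ hne
    obtain ⟨Q, hQ⟩ := hsurj ⟨m, hm.isPrime⟩
    obtain ⟨e, φ, hp, he, -⟩ := exists_part_at hsep Q.asIdeal
    exact he ((congrArg PrimeSpectrum.asIdeal hQ).ge (hle (Ideal.subset_span ⟨φ, hp⟩)))
  have key : ∀ x ∈ Ideal.span S, ∃ e ∈ S, e * x = x := by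
    intro x hx
    induction hx using Submodule.span_induction with
    | mem x h => obtain ⟨φ, hp⟩ := h; exact ⟨x, ⟨φ, hp⟩, hp.idem⟩
    | zero => exact ⟨0, ⟨_, part_zero⟩, by simp⟩
    | add x y _ _ hx hy =>
      obtain ⟨e, ⟨φ, hp⟩, hex⟩ := hx
      obtain ⟨f, ⟨χ, hq⟩, hfy⟩ := hy
      exact ⟨_, ⟨_, hp.union hq⟩, by linear_combination (1 - f) * hex + (1 - e) * hfy⟩
    | smul r x _ hx =>
      obtain ⟨e, hp, hex⟩ := hx
      exact ⟨e, hp, by rw [smul_eq_mul]; linear_combination r * hex⟩
  obtain ⟨e, ⟨φ, hp⟩, he⟩ := key 1 (htop ▸ Submodule.mem_top)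
  rw [mul_one] at he
  subst he
  obtain ⟨ψ, -⟩ := hp.algHom
  exact ⟨ψ⟩

/-- ... through any given point -/
theorem exists_section_zeroDim_at
    (hsep : ∀ (q : Ideal T) [q.IsPrime], IsSepClosed (ResidueField (Localization.AtPrime q)))
    (hsurj : Function.Surjective (PrimeSpectrum.comap (algebraMap T D))) (Q : Ideal D) [Q.IsPrime] :
    ∃ ψ : D →ₐ[T] T, ∀ d, d ∈ Q ↔ ψ d ∈ Q.comap (algebraMap T D) := by
  obtain ⟨σ⟩ := exists_section_zeroDim hsep hsurj
  obtain ⟨e, φ, hp, he, hmem⟩ := exists_part_at hsep Q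
  have hσ : Part (1 : T) (σ : D → T) :=
    ⟨IsIdempotentElem.one, map_one σ, map_add σ, map_mul σ, fun t d => by simp⟩
  have h := hp.union hσ
  rw [mul_one, add_sub_cancel] at h
  obtain ⟨ψ, hψ⟩ := h.algHom
  refine ⟨ψ, fun d => ?_⟩
  rw [hψ, hmem]
  have : (1 - e) * σ d ∈ Q.comap (algebraMap T D) := by
    refine Ideal.mul_mem_right _ _ (((inferInstance : (Q.comap (algebraMap T D)).IsPrime).mem_or_mem
      (x := e) ?_).resolve_left he)
    rw [show e * (1 - e) = 0 by linear_combination -hp.idem.eq]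
    exact zero_mem _
  exact (Ideal.add_mem_iff_left _ this).symm

end Groth.Agent.EtFound
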